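import Cfsg.Agent.Lib.Helper9.TCData.HeA0.Main

set_option autoImplicit false
set_option maxRecDepth 1000000

namespace Cfsg.Agent.Helper9.TCData.HeA0
open Cfsg.Agent.Helper9.TC2

theorem e0_8 : allRange 17049 2646 (fun u => chkE tab 0 u) = true := by decide +kernel

theorem e0_9 : allRange 19695 1968 (fun u => chkE tab 0 u) = true := by decide +kernel

theorem e0_10 : allRange 21663 2672 (fun u => chkE tab 0 u) = true := by decide +kernel

theorem e0_11 : allRange 24335 2139 (fun u => chkE tab 0 u) = true := by decide +kernel

theorem e0_12 : allRange 26474 2079 (fun u => chkE tab 0 u) = true := by decide +kernel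

theorem e0_13 : allRange 28553 2095 (fun u => chkE tab 0 u) = true := by decide +kernel

theorem e0_14 : allRange 30648 2436 (fun u => chkE tab 0 u) = true := by decide +kernel

theorem e0_15 : allRange 33084 2763 (fun u => chkE tab 0 u) = true := by decide +kernel


end Cfsg.Agent.Helper9.TCData.HeA0
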