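import Cfsg.Agent.Lib.Helper9.TCData.HeA0.Main

set_option autoImplicit false
set_option maxRecDepth 1000000

namespace Cfsg.Agent.Helper9.TCData.HeA0
open Cfsg.Agent.Helper9.TC2

theorem e0_80 : allRange 188021 2436 (fun u => chkE tab 0 u) = true := by decide +kernel

theorem e0_81 : allRange 190457 2601 (fun u => chkE tab 0 u) = true := by decide +kernel

theorem e0_82 : allRange 193058 2455 (fun u => chkE tab 0 u) = true := by decide +kernel

theorem e0_83 : allRange 195513 2605 (fun u => chkE tab 0 u) = true := by decide +kernel

theorem e0_84 : allRange 198118 2398 (fun u => chkE tab 0 u) = true := by decide +kernel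

theorem e0_85 : allRange 200516 2407 (fun u => chkE tab 0 u) = true := by decide +kernel

theorem e0_86 : allRange 202923 2497 (fun u => chkE tab 0 u) = true := by decide +kernel

theorem e0_87 : allRange 205420 2333 (fun u => chkE tab 0 u) = true := by decide +kernel


end Cfsg.Agent.Helper9.TCData.HeA0
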