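import Cfsg.Agent.Lib.Helper9.TCData.HeA0.Main

set_option autoImplicit false
set_option maxRecDepth 1000000

namespace Cfsg.Agent.Helper9.TCData.HeA0
open Cfsg.Agent.Helper9.TC2

theorem e0_88 : allRange 207753 2689 (fun u => chkE tab 0 u) = true := by decide +kernel

theorem e0_89 : allRange 210442 2497 (fun u => chkE tab 0 u) = true := by decide +kernel

theorem e0_90 : allRange 212939 2476 (fun u => chkE tab 0 u) = true := by decide +kernel

theorem e0_91 : allRange 215415 2632 (fun u => chkE tab 0 u) = true := by decide +kernel

theorem e0_92 : allRange 218047 2685 (fun u => chkE tab 0 u) = true := by decide +kernel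

theorem e0_93 : allRange 220732 2707 (fun u => chkE tab 0 u) = true := by decide +kernel

theorem e0_94 : allRange 223439 2673 (fun u => chkE tab 0 u) = true := by decide +kernel

theorem e0_95 : allRange 226112 2787 (fun u => chkE tab 0 u) = true := by decide +kernel


end Cfsg.Agent.Helper9.TCData.HeA0
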