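import Cfsg.Agent.Lib.Helper9.TCData.HeA0.Main

set_option autoImplicit false
set_option maxRecDepth 1000000

namespace Cfsg.Agent.Helper9.TCData.HeA0
open Cfsg.Agent.Helper9.TC2

theorem f_168 : allRange 58464 348 (fun u => chkFin tab u) = true := by decide +kernel

theorem f_169 : allRange 58812 348 (fun u => chkFin tab u) = true := by decide +kernel

theorem f_170 : allRange 59160 348 (fun u => chkFin tab u) = true := by decide +kernel

theorem f_171 : allRange 59508 348 (fun u => chkFin tab u) = true := by decide +kernel

theorem f_172 : allRange 59856 348 (fun u => chkFin tab u) = true := by decide +kernel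

theorem f_173 : allRange 60204 348 (fun u => chkFin tab u) = true := by decide +kernel

theorem f_174 : allRange 60552 348 (fun u => chkFin tab u) = true := by decide +kernel

theorem f_175 : allRange 60900 348 (fun u => chkFin tab u) = true := by decide +kernel


end Cfsg.Agent.Helper9.TCData.HeA0
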