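import Cfsg.Agent.Lib.Helper9.TCData.HeA0.Main

set_option autoImplicit false
set_option maxRecDepth 1000000

namespace Cfsg.Agent.Helper9.TCData.HeA0
open Cfsg.Agent.Helper9.TC2

theorem f_224 : allRange 77952 348 (fun u => chkFin tab u) = true := by decide +kernel

theorem f_225 : allRange 78300 348 (fun u => chkFin tab u) = true := by decide +kernel

theorem f_226 : allRange 78648 348 (fun u => chkFin tab u) = true := by decide +kernel

theorem f_227 : allRange 78996 348 (fun u => chkFin tab u) = true := by decide +kernel

theorem f_228 : allRange 79344 348 (fun u => chkFin tab u) = true := by decide +kernel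

theorem f_229 : allRange 79692 348 (fun u => chkFin tab u) = true := by decide +kernel

theorem f_230 : allRange 80040 348 (fun u => chkFin tab u) = true := by decide +kernel

theorem f_231 : allRange 80388 348 (fun u => chkFin tab u) = true := by decide +kernel


end Cfsg.Agent.Helper9.TCData.HeA0
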