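import Cfsg.Agent.Lib.Helper9.TCData.HeA0.Main

set_option autoImplicit false
set_option maxRecDepth 1000000

namespace Cfsg.Agent.Helper9.TCData.HeA0
open Cfsg.Agent.Helper9.TC2

theorem f_248 : allRange 86304 348 (fun u => chkFin tab u) = true := by decide +kernel

theorem f_249 : allRange 86652 348 (fun u => chkFin tab u) = true := by decide +kernel

theorem f_250 : allRange 87000 348 (fun u => chkFin tab u) = true := by decide +kernel

theorem f_251 : allRange 87348 348 (fun u => chkFin tab u) = true := by decide +kernel

theorem f_252 : allRange 87696 348 (fun u => chkFin tab u) = true := by decide +kernel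

theorem f_253 : allRange 88044 348 (fun u => chkFin tab u) = true := by decide +kernel

theorem f_254 : allRange 88392 348 (fun u => chkFin tab u) = true := by decide +kernel

theorem f_255 : allRange 88740 348 (fun u => chkFin tab u) = true := by decide +kernel


end Cfsg.Agent.Helper9.TCData.HeA0
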