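import Cfsg.Agent.Lib.Helper9.TCData.HeA0.Main

set_option autoImplicit false
set_option maxRecDepth 1000000

namespace Cfsg.Agent.Helper9.TCData.HeA0
open Cfsg.Agent.Helper9.TC2

theorem f_256 : allRange 89088 348 (fun u => chkFin tab u) = true := by decide +kernel

theorem f_257 : allRange 89436 348 (fun u => chkFin tab u) = true := by decide +kernel

theorem f_258 : allRange 89784 348 (fun u => chkFin tab u) = true := by decide +kernel

theorem f_259 : allRange 90132 348 (fun u => chkFin tab u) = true := by decide +kernel

theorem f_260 : allRange 90480 348 (fun u => chkFin tab u) = true := by decide +kernel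

theorem f_261 : allRange 90828 348 (fun u => chkFin tab u) = true := by decide +kernel

theorem f_262 : allRange 91176 348 (fun u => chkFin tab u) = true := by decide +kernel

theorem f_263 : allRange 91524 348 (fun u => chkFin tab u) = true := by decide +kernel


end Cfsg.Agent.Helper9.TCData.HeA0
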