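import Cfsg.Agent.Lib.Helper9.TCData.HeA0.Main

set_option autoImplicit false
set_option maxRecDepth 1000000

namespace Cfsg.Agent.Helper9.TCData.HeA0
open Cfsg.Agent.Helper9.TC2

theorem f_272 : allRange 94656 348 (fun u => chkFin tab u) = true := by decide +kernel

theorem f_273 : allRange 95004 348 (fun u => chkFin tab u) = true := by decide +kernel

theorem f_274 : allRange 95352 348 (fun u => chkFin tab u) = true := by decide +kernel

theorem f_275 : allRange 95700 348 (fun u => chkFin tab u) = true := by decide +kernel

theorem f_276 : allRange 96048 348 (fun u => chkFin tab u) = true := by decide +kernel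

theorem f_277 : allRange 96396 348 (fun u => chkFin tab u) = true := by decide +kernel

theorem f_278 : allRange 96744 348 (fun u => chkFin tab u) = true := by decide +kernel

theorem f_279 : allRange 97092 348 (fun u => chkFin tab u) = true := by decide +kernel


end Cfsg.Agent.Helper9.TCData.HeA0
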