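import Cfsg.Agent.Lib.Helper9.TCData.HeA0.Main

set_option autoImplicit false
set_option maxRecDepth 1000000

namespace Cfsg.Agent.Helper9.TCData.HeA0
open Cfsg.Agent.Helper9.TC2

theorem f_288 : allRange 100224 348 (fun u => chkFin tab u) = true := by decide +kernel

theorem f_289 : allRange 100572 348 (fun u => chkFin tab u) = true := by decide +kernel

theorem f_290 : allRange 100920 348 (fun u => chkFin tab u) = true := by decide +kernel

theorem f_291 : allRange 101268 348 (fun u => chkFin tab u) = true := by decide +kernel

theorem f_292 : allRange 101616 348 (fun u => chkFin tab u) = true := by decide +kernel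

theorem f_293 : allRange 101964 348 (fun u => chkFin tab u) = true := by decide +kernel

theorem f_294 : allRange 102312 348 (fun u => chkFin tab u) = true := by decide +kernel

theorem f_295 : allRange 102660 348 (fun u => chkFin tab u) = true := by decide +kernel


end Cfsg.Agent.Helper9.TCData.HeA0
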