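import Cfsg.Agent.Lib.Helper9.TCData.HeA0.Main

set_option autoImplicit false
set_option maxRecDepth 1000000

namespace Cfsg.Agent.Helper9.TCData.HeA0
open Cfsg.Agent.Helper9.TC2

theorem f_304 : allRange 105792 348 (fun u => chkFin tab u) = true := by decide +kernel

theorem f_305 : allRange 106140 348 (fun u => chkFin tab u) = true := by decide +kernel

theorem f_306 : allRange 106488 348 (fun u => chkFin tab u) = true := by decide +kernel

theorem f_307 : allRange 106836 348 (fun u => chkFin tab u) = true := by decide +kernel

theorem f_308 : allRange 107184 348 (fun u => chkFin tab u) = true := by decide +kernel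

theorem f_309 : allRange 107532 348 (fun u => chkFin tab u) = true := by decide +kernel

theorem f_310 : allRange 107880 348 (fun u => chkFin tab u) = true := by decide +kernel

theorem f_311 : allRange 108228 348 (fun u => chkFin tab u) = true := by decide +kernel


end Cfsg.Agent.Helper9.TCData.HeA0
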