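import Cfsg.Agent.Lib.Helper9.TCData.HeA0.Main

set_option autoImplicit false
set_option maxRecDepth 1000000

namespace Cfsg.Agent.Helper9.TCData.HeA0
open Cfsg.Agent.Helper9.TC2

theorem f_312 : allRange 108576 348 (fun u => chkFin tab u) = true := by decide +kernel

theorem f_313 : allRange 108924 348 (fun u => chkFin tab u) = true := by decide +kernel

theorem f_314 : allRange 109272 348 (fun u => chkFin tab u) = true := by decide +kernel

theorem f_315 : allRange 109620 348 (fun u => chkFin tab u) = true := by decide +kernel

theorem f_316 : allRange 109968 348 (fun u => chkFin tab u) = true := by decide +kernel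

theorem f_317 : allRange 110316 348 (fun u => chkFin tab u) = true := by decide +kernel

theorem f_318 : allRange 110664 348 (fun u => chkFin tab u) = true := by decide +kernel

theorem f_319 : allRange 111012 348 (fun u => chkFin tab u) = true := by decide +kernel


end Cfsg.Agent.Helper9.TCData.HeA0
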