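import Cfsg.Agent.Lib.Helper9.TCData.HeA0.Main

set_option autoImplicit false
set_option maxRecDepth 1000000

namespace Cfsg.Agent.Helper9.TCData.HeA0
open Cfsg.Agent.Helper9.TC2

theorem f_320 : allRange 111360 348 (fun u => chkFin tab u) = true := by decide +kernel

theorem f_321 : allRange 111708 348 (fun u => chkFin tab u) = true := by decide +kernel

theorem f_322 : allRange 112056 348 (fun u => chkFin tab u) = true := by decide +kernel

theorem f_323 : allRange 112404 348 (fun u => chkFin tab u) = true := by decide +kernel

theorem f_324 : allRange 112752 348 (fun u => chkFin tab u) = true := by decide +kernel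

theorem f_325 : allRange 113100 348 (fun u => chkFin tab u) = true := by decide +kernel

theorem f_326 : allRange 113448 348 (fun u => chkFin tab u) = true := by decide +kernel

theorem f_327 : allRange 113796 348 (fun u => chkFin tab u) = true := by decide +kernel


end Cfsg.Agent.Helper9.TCData.HeA0
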