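import Cfsg.Agent.Lib.Helper9.TCData.HeA0.Main

set_option autoImplicit false
set_option maxRecDepth 1000000

namespace Cfsg.Agent.Helper9.TCData.HeA0
open Cfsg.Agent.Helper9.TC2

theorem e0_104 : allRange 251330 2952 (fun u => chkE tab 0 u) = true := by decide +kernel

theorem e0_105 : allRange 254282 3227 (fun u => chkE tab 0 u) = true := by decide +kernel

theorem e0_106 : allRange 257509 3247 (fun u => chkE tab 0 u) = true := by decide +kernel

theorem e0_107 : allRange 260756 3324 (fun u => chkE tab 0 u) = true := by decide +kernel

theorem e0_108 : allRange 264080 3453 (fun u => chkE tab 0 u) = true := by decide +kernel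

theorem e0_109 : allRange 267533 1694 (fun u => chkE tab 0 u) = true := by decide +kernel

theorem e1_0 : allRange 0 2318 (fun u => chkE tab 1 u) = true := by decide +kernel

theorem e1_1 : allRange 2318 2278 (fun u => chkE tab 1 u) = true := by decide +kernel


end Cfsg.Agent.Helper9.TCData.HeA0
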