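import Cfsg.Agent.Lib.Helper9.TCData.HeA0.Main

set_option autoImplicit false
set_option maxRecDepth 1000000

namespace Cfsg.Agent.Helper9.TCData.HeA0
open Cfsg.Agent.Helper9.TC2

theorem f_400 : allRange 139200 348 (fun u => chkFin tab u) = true := by decide +kernel

theorem f_401 : allRange 139548 348 (fun u => chkFin tab u) = true := by decide +kernel

theorem f_402 : allRange 139896 348 (fun u => chkFin tab u) = true := by decide +kernel

theorem f_403 : allRange 140244 348 (fun u => chkFin tab u) = true := by decide +kernel

theorem f_404 : allRange 140592 348 (fun u => chkFin tab u) = true := by decide +kernel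

theorem f_405 : allRange 140940 348 (fun u => chkFin tab u) = true := by decide +kernel

theorem f_406 : allRange 141288 348 (fun u => chkFin tab u) = true := by decide +kernel

theorem f_407 : allRange 141636 348 (fun u => chkFin tab u) = true := by decide +kernel


end Cfsg.Agent.Helper9.TCData.HeA0
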