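import Cfsg.Agent.Lib.Helper9.TCData.HeA0.Main

set_option autoImplicit false
set_option maxRecDepth 1000000

namespace Cfsg.Agent.Helper9.TCData.HeA0
open Cfsg.Agent.Helper9.TC2

theorem e1_2 : allRange 4596 2250 (fun u => chkE tab 1 u) = true := by decide +kernel

theorem e1_3 : allRange 6846 2194 (fun u => chkE tab 1 u) = true := by decide +kernel

theorem e1_4 : allRange 9040 2313 (fun u => chkE tab 1 u) = true := by decide +kernel

theorem e1_5 : allRange 11353 2360 (fun u => chkE tab 1 u) = true := by decide +kernel

theorem e1_6 : allRange 13713 2293 (fun u => chkE tab 1 u) = true := by decide +kernel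

theorem e1_7 : allRange 16006 2338 (fun u => chkE tab 1 u) = true := by decide +kernel

theorem e1_8 : allRange 18344 2451 (fun u => chkE tab 1 u) = true := by decide +kernel

theorem e1_9 : allRange 20795 2273 (fun u => chkE tab 1 u) = true := by decide +kernel


end Cfsg.Agent.Helper9.TCData.HeA0
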