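import Cfsg.Agent.Lib.Helper9.TCData.HeA0.Main

set_option autoImplicit false
set_option maxRecDepth 1000000

namespace Cfsg.Agent.Helper9.TCData.HeA0
open Cfsg.Agent.Helper9.TC2

theorem f_408 : allRange 141984 348 (fun u => chkFin tab u) = true := by decide +kernel

theorem f_409 : allRange 142332 348 (fun u => chkFin tab u) = true := by decide +kernel

theorem f_410 : allRange 142680 348 (fun u => chkFin tab u) = true := by decide +kernel

theorem f_411 : allRange 143028 348 (fun u => chkFin tab u) = true := by decide +kernel

theorem f_412 : allRange 143376 348 (fun u => chkFin tab u) = true := by decide +kernel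

theorem f_413 : allRange 143724 348 (fun u => chkFin tab u) = true := by decide +kernel

theorem f_414 : allRange 144072 348 (fun u => chkFin tab u) = true := by decide +kernel

theorem f_415 : allRange 144420 348 (fun u => chkFin tab u) = true := by decide +kernel


end Cfsg.Agent.Helper9.TCData.HeA0
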