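import Cfsg.Agent.Lib.Helper9.TCData.HeA0.Main

set_option autoImplicit false
set_option maxRecDepth 1000000

namespace Cfsg.Agent.Helper9.TCData.HeA0
open Cfsg.Agent.Helper9.TC2

theorem f_416 : allRange 144768 348 (fun u => chkFin tab u) = true := by decide +kernel

theorem f_417 : allRange 145116 348 (fun u => chkFin tab u) = true := by decide +kernel

theorem f_418 : allRange 145464 348 (fun u => chkFin tab u) = true := by decide +kernel

theorem f_419 : allRange 145812 348 (fun u => chkFin tab u) = true := by decide +kernel

theorem f_420 : allRange 146160 348 (fun u => chkFin tab u) = true := by decide +kernel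

theorem f_421 : allRange 146508 348 (fun u => chkFin tab u) = true := by decide +kernel

theorem f_422 : allRange 146856 348 (fun u => chkFin tab u) = true := by decide +kernel

theorem f_423 : allRange 147204 348 (fun u => chkFin tab u) = true := by decide +kernel


end Cfsg.Agent.Helper9.TCData.HeA0
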