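import Cfsg.Agent.Lib.Helper9.TCData.HeA0.Main

set_option autoImplicit false
set_option maxRecDepth 1000000

namespace Cfsg.Agent.Helper9.TCData.HeA0
open Cfsg.Agent.Helper9.TC2

theorem f_432 : allRange 150336 348 (fun u => chkFin tab u) = true := by decide +kernel

theorem f_433 : allRange 150684 348 (fun u => chkFin tab u) = true := by decide +kernel

theorem f_434 : allRange 151032 348 (fun u => chkFin tab u) = true := by decide +kernel

theorem f_435 : allRange 151380 348 (fun u => chkFin tab u) = true := by decide +kernel

theorem f_436 : allRange 151728 348 (fun u => chkFin tab u) = true := by decide +kernel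

theorem f_437 : allRange 152076 348 (fun u => chkFin tab u) = true := by decide +kernel

theorem f_438 : allRange 152424 348 (fun u => chkFin tab u) = true := by decide +kernel

theorem f_439 : allRange 152772 348 (fun u => chkFin tab u) = true := by decide +kernel


end Cfsg.Agent.Helper9.TCData.HeA0
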