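import Cfsg.Agent.Lib.Helper9.TCData.HeA0.Main

set_option autoImplicit false
set_option maxRecDepth 1000000

namespace Cfsg.Agent.Helper9.TCData.HeA0
open Cfsg.Agent.Helper9.TC2

theorem f_440 : allRange 153120 348 (fun u => chkFin tab u) = true := by decide +kernel

theorem f_441 : allRange 153468 348 (fun u => chkFin tab u) = true := by decide +kernel

theorem f_442 : allRange 153816 348 (fun u => chkFin tab u) = true := by decide +kernel

theorem f_443 : allRange 154164 348 (fun u => chkFin tab u) = true := by decide +kernel

theorem f_444 : allRange 154512 348 (fun u => chkFin tab u) = true := by decide +kernel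

theorem f_445 : allRange 154860 348 (fun u => chkFin tab u) = true := by decide +kernel

theorem f_446 : allRange 155208 348 (fun u => chkFin tab u) = true := by decide +kernel

theorem f_447 : allRange 155556 348 (fun u => chkFin tab u) = true := by decide +kernel


end Cfsg.Agent.Helper9.TCData.HeA0
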