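import Cfsg.Agent.Lib.Helper9.TCData.HeA0.Main

set_option autoImplicit false
set_option maxRecDepth 1000000

namespace Cfsg.Agent.Helper9.TCData.HeA0
open Cfsg.Agent.Helper9.TC2

theorem f_464 : allRange 161472 348 (fun u => chkFin tab u) = true := by decide +kernel

theorem f_465 : allRange 161820 348 (fun u => chkFin tab u) = true := by decide +kernel

theorem f_466 : allRange 162168 348 (fun u => chkFin tab u) = true := by decide +kernel

theorem f_467 : allRange 162516 348 (fun u => chkFin tab u) = true := by decide +kernel

theorem f_468 : allRange 162864 348 (fun u => chkFin tab u) = true := by decide +kernel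

theorem f_469 : allRange 163212 348 (fun u => chkFin tab u) = true := by decide +kernel

theorem f_470 : allRange 163560 348 (fun u => chkFin tab u) = true := by decide +kernel

theorem f_471 : allRange 163908 348 (fun u => chkFin tab u) = true := by decide +kernel


end Cfsg.Agent.Helper9.TCData.HeA0
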