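import Cfsg.Agent.Lib.Helper9.TCData.HeA0.Main

set_option autoImplicit false
set_option maxRecDepth 1000000

namespace Cfsg.Agent.Helper9.TCData.HeA0
open Cfsg.Agent.Helper9.TC2

theorem e1_10 : allRange 23068 2314 (fun u => chkE tab 1 u) = true := by decide +kernel

theorem e1_11 : allRange 25382 2338 (fun u => chkE tab 1 u) = true := by decide +kernel

theorem e1_12 : allRange 27720 2418 (fun u => chkE tab 1 u) = true := by decide +kernel

theorem e1_13 : allRange 30138 2348 (fun u => chkE tab 1 u) = true := by decide +kernel

theorem e1_14 : allRange 32486 2387 (fun u => chkE tab 1 u) = true := by decide +kernel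

theorem e1_15 : allRange 34873 2347 (fun u => chkE tab 1 u) = true := by decide +kernel

theorem e1_16 : allRange 37220 2378 (fun u => chkE tab 1 u) = true := by decide +kernel

theorem e1_17 : allRange 39598 2385 (fun u => chkE tab 1 u) = true := by decide +kernel


end Cfsg.Agent.Helper9.TCData.HeA0
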