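import Cfsg.Agent.Lib.Helper9.TCData.HeA0.Main

set_option autoImplicit false
set_option maxRecDepth 1000000

namespace Cfsg.Agent.Helper9.TCData.HeA0
open Cfsg.Agent.Helper9.TC2

theorem f_520 : allRange 180960 348 (fun u => chkFin tab u) = true := by decide +kernel

theorem f_521 : allRange 181308 348 (fun u => chkFin tab u) = true := by decide +kernel

theorem f_522 : allRange 181656 348 (fun u => chkFin tab u) = true := by decide +kernel

theorem f_523 : allRange 182004 348 (fun u => chkFin tab u) = true := by decide +kernel

theorem f_524 : allRange 182352 348 (fun u => chkFin tab u) = true := by decide +kernel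

theorem f_525 : allRange 182700 348 (fun u => chkFin tab u) = true := by decide +kernel

theorem f_526 : allRange 183048 348 (fun u => chkFin tab u) = true := by decide +kernel

theorem f_527 : allRange 183396 348 (fun u => chkFin tab u) = true := by decide +kernel


end Cfsg.Agent.Helper9.TCData.HeA0
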