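import Cfsg.Agent.Lib.Helper9.TCData.HeA0.Main

set_option autoImplicit false
set_option maxRecDepth 1000000

namespace Cfsg.Agent.Helper9.TCData.HeA0
open Cfsg.Agent.Helper9.TC2

theorem f_536 : allRange 186528 348 (fun u => chkFin tab u) = true := by decide +kernel

theorem f_537 : allRange 186876 348 (fun u => chkFin tab u) = true := by decide +kernel

theorem f_538 : allRange 187224 348 (fun u => chkFin tab u) = true := by decide +kernel

theorem f_539 : allRange 187572 348 (fun u => chkFin tab u) = true := by decide +kernel

theorem f_540 : allRange 187920 348 (fun u => chkFin tab u) = true := by decide +kernel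

theorem f_541 : allRange 188268 348 (fun u => chkFin tab u) = true := by decide +kernel

theorem f_542 : allRange 188616 348 (fun u => chkFin tab u) = true := by decide +kernel

theorem f_543 : allRange 188964 348 (fun u => chkFin tab u) = true := by decide +kernel


end Cfsg.Agent.Helper9.TCData.HeA0
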