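import Cfsg.Agent.Lib.Helper9.TCData.HeA0.Main

set_option autoImplicit false
set_option maxRecDepth 1000000

namespace Cfsg.Agent.Helper9.TCData.HeA0
open Cfsg.Agent.Helper9.TC2

theorem f_544 : allRange 189312 348 (fun u => chkFin tab u) = true := by decide +kernel

theorem f_545 : allRange 189660 348 (fun u => chkFin tab u) = true := by decide +kernel

theorem f_546 : allRange 190008 348 (fun u => chkFin tab u) = true := by decide +kernel

theorem f_547 : allRange 190356 348 (fun u => chkFin tab u) = true := by decide +kernel

theorem f_548 : allRange 190704 348 (fun u => chkFin tab u) = true := by decide +kernel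

theorem f_549 : allRange 191052 348 (fun u => chkFin tab u) = true := by decide +kernel

theorem f_550 : allRange 191400 348 (fun u => chkFin tab u) = true := by decide +kernel

theorem f_551 : allRange 191748 348 (fun u => chkFin tab u) = true := by decide +kernel


end Cfsg.Agent.Helper9.TCData.HeA0
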