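import Cfsg.Agent.Lib.Helper9.TCData.HeA0.Main

set_option autoImplicit false
set_option maxRecDepth 1000000

namespace Cfsg.Agent.Helper9.TCData.HeA0
open Cfsg.Agent.Helper9.TC2

theorem f_552 : allRange 192096 348 (fun u => chkFin tab u) = true := by decide +kernel

theorem f_553 : allRange 192444 348 (fun u => chkFin tab u) = true := by decide +kernel

theorem f_554 : allRange 192792 348 (fun u => chkFin tab u) = true := by decide +kernel

theorem f_555 : allRange 193140 348 (fun u => chkFin tab u) = true := by decide +kernel

theorem f_556 : allRange 193488 348 (fun u => chkFin tab u) = true := by decide +kernel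

theorem f_557 : allRange 193836 348 (fun u => chkFin tab u) = true := by decide +kernel

theorem f_558 : allRange 194184 348 (fun u => chkFin tab u) = true := by decide +kernel

theorem f_559 : allRange 194532 348 (fun u => chkFin tab u) = true := by decide +kernel


end Cfsg.Agent.Helper9.TCData.HeA0
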