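import Cfsg.Agent.Lib.Helper9.TCData.HeA0.Main

set_option autoImplicit false
set_option maxRecDepth 1000000

namespace Cfsg.Agent.Helper9.TCData.HeA0
open Cfsg.Agent.Helper9.TC2

theorem f_560 : allRange 194880 348 (fun u => chkFin tab u) = true := by decide +kernel

theorem f_561 : allRange 195228 348 (fun u => chkFin tab u) = true := by decide +kernel

theorem f_562 : allRange 195576 348 (fun u => chkFin tab u) = true := by decide +kernel

theorem f_563 : allRange 195924 348 (fun u => chkFin tab u) = true := by decide +kernel

theorem f_564 : allRange 196272 348 (fun u => chkFin tab u) = true := by decide +kernel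

theorem f_565 : allRange 196620 348 (fun u => chkFin tab u) = true := by decide +kernel

theorem f_566 : allRange 196968 348 (fun u => chkFin tab u) = true := by decide +kernel

theorem f_567 : allRange 197316 348 (fun u => chkFin tab u) = true := by decide +kernel


end Cfsg.Agent.Helper9.TCData.HeA0
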