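import Cfsg.Agent.Lib.Helper9.TCData.HeA0.Main

set_option autoImplicit false
set_option maxRecDepth 1000000

namespace Cfsg.Agent.Helper9.TCData.HeA0
open Cfsg.Agent.Helper9.TC2

theorem e1_18 : allRange 41983 2295 (fun u => chkE tab 1 u) = true := by decide +kernel

theorem e1_19 : allRange 44278 2434 (fun u => chkE tab 1 u) = true := by decide +kernel

theorem e1_20 : allRange 46712 2504 (fun u => chkE tab 1 u) = true := by decide +kernel

theorem e1_21 : allRange 49216 2490 (fun u => chkE tab 1 u) = true := by decide +kernel

theorem e1_22 : allRange 51706 2423 (fun u => chkE tab 1 u) = true := by decide +kernel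

theorem e1_23 : allRange 54129 2463 (fun u => chkE tab 1 u) = true := by decide +kernel

theorem e1_24 : allRange 56592 2360 (fun u => chkE tab 1 u) = true := by decide +kernel

theorem e1_25 : allRange 58952 2412 (fun u => chkE tab 1 u) = true := by decide +kernel


end Cfsg.Agent.Helper9.TCData.HeA0
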