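import Cfsg.Agent.Lib.Helper9.TCData.HeA0.Main

set_option autoImplicit false
set_option maxRecDepth 1000000

namespace Cfsg.Agent.Helper9.TCData.HeA0
open Cfsg.Agent.Helper9.TC2

theorem f_568 : allRange 197664 348 (fun u => chkFin tab u) = true := by decide +kernel

theorem f_569 : allRange 198012 348 (fun u => chkFin tab u) = true := by decide +kernel

theorem f_570 : allRange 198360 348 (fun u => chkFin tab u) = true := by decide +kernel

theorem f_571 : allRange 198708 348 (fun u => chkFin tab u) = true := by decide +kernel

theorem f_572 : allRange 199056 348 (fun u => chkFin tab u) = true := by decide +kernel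

theorem f_573 : allRange 199404 348 (fun u => chkFin tab u) = true := by decide +kernel

theorem f_574 : allRange 199752 348 (fun u => chkFin tab u) = true := by decide +kernel

theorem f_575 : allRange 200100 348 (fun u => chkFin tab u) = true := by decide +kernel


end Cfsg.Agent.Helper9.TCData.HeA0
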