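import Cfsg.Agent.Lib.Helper9.TCData.HeA0.Main

set_option autoImplicit false
set_option maxRecDepth 1000000

namespace Cfsg.Agent.Helper9.TCData.HeA0
open Cfsg.Agent.Helper9.TC2

theorem f_576 : allRange 200448 348 (fun u => chkFin tab u) = true := by decide +kernel

theorem f_577 : allRange 200796 348 (fun u => chkFin tab u) = true := by decide +kernel

theorem f_578 : allRange 201144 348 (fun u => chkFin tab u) = true := by decide +kernel

theorem f_579 : allRange 201492 348 (fun u => chkFin tab u) = true := by decide +kernel

theorem f_580 : allRange 201840 348 (fun u => chkFin tab u) = true := by decide +kernel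

theorem f_581 : allRange 202188 348 (fun u => chkFin tab u) = true := by decide +kernel

theorem f_582 : allRange 202536 348 (fun u => chkFin tab u) = true := by decide +kernel

theorem f_583 : allRange 202884 348 (fun u => chkFin tab u) = true := by decide +kernel


end Cfsg.Agent.Helper9.TCData.HeA0
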