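import Cfsg.Agent.Lib.Helper9.TCData.HeA0.Main

set_option autoImplicit false
set_option maxRecDepth 1000000

namespace Cfsg.Agent.Helper9.TCData.HeA0
open Cfsg.Agent.Helper9.TC2

theorem f_592 : allRange 206016 348 (fun u => chkFin tab u) = true := by decide +kernel

theorem f_593 : allRange 206364 348 (fun u => chkFin tab u) = true := by decide +kernel

theorem f_594 : allRange 206712 348 (fun u => chkFin tab u) = true := by decide +kernel

theorem f_595 : allRange 207060 348 (fun u => chkFin tab u) = true := by decide +kernel

theorem f_596 : allRange 207408 348 (fun u => chkFin tab u) = true := by decide +kernel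

theorem f_597 : allRange 207756 348 (fun u => chkFin tab u) = true := by decide +kernel

theorem f_598 : allRange 208104 348 (fun u => chkFin tab u) = true := by decide +kernel

theorem f_599 : allRange 208452 348 (fun u => chkFin tab u) = true := by decide +kernel


end Cfsg.Agent.Helper9.TCData.HeA0
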