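import Cfsg.Agent.Lib.Helper9.TCData.HeA0.Main

set_option autoImplicit false
set_option maxRecDepth 1000000

namespace Cfsg.Agent.Helper9.TCData.HeA0
open Cfsg.Agent.Helper9.TC2

theorem f_600 : allRange 208800 348 (fun u => chkFin tab u) = true := by decide +kernel

theorem f_601 : allRange 209148 348 (fun u => chkFin tab u) = true := by decide +kernel

theorem f_602 : allRange 209496 348 (fun u => chkFin tab u) = true := by decide +kernel

theorem f_603 : allRange 209844 348 (fun u => chkFin tab u) = true := by decide +kernel

theorem f_604 : allRange 210192 348 (fun u => chkFin tab u) = true := by decide +kernel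

theorem f_605 : allRange 210540 348 (fun u => chkFin tab u) = true := by decide +kernel

theorem f_606 : allRange 210888 348 (fun u => chkFin tab u) = true := by decide +kernel

theorem f_607 : allRange 211236 348 (fun u => chkFin tab u) = true := by decide +kernel


end Cfsg.Agent.Helper9.TCData.HeA0
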