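import Cfsg.Agent.Lib.Helper9.TCData.HeA0.Main

set_option autoImplicit false
set_option maxRecDepth 1000000

namespace Cfsg.Agent.Helper9.TCData.HeA0
open Cfsg.Agent.Helper9.TC2

theorem f_608 : allRange 211584 348 (fun u => chkFin tab u) = true := by decide +kernel

theorem f_609 : allRange 211932 348 (fun u => chkFin tab u) = true := by decide +kernel

theorem f_610 : allRange 212280 348 (fun u => chkFin tab u) = true := by decide +kernel

theorem f_611 : allRange 212628 348 (fun u => chkFin tab u) = true := by decide +kernel

theorem f_612 : allRange 212976 348 (fun u => chkFin tab u) = true := by decide +kernel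

theorem f_613 : allRange 213324 348 (fun u => chkFin tab u) = true := by decide +kernel

theorem f_614 : allRange 213672 348 (fun u => chkFin tab u) = true := by decide +kernel

theorem f_615 : allRange 214020 348 (fun u => chkFin tab u) = true := by decide +kernel


end Cfsg.Agent.Helper9.TCData.HeA0
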