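import Cfsg.Agent.Lib.Helper9.TCData.HeA0.Main

set_option autoImplicit false
set_option maxRecDepth 1000000

namespace Cfsg.Agent.Helper9.TCData.HeA0
open Cfsg.Agent.Helper9.TC2

theorem f_616 : allRange 214368 348 (fun u => chkFin tab u) = true := by decide +kernel

theorem f_617 : allRange 214716 348 (fun u => chkFin tab u) = true := by decide +kernel

theorem f_618 : allRange 215064 348 (fun u => chkFin tab u) = true := by decide +kernel

theorem f_619 : allRange 215412 348 (fun u => chkFin tab u) = true := by decide +kernel

theorem f_620 : allRange 215760 348 (fun u => chkFin tab u) = true := by decide +kernel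

theorem f_621 : allRange 216108 348 (fun u => chkFin tab u) = true := by decide +kernel

theorem f_622 : allRange 216456 348 (fun u => chkFin tab u) = true := by decide +kernel

theorem f_623 : allRange 216804 348 (fun u => chkFin tab u) = true := by decide +kernel


end Cfsg.Agent.Helper9.TCData.HeA0
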