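import Cfsg.Agent.Lib.Helper9.TCData.HeA0.Main

set_option autoImplicit false
set_option maxRecDepth 1000000

namespace Cfsg.Agent.Helper9.TCData.HeA0
open Cfsg.Agent.Helper9.TC2

theorem f_624 : allRange 217152 348 (fun u => chkFin tab u) = true := by decide +kernel

theorem f_625 : allRange 217500 348 (fun u => chkFin tab u) = true := by decide +kernel

theorem f_626 : allRange 217848 348 (fun u => chkFin tab u) = true := by decide +kernel

theorem f_627 : allRange 218196 348 (fun u => chkFin tab u) = true := by decide +kernel

theorem f_628 : allRange 218544 348 (fun u => chkFin tab u) = true := by decide +kernel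

theorem f_629 : allRange 218892 348 (fun u => chkFin tab u) = true := by decide +kernel

theorem f_630 : allRange 219240 348 (fun u => chkFin tab u) = true := by decide +kernel

theorem f_631 : allRange 219588 348 (fun u => chkFin tab u) = true := by decide +kernel


end Cfsg.Agent.Helper9.TCData.HeA0
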