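import Cfsg.Agent.Lib.Helper9.TCData.HeA0.Main

set_option autoImplicit false
set_option maxRecDepth 1000000

namespace Cfsg.Agent.Helper9.TCData.HeA0
open Cfsg.Agent.Helper9.TC2

theorem f_632 : allRange 219936 348 (fun u => chkFin tab u) = true := by decide +kernel

theorem f_633 : allRange 220284 348 (fun u => chkFin tab u) = true := by decide +kernel

theorem f_634 : allRange 220632 348 (fun u => chkFin tab u) = true := by decide +kernel

theorem f_635 : allRange 220980 348 (fun u => chkFin tab u) = true := by decide +kernel

theorem f_636 : allRange 221328 348 (fun u => chkFin tab u) = true := by decide +kernel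

theorem f_637 : allRange 221676 348 (fun u => chkFin tab u) = true := by decide +kernel

theorem f_638 : allRange 222024 348 (fun u => chkFin tab u) = true := by decide +kernel

theorem f_639 : allRange 222372 348 (fun u => chkFin tab u) = true := by decide +kernel


end Cfsg.Agent.Helper9.TCData.HeA0
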