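import Cfsg.Agent.Lib.Helper9.TCData.HeA0.Main

set_option autoImplicit false
set_option maxRecDepth 1000000

namespace Cfsg.Agent.Helper9.TCData.HeA0
open Cfsg.Agent.Helper9.TC2

theorem f_640 : allRange 222720 348 (fun u => chkFin tab u) = true := by decide +kernel

theorem f_641 : allRange 223068 348 (fun u => chkFin tab u) = true := by decide +kernel

theorem f_642 : allRange 223416 348 (fun u => chkFin tab u) = true := by decide +kernel

theorem f_643 : allRange 223764 348 (fun u => chkFin tab u) = true := by decide +kernel

theorem f_644 : allRange 224112 348 (fun u => chkFin tab u) = true := by decide +kernel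

theorem f_645 : allRange 224460 348 (fun u => chkFin tab u) = true := by decide +kernel

theorem f_646 : allRange 224808 348 (fun u => chkFin tab u) = true := by decide +kernel

theorem f_647 : allRange 225156 348 (fun u => chkFin tab u) = true := by decide +kernel


end Cfsg.Agent.Helper9.TCData.HeA0
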