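import Cfsg.Agent.Lib.Helper9.TCData.HeA0.Main

set_option autoImplicit false
set_option maxRecDepth 1000000

namespace Cfsg.Agent.Helper9.TCData.HeA0
open Cfsg.Agent.Helper9.TC2

theorem e1_26 : allRange 61364 2436 (fun u => chkE tab 1 u) = true := by decide +kernel

theorem e1_27 : allRange 63800 2560 (fun u => chkE tab 1 u) = true := by decide +kernel

theorem e1_28 : allRange 66360 2601 (fun u => chkE tab 1 u) = true := by decide +kernel

theorem e1_29 : allRange 68961 2464 (fun u => chkE tab 1 u) = true := by decide +kernel

theorem e1_30 : allRange 71425 2510 (fun u => chkE tab 1 u) = true := by decide +kernel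

theorem e1_31 : allRange 73935 2452 (fun u => chkE tab 1 u) = true := by decide +kernel

theorem e1_32 : allRange 76387 2617 (fun u => chkE tab 1 u) = true := by decide +kernel

theorem e1_33 : allRange 79004 2660 (fun u => chkE tab 1 u) = true := by decide +kernel


end Cfsg.Agent.Helper9.TCData.HeA0
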