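import Cfsg.Agent.Lib.Helper9.TCData.HeA0.Main

set_option autoImplicit false
set_option maxRecDepth 1000000

namespace Cfsg.Agent.Helper9.TCData.HeA0
open Cfsg.Agent.Helper9.TC2

theorem f_648 : allRange 225504 348 (fun u => chkFin tab u) = true := by decide +kernel

theorem f_649 : allRange 225852 348 (fun u => chkFin tab u) = true := by decide +kernel

theorem f_650 : allRange 226200 348 (fun u => chkFin tab u) = true := by decide +kernel

theorem f_651 : allRange 226548 348 (fun u => chkFin tab u) = true := by decide +kernel

theorem f_652 : allRange 226896 348 (fun u => chkFin tab u) = true := by decide +kernel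

theorem f_653 : allRange 227244 348 (fun u => chkFin tab u) = true := by decide +kernel

theorem f_654 : allRange 227592 348 (fun u => chkFin tab u) = true := by decide +kernel

theorem f_655 : allRange 227940 348 (fun u => chkFin tab u) = true := by decide +kernel


end Cfsg.Agent.Helper9.TCData.HeA0
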