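import Cfsg.Agent.Lib.Helper9.TCData.HeA0.Main

set_option autoImplicit false
set_option maxRecDepth 1000000

namespace Cfsg.Agent.Helper9.TCData.HeA0
open Cfsg.Agent.Helper9.TC2

theorem f_656 : allRange 228288 348 (fun u => chkFin tab u) = true := by decide +kernel

theorem f_657 : allRange 228636 348 (fun u => chkFin tab u) = true := by decide +kernel

theorem f_658 : allRange 228984 348 (fun u => chkFin tab u) = true := by decide +kernel

theorem f_659 : allRange 229332 348 (fun u => chkFin tab u) = true := by decide +kernel

theorem f_660 : allRange 229680 348 (fun u => chkFin tab u) = true := by decide +kernel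

theorem f_661 : allRange 230028 348 (fun u => chkFin tab u) = true := by decide +kernel

theorem f_662 : allRange 230376 348 (fun u => chkFin tab u) = true := by decide +kernel

theorem f_663 : allRange 230724 348 (fun u => chkFin tab u) = true := by decide +kernel


end Cfsg.Agent.Helper9.TCData.HeA0
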