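import Cfsg.Agent.Lib.Helper9.TCData.HeA0.Main

set_option autoImplicit false
set_option maxRecDepth 1000000

namespace Cfsg.Agent.Helper9.TCData.HeA0
open Cfsg.Agent.Helper9.TC2

theorem f_664 : allRange 231072 348 (fun u => chkFin tab u) = true := by decide +kernel

theorem f_665 : allRange 231420 348 (fun u => chkFin tab u) = true := by decide +kernel

theorem f_666 : allRange 231768 348 (fun u => chkFin tab u) = true := by decide +kernel

theorem f_667 : allRange 232116 348 (fun u => chkFin tab u) = true := by decide +kernel

theorem f_668 : allRange 232464 348 (fun u => chkFin tab u) = true := by decide +kernel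

theorem f_669 : allRange 232812 348 (fun u => chkFin tab u) = true := by decide +kernel

theorem f_670 : allRange 233160 348 (fun u => chkFin tab u) = true := by decide +kernel

theorem f_671 : allRange 233508 348 (fun u => chkFin tab u) = true := by decide +kernel


end Cfsg.Agent.Helper9.TCData.HeA0
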