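import Cfsg.Agent.Lib.Helper9.TCData.HeA0.Main

set_option autoImplicit false
set_option maxRecDepth 1000000

namespace Cfsg.Agent.Helper9.TCData.HeA0
open Cfsg.Agent.Helper9.TC2

theorem f_688 : allRange 239424 348 (fun u => chkFin tab u) = true := by decide +kernel

theorem f_689 : allRange 239772 348 (fun u => chkFin tab u) = true := by decide +kernel

theorem f_690 : allRange 240120 348 (fun u => chkFin tab u) = true := by decide +kernel

theorem f_691 : allRange 240468 348 (fun u => chkFin tab u) = true := by decide +kernel

theorem f_692 : allRange 240816 348 (fun u => chkFin tab u) = true := by decide +kernel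

theorem f_693 : allRange 241164 348 (fun u => chkFin tab u) = true := by decide +kernel

theorem f_694 : allRange 241512 348 (fun u => chkFin tab u) = true := by decide +kernel

theorem f_695 : allRange 241860 348 (fun u => chkFin tab u) = true := by decide +kernel


end Cfsg.Agent.Helper9.TCData.HeA0
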