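import Cfsg.Agent.Lib.Helper9.TCData.HeA0.Main

set_option autoImplicit false
set_option maxRecDepth 1000000

namespace Cfsg.Agent.Helper9.TCData.HeA0
open Cfsg.Agent.Helper9.TC2

theorem f_696 : allRange 242208 348 (fun u => chkFin tab u) = true := by decide +kernel

theorem f_697 : allRange 242556 348 (fun u => chkFin tab u) = true := by decide +kernel

theorem f_698 : allRange 242904 348 (fun u => chkFin tab u) = true := by decide +kernel

theorem f_699 : allRange 243252 348 (fun u => chkFin tab u) = true := by decide +kernel

theorem f_700 : allRange 243600 348 (fun u => chkFin tab u) = true := by decide +kernel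

theorem f_701 : allRange 243948 348 (fun u => chkFin tab u) = true := by decide +kernel

theorem f_702 : allRange 244296 348 (fun u => chkFin tab u) = true := by decide +kernel

theorem f_703 : allRange 244644 348 (fun u => chkFin tab u) = true := by decide +kernel


end Cfsg.Agent.Helper9.TCData.HeA0
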