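import Cfsg.Agent.Lib.Helper9.TCData.HeA0.Main

set_option autoImplicit false
set_option maxRecDepth 1000000

namespace Cfsg.Agent.Helper9.TCData.HeA0
open Cfsg.Agent.Helper9.TC2

theorem f_704 : allRange 244992 348 (fun u => chkFin tab u) = true := by decide +kernel

theorem f_705 : allRange 245340 348 (fun u => chkFin tab u) = true := by decide +kernel

theorem f_706 : allRange 245688 348 (fun u => chkFin tab u) = true := by decide +kernel

theorem f_707 : allRange 246036 348 (fun u => chkFin tab u) = true := by decide +kernel

theorem f_708 : allRange 246384 348 (fun u => chkFin tab u) = true := by decide +kernel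

theorem f_709 : allRange 246732 348 (fun u => chkFin tab u) = true := by decide +kernel

theorem f_710 : allRange 247080 348 (fun u => chkFin tab u) = true := by decide +kernel

theorem f_711 : allRange 247428 348 (fun u => chkFin tab u) = true := by decide +kernel


end Cfsg.Agent.Helper9.TCData.HeA0
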