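import Cfsg.Agent.Lib.Helper9.TCData.HeA0.Main

set_option autoImplicit false
set_option maxRecDepth 1000000

namespace Cfsg.Agent.Helper9.TCData.HeA0
open Cfsg.Agent.Helper9.TC2

theorem f_712 : allRange 247776 348 (fun u => chkFin tab u) = true := by decide +kernel

theorem f_713 : allRange 248124 348 (fun u => chkFin tab u) = true := by decide +kernel

theorem f_714 : allRange 248472 348 (fun u => chkFin tab u) = true := by decide +kernel

theorem f_715 : allRange 248820 348 (fun u => chkFin tab u) = true := by decide +kernel

theorem f_716 : allRange 249168 348 (fun u => chkFin tab u) = true := by decide +kernel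

theorem f_717 : allRange 249516 348 (fun u => chkFin tab u) = true := by decide +kernel

theorem f_718 : allRange 249864 348 (fun u => chkFin tab u) = true := by decide +kernel

theorem f_719 : allRange 250212 348 (fun u => chkFin tab u) = true := by decide +kernel


end Cfsg.Agent.Helper9.TCData.HeA0
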