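import Cfsg.Agent.Lib.Helper9.TCData.HeA0.Main

set_option autoImplicit false
set_option maxRecDepth 1000000

namespace Cfsg.Agent.Helper9.TCData.HeA0
open Cfsg.Agent.Helper9.TC2

theorem f_720 : allRange 250560 348 (fun u => chkFin tab u) = true := by decide +kernel

theorem f_721 : allRange 250908 348 (fun u => chkFin tab u) = true := by decide +kernel

theorem f_722 : allRange 251256 348 (fun u => chkFin tab u) = true := by decide +kernel

theorem f_723 : allRange 251604 348 (fun u => chkFin tab u) = true := by decide +kernel

theorem f_724 : allRange 251952 348 (fun u => chkFin tab u) = true := by decide +kernel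

theorem f_725 : allRange 252300 348 (fun u => chkFin tab u) = true := by decide +kernel

theorem f_726 : allRange 252648 348 (fun u => chkFin tab u) = true := by decide +kernel

theorem f_727 : allRange 252996 348 (fun u => chkFin tab u) = true := by decide +kernel


end Cfsg.Agent.Helper9.TCData.HeA0
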