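import Cfsg.Agent.Lib.Helper9.TCData.HeA0.Main

set_option autoImplicit false
set_option maxRecDepth 1000000

namespace Cfsg.Agent.Helper9.TCData.HeA0
open Cfsg.Agent.Helper9.TC2

theorem e1_34 : allRange 81664 2614 (fun u => chkE tab 1 u) = true := by decide +kernel

theorem e1_35 : allRange 84278 2635 (fun u => chkE tab 1 u) = true := by decide +kernel

theorem e1_36 : allRange 86913 2535 (fun u => chkE tab 1 u) = true := by decide +kernel

theorem e1_37 : allRange 89448 2457 (fun u => chkE tab 1 u) = true := by decide +kernel

theorem e1_38 : allRange 91905 2586 (fun u => chkE tab 1 u) = true := by decide +kernel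

theorem e1_39 : allRange 94491 2519 (fun u => chkE tab 1 u) = true := by decide +kernel

theorem e1_40 : allRange 97010 2638 (fun u => chkE tab 1 u) = true := by decide +kernel

theorem e1_41 : allRange 99648 2718 (fun u => chkE tab 1 u) = true := by decide +kernel


end Cfsg.Agent.Helper9.TCData.HeA0
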