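import Cfsg.Agent.Lib.Helper9.TCData.HeA0.Main

set_option autoImplicit false
set_option maxRecDepth 1000000

namespace Cfsg.Agent.Helper9.TCData.HeA0
open Cfsg.Agent.Helper9.TC2

theorem f_728 : allRange 253344 348 (fun u => chkFin tab u) = true := by decide +kernel

theorem f_729 : allRange 253692 348 (fun u => chkFin tab u) = true := by decide +kernel

theorem f_730 : allRange 254040 348 (fun u => chkFin tab u) = true := by decide +kernel

theorem f_731 : allRange 254388 348 (fun u => chkFin tab u) = true := by decide +kernel

theorem f_732 : allRange 254736 348 (fun u => chkFin tab u) = true := by decide +kernel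

theorem f_733 : allRange 255084 348 (fun u => chkFin tab u) = true := by decide +kernel

theorem f_734 : allRange 255432 348 (fun u => chkFin tab u) = true := by decide +kernel

theorem f_735 : allRange 255780 348 (fun u => chkFin tab u) = true := by decide +kernel


end Cfsg.Agent.Helper9.TCData.HeA0
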