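import Cfsg.Agent.Lib.Helper9.TCData.HeA0.Main

set_option autoImplicit false
set_option maxRecDepth 1000000

namespace Cfsg.Agent.Helper9.TCData.HeA0
open Cfsg.Agent.Helper9.TC2

theorem f_736 : allRange 256128 348 (fun u => chkFin tab u) = true := by decide +kernel

theorem f_737 : allRange 256476 348 (fun u => chkFin tab u) = true := by decide +kernel

theorem f_738 : allRange 256824 348 (fun u => chkFin tab u) = true := by decide +kernel

theorem f_739 : allRange 257172 348 (fun u => chkFin tab u) = true := by decide +kernel

theorem f_740 : allRange 257520 348 (fun u => chkFin tab u) = true := by decide +kernel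

theorem f_741 : allRange 257868 348 (fun u => chkFin tab u) = true := by decide +kernel

theorem f_742 : allRange 258216 348 (fun u => chkFin tab u) = true := by decide +kernel

theorem f_743 : allRange 258564 348 (fun u => chkFin tab u) = true := by decide +kernel


end Cfsg.Agent.Helper9.TCData.HeA0
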