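import Cfsg.Agent.Lib.Helper9.TCData.HeA0.Main

set_option autoImplicit false
set_option maxRecDepth 1000000

namespace Cfsg.Agent.Helper9.TCData.HeA0
open Cfsg.Agent.Helper9.TC2

theorem f_744 : allRange 258912 348 (fun u => chkFin tab u) = true := by decide +kernel

theorem f_745 : allRange 259260 348 (fun u => chkFin tab u) = true := by decide +kernel

theorem f_746 : allRange 259608 348 (fun u => chkFin tab u) = true := by decide +kernel

theorem f_747 : allRange 259956 348 (fun u => chkFin tab u) = true := by decide +kernel

theorem f_748 : allRange 260304 348 (fun u => chkFin tab u) = true := by decide +kernel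

theorem f_749 : allRange 260652 348 (fun u => chkFin tab u) = true := by decide +kernel

theorem f_750 : allRange 261000 348 (fun u => chkFin tab u) = true := by decide +kernel

theorem f_751 : allRange 261348 348 (fun u => chkFin tab u) = true := by decide +kernel


end Cfsg.Agent.Helper9.TCData.HeA0
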