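import Cfsg.Agent.Lib.Helper9.TCData.HeA0.Main

set_option autoImplicit false
set_option maxRecDepth 1000000

namespace Cfsg.Agent.Helper9.TCData.HeA0
open Cfsg.Agent.Helper9.TC2

theorem f_752 : allRange 261696 348 (fun u => chkFin tab u) = true := by decide +kernel

theorem f_753 : allRange 262044 348 (fun u => chkFin tab u) = true := by decide +kernel

theorem f_754 : allRange 262392 348 (fun u => chkFin tab u) = true := by decide +kernel

theorem f_755 : allRange 262740 348 (fun u => chkFin tab u) = true := by decide +kernel

theorem f_756 : allRange 263088 348 (fun u => chkFin tab u) = true := by decide +kernel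

theorem f_757 : allRange 263436 348 (fun u => chkFin tab u) = true := by decide +kernel

theorem f_758 : allRange 263784 348 (fun u => chkFin tab u) = true := by decide +kernel

theorem f_759 : allRange 264132 348 (fun u => chkFin tab u) = true := by decide +kernel


end Cfsg.Agent.Helper9.TCData.HeA0
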