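import Cfsg.Agent.Lib.Helper9.TCData.HeA0.Main

set_option autoImplicit false
set_option maxRecDepth 1000000

namespace Cfsg.Agent.Helper9.TCData.HeA0
open Cfsg.Agent.Helper9.TC2

theorem f_760 : allRange 264480 348 (fun u => chkFin tab u) = true := by decide +kernel

theorem f_761 : allRange 264828 348 (fun u => chkFin tab u) = true := by decide +kernel

theorem f_762 : allRange 265176 348 (fun u => chkFin tab u) = true := by decide +kernel

theorem f_763 : allRange 265524 348 (fun u => chkFin tab u) = true := by decide +kernel

theorem f_764 : allRange 265872 348 (fun u => chkFin tab u) = true := by decide +kernel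

theorem f_765 : allRange 266220 340 (fun u => chkFin tab u) = true := by decide +kernel

theorem c_0 : allRange 0 2667 (fun u => chkCls tab u) = true := by decide +kernel

theorem c_1 : allRange 2667 2667 (fun u => chkCls tab u) = true := by decide +kernel


end Cfsg.Agent.Helper9.TCData.HeA0
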