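import Cfsg.Agent.Lib.Helper9.TCData.HeA0.Main

set_option autoImplicit false
set_option maxRecDepth 1000000

namespace Cfsg.Agent.Helper9.TCData.HeA0
open Cfsg.Agent.Helper9.TC2

theorem c_34 : allRange 90678 2667 (fun u => chkCls tab u) = true := by decide +kernel

theorem c_35 : allRange 93345 2667 (fun u => chkCls tab u) = true := by decide +kernel

theorem c_36 : allRange 96012 2667 (fun u => chkCls tab u) = true := by decide +kernel

theorem c_37 : allRange 98679 2667 (fun u => chkCls tab u) = true := by decide +kernel

theorem c_38 : allRange 101346 2667 (fun u => chkCls tab u) = true := by decide +kernel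

theorem c_39 : allRange 104013 2667 (fun u => chkCls tab u) = true := by decide +kernel

theorem c_40 : allRange 106680 2667 (fun u => chkCls tab u) = true := by decide +kernel

theorem c_41 : allRange 109347 2667 (fun u => chkCls tab u) = true := by decide +kernel


end Cfsg.Agent.Helper9.TCData.HeA0
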