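import Cfsg.Agent.Lib.Helper9.TCData.HeA0.Main

set_option autoImplicit false
set_option maxRecDepth 1000000

namespace Cfsg.Agent.Helper9.TCData.HeA0
open Cfsg.Agent.Helper9.TC2

theorem c_42 : allRange 112014 2667 (fun u => chkCls tab u) = true := by decide +kernel

theorem c_43 : allRange 114681 2667 (fun u => chkCls tab u) = true := by decide +kernel

theorem c_44 : allRange 117348 2667 (fun u => chkCls tab u) = true := by decide +kernel

theorem c_45 : allRange 120015 2667 (fun u => chkCls tab u) = true := by decide +kernel

theorem c_46 : allRange 122682 2667 (fun u => chkCls tab u) = true := by decide +kernel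

theorem c_47 : allRange 125349 2667 (fun u => chkCls tab u) = true := by decide +kernel

theorem c_48 : allRange 128016 2667 (fun u => chkCls tab u) = true := by decide +kernel

theorem c_49 : allRange 130683 2667 (fun u => chkCls tab u) = true := by decide +kernel


end Cfsg.Agent.Helper9.TCData.HeA0
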