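import Cfsg.Agent.Lib.Helper9.TCData.HeA0.Main

set_option autoImplicit false
set_option maxRecDepth 1000000

namespace Cfsg.Agent.Helper9.TCData.HeA0
open Cfsg.Agent.Helper9.TC2

theorem c_90 : allRange 240030 2667 (fun u => chkCls tab u) = true := by decide +kernel

theorem c_91 : allRange 242697 2667 (fun u => chkCls tab u) = true := by decide +kernel

theorem c_92 : allRange 245364 2667 (fun u => chkCls tab u) = true := by decide +kernel

theorem c_93 : allRange 248031 2667 (fun u => chkCls tab u) = true := by decide +kernel

theorem c_94 : allRange 250698 2667 (fun u => chkCls tab u) = true := by decide +kernel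

theorem c_95 : allRange 253365 2667 (fun u => chkCls tab u) = true := by decide +kernel

theorem c_96 : allRange 256032 2667 (fun u => chkCls tab u) = true := by decide +kernel

theorem c_97 : allRange 258699 2667 (fun u => chkCls tab u) = true := by decide +kernel


end Cfsg.Agent.Helper9.TCData.HeA0
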