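import Cfsg.Agent.Lib.Helper9.TCData.HeA0.Main

set_option autoImplicit false
set_option maxRecDepth 1000000

namespace Cfsg.Agent.Helper9.TCData.HeA0
open Cfsg.Agent.Helper9.TC2

theorem e0_16 : allRange 35847 2029 (fun u => chkE tab 0 u) = true := by decide +kernel

theorem e0_17 : allRange 37876 2102 (fun u => chkE tab 0 u) = true := by decide +kernel

theorem e0_18 : allRange 39978 2381 (fun u => chkE tab 0 u) = true := by decide +kernel

theorem e0_19 : allRange 42359 2682 (fun u => chkE tab 0 u) = true := by decide +kernel

theorem e0_20 : allRange 45041 2112 (fun u => chkE tab 0 u) = true := by decide +kernel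

theorem e0_21 : allRange 47153 2119 (fun u => chkE tab 0 u) = true := by decide +kernel

theorem e0_22 : allRange 49272 2322 (fun u => chkE tab 0 u) = true := by decide +kernel

theorem e0_23 : allRange 51594 2282 (fun u => chkE tab 0 u) = true := by decide +kernel


end Cfsg.Agent.Helper9.TCData.HeA0
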