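import Cfsg.Agent.Lib.Helper9.TCData.HeA0.Main

set_option autoImplicit false
set_option maxRecDepth 1000000

namespace Cfsg.Agent.Helper9.TCData.HeA0
open Cfsg.Agent.Helper9.TC2

theorem e1_50 : allRange 122964 2688 (fun u => chkE tab 1 u) = true := by decide +kernel

theorem e1_51 : allRange 125652 2668 (fun u => chkE tab 1 u) = true := by decide +kernel

theorem e1_52 : allRange 128320 2425 (fun u => chkE tab 1 u) = true := by decide +kernel

theorem e1_53 : allRange 130745 2601 (fun u => chkE tab 1 u) = true := by decide +kernel

theorem e1_54 : allRange 133346 2597 (fun u => chkE tab 1 u) = true := by decide +kernel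

theorem e1_55 : allRange 135943 2567 (fun u => chkE tab 1 u) = true := by decide +kernel

theorem e1_56 : allRange 138510 2493 (fun u => chkE tab 1 u) = true := by decide +kernel

theorem e1_57 : allRange 141003 2475 (fun u => chkE tab 1 u) = true := by decide +kernel


end Cfsg.Agent.Helper9.TCData.HeA0
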