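import Cfsg.Agent.Lib.Helper9.TCData.HeA0.Main

set_option autoImplicit false
set_option maxRecDepth 1000000

namespace Cfsg.Agent.Helper9.TCData.HeA0
open Cfsg.Agent.Helper9.TC2

theorem m1_32 : allRange 28768 899 (fun u => chkM1 tab u) = true := by decide +kernel

theorem m1_33 : allRange 29667 899 (fun u => chkM1 tab u) = true := by decide +kernel

theorem m1_34 : allRange 30566 899 (fun u => chkM1 tab u) = true := by decide +kernel

theorem m1_35 : allRange 31465 899 (fun u => chkM1 tab u) = true := by decide +kernel

theorem m1_36 : allRange 32364 899 (fun u => chkM1 tab u) = true := by decide +kernel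

theorem m1_37 : allRange 33263 899 (fun u => chkM1 tab u) = true := by decide +kernel

theorem m1_38 : allRange 34162 899 (fun u => chkM1 tab u) = true := by decide +kernel

theorem m1_39 : allRange 35061 899 (fun u => chkM1 tab u) = true := by decide +kernel


end Cfsg.Agent.Helper9.TCData.HeA0
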