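import Cfsg.Agent.Lib.Helper9.TCData.HeA0.Main

set_option autoImplicit false
set_option maxRecDepth 1000000

namespace Cfsg.Agent.Helper9.TCData.HeA0
open Cfsg.Agent.Helper9.TC2

theorem m1_48 : allRange 43152 899 (fun u => chkM1 tab u) = true := by decide +kernel

theorem m1_49 : allRange 44051 899 (fun u => chkM1 tab u) = true := by decide +kernel

theorem m1_50 : allRange 44950 899 (fun u => chkM1 tab u) = true := by decide +kernel

theorem m1_51 : allRange 45849 899 (fun u => chkM1 tab u) = true := by decide +kernel

theorem m1_52 : allRange 46748 899 (fun u => chkM1 tab u) = true := by decide +kernel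

theorem m1_53 : allRange 47647 899 (fun u => chkM1 tab u) = true := by decide +kernel

theorem m1_54 : allRange 48546 899 (fun u => chkM1 tab u) = true := by decide +kernel

theorem m1_55 : allRange 49445 899 (fun u => chkM1 tab u) = true := by decide +kernel


end Cfsg.Agent.Helper9.TCData.HeA0
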