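import Cfsg.Agent.Lib.Helper9.TCData.HeA0.Main

set_option autoImplicit false
set_option maxRecDepth 1000000

namespace Cfsg.Agent.Helper9.TCData.HeA0
open Cfsg.Agent.Helper9.TC2

theorem m1_88 : allRange 79112 899 (fun u => chkM1 tab u) = true := by decide +kernel

theorem m1_89 : allRange 80011 899 (fun u => chkM1 tab u) = true := by decide +kernel

theorem m1_90 : allRange 80910 899 (fun u => chkM1 tab u) = true := by decide +kernel

theorem m1_91 : allRange 81809 899 (fun u => chkM1 tab u) = true := by decide +kernel

theorem m1_92 : allRange 82708 899 (fun u => chkM1 tab u) = true := by decide +kernel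

theorem m1_93 : allRange 83607 899 (fun u => chkM1 tab u) = true := by decide +kernel

theorem m1_94 : allRange 84506 899 (fun u => chkM1 tab u) = true := by decide +kernel

theorem m1_95 : allRange 85405 899 (fun u => chkM1 tab u) = true := by decide +kernel


end Cfsg.Agent.Helper9.TCData.HeA0
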