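import Cfsg.Agent.Lib.Helper9.TCData.HeA0.Main

set_option autoImplicit false
set_option maxRecDepth 1000000

namespace Cfsg.Agent.Helper9.TCData.HeA0
open Cfsg.Agent.Helper9.TC2

theorem e1_58 : allRange 143478 2636 (fun u => chkE tab 1 u) = true := by decide +kernel

theorem e1_59 : allRange 146114 2477 (fun u => chkE tab 1 u) = true := by decide +kernel

theorem e1_60 : allRange 148591 2506 (fun u => chkE tab 1 u) = true := by decide +kernel

theorem e1_61 : allRange 151097 2451 (fun u => chkE tab 1 u) = true := by decide +kernel

theorem e1_62 : allRange 153548 2421 (fun u => chkE tab 1 u) = true := by decide +kernel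

theorem e1_63 : allRange 155969 2343 (fun u => chkE tab 1 u) = true := by decide +kernel

theorem e1_64 : allRange 158312 2356 (fun u => chkE tab 1 u) = true := by decide +kernel

theorem e1_65 : allRange 160668 2438 (fun u => chkE tab 1 u) = true := by decide +kernel


end Cfsg.Agent.Helper9.TCData.HeA0
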