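import Cfsg.Agent.Lib.Helper9.TCData.HeA0.Main

set_option autoImplicit false
set_option maxRecDepth 1000000

namespace Cfsg.Agent.Helper9.TCData.HeA0
open Cfsg.Agent.Helper9.TC2

theorem m1_104 : allRange 93496 899 (fun u => chkM1 tab u) = true := by decide +kernel

theorem m1_105 : allRange 94395 899 (fun u => chkM1 tab u) = true := by decide +kernel

theorem m1_106 : allRange 95294 899 (fun u => chkM1 tab u) = true := by decide +kernel

theorem m1_107 : allRange 96193 899 (fun u => chkM1 tab u) = true := by decide +kernel

theorem m1_108 : allRange 97092 899 (fun u => chkM1 tab u) = true := by decide +kernel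

theorem m1_109 : allRange 97991 899 (fun u => chkM1 tab u) = true := by decide +kernel

theorem m1_110 : allRange 98890 899 (fun u => chkM1 tab u) = true := by decide +kernel

theorem m1_111 : allRange 99789 899 (fun u => chkM1 tab u) = true := by decide +kernel


end Cfsg.Agent.Helper9.TCData.HeA0
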