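import Cfsg.Agent.Lib.Helper9.TCData.HeA0.Main

set_option autoImplicit false
set_option maxRecDepth 1000000

namespace Cfsg.Agent.Helper9.TCData.HeA0
open Cfsg.Agent.Helper9.TC2

theorem m1_120 : allRange 107880 899 (fun u => chkM1 tab u) = true := by decide +kernel

theorem m1_121 : allRange 108779 899 (fun u => chkM1 tab u) = true := by decide +kernel

theorem m1_122 : allRange 109678 899 (fun u => chkM1 tab u) = true := by decide +kernel

theorem m1_123 : allRange 110577 899 (fun u => chkM1 tab u) = true := by decide +kernel

theorem m1_124 : allRange 111476 899 (fun u => chkM1 tab u) = true := by decide +kernel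

theorem m1_125 : allRange 112375 899 (fun u => chkM1 tab u) = true := by decide +kernel

theorem m1_126 : allRange 113274 899 (fun u => chkM1 tab u) = true := by decide +kernel

theorem m1_127 : allRange 114173 899 (fun u => chkM1 tab u) = true := by decide +kernel


end Cfsg.Agent.Helper9.TCData.HeA0
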