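import Cfsg.Agent.Lib.Helper9.TCData.HeA0.Main

set_option autoImplicit false
set_option maxRecDepth 1000000

namespace Cfsg.Agent.Helper9.TCData.HeA0
open Cfsg.Agent.Helper9.TC2

theorem m1_128 : allRange 115072 899 (fun u => chkM1 tab u) = true := by decide +kernel

theorem m1_129 : allRange 115971 899 (fun u => chkM1 tab u) = true := by decide +kernel

theorem m1_130 : allRange 116870 899 (fun u => chkM1 tab u) = true := by decide +kernel

theorem m1_131 : allRange 117769 899 (fun u => chkM1 tab u) = true := by decide +kernel

theorem m1_132 : allRange 118668 899 (fun u => chkM1 tab u) = true := by decide +kernel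

theorem m1_133 : allRange 119567 899 (fun u => chkM1 tab u) = true := by decide +kernel

theorem m1_134 : allRange 120466 899 (fun u => chkM1 tab u) = true := by decide +kernel

theorem m1_135 : allRange 121365 899 (fun u => chkM1 tab u) = true := by decide +kernel


end Cfsg.Agent.Helper9.TCData.HeA0
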