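import Cfsg.Agent.Lib.Helper9.TCData.HeA0.Main

set_option autoImplicit false
set_option maxRecDepth 1000000

namespace Cfsg.Agent.Helper9.TCData.HeA0
open Cfsg.Agent.Helper9.TC2

theorem m1_144 : allRange 129456 899 (fun u => chkM1 tab u) = true := by decide +kernel

theorem m1_145 : allRange 130355 899 (fun u => chkM1 tab u) = true := by decide +kernel

theorem m1_146 : allRange 131254 899 (fun u => chkM1 tab u) = true := by decide +kernel

theorem m1_147 : allRange 132153 899 (fun u => chkM1 tab u) = true := by decide +kernel

theorem m1_148 : allRange 133052 899 (fun u => chkM1 tab u) = true := by decide +kernel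

theorem m1_149 : allRange 133951 899 (fun u => chkM1 tab u) = true := by decide +kernel

theorem m1_150 : allRange 134850 899 (fun u => chkM1 tab u) = true := by decide +kernel

theorem m1_151 : allRange 135749 899 (fun u => chkM1 tab u) = true := by decide +kernel


end Cfsg.Agent.Helper9.TCData.HeA0
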