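import Cfsg.Agent.Lib.Helper9.TCData.HeA0.Main

set_option autoImplicit false
set_option maxRecDepth 1000000

namespace Cfsg.Agent.Helper9.TCData.HeA0
open Cfsg.Agent.Helper9.TC2

theorem m1_152 : allRange 136648 899 (fun u => chkM1 tab u) = true := by decide +kernel

theorem m1_153 : allRange 137547 899 (fun u => chkM1 tab u) = true := by decide +kernel

theorem m1_154 : allRange 138446 899 (fun u => chkM1 tab u) = true := by decide +kernel

theorem m1_155 : allRange 139345 899 (fun u => chkM1 tab u) = true := by decide +kernel

theorem m1_156 : allRange 140244 899 (fun u => chkM1 tab u) = true := by decide +kernel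

theorem m1_157 : allRange 141143 899 (fun u => chkM1 tab u) = true := by decide +kernel

theorem m1_158 : allRange 142042 899 (fun u => chkM1 tab u) = true := by decide +kernel

theorem m1_159 : allRange 142941 899 (fun u => chkM1 tab u) = true := by decide +kernel


end Cfsg.Agent.Helper9.TCData.HeA0
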