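import Cfsg.Agent.Lib.Helper9.TCData.HeA0.Main

set_option autoImplicit false
set_option maxRecDepth 1000000

namespace Cfsg.Agent.Helper9.TCData.HeA0
open Cfsg.Agent.Helper9.TC2

theorem m1_168 : allRange 151032 899 (fun u => chkM1 tab u) = true := by decide +kernel

theorem m1_169 : allRange 151931 899 (fun u => chkM1 tab u) = true := by decide +kernel

theorem m1_170 : allRange 152830 899 (fun u => chkM1 tab u) = true := by decide +kernel

theorem m1_171 : allRange 153729 899 (fun u => chkM1 tab u) = true := by decide +kernel

theorem m1_172 : allRange 154628 899 (fun u => chkM1 tab u) = true := by decide +kernel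

theorem m1_173 : allRange 155527 899 (fun u => chkM1 tab u) = true := by decide +kernel

theorem m1_174 : allRange 156426 899 (fun u => chkM1 tab u) = true := by decide +kernel

theorem m1_175 : allRange 157325 899 (fun u => chkM1 tab u) = true := by decide +kernel


end Cfsg.Agent.Helper9.TCData.HeA0
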