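import Cfsg.Agent.Lib.Helper9.TCData.HeA0.Main

set_option autoImplicit false
set_option maxRecDepth 1000000

namespace Cfsg.Agent.Helper9.TCData.HeA0
open Cfsg.Agent.Helper9.TC2

theorem e1_66 : allRange 163106 2524 (fun u => chkE tab 1 u) = true := by decide +kernel

theorem e1_67 : allRange 165630 2448 (fun u => chkE tab 1 u) = true := by decide +kernel

theorem e1_68 : allRange 168078 2667 (fun u => chkE tab 1 u) = true := by decide +kernel

theorem e1_69 : allRange 170745 2573 (fun u => chkE tab 1 u) = true := by decide +kernel

theorem e1_70 : allRange 173318 2555 (fun u => chkE tab 1 u) = true := by decide +kernel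

theorem e1_71 : allRange 175873 2710 (fun u => chkE tab 1 u) = true := by decide +kernel

theorem e1_72 : allRange 178583 2578 (fun u => chkE tab 1 u) = true := by decide +kernel

theorem e1_73 : allRange 181161 2460 (fun u => chkE tab 1 u) = true := by decide +kernel


end Cfsg.Agent.Helper9.TCData.HeA0
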