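import Cfsg.Agent.Lib.Helper9.TCData.HeA0.Main

set_option autoImplicit false
set_option maxRecDepth 1000000

namespace Cfsg.Agent.Helper9.TCData.HeA0
open Cfsg.Agent.Helper9.TC2

theorem m1_176 : allRange 158224 899 (fun u => chkM1 tab u) = true := by decide +kernel

theorem m1_177 : allRange 159123 899 (fun u => chkM1 tab u) = true := by decide +kernel

theorem m1_178 : allRange 160022 899 (fun u => chkM1 tab u) = true := by decide +kernel

theorem m1_179 : allRange 160921 899 (fun u => chkM1 tab u) = true := by decide +kernel

theorem m1_180 : allRange 161820 899 (fun u => chkM1 tab u) = true := by decide +kernel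

theorem m1_181 : allRange 162719 899 (fun u => chkM1 tab u) = true := by decide +kernel

theorem m1_182 : allRange 163618 899 (fun u => chkM1 tab u) = true := by decide +kernel

theorem m1_183 : allRange 164517 899 (fun u => chkM1 tab u) = true := by decide +kernel


end Cfsg.Agent.Helper9.TCData.HeA0
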