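import Cfsg.Agent.Lib.Helper9.TCData.HeA0.Main

set_option autoImplicit false
set_option maxRecDepth 1000000

namespace Cfsg.Agent.Helper9.TCData.HeA0
open Cfsg.Agent.Helper9.TC2

theorem m1_208 : allRange 186992 899 (fun u => chkM1 tab u) = true := by decide +kernel

theorem m1_209 : allRange 187891 899 (fun u => chkM1 tab u) = true := by decide +kernel

theorem m1_210 : allRange 188790 899 (fun u => chkM1 tab u) = true := by decide +kernel

theorem m1_211 : allRange 189689 899 (fun u => chkM1 tab u) = true := by decide +kernel

theorem m1_212 : allRange 190588 899 (fun u => chkM1 tab u) = true := by decide +kernel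

theorem m1_213 : allRange 191487 899 (fun u => chkM1 tab u) = true := by decide +kernel

theorem m1_214 : allRange 192386 899 (fun u => chkM1 tab u) = true := by decide +kernel

theorem m1_215 : allRange 193285 899 (fun u => chkM1 tab u) = true := by decide +kernel


end Cfsg.Agent.Helper9.TCData.HeA0
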