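import Cfsg.Agent.Lib.Helper9.TCData.HeA0.Main

set_option autoImplicit false
set_option maxRecDepth 1000000

namespace Cfsg.Agent.Helper9.TCData.HeA0
open Cfsg.Agent.Helper9.TC2

theorem m1_216 : allRange 194184 899 (fun u => chkM1 tab u) = true := by decide +kernel

theorem m1_217 : allRange 195083 899 (fun u => chkM1 tab u) = true := by decide +kernel

theorem m1_218 : allRange 195982 899 (fun u => chkM1 tab u) = true := by decide +kernel

theorem m1_219 : allRange 196881 899 (fun u => chkM1 tab u) = true := by decide +kernel

theorem m1_220 : allRange 197780 899 (fun u => chkM1 tab u) = true := by decide +kernel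

theorem m1_221 : allRange 198679 899 (fun u => chkM1 tab u) = true := by decide +kernel

theorem m1_222 : allRange 199578 899 (fun u => chkM1 tab u) = true := by decide +kernel

theorem m1_223 : allRange 200477 899 (fun u => chkM1 tab u) = true := by decide +kernel


end Cfsg.Agent.Helper9.TCData.HeA0
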