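import Cfsg.Agent.Lib.Helper9.TCData.HeA0.Main

set_option autoImplicit false
set_option maxRecDepth 1000000

namespace Cfsg.Agent.Helper9.TCData.HeA0
open Cfsg.Agent.Helper9.TC2

theorem m1_224 : allRange 201376 899 (fun u => chkM1 tab u) = true := by decide +kernel

theorem m1_225 : allRange 202275 899 (fun u => chkM1 tab u) = true := by decide +kernel

theorem m1_226 : allRange 203174 899 (fun u => chkM1 tab u) = true := by decide +kernel

theorem m1_227 : allRange 204073 899 (fun u => chkM1 tab u) = true := by decide +kernel

theorem m1_228 : allRange 204972 899 (fun u => chkM1 tab u) = true := by decide +kernel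

theorem m1_229 : allRange 205871 899 (fun u => chkM1 tab u) = true := by decide +kernel

theorem m1_230 : allRange 206770 899 (fun u => chkM1 tab u) = true := by decide +kernel

theorem m1_231 : allRange 207669 899 (fun u => chkM1 tab u) = true := by decide +kernel


end Cfsg.Agent.Helper9.TCData.HeA0
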