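import Cfsg.Agent.Lib.Helper9.TCData.HeA0.Main

set_option autoImplicit false
set_option maxRecDepth 1000000

namespace Cfsg.Agent.Helper9.TCData.HeA0
open Cfsg.Agent.Helper9.TC2

theorem m1_232 : allRange 208568 899 (fun u => chkM1 tab u) = true := by decide +kernel

theorem m1_233 : allRange 209467 899 (fun u => chkM1 tab u) = true := by decide +kernel

theorem m1_234 : allRange 210366 899 (fun u => chkM1 tab u) = true := by decide +kernel

theorem m1_235 : allRange 211265 899 (fun u => chkM1 tab u) = true := by decide +kernel

theorem m1_236 : allRange 212164 899 (fun u => chkM1 tab u) = true := by decide +kernel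

theorem m1_237 : allRange 213063 899 (fun u => chkM1 tab u) = true := by decide +kernel

theorem m1_238 : allRange 213962 899 (fun u => chkM1 tab u) = true := by decide +kernel

theorem m1_239 : allRange 214861 899 (fun u => chkM1 tab u) = true := by decide +kernel


end Cfsg.Agent.Helper9.TCData.HeA0
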