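import Cfsg.Agent.Lib.Helper9.TCData.HeA0.Main

set_option autoImplicit false
set_option maxRecDepth 1000000

namespace Cfsg.Agent.Helper9.TCData.HeA0
open Cfsg.Agent.Helper9.TC2

theorem m1_240 : allRange 215760 899 (fun u => chkM1 tab u) = true := by decide +kernel

theorem m1_241 : allRange 216659 899 (fun u => chkM1 tab u) = true := by decide +kernel

theorem m1_242 : allRange 217558 899 (fun u => chkM1 tab u) = true := by decide +kernel

theorem m1_243 : allRange 218457 899 (fun u => chkM1 tab u) = true := by decide +kernel

theorem m1_244 : allRange 219356 899 (fun u => chkM1 tab u) = true := by decide +kernel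

theorem m1_245 : allRange 220255 899 (fun u => chkM1 tab u) = true := by decide +kernel

theorem m1_246 : allRange 221154 899 (fun u => chkM1 tab u) = true := by decide +kernel

theorem m1_247 : allRange 222053 899 (fun u => chkM1 tab u) = true := by decide +kernel


end Cfsg.Agent.Helper9.TCData.HeA0
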