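import Cfsg.Agent.Lib.Helper9.TCData.HeA0.Main

set_option autoImplicit false
set_option maxRecDepth 1000000

namespace Cfsg.Agent.Helper9.TCData.HeA0
open Cfsg.Agent.Helper9.TC2

theorem m1_248 : allRange 222952 899 (fun u => chkM1 tab u) = true := by decide +kernel

theorem m1_249 : allRange 223851 899 (fun u => chkM1 tab u) = true := by decide +kernel

theorem m1_250 : allRange 224750 899 (fun u => chkM1 tab u) = true := by decide +kernel

theorem m1_251 : allRange 225649 899 (fun u => chkM1 tab u) = true := by decide +kernel

theorem m1_252 : allRange 226548 899 (fun u => chkM1 tab u) = true := by decide +kernel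

theorem m1_253 : allRange 227447 899 (fun u => chkM1 tab u) = true := by decide +kernel

theorem m1_254 : allRange 228346 899 (fun u => chkM1 tab u) = true := by decide +kernel

theorem m1_255 : allRange 229245 899 (fun u => chkM1 tab u) = true := by decide +kernel


end Cfsg.Agent.Helper9.TCData.HeA0
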