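import Cfsg.Agent.Lib.Helper9.TCData.HeA0.Main

set_option autoImplicit false
set_option maxRecDepth 1000000

namespace Cfsg.Agent.Helper9.TCData.HeA0
open Cfsg.Agent.Helper9.TC2

theorem e1_74 : allRange 183621 2468 (fun u => chkE tab 1 u) = true := by decide +kernel

theorem e1_75 : allRange 186089 2442 (fun u => chkE tab 1 u) = true := by decide +kernel

theorem e1_76 : allRange 188531 2541 (fun u => chkE tab 1 u) = true := by decide +kernel

theorem e1_77 : allRange 191072 2591 (fun u => chkE tab 1 u) = true := by decide +kernel

theorem e1_78 : allRange 193663 2657 (fun u => chkE tab 1 u) = true := by decide +kernel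

theorem e1_79 : allRange 196320 2619 (fun u => chkE tab 1 u) = true := by decide +kernel

theorem e1_80 : allRange 198939 2605 (fun u => chkE tab 1 u) = true := by decide +kernel

theorem e1_81 : allRange 201544 2485 (fun u => chkE tab 1 u) = true := by decide +kernel


end Cfsg.Agent.Helper9.TCData.HeA0
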