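import Cfsg.Agent.Lib.Helper9.TCData.HeA0.Main

set_option autoImplicit false
set_option maxRecDepth 1000000

namespace Cfsg.Agent.Helper9.TCData.HeA0
open Cfsg.Agent.Helper9.TC2

theorem m1_256 : allRange 230144 899 (fun u => chkM1 tab u) = true := by decide +kernel

theorem m1_257 : allRange 231043 899 (fun u => chkM1 tab u) = true := by decide +kernel

theorem m1_258 : allRange 231942 899 (fun u => chkM1 tab u) = true := by decide +kernel

theorem m1_259 : allRange 232841 899 (fun u => chkM1 tab u) = true := by decide +kernel

theorem m1_260 : allRange 233740 899 (fun u => chkM1 tab u) = true := by decide +kernel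

theorem m1_261 : allRange 234639 899 (fun u => chkM1 tab u) = true := by decide +kernel

theorem m1_262 : allRange 235538 899 (fun u => chkM1 tab u) = true := by decide +kernel

theorem m1_263 : allRange 236437 899 (fun u => chkM1 tab u) = true := by decide +kernel


end Cfsg.Agent.Helper9.TCData.HeA0
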