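import Cfsg.Agent.Lib.Helper9.TCData.HeA0.Main

set_option autoImplicit false
set_option maxRecDepth 1000000

namespace Cfsg.Agent.Helper9.TCData.HeA0
open Cfsg.Agent.Helper9.TC2

theorem m1_264 : allRange 237336 899 (fun u => chkM1 tab u) = true := by decide +kernel

theorem m1_265 : allRange 238235 899 (fun u => chkM1 tab u) = true := by decide +kernel

theorem m1_266 : allRange 239134 899 (fun u => chkM1 tab u) = true := by decide +kernel

theorem m1_267 : allRange 240033 899 (fun u => chkM1 tab u) = true := by decide +kernel

theorem m1_268 : allRange 240932 899 (fun u => chkM1 tab u) = true := by decide +kernel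

theorem m1_269 : allRange 241831 899 (fun u => chkM1 tab u) = true := by decide +kernel

theorem m1_270 : allRange 242730 899 (fun u => chkM1 tab u) = true := by decide +kernel

theorem m1_271 : allRange 243629 899 (fun u => chkM1 tab u) = true := by decide +kernel


end Cfsg.Agent.Helper9.TCData.HeA0
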