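import Cfsg.Agent.Lib.Helper9.TCData.HeA0.Main

set_option autoImplicit false
set_option maxRecDepth 1000000

namespace Cfsg.Agent.Helper9.TCData.HeA0
open Cfsg.Agent.Helper9.TC2

theorem m1_272 : allRange 244528 899 (fun u => chkM1 tab u) = true := by decide +kernel

theorem m1_273 : allRange 245427 899 (fun u => chkM1 tab u) = true := by decide +kernel

theorem m1_274 : allRange 246326 899 (fun u => chkM1 tab u) = true := by decide +kernel

theorem m1_275 : allRange 247225 899 (fun u => chkM1 tab u) = true := by decide +kernel

theorem m1_276 : allRange 248124 899 (fun u => chkM1 tab u) = true := by decide +kernel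

theorem m1_277 : allRange 249023 899 (fun u => chkM1 tab u) = true := by decide +kernel

theorem m1_278 : allRange 249922 899 (fun u => chkM1 tab u) = true := by decide +kernel

theorem m1_279 : allRange 250821 899 (fun u => chkM1 tab u) = true := by decide +kernel


end Cfsg.Agent.Helper9.TCData.HeA0
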