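import Cfsg.Agent.Lib.Helper9.TCData.HeA0.Main

set_option autoImplicit false
set_option maxRecDepth 1000000

namespace Cfsg.Agent.Helper9.TCData.HeA0
open Cfsg.Agent.Helper9.TC2

theorem m1_280 : allRange 251720 899 (fun u => chkM1 tab u) = true := by decide +kernel

theorem m1_281 : allRange 252619 899 (fun u => chkM1 tab u) = true := by decide +kernel

theorem m1_282 : allRange 253518 899 (fun u => chkM1 tab u) = true := by decide +kernel

theorem m1_283 : allRange 254417 899 (fun u => chkM1 tab u) = true := by decide +kernel

theorem m1_284 : allRange 255316 899 (fun u => chkM1 tab u) = true := by decide +kernel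

theorem m1_285 : allRange 256215 899 (fun u => chkM1 tab u) = true := by decide +kernel

theorem m1_286 : allRange 257114 899 (fun u => chkM1 tab u) = true := by decide +kernel

theorem m1_287 : allRange 258013 899 (fun u => chkM1 tab u) = true := by decide +kernel


end Cfsg.Agent.Helper9.TCData.HeA0
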