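import Cfsg.Agent.Lib.Helper9.TCData.HeA0.Main

set_option autoImplicit false
set_option maxRecDepth 1000000

namespace Cfsg.Agent.Helper9.TCData.HeA0
open Cfsg.Agent.Helper9.TC2

theorem ma_7 : allRange 12733 1819 (fun u => chkAux tab aux u) = true := by decide +kernel

theorem ma_8 : allRange 14552 1819 (fun u => chkAux tab aux u) = true := by decide +kernel

theorem ma_9 : allRange 16371 1819 (fun u => chkAux tab aux u) = true := by decide +kernel

theorem ma_10 : allRange 18190 1819 (fun u => chkAux tab aux u) = true := by decide +kernel

theorem ma_11 : allRange 20009 1819 (fun u => chkAux tab aux u) = true := by decide +kernel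

theorem ma_12 : allRange 21828 1819 (fun u => chkAux tab aux u) = true := by decide +kernel

theorem ma_13 : allRange 23647 1819 (fun u => chkAux tab aux u) = true := by decide +kernel

theorem ma_14 : allRange 25466 1819 (fun u => chkAux tab aux u) = true := by decide +kernel


end Cfsg.Agent.Helper9.TCData.HeA0
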