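import Cfsg.Agent.Lib.Helper9.TCData.HeA0.Main

set_option autoImplicit false
set_option maxRecDepth 1000000

namespace Cfsg.Agent.Helper9.TCData.HeA0
open Cfsg.Agent.Helper9.TC2

theorem ma_23 : allRange 41837 1819 (fun u => chkAux tab aux u) = true := by decide +kernel

theorem ma_24 : allRange 43656 1819 (fun u => chkAux tab aux u) = true := by decide +kernel

theorem ma_25 : allRange 45475 1819 (fun u => chkAux tab aux u) = true := by decide +kernel

theorem ma_26 : allRange 47294 1819 (fun u => chkAux tab aux u) = true := by decide +kernel

theorem ma_27 : allRange 49113 1819 (fun u => chkAux tab aux u) = true := by decide +kernel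

theorem ma_28 : allRange 50932 1819 (fun u => chkAux tab aux u) = true := by decide +kernel

theorem ma_29 : allRange 52751 1819 (fun u => chkAux tab aux u) = true := by decide +kernel

theorem ma_30 : allRange 54570 1819 (fun u => chkAux tab aux u) = true := by decide +kernel


end Cfsg.Agent.Helper9.TCData.HeA0
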