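import Cfsg.Agent.Lib.Helper9.TCData.HeA0.Main

set_option autoImplicit false
set_option maxRecDepth 1000000

namespace Cfsg.Agent.Helper9.TCData.HeA0
open Cfsg.Agent.Helper9.TC2

theorem e1_82 : allRange 204029 2521 (fun u => chkE tab 1 u) = true := by decide +kernel

theorem e1_83 : allRange 206550 2643 (fun u => chkE tab 1 u) = true := by decide +kernel

theorem e1_84 : allRange 209193 2495 (fun u => chkE tab 1 u) = true := by decide +kernel

theorem e1_85 : allRange 211688 2662 (fun u => chkE tab 1 u) = true := by decide +kernel

theorem e1_86 : allRange 214350 2653 (fun u => chkE tab 1 u) = true := by decide +kernel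

theorem e1_87 : allRange 217003 2723 (fun u => chkE tab 1 u) = true := by decide +kernel

theorem e1_88 : allRange 219726 2861 (fun u => chkE tab 1 u) = true := by decide +kernel

theorem e1_89 : allRange 222587 2795 (fun u => chkE tab 1 u) = true := by decide +kernel


end Cfsg.Agent.Helper9.TCData.HeA0
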