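import Cfsg.Agent.Lib.Helper9.TCData.HeA0.Main

set_option autoImplicit false
set_option maxRecDepth 1000000

namespace Cfsg.Agent.Helper9.TCData.HeA0
open Cfsg.Agent.Helper9.TC2

theorem ma_71 : allRange 129149 1819 (fun u => chkAux tab aux u) = true := by decide +kernel

theorem ma_72 : allRange 130968 1819 (fun u => chkAux tab aux u) = true := by decide +kernel

theorem ma_73 : allRange 132787 1819 (fun u => chkAux tab aux u) = true := by decide +kernel

theorem ma_74 : allRange 134606 1819 (fun u => chkAux tab aux u) = true := by decide +kernel

theorem ma_75 : allRange 136425 1819 (fun u => chkAux tab aux u) = true := by decide +kernel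

theorem ma_76 : allRange 138244 1819 (fun u => chkAux tab aux u) = true := by decide +kernel

theorem ma_77 : allRange 140063 1819 (fun u => chkAux tab aux u) = true := by decide +kernel

theorem ma_78 : allRange 141882 1819 (fun u => chkAux tab aux u) = true := by decide +kernel


end Cfsg.Agent.Helper9.TCData.HeA0
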