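import Cfsg.Agent.Lib.Helper9.TCData.HeA0.Main

set_option autoImplicit false
set_option maxRecDepth 1000000

namespace Cfsg.Agent.Helper9.TCData.HeA0
open Cfsg.Agent.Helper9.TC2

theorem ma_103 : allRange 187357 1819 (fun u => chkAux tab aux u) = true := by decide +kernel

theorem ma_104 : allRange 189176 1819 (fun u => chkAux tab aux u) = true := by decide +kernel

theorem ma_105 : allRange 190995 1819 (fun u => chkAux tab aux u) = true := by decide +kernel

theorem ma_106 : allRange 192814 1819 (fun u => chkAux tab aux u) = true := by decide +kernel

theorem ma_107 : allRange 194633 1819 (fun u => chkAux tab aux u) = true := by decide +kernel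

theorem ma_108 : allRange 196452 1819 (fun u => chkAux tab aux u) = true := by decide +kernel

theorem ma_109 : allRange 198271 1819 (fun u => chkAux tab aux u) = true := by decide +kernel

theorem ma_110 : allRange 200090 1819 (fun u => chkAux tab aux u) = true := by decide +kernel


end Cfsg.Agent.Helper9.TCData.HeA0
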