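import Cfsg.Agent.Lib.Helper9.TCData.HeA0.Main

set_option autoImplicit false
set_option maxRecDepth 1000000

namespace Cfsg.Agent.Helper9.TCData.HeA0
open Cfsg.Agent.Helper9.TC2

theorem ma_111 : allRange 201909 1819 (fun u => chkAux tab aux u) = true := by decide +kernel

theorem ma_112 : allRange 203728 1819 (fun u => chkAux tab aux u) = true := by decide +kernel

theorem ma_113 : allRange 205547 1819 (fun u => chkAux tab aux u) = true := by decide +kernel

theorem ma_114 : allRange 207366 1819 (fun u => chkAux tab aux u) = true := by decide +kernel

theorem ma_115 : allRange 209185 1819 (fun u => chkAux tab aux u) = true := by decide +kernel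

theorem ma_116 : allRange 211004 1819 (fun u => chkAux tab aux u) = true := by decide +kernel

theorem ma_117 : allRange 212823 1819 (fun u => chkAux tab aux u) = true := by decide +kernel

theorem ma_118 : allRange 214642 1819 (fun u => chkAux tab aux u) = true := by decide +kernel


end Cfsg.Agent.Helper9.TCData.HeA0
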