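import Cfsg.Agent.Lib.Helper9.TCData.HeA0.Main

set_option autoImplicit false
set_option maxRecDepth 1000000

namespace Cfsg.Agent.Helper9.TCData.HeA0
open Cfsg.Agent.Helper9.TC2

theorem ma_119 : allRange 216461 1819 (fun u => chkAux tab aux u) = true := by decide +kernel

theorem ma_120 : allRange 218280 1819 (fun u => chkAux tab aux u) = true := by decide +kernel

theorem ma_121 : allRange 220099 1819 (fun u => chkAux tab aux u) = true := by decide +kernel

theorem ma_122 : allRange 221918 1819 (fun u => chkAux tab aux u) = true := by decide +kernel

theorem ma_123 : allRange 223737 1819 (fun u => chkAux tab aux u) = true := by decide +kernel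

theorem ma_124 : allRange 225556 1819 (fun u => chkAux tab aux u) = true := by decide +kernel

theorem ma_125 : allRange 227375 1819 (fun u => chkAux tab aux u) = true := by decide +kernel

theorem ma_126 : allRange 229194 1819 (fun u => chkAux tab aux u) = true := by decide +kernel


end Cfsg.Agent.Helper9.TCData.HeA0
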