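import Cfsg.Agent.Lib.Helper9.TCData.HeA0.Main

set_option autoImplicit false
set_option maxRecDepth 1000000

namespace Cfsg.Agent.Helper9.TCData.HeA0
open Cfsg.Agent.Helper9.TC2

theorem ma_127 : allRange 231013 1819 (fun u => chkAux tab aux u) = true := by decide +kernel

theorem ma_128 : allRange 232832 1819 (fun u => chkAux tab aux u) = true := by decide +kernel

theorem ma_129 : allRange 234651 1819 (fun u => chkAux tab aux u) = true := by decide +kernel

theorem ma_130 : allRange 236470 1819 (fun u => chkAux tab aux u) = true := by decide +kernel

theorem ma_131 : allRange 238289 1819 (fun u => chkAux tab aux u) = true := by decide +kernel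

theorem ma_132 : allRange 240108 1819 (fun u => chkAux tab aux u) = true := by decide +kernel

theorem ma_133 : allRange 241927 1819 (fun u => chkAux tab aux u) = true := by decide +kernel

theorem ma_134 : allRange 243746 1819 (fun u => chkAux tab aux u) = true := by decide +kernel


end Cfsg.Agent.Helper9.TCData.HeA0
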