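import Cfsg.Agent.Lib.Helper9.TCData.HeA0.Main

set_option autoImplicit false
set_option maxRecDepth 1000000

namespace Cfsg.Agent.Helper9.TCData.HeA0
open Cfsg.Agent.Helper9.TC2

theorem ma_135 : allRange 245565 1819 (fun u => chkAux tab aux u) = true := by decide +kernel

theorem ma_136 : allRange 247384 1819 (fun u => chkAux tab aux u) = true := by decide +kernel

theorem ma_137 : allRange 249203 1819 (fun u => chkAux tab aux u) = true := by decide +kernel

theorem ma_138 : allRange 251022 1819 (fun u => chkAux tab aux u) = true := by decide +kernel

theorem ma_139 : allRange 252841 1819 (fun u => chkAux tab aux u) = true := by decide +kernel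

theorem ma_140 : allRange 254660 1819 (fun u => chkAux tab aux u) = true := by decide +kernel

theorem ma_141 : allRange 256479 1819 (fun u => chkAux tab aux u) = true := by decide +kernel

theorem ma_142 : allRange 258298 1819 (fun u => chkAux tab aux u) = true := by decide +kernel


end Cfsg.Agent.Helper9.TCData.HeA0
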