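import Cfsg.Agent.Lib.Helper9.TCData.HeA0.Main

set_option autoImplicit false
set_option maxRecDepth 1000000

namespace Cfsg.Agent.Helper9.TCData.HeA0
open Cfsg.Agent.Helper9.TC2

theorem ma_143 : allRange 260117 1819 (fun u => chkAux tab aux u) = true := by decide +kernel

theorem ma_144 : allRange 261936 1819 (fun u => chkAux tab aux u) = true := by decide +kernel

theorem ma_145 : allRange 263755 1819 (fun u => chkAux tab aux u) = true := by decide +kernel

theorem ma_146 : allRange 265574 986 (fun u => chkAux tab aux u) = true := by decide +kernel

theorem m2_0 : allRange 0 94 (fun u => chkFix tab mwordsA u) = true := by decide +kernel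

theorem m2_1 : allRange 94 94 (fun u => chkFix tab mwordsA u) = true := by decide +kernel

theorem m2_2 : allRange 188 94 (fun u => chkFix tab mwordsA u) = true := by decide +kernel

theorem m2_3 : allRange 282 94 (fun u => chkFix tab mwordsA u) = true := by decide +kernel


end Cfsg.Agent.Helper9.TCData.HeA0
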