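import Cfsg.Agent.Lib.Helper9.TCData.HeA0.Main

set_option autoImplicit false
set_option maxRecDepth 1000000

namespace Cfsg.Agent.Helper9.TCData.HeA0
open Cfsg.Agent.Helper9.TC2

theorem m2_12 : allRange 1128 94 (fun u => chkFix tab mwordsA u) = true := by decide +kernel

theorem m2_13 : allRange 1222 94 (fun u => chkFix tab mwordsA u) = true := by decide +kernel

theorem m2_14 : allRange 1316 94 (fun u => chkFix tab mwordsA u) = true := by decide +kernel

theorem m2_15 : allRange 1410 94 (fun u => chkFix tab mwordsA u) = true := by decide +kernel

theorem m2_16 : allRange 1504 94 (fun u => chkFix tab mwordsA u) = true := by decide +kernel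

theorem m2_17 : allRange 1598 94 (fun u => chkFix tab mwordsA u) = true := by decide +kernel

theorem m2_18 : allRange 1692 94 (fun u => chkFix tab mwordsA u) = true := by decide +kernel

theorem m2_19 : allRange 1786 94 (fun u => chkFix tab mwordsA u) = true := by decide +kernel


end Cfsg.Agent.Helper9.TCData.HeA0
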