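import Cfsg.Agent.Lib.Helper9.TCData.HeA0.Main

set_option autoImplicit false
set_option maxRecDepth 1000000

namespace Cfsg.Agent.Helper9.TCData.HeA0
open Cfsg.Agent.Helper9.TC2

theorem e1_98 : allRange 248827 3190 (fun u => chkE tab 1 u) = true := by decide +kernel

theorem e1_99 : allRange 252017 3311 (fun u => chkE tab 1 u) = true := by decide +kernel

theorem e1_100 : allRange 255328 3425 (fun u => chkE tab 1 u) = true := by decide +kernel

theorem e1_101 : allRange 258753 3594 (fun u => chkE tab 1 u) = true := by decide +kernel

theorem e1_102 : allRange 262347 3807 (fun u => chkE tab 1 u) = true := by decide +kernel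

theorem e1_103 : allRange 266154 3073 (fun u => chkE tab 1 u) = true := by decide +kernel

theorem e2_0 : allRange 0 2555 (fun u => chkE tab 2 u) = true := by decide +kernel

theorem e2_1 : allRange 2555 2588 (fun u => chkE tab 2 u) = true := by decide +kernel


end Cfsg.Agent.Helper9.TCData.HeA0
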