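import Cfsg.Agent.Lib.Helper9.TCData.HeA0.Main

set_option autoImplicit false
set_option maxRecDepth 1000000

namespace Cfsg.Agent.Helper9.TCData.HeA0
open Cfsg.Agent.Helper9.TC2

theorem m2_92 : allRange 8648 94 (fun u => chkFix tab mwordsA u) = true := by decide +kernel

theorem m2_93 : allRange 8742 94 (fun u => chkFix tab mwordsA u) = true := by decide +kernel

theorem m2_94 : allRange 8836 94 (fun u => chkFix tab mwordsA u) = true := by decide +kernel

theorem m2_95 : allRange 8930 94 (fun u => chkFix tab mwordsA u) = true := by decide +kernel

theorem m2_96 : allRange 9024 94 (fun u => chkFix tab mwordsA u) = true := by decide +kernel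

theorem m2_97 : allRange 9118 94 (fun u => chkFix tab mwordsA u) = true := by decide +kernel

theorem m2_98 : allRange 9212 94 (fun u => chkFix tab mwordsA u) = true := by decide +kernel

theorem m2_99 : allRange 9306 94 (fun u => chkFix tab mwordsA u) = true := by decide +kernel


end Cfsg.Agent.Helper9.TCData.HeA0
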