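import Cfsg.Agent.Lib.Helper9.TCData.HeA0.Main

set_option autoImplicit false
set_option maxRecDepth 1000000

namespace Cfsg.Agent.Helper9.TCData.HeA0
open Cfsg.Agent.Helper9.TC2

theorem m2_188 : allRange 17672 94 (fun u => chkFix tab mwordsA u) = true := by decide +kernel

theorem m2_189 : allRange 17766 94 (fun u => chkFix tab mwordsA u) = true := by decide +kernel

theorem m2_190 : allRange 17860 94 (fun u => chkFix tab mwordsA u) = true := by decide +kernel

theorem m2_191 : allRange 17954 94 (fun u => chkFix tab mwordsA u) = true := by decide +kernel

theorem m2_192 : allRange 18048 94 (fun u => chkFix tab mwordsA u) = true := by decide +kernel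

theorem m2_193 : allRange 18142 94 (fun u => chkFix tab mwordsA u) = true := by decide +kernel

theorem m2_194 : allRange 18236 94 (fun u => chkFix tab mwordsA u) = true := by decide +kernel

theorem m2_195 : allRange 18330 94 (fun u => chkFix tab mwordsA u) = true := by decide +kernel


end Cfsg.Agent.Helper9.TCData.HeA0
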