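import Cfsg.Agent.Lib.Helper9.TCData.HeA0.Main

set_option autoImplicit false
set_option maxRecDepth 1000000

namespace Cfsg.Agent.Helper9.TCData.HeA0
open Cfsg.Agent.Helper9.TC2

theorem m2_220 : allRange 20680 94 (fun u => chkFix tab mwordsA u) = true := by decide +kernel

theorem m2_221 : allRange 20774 94 (fun u => chkFix tab mwordsA u) = true := by decide +kernel

theorem m2_222 : allRange 20868 94 (fun u => chkFix tab mwordsA u) = true := by decide +kernel

theorem m2_223 : allRange 20962 94 (fun u => chkFix tab mwordsA u) = true := by decide +kernel

theorem m2_224 : allRange 21056 94 (fun u => chkFix tab mwordsA u) = true := by decide +kernel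

theorem m2_225 : allRange 21150 94 (fun u => chkFix tab mwordsA u) = true := by decide +kernel

theorem m2_226 : allRange 21244 94 (fun u => chkFix tab mwordsA u) = true := by decide +kernel

theorem m2_227 : allRange 21338 94 (fun u => chkFix tab mwordsA u) = true := by decide +kernel


end Cfsg.Agent.Helper9.TCData.HeA0
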