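import Cfsg.Agent.Lib.Helper9.TCData.HeA0.Main

set_option autoImplicit false
set_option maxRecDepth 1000000

namespace Cfsg.Agent.Helper9.TCData.HeA0
open Cfsg.Agent.Helper9.TC2

theorem m2_244 : allRange 22936 94 (fun u => chkFix tab mwordsA u) = true := by decide +kernel

theorem m2_245 : allRange 23030 94 (fun u => chkFix tab mwordsA u) = true := by decide +kernel

theorem m2_246 : allRange 23124 94 (fun u => chkFix tab mwordsA u) = true := by decide +kernel

theorem m2_247 : allRange 23218 94 (fun u => chkFix tab mwordsA u) = true := by decide +kernel

theorem m2_248 : allRange 23312 94 (fun u => chkFix tab mwordsA u) = true := by decide +kernel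

theorem m2_249 : allRange 23406 94 (fun u => chkFix tab mwordsA u) = true := by decide +kernel

theorem m2_250 : allRange 23500 94 (fun u => chkFix tab mwordsA u) = true := by decide +kernel

theorem m2_251 : allRange 23594 94 (fun u => chkFix tab mwordsA u) = true := by decide +kernel


end Cfsg.Agent.Helper9.TCData.HeA0
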