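import Cfsg.Agent.Lib.Helper9.TCData.HeA0.Main

set_option autoImplicit false
set_option maxRecDepth 1000000

namespace Cfsg.Agent.Helper9.TCData.HeA0
open Cfsg.Agent.Helper9.TC2

theorem m2_276 : allRange 25944 94 (fun u => chkFix tab mwordsA u) = true := by decide +kernel

theorem m2_277 : allRange 26038 94 (fun u => chkFix tab mwordsA u) = true := by decide +kernel

theorem m2_278 : allRange 26132 94 (fun u => chkFix tab mwordsA u) = true := by decide +kernel

theorem m2_279 : allRange 26226 94 (fun u => chkFix tab mwordsA u) = true := by decide +kernel

theorem m2_280 : allRange 26320 94 (fun u => chkFix tab mwordsA u) = true := by decide +kernel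

theorem m2_281 : allRange 26414 94 (fun u => chkFix tab mwordsA u) = true := by decide +kernel

theorem m2_282 : allRange 26508 94 (fun u => chkFix tab mwordsA u) = true := by decide +kernel

theorem m2_283 : allRange 26602 94 (fun u => chkFix tab mwordsA u) = true := by decide +kernel


end Cfsg.Agent.Helper9.TCData.HeA0
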