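import Cfsg.Agent.Lib.Helper9.TCData.HeA0.Main

set_option autoImplicit false
set_option maxRecDepth 1000000

namespace Cfsg.Agent.Helper9.TCData.HeA0
open Cfsg.Agent.Helper9.TC2

theorem e2_18 : allRange 44644 2404 (fun u => chkE tab 2 u) = true := by decide +kernel

theorem e2_19 : allRange 47048 2442 (fun u => chkE tab 2 u) = true := by decide +kernel

theorem e2_20 : allRange 49490 2374 (fun u => chkE tab 2 u) = true := by decide +kernel

theorem e2_21 : allRange 51864 2384 (fun u => chkE tab 2 u) = true := by decide +kernel

theorem e2_22 : allRange 54248 2499 (fun u => chkE tab 2 u) = true := by decide +kernel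

theorem e2_23 : allRange 56747 2525 (fun u => chkE tab 2 u) = true := by decide +kernel

theorem e2_24 : allRange 59272 2275 (fun u => chkE tab 2 u) = true := by decide +kernel

theorem e2_25 : allRange 61547 2370 (fun u => chkE tab 2 u) = true := by decide +kernel


end Cfsg.Agent.Helper9.TCData.HeA0
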