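import Cfsg.Agent.Lib.Helper9.TCData.HeA0.Main

set_option autoImplicit false
set_option maxRecDepth 1000000

namespace Cfsg.Agent.Helper9.TCData.HeA0
open Cfsg.Agent.Helper9.TC2

theorem m2_292 : allRange 27448 94 (fun u => chkFix tab mwordsA u) = true := by decide +kernel

theorem m2_293 : allRange 27542 94 (fun u => chkFix tab mwordsA u) = true := by decide +kernel

theorem m2_294 : allRange 27636 94 (fun u => chkFix tab mwordsA u) = true := by decide +kernel

theorem m2_295 : allRange 27730 94 (fun u => chkFix tab mwordsA u) = true := by decide +kernel

theorem m2_296 : allRange 27824 94 (fun u => chkFix tab mwordsA u) = true := by decide +kernel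

theorem m2_297 : allRange 27918 94 (fun u => chkFix tab mwordsA u) = true := by decide +kernel

theorem m2_298 : allRange 28012 94 (fun u => chkFix tab mwordsA u) = true := by decide +kernel

theorem m2_299 : allRange 28106 94 (fun u => chkFix tab mwordsA u) = true := by decide +kernel


end Cfsg.Agent.Helper9.TCData.HeA0
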