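import Cfsg.Agent.Lib.Helper9.TCData.HeA0.Main

set_option autoImplicit false
set_option maxRecDepth 1000000

namespace Cfsg.Agent.Helper9.TCData.HeA0
open Cfsg.Agent.Helper9.TC2

theorem m2_316 : allRange 29704 94 (fun u => chkFix tab mwordsA u) = true := by decide +kernel

theorem m2_317 : allRange 29798 94 (fun u => chkFix tab mwordsA u) = true := by decide +kernel

theorem m2_318 : allRange 29892 94 (fun u => chkFix tab mwordsA u) = true := by decide +kernel

theorem m2_319 : allRange 29986 94 (fun u => chkFix tab mwordsA u) = true := by decide +kernel

theorem m2_320 : allRange 30080 94 (fun u => chkFix tab mwordsA u) = true := by decide +kernel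

theorem m2_321 : allRange 30174 94 (fun u => chkFix tab mwordsA u) = true := by decide +kernel

theorem m2_322 : allRange 30268 94 (fun u => chkFix tab mwordsA u) = true := by decide +kernel

theorem m2_323 : allRange 30362 94 (fun u => chkFix tab mwordsA u) = true := by decide +kernel


end Cfsg.Agent.Helper9.TCData.HeA0
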