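import Cfsg.Agent.Lib.Helper9.TCData.HeA0.Main

set_option autoImplicit false
set_option maxRecDepth 1000000

namespace Cfsg.Agent.Helper9.TCData.HeA0
open Cfsg.Agent.Helper9.TC2

theorem e0_24 : allRange 53876 2438 (fun u => chkE tab 0 u) = true := by decide +kernel

theorem e0_25 : allRange 56314 2194 (fun u => chkE tab 0 u) = true := by decide +kernel

theorem e0_26 : allRange 58508 2891 (fun u => chkE tab 0 u) = true := by decide +kernel

theorem e0_27 : allRange 61399 2242 (fun u => chkE tab 0 u) = true := by decide +kernel

theorem e0_28 : allRange 63641 2123 (fun u => chkE tab 0 u) = true := by decide +kernel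

theorem e0_29 : allRange 65764 2338 (fun u => chkE tab 0 u) = true := by decide +kernel

theorem e0_30 : allRange 68102 2352 (fun u => chkE tab 0 u) = true := by decide +kernel

theorem e0_31 : allRange 70454 2572 (fun u => chkE tab 0 u) = true := by decide +kernel


end Cfsg.Agent.Helper9.TCData.HeA0
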