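import Cfsg.Agent.Lib.Helper9.TCData.HeA0.Main

set_option autoImplicit false
set_option maxRecDepth 1000000

namespace Cfsg.Agent.Helper9.TCData.HeA0
open Cfsg.Agent.Helper9.TC2

theorem m2_404 : allRange 37976 94 (fun u => chkFix tab mwordsA u) = true := by decide +kernel

theorem m2_405 : allRange 38070 94 (fun u => chkFix tab mwordsA u) = true := by decide +kernel

theorem m2_406 : allRange 38164 94 (fun u => chkFix tab mwordsA u) = true := by decide +kernel

theorem m2_407 : allRange 38258 94 (fun u => chkFix tab mwordsA u) = true := by decide +kernel

theorem m2_408 : allRange 38352 94 (fun u => chkFix tab mwordsA u) = true := by decide +kernel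

theorem m2_409 : allRange 38446 94 (fun u => chkFix tab mwordsA u) = true := by decide +kernel

theorem m2_410 : allRange 38540 94 (fun u => chkFix tab mwordsA u) = true := by decide +kernel

theorem m2_411 : allRange 38634 94 (fun u => chkFix tab mwordsA u) = true := by decide +kernel


end Cfsg.Agent.Helper9.TCData.HeA0
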