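import Cfsg.Agent.Lib.Helper9.TCData.HeA0.Main

set_option autoImplicit false
set_option maxRecDepth 1000000

namespace Cfsg.Agent.Helper9.TCData.HeA0
open Cfsg.Agent.Helper9.TC2

theorem m2_444 : allRange 41736 94 (fun u => chkFix tab mwordsA u) = true := by decide +kernel

theorem m2_445 : allRange 41830 94 (fun u => chkFix tab mwordsA u) = true := by decide +kernel

theorem m2_446 : allRange 41924 94 (fun u => chkFix tab mwordsA u) = true := by decide +kernel

theorem m2_447 : allRange 42018 94 (fun u => chkFix tab mwordsA u) = true := by decide +kernel

theorem m2_448 : allRange 42112 94 (fun u => chkFix tab mwordsA u) = true := by decide +kernel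

theorem m2_449 : allRange 42206 94 (fun u => chkFix tab mwordsA u) = true := by decide +kernel

theorem m2_450 : allRange 42300 94 (fun u => chkFix tab mwordsA u) = true := by decide +kernel

theorem m2_451 : allRange 42394 94 (fun u => chkFix tab mwordsA u) = true := by decide +kernel


end Cfsg.Agent.Helper9.TCData.HeA0
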