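import Cfsg.Agent.Lib.Helper9.TCData.HeA0.Main

set_option autoImplicit false
set_option maxRecDepth 1000000

namespace Cfsg.Agent.Helper9.TCData.HeA0
open Cfsg.Agent.Helper9.TC2

theorem m2_460 : allRange 43240 94 (fun u => chkFix tab mwordsA u) = true := by decide +kernel

theorem m2_461 : allRange 43334 94 (fun u => chkFix tab mwordsA u) = true := by decide +kernel

theorem m2_462 : allRange 43428 94 (fun u => chkFix tab mwordsA u) = true := by decide +kernel

theorem m2_463 : allRange 43522 94 (fun u => chkFix tab mwordsA u) = true := by decide +kernel

theorem m2_464 : allRange 43616 94 (fun u => chkFix tab mwordsA u) = true := by decide +kernel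

theorem m2_465 : allRange 43710 94 (fun u => chkFix tab mwordsA u) = true := by decide +kernel

theorem m2_466 : allRange 43804 94 (fun u => chkFix tab mwordsA u) = true := by decide +kernel

theorem m2_467 : allRange 43898 94 (fun u => chkFix tab mwordsA u) = true := by decide +kernel


end Cfsg.Agent.Helper9.TCData.HeA0
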