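import Cfsg.Agent.Lib.Helper9.TCData.HeA0.Main

set_option autoImplicit false
set_option maxRecDepth 1000000

namespace Cfsg.Agent.Helper9.TCData.HeA0
open Cfsg.Agent.Helper9.TC2

theorem m2_500 : allRange 47000 94 (fun u => chkFix tab mwordsA u) = true := by decide +kernel

theorem m2_501 : allRange 47094 94 (fun u => chkFix tab mwordsA u) = true := by decide +kernel

theorem m2_502 : allRange 47188 94 (fun u => chkFix tab mwordsA u) = true := by decide +kernel

theorem m2_503 : allRange 47282 94 (fun u => chkFix tab mwordsA u) = true := by decide +kernel

theorem m2_504 : allRange 47376 94 (fun u => chkFix tab mwordsA u) = true := by decide +kernel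

theorem m2_505 : allRange 47470 94 (fun u => chkFix tab mwordsA u) = true := by decide +kernel

theorem m2_506 : allRange 47564 94 (fun u => chkFix tab mwordsA u) = true := by decide +kernel

theorem m2_507 : allRange 47658 94 (fun u => chkFix tab mwordsA u) = true := by decide +kernel


end Cfsg.Agent.Helper9.TCData.HeA0
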