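import Cfsg.Agent.Lib.Helper9.TCData.HeA0.Main

set_option autoImplicit false
set_option maxRecDepth 1000000

namespace Cfsg.Agent.Helper9.TCData.HeA0
open Cfsg.Agent.Helper9.TC2

theorem e2_42 : allRange 103489 2505 (fun u => chkE tab 2 u) = true := by decide +kernel

theorem e2_43 : allRange 105994 2803 (fun u => chkE tab 2 u) = true := by decide +kernel

theorem e2_44 : allRange 108797 2527 (fun u => chkE tab 2 u) = true := by decide +kernel

theorem e2_45 : allRange 111324 2529 (fun u => chkE tab 2 u) = true := by decide +kernel

theorem e2_46 : allRange 113853 2605 (fun u => chkE tab 2 u) = true := by decide +kernel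

theorem e2_47 : allRange 116458 2681 (fun u => chkE tab 2 u) = true := by decide +kernel

theorem e2_48 : allRange 119139 2616 (fun u => chkE tab 2 u) = true := by decide +kernel

theorem e2_49 : allRange 121755 2542 (fun u => chkE tab 2 u) = true := by decide +kernel


end Cfsg.Agent.Helper9.TCData.HeA0
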