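import Cfsg.Agent.Lib.Helper9.TCData.HeA0.Main

set_option autoImplicit false
set_option maxRecDepth 1000000

namespace Cfsg.Agent.Helper9.TCData.HeA0
open Cfsg.Agent.Helper9.TC2

theorem m2_532 : allRange 50008 94 (fun u => chkFix tab mwordsA u) = true := by decide +kernel

theorem m2_533 : allRange 50102 94 (fun u => chkFix tab mwordsA u) = true := by decide +kernel

theorem m2_534 : allRange 50196 94 (fun u => chkFix tab mwordsA u) = true := by decide +kernel

theorem m2_535 : allRange 50290 94 (fun u => chkFix tab mwordsA u) = true := by decide +kernel

theorem m2_536 : allRange 50384 94 (fun u => chkFix tab mwordsA u) = true := by decide +kernel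

theorem m2_537 : allRange 50478 94 (fun u => chkFix tab mwordsA u) = true := by decide +kernel

theorem m2_538 : allRange 50572 94 (fun u => chkFix tab mwordsA u) = true := by decide +kernel

theorem m2_539 : allRange 50666 94 (fun u => chkFix tab mwordsA u) = true := by decide +kernel


end Cfsg.Agent.Helper9.TCData.HeA0
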