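import Cfsg.Agent.Lib.Helper9.TCData.HeA0.Main

set_option autoImplicit false
set_option maxRecDepth 1000000

namespace Cfsg.Agent.Helper9.TCData.HeA0
open Cfsg.Agent.Helper9.TC2

theorem m2_548 : allRange 51512 94 (fun u => chkFix tab mwordsA u) = true := by decide +kernel

theorem m2_549 : allRange 51606 94 (fun u => chkFix tab mwordsA u) = true := by decide +kernel

theorem m2_550 : allRange 51700 94 (fun u => chkFix tab mwordsA u) = true := by decide +kernel

theorem m2_551 : allRange 51794 94 (fun u => chkFix tab mwordsA u) = true := by decide +kernel

theorem m2_552 : allRange 51888 94 (fun u => chkFix tab mwordsA u) = true := by decide +kernel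

theorem m2_553 : allRange 51982 94 (fun u => chkFix tab mwordsA u) = true := by decide +kernel

theorem m2_554 : allRange 52076 94 (fun u => chkFix tab mwordsA u) = true := by decide +kernel

theorem m2_555 : allRange 52170 94 (fun u => chkFix tab mwordsA u) = true := by decide +kernel


end Cfsg.Agent.Helper9.TCData.HeA0
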