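import Cfsg.Agent.Lib.Helper9.TCData.HeA0.Main

set_option autoImplicit false
set_option maxRecDepth 1000000

namespace Cfsg.Agent.Helper9.TCData.HeA0
open Cfsg.Agent.Helper9.TC2

theorem m2_572 : allRange 53768 94 (fun u => chkFix tab mwordsA u) = true := by decide +kernel

theorem m2_573 : allRange 53862 94 (fun u => chkFix tab mwordsA u) = true := by decide +kernel

theorem m2_574 : allRange 53956 94 (fun u => chkFix tab mwordsA u) = true := by decide +kernel

theorem m2_575 : allRange 54050 94 (fun u => chkFix tab mwordsA u) = true := by decide +kernel

theorem m2_576 : allRange 54144 94 (fun u => chkFix tab mwordsA u) = true := by decide +kernel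

theorem m2_577 : allRange 54238 94 (fun u => chkFix tab mwordsA u) = true := by decide +kernel

theorem m2_578 : allRange 54332 94 (fun u => chkFix tab mwordsA u) = true := by decide +kernel

theorem m2_579 : allRange 54426 94 (fun u => chkFix tab mwordsA u) = true := by decide +kernel


end Cfsg.Agent.Helper9.TCData.HeA0
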