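import Cfsg.Agent.Lib.Helper9.TCData.HeA0.Main

set_option autoImplicit false
set_option maxRecDepth 1000000

namespace Cfsg.Agent.Helper9.TCData.HeA0
open Cfsg.Agent.Helper9.TC2

theorem m2_596 : allRange 56024 94 (fun u => chkFix tab mwordsA u) = true := by decide +kernel

theorem m2_597 : allRange 56118 94 (fun u => chkFix tab mwordsA u) = true := by decide +kernel

theorem m2_598 : allRange 56212 94 (fun u => chkFix tab mwordsA u) = true := by decide +kernel

theorem m2_599 : allRange 56306 94 (fun u => chkFix tab mwordsA u) = true := by decide +kernel

theorem m2_600 : allRange 56400 94 (fun u => chkFix tab mwordsA u) = true := by decide +kernel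

theorem m2_601 : allRange 56494 94 (fun u => chkFix tab mwordsA u) = true := by decide +kernel

theorem m2_602 : allRange 56588 94 (fun u => chkFix tab mwordsA u) = true := by decide +kernel

theorem m2_603 : allRange 56682 94 (fun u => chkFix tab mwordsA u) = true := by decide +kernel


end Cfsg.Agent.Helper9.TCData.HeA0
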