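import Cfsg.Agent.Lib.Helper9.TCData.HeA0.Main

set_option autoImplicit false
set_option maxRecDepth 1000000

namespace Cfsg.Agent.Helper9.TCData.HeA0
open Cfsg.Agent.Helper9.TC2

theorem e2_50 : allRange 124297 2497 (fun u => chkE tab 2 u) = true := by decide +kernel

theorem e2_51 : allRange 126794 2426 (fun u => chkE tab 2 u) = true := by decide +kernel

theorem e2_52 : allRange 129220 2298 (fun u => chkE tab 2 u) = true := by decide +kernel

theorem e2_53 : allRange 131518 2594 (fun u => chkE tab 2 u) = true := by decide +kernel

theorem e2_54 : allRange 134112 2689 (fun u => chkE tab 2 u) = true := by decide +kernel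

theorem e2_55 : allRange 136801 2579 (fun u => chkE tab 2 u) = true := by decide +kernel

theorem e2_56 : allRange 139380 2537 (fun u => chkE tab 2 u) = true := by decide +kernel

theorem e2_57 : allRange 141917 2459 (fun u => chkE tab 2 u) = true := by decide +kernel


end Cfsg.Agent.Helper9.TCData.HeA0
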