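import Cfsg.Agent.Lib.Helper9.TCData.HeA0.Main

set_option autoImplicit false
set_option maxRecDepth 1000000

namespace Cfsg.Agent.Helper9.TCData.HeA0
open Cfsg.Agent.Helper9.TC2

theorem m2_628 : allRange 59032 94 (fun u => chkFix tab mwordsA u) = true := by decide +kernel

theorem m2_629 : allRange 59126 94 (fun u => chkFix tab mwordsA u) = true := by decide +kernel

theorem m2_630 : allRange 59220 94 (fun u => chkFix tab mwordsA u) = true := by decide +kernel

theorem m2_631 : allRange 59314 94 (fun u => chkFix tab mwordsA u) = true := by decide +kernel

theorem m2_632 : allRange 59408 94 (fun u => chkFix tab mwordsA u) = true := by decide +kernel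

theorem m2_633 : allRange 59502 94 (fun u => chkFix tab mwordsA u) = true := by decide +kernel

theorem m2_634 : allRange 59596 94 (fun u => chkFix tab mwordsA u) = true := by decide +kernel

theorem m2_635 : allRange 59690 94 (fun u => chkFix tab mwordsA u) = true := by decide +kernel


end Cfsg.Agent.Helper9.TCData.HeA0
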