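import Cfsg.Agent.Lib.Helper9.TCData.HeA0.Main

set_option autoImplicit false
set_option maxRecDepth 1000000

namespace Cfsg.Agent.Helper9.TCData.HeA0
open Cfsg.Agent.Helper9.TC2

theorem m2_644 : allRange 60536 94 (fun u => chkFix tab mwordsA u) = true := by decide +kernel

theorem m2_645 : allRange 60630 94 (fun u => chkFix tab mwordsA u) = true := by decide +kernel

theorem m2_646 : allRange 60724 94 (fun u => chkFix tab mwordsA u) = true := by decide +kernel

theorem m2_647 : allRange 60818 94 (fun u => chkFix tab mwordsA u) = true := by decide +kernel

theorem m2_648 : allRange 60912 94 (fun u => chkFix tab mwordsA u) = true := by decide +kernel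

theorem m2_649 : allRange 61006 94 (fun u => chkFix tab mwordsA u) = true := by decide +kernel

theorem m2_650 : allRange 61100 94 (fun u => chkFix tab mwordsA u) = true := by decide +kernel

theorem m2_651 : allRange 61194 94 (fun u => chkFix tab mwordsA u) = true := by decide +kernel


end Cfsg.Agent.Helper9.TCData.HeA0
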