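import Cfsg.Agent.Lib.Helper9.TCData.HeA0.Main

set_option autoImplicit false
set_option maxRecDepth 1000000

namespace Cfsg.Agent.Helper9.TCData.HeA0
open Cfsg.Agent.Helper9.TC2

theorem m2_652 : allRange 61288 94 (fun u => chkFix tab mwordsA u) = true := by decide +kernel

theorem m2_653 : allRange 61382 94 (fun u => chkFix tab mwordsA u) = true := by decide +kernel

theorem m2_654 : allRange 61476 94 (fun u => chkFix tab mwordsA u) = true := by decide +kernel

theorem m2_655 : allRange 61570 94 (fun u => chkFix tab mwordsA u) = true := by decide +kernel

theorem m2_656 : allRange 61664 94 (fun u => chkFix tab mwordsA u) = true := by decide +kernel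

theorem m2_657 : allRange 61758 94 (fun u => chkFix tab mwordsA u) = true := by decide +kernel

theorem m2_658 : allRange 61852 94 (fun u => chkFix tab mwordsA u) = true := by decide +kernel

theorem m2_659 : allRange 61946 94 (fun u => chkFix tab mwordsA u) = true := by decide +kernel


end Cfsg.Agent.Helper9.TCData.HeA0
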