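import Cfsg.Agent.Lib.Helper9.TCData.HeA0.Main

set_option autoImplicit false
set_option maxRecDepth 1000000

namespace Cfsg.Agent.Helper9.TCData.HeA0
open Cfsg.Agent.Helper9.TC2

theorem m2_660 : allRange 62040 94 (fun u => chkFix tab mwordsA u) = true := by decide +kernel

theorem m2_661 : allRange 62134 94 (fun u => chkFix tab mwordsA u) = true := by decide +kernel

theorem m2_662 : allRange 62228 94 (fun u => chkFix tab mwordsA u) = true := by decide +kernel

theorem m2_663 : allRange 62322 94 (fun u => chkFix tab mwordsA u) = true := by decide +kernel

theorem m2_664 : allRange 62416 94 (fun u => chkFix tab mwordsA u) = true := by decide +kernel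

theorem m2_665 : allRange 62510 94 (fun u => chkFix tab mwordsA u) = true := by decide +kernel

theorem m2_666 : allRange 62604 94 (fun u => chkFix tab mwordsA u) = true := by decide +kernel

theorem m2_667 : allRange 62698 94 (fun u => chkFix tab mwordsA u) = true := by decide +kernel


end Cfsg.Agent.Helper9.TCData.HeA0
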