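import Cfsg.Agent.Lib.Helper9.TCData.HeA0.Main

set_option autoImplicit false
set_option maxRecDepth 1000000

namespace Cfsg.Agent.Helper9.TCData.HeA0
open Cfsg.Agent.Helper9.TC2

theorem m2_668 : allRange 62792 94 (fun u => chkFix tab mwordsA u) = true := by decide +kernel

theorem m2_669 : allRange 62886 94 (fun u => chkFix tab mwordsA u) = true := by decide +kernel

theorem m2_670 : allRange 62980 94 (fun u => chkFix tab mwordsA u) = true := by decide +kernel

theorem m2_671 : allRange 63074 94 (fun u => chkFix tab mwordsA u) = true := by decide +kernel

theorem m2_672 : allRange 63168 94 (fun u => chkFix tab mwordsA u) = true := by decide +kernel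

theorem m2_673 : allRange 63262 94 (fun u => chkFix tab mwordsA u) = true := by decide +kernel

theorem m2_674 : allRange 63356 94 (fun u => chkFix tab mwordsA u) = true := by decide +kernel

theorem m2_675 : allRange 63450 94 (fun u => chkFix tab mwordsA u) = true := by decide +kernel


end Cfsg.Agent.Helper9.TCData.HeA0
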