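import Cfsg.Agent.Lib.Helper9.TCData.HeA0.Main

set_option autoImplicit false
set_option maxRecDepth 1000000

namespace Cfsg.Agent.Helper9.TCData.HeA0
open Cfsg.Agent.Helper9.TC2

theorem e2_58 : allRange 144376 2459 (fun u => chkE tab 2 u) = true := by decide +kernel

theorem e2_59 : allRange 146835 2457 (fun u => chkE tab 2 u) = true := by decide +kernel

theorem e2_60 : allRange 149292 2510 (fun u => chkE tab 2 u) = true := by decide +kernel

theorem e2_61 : allRange 151802 2465 (fun u => chkE tab 2 u) = true := by decide +kernel

theorem e2_62 : allRange 154267 2272 (fun u => chkE tab 2 u) = true := by decide +kernel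

theorem e2_63 : allRange 156539 2310 (fun u => chkE tab 2 u) = true := by decide +kernel

theorem e2_64 : allRange 158849 2307 (fun u => chkE tab 2 u) = true := by decide +kernel

theorem e2_65 : allRange 161156 2419 (fun u => chkE tab 2 u) = true := by decide +kernel


end Cfsg.Agent.Helper9.TCData.HeA0
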