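import Cfsg.Agent.Lib.Helper9.TCData.HeA0.Main

set_option autoImplicit false
set_option maxRecDepth 1000000

namespace Cfsg.Agent.Helper9.TCData.HeA0
open Cfsg.Agent.Helper9.TC2

theorem m2_748 : allRange 70312 94 (fun u => chkFix tab mwordsA u) = true := by decide +kernel

theorem m2_749 : allRange 70406 94 (fun u => chkFix tab mwordsA u) = true := by decide +kernel

theorem m2_750 : allRange 70500 94 (fun u => chkFix tab mwordsA u) = true := by decide +kernel

theorem m2_751 : allRange 70594 94 (fun u => chkFix tab mwordsA u) = true := by decide +kernel

theorem m2_752 : allRange 70688 94 (fun u => chkFix tab mwordsA u) = true := by decide +kernel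

theorem m2_753 : allRange 70782 94 (fun u => chkFix tab mwordsA u) = true := by decide +kernel

theorem m2_754 : allRange 70876 94 (fun u => chkFix tab mwordsA u) = true := by decide +kernel

theorem m2_755 : allRange 70970 94 (fun u => chkFix tab mwordsA u) = true := by decide +kernel


end Cfsg.Agent.Helper9.TCData.HeA0
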