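import Cfsg.Agent.Lib.Helper9.TCData.HeA0.Main

set_option autoImplicit false
set_option maxRecDepth 1000000

namespace Cfsg.Agent.Helper9.TCData.HeA0
open Cfsg.Agent.Helper9.TC2

theorem m2_764 : allRange 71816 94 (fun u => chkFix tab mwordsA u) = true := by decide +kernel

theorem m2_765 : allRange 71910 94 (fun u => chkFix tab mwordsA u) = true := by decide +kernel

theorem m2_766 : allRange 72004 94 (fun u => chkFix tab mwordsA u) = true := by decide +kernel

theorem m2_767 : allRange 72098 94 (fun u => chkFix tab mwordsA u) = true := by decide +kernel

theorem m2_768 : allRange 72192 94 (fun u => chkFix tab mwordsA u) = true := by decide +kernel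

theorem m2_769 : allRange 72286 94 (fun u => chkFix tab mwordsA u) = true := by decide +kernel

theorem m2_770 : allRange 72380 94 (fun u => chkFix tab mwordsA u) = true := by decide +kernel

theorem m2_771 : allRange 72474 94 (fun u => chkFix tab mwordsA u) = true := by decide +kernel


end Cfsg.Agent.Helper9.TCData.HeA0
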