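import Cfsg.Agent.Lib.Helper9.TCData.HeA0.Main

set_option autoImplicit false
set_option maxRecDepth 1000000

namespace Cfsg.Agent.Helper9.TCData.HeA0
open Cfsg.Agent.Helper9.TC2

theorem e2_66 : allRange 163575 2299 (fun u => chkE tab 2 u) = true := by decide +kernel

theorem e2_67 : allRange 165874 2464 (fun u => chkE tab 2 u) = true := by decide +kernel

theorem e2_68 : allRange 168338 2442 (fun u => chkE tab 2 u) = true := by decide +kernel

theorem e2_69 : allRange 170780 2372 (fun u => chkE tab 2 u) = true := by decide +kernel

theorem e2_70 : allRange 173152 2421 (fun u => chkE tab 2 u) = true := by decide +kernel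

theorem e2_71 : allRange 175573 2497 (fun u => chkE tab 2 u) = true := by decide +kernel

theorem e2_72 : allRange 178070 2281 (fun u => chkE tab 2 u) = true := by decide +kernel

theorem e2_73 : allRange 180351 2458 (fun u => chkE tab 2 u) = true := by decide +kernel


end Cfsg.Agent.Helper9.TCData.HeA0
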