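import Cfsg.Agent.Lib.Helper9.TCData.HeA0.Main

set_option autoImplicit false
set_option maxRecDepth 1000000

namespace Cfsg.Agent.Helper9.TCData.HeA0
open Cfsg.Agent.Helper9.TC2

theorem m2_788 : allRange 74072 94 (fun u => chkFix tab mwordsA u) = true := by decide +kernel

theorem m2_789 : allRange 74166 94 (fun u => chkFix tab mwordsA u) = true := by decide +kernel

theorem m2_790 : allRange 74260 94 (fun u => chkFix tab mwordsA u) = true := by decide +kernel

theorem m2_791 : allRange 74354 94 (fun u => chkFix tab mwordsA u) = true := by decide +kernel

theorem m2_792 : allRange 74448 94 (fun u => chkFix tab mwordsA u) = true := by decide +kernel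

theorem m2_793 : allRange 74542 94 (fun u => chkFix tab mwordsA u) = true := by decide +kernel

theorem m2_794 : allRange 74636 94 (fun u => chkFix tab mwordsA u) = true := by decide +kernel

theorem m2_795 : allRange 74730 94 (fun u => chkFix tab mwordsA u) = true := by decide +kernel


end Cfsg.Agent.Helper9.TCData.HeA0
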