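import Cfsg.Agent.Lib.Helper9.TCData.HeA0.Main

set_option autoImplicit false
set_option maxRecDepth 1000000

namespace Cfsg.Agent.Helper9.TCData.HeA0
open Cfsg.Agent.Helper9.TC2

theorem m2_796 : allRange 74824 94 (fun u => chkFix tab mwordsA u) = true := by decide +kernel

theorem m2_797 : allRange 74918 94 (fun u => chkFix tab mwordsA u) = true := by decide +kernel

theorem m2_798 : allRange 75012 94 (fun u => chkFix tab mwordsA u) = true := by decide +kernel

theorem m2_799 : allRange 75106 94 (fun u => chkFix tab mwordsA u) = true := by decide +kernel

theorem m2_800 : allRange 75200 94 (fun u => chkFix tab mwordsA u) = true := by decide +kernel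

theorem m2_801 : allRange 75294 94 (fun u => chkFix tab mwordsA u) = true := by decide +kernel

theorem m2_802 : allRange 75388 94 (fun u => chkFix tab mwordsA u) = true := by decide +kernel

theorem m2_803 : allRange 75482 94 (fun u => chkFix tab mwordsA u) = true := by decide +kernel


end Cfsg.Agent.Helper9.TCData.HeA0
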