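import Cfsg.Agent.Lib.Helper9.TCData.HeA0.Main

set_option autoImplicit false
set_option maxRecDepth 1000000

namespace Cfsg.Agent.Helper9.TCData.HeA0
open Cfsg.Agent.Helper9.TC2

theorem m2_812 : allRange 76328 94 (fun u => chkFix tab mwordsA u) = true := by decide +kernel

theorem m2_813 : allRange 76422 94 (fun u => chkFix tab mwordsA u) = true := by decide +kernel

theorem m2_814 : allRange 76516 94 (fun u => chkFix tab mwordsA u) = true := by decide +kernel

theorem m2_815 : allRange 76610 94 (fun u => chkFix tab mwordsA u) = true := by decide +kernel

theorem m2_816 : allRange 76704 94 (fun u => chkFix tab mwordsA u) = true := by decide +kernel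

theorem m2_817 : allRange 76798 94 (fun u => chkFix tab mwordsA u) = true := by decide +kernel

theorem m2_818 : allRange 76892 94 (fun u => chkFix tab mwordsA u) = true := by decide +kernel

theorem m2_819 : allRange 76986 94 (fun u => chkFix tab mwordsA u) = true := by decide +kernel


end Cfsg.Agent.Helper9.TCData.HeA0
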