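import Cfsg.Agent.Lib.Helper9.TCData.HeA0.Main

set_option autoImplicit false
set_option maxRecDepth 1000000

namespace Cfsg.Agent.Helper9.TCData.HeA0
open Cfsg.Agent.Helper9.TC2

theorem m2_820 : allRange 77080 94 (fun u => chkFix tab mwordsA u) = true := by decide +kernel

theorem m2_821 : allRange 77174 94 (fun u => chkFix tab mwordsA u) = true := by decide +kernel

theorem m2_822 : allRange 77268 94 (fun u => chkFix tab mwordsA u) = true := by decide +kernel

theorem m2_823 : allRange 77362 94 (fun u => chkFix tab mwordsA u) = true := by decide +kernel

theorem m2_824 : allRange 77456 94 (fun u => chkFix tab mwordsA u) = true := by decide +kernel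

theorem m2_825 : allRange 77550 94 (fun u => chkFix tab mwordsA u) = true := by decide +kernel

theorem m2_826 : allRange 77644 94 (fun u => chkFix tab mwordsA u) = true := by decide +kernel

theorem m2_827 : allRange 77738 94 (fun u => chkFix tab mwordsA u) = true := by decide +kernel


end Cfsg.Agent.Helper9.TCData.HeA0
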