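import Cfsg.Agent.Lib.Helper9.TCData.HeA0.Main

set_option autoImplicit false
set_option maxRecDepth 1000000

namespace Cfsg.Agent.Helper9.TCData.HeA0
open Cfsg.Agent.Helper9.TC2

theorem m2_828 : allRange 77832 94 (fun u => chkFix tab mwordsA u) = true := by decide +kernel

theorem m2_829 : allRange 77926 94 (fun u => chkFix tab mwordsA u) = true := by decide +kernel

theorem m2_830 : allRange 78020 94 (fun u => chkFix tab mwordsA u) = true := by decide +kernel

theorem m2_831 : allRange 78114 94 (fun u => chkFix tab mwordsA u) = true := by decide +kernel

theorem m2_832 : allRange 78208 94 (fun u => chkFix tab mwordsA u) = true := by decide +kernel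

theorem m2_833 : allRange 78302 94 (fun u => chkFix tab mwordsA u) = true := by decide +kernel

theorem m2_834 : allRange 78396 94 (fun u => chkFix tab mwordsA u) = true := by decide +kernel

theorem m2_835 : allRange 78490 94 (fun u => chkFix tab mwordsA u) = true := by decide +kernel


end Cfsg.Agent.Helper9.TCData.HeA0
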