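import Cfsg.Agent.Lib.Helper9.TCData.HeA0.Main

set_option autoImplicit false
set_option maxRecDepth 1000000

namespace Cfsg.Agent.Helper9.TCData.HeA0
open Cfsg.Agent.Helper9.TC2

theorem e2_74 : allRange 182809 2198 (fun u => chkE tab 2 u) = true := by decide +kernel

theorem e2_75 : allRange 185007 2233 (fun u => chkE tab 2 u) = true := by decide +kernel

theorem e2_76 : allRange 187240 2247 (fun u => chkE tab 2 u) = true := by decide +kernel

theorem e2_77 : allRange 189487 2306 (fun u => chkE tab 2 u) = true := by decide +kernel

theorem e2_78 : allRange 191793 2160 (fun u => chkE tab 2 u) = true := by decide +kernel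

theorem e2_79 : allRange 193953 2144 (fun u => chkE tab 2 u) = true := by decide +kernel

theorem e2_80 : allRange 196097 2278 (fun u => chkE tab 2 u) = true := by decide +kernel

theorem e2_81 : allRange 198375 2328 (fun u => chkE tab 2 u) = true := by decide +kernel


end Cfsg.Agent.Helper9.TCData.HeA0
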