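import Cfsg.Agent.Lib.Helper9.TCData.HeA0.Main

set_option autoImplicit false
set_option maxRecDepth 1000000

namespace Cfsg.Agent.Helper9.TCData.HeA0
open Cfsg.Agent.Helper9.TC2

theorem m2_876 : allRange 82344 94 (fun u => chkFix tab mwordsA u) = true := by decide +kernel

theorem m2_877 : allRange 82438 94 (fun u => chkFix tab mwordsA u) = true := by decide +kernel

theorem m2_878 : allRange 82532 94 (fun u => chkFix tab mwordsA u) = true := by decide +kernel

theorem m2_879 : allRange 82626 94 (fun u => chkFix tab mwordsA u) = true := by decide +kernel

theorem m2_880 : allRange 82720 94 (fun u => chkFix tab mwordsA u) = true := by decide +kernel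

theorem m2_881 : allRange 82814 94 (fun u => chkFix tab mwordsA u) = true := by decide +kernel

theorem m2_882 : allRange 82908 94 (fun u => chkFix tab mwordsA u) = true := by decide +kernel

theorem m2_883 : allRange 83002 94 (fun u => chkFix tab mwordsA u) = true := by decide +kernel


end Cfsg.Agent.Helper9.TCData.HeA0
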