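import Cfsg.Agent.Lib.Helper9.TCData.HeA0.Main

set_option autoImplicit false
set_option maxRecDepth 1000000

namespace Cfsg.Agent.Helper9.TCData.HeA0
open Cfsg.Agent.Helper9.TC2

theorem m2_884 : allRange 83096 94 (fun u => chkFix tab mwordsA u) = true := by decide +kernel

theorem m2_885 : allRange 83190 94 (fun u => chkFix tab mwordsA u) = true := by decide +kernel

theorem m2_886 : allRange 83284 94 (fun u => chkFix tab mwordsA u) = true := by decide +kernel

theorem m2_887 : allRange 83378 94 (fun u => chkFix tab mwordsA u) = true := by decide +kernel

theorem m2_888 : allRange 83472 94 (fun u => chkFix tab mwordsA u) = true := by decide +kernel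

theorem m2_889 : allRange 83566 94 (fun u => chkFix tab mwordsA u) = true := by decide +kernel

theorem m2_890 : allRange 83660 94 (fun u => chkFix tab mwordsA u) = true := by decide +kernel

theorem m2_891 : allRange 83754 94 (fun u => chkFix tab mwordsA u) = true := by decide +kernel


end Cfsg.Agent.Helper9.TCData.HeA0
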