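import Cfsg.Agent.Lib.Helper9.TCData.HeA0.Main

set_option autoImplicit false
set_option maxRecDepth 1000000

namespace Cfsg.Agent.Helper9.TCData.HeA0
open Cfsg.Agent.Helper9.TC2

theorem e2_82 : allRange 200703 2218 (fun u => chkE tab 2 u) = true := by decide +kernel

theorem e2_83 : allRange 202921 2196 (fun u => chkE tab 2 u) = true := by decide +kernel

theorem e2_84 : allRange 205117 2278 (fun u => chkE tab 2 u) = true := by decide +kernel

theorem e2_85 : allRange 207395 2266 (fun u => chkE tab 2 u) = true := by decide +kernel

theorem e2_86 : allRange 209661 2248 (fun u => chkE tab 2 u) = true := by decide +kernel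

theorem e2_87 : allRange 211909 2298 (fun u => chkE tab 2 u) = true := by decide +kernel

theorem e2_88 : allRange 214207 2258 (fun u => chkE tab 2 u) = true := by decide +kernel

theorem e2_89 : allRange 216465 2351 (fun u => chkE tab 2 u) = true := by decide +kernel


end Cfsg.Agent.Helper9.TCData.HeA0
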