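import Cfsg.Agent.Lib.Helper9.TCData.HeA0.Main

set_option autoImplicit false
set_option maxRecDepth 1000000

namespace Cfsg.Agent.Helper9.TCData.HeA0
open Cfsg.Agent.Helper9.TC2

theorem m2_932 : allRange 87608 94 (fun u => chkFix tab mwordsA u) = true := by decide +kernel

theorem m2_933 : allRange 87702 94 (fun u => chkFix tab mwordsA u) = true := by decide +kernel

theorem m2_934 : allRange 87796 94 (fun u => chkFix tab mwordsA u) = true := by decide +kernel

theorem m2_935 : allRange 87890 94 (fun u => chkFix tab mwordsA u) = true := by decide +kernel

theorem m2_936 : allRange 87984 94 (fun u => chkFix tab mwordsA u) = true := by decide +kernel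

theorem m2_937 : allRange 88078 94 (fun u => chkFix tab mwordsA u) = true := by decide +kernel

theorem m2_938 : allRange 88172 94 (fun u => chkFix tab mwordsA u) = true := by decide +kernel

theorem m2_939 : allRange 88266 94 (fun u => chkFix tab mwordsA u) = true := by decide +kernel


end Cfsg.Agent.Helper9.TCData.HeA0
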