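import Cfsg.Agent.Lib.Helper9.TCData.HeA0.Main

set_option autoImplicit false
set_option maxRecDepth 1000000

namespace Cfsg.Agent.Helper9.TCData.HeA0
open Cfsg.Agent.Helper9.TC2

theorem m2_948 : allRange 89112 94 (fun u => chkFix tab mwordsA u) = true := by decide +kernel

theorem m2_949 : allRange 89206 94 (fun u => chkFix tab mwordsA u) = true := by decide +kernel

theorem m2_950 : allRange 89300 94 (fun u => chkFix tab mwordsA u) = true := by decide +kernel

theorem m2_951 : allRange 89394 94 (fun u => chkFix tab mwordsA u) = true := by decide +kernel

theorem m2_952 : allRange 89488 94 (fun u => chkFix tab mwordsA u) = true := by decide +kernel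

theorem m2_953 : allRange 89582 94 (fun u => chkFix tab mwordsA u) = true := by decide +kernel

theorem m2_954 : allRange 89676 94 (fun u => chkFix tab mwordsA u) = true := by decide +kernel

theorem m2_955 : allRange 89770 94 (fun u => chkFix tab mwordsA u) = true := by decide +kernel


end Cfsg.Agent.Helper9.TCData.HeA0
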