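import Cfsg.Agent.Lib.Helper9.TCData.HeA0.Main

set_option autoImplicit false
set_option maxRecDepth 1000000

namespace Cfsg.Agent.Helper9.TCData.HeA0
open Cfsg.Agent.Helper9.TC2

theorem m2_956 : allRange 89864 94 (fun u => chkFix tab mwordsA u) = true := by decide +kernel

theorem m2_957 : allRange 89958 94 (fun u => chkFix tab mwordsA u) = true := by decide +kernel

theorem m2_958 : allRange 90052 94 (fun u => chkFix tab mwordsA u) = true := by decide +kernel

theorem m2_959 : allRange 90146 94 (fun u => chkFix tab mwordsA u) = true := by decide +kernel

theorem m2_960 : allRange 90240 94 (fun u => chkFix tab mwordsA u) = true := by decide +kernel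

theorem m2_961 : allRange 90334 94 (fun u => chkFix tab mwordsA u) = true := by decide +kernel

theorem m2_962 : allRange 90428 94 (fun u => chkFix tab mwordsA u) = true := by decide +kernel

theorem m2_963 : allRange 90522 94 (fun u => chkFix tab mwordsA u) = true := by decide +kernel


end Cfsg.Agent.Helper9.TCData.HeA0
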