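import Cfsg.Agent.Lib.Helper9.TCData.HeA0.Main

set_option autoImplicit false
set_option maxRecDepth 1000000

namespace Cfsg.Agent.Helper9.TCData.HeA0
open Cfsg.Agent.Helper9.TC2

theorem m2_964 : allRange 90616 94 (fun u => chkFix tab mwordsA u) = true := by decide +kernel

theorem m2_965 : allRange 90710 94 (fun u => chkFix tab mwordsA u) = true := by decide +kernel

theorem m2_966 : allRange 90804 94 (fun u => chkFix tab mwordsA u) = true := by decide +kernel

theorem m2_967 : allRange 90898 94 (fun u => chkFix tab mwordsA u) = true := by decide +kernel

theorem m2_968 : allRange 90992 94 (fun u => chkFix tab mwordsA u) = true := by decide +kernel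

theorem m2_969 : allRange 91086 94 (fun u => chkFix tab mwordsA u) = true := by decide +kernel

theorem m2_970 : allRange 91180 94 (fun u => chkFix tab mwordsA u) = true := by decide +kernel

theorem m2_971 : allRange 91274 94 (fun u => chkFix tab mwordsA u) = true := by decide +kernel


end Cfsg.Agent.Helper9.TCData.HeA0
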