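import Cfsg.Agent.Lib.Helper9.TCData.HeA0.Main

set_option autoImplicit false
set_option maxRecDepth 1000000

namespace Cfsg.Agent.Helper9.TCData.HeA0
open Cfsg.Agent.Helper9.TC2

theorem m2_1012 : allRange 95128 94 (fun u => chkFix tab mwordsA u) = true := by decide +kernel

theorem m2_1013 : allRange 95222 94 (fun u => chkFix tab mwordsA u) = true := by decide +kernel

theorem m2_1014 : allRange 95316 94 (fun u => chkFix tab mwordsA u) = true := by decide +kernel

theorem m2_1015 : allRange 95410 94 (fun u => chkFix tab mwordsA u) = true := by decide +kernel

theorem m2_1016 : allRange 95504 94 (fun u => chkFix tab mwordsA u) = true := by decide +kernel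

theorem m2_1017 : allRange 95598 94 (fun u => chkFix tab mwordsA u) = true := by decide +kernel

theorem m2_1018 : allRange 95692 94 (fun u => chkFix tab mwordsA u) = true := by decide +kernel

theorem m2_1019 : allRange 95786 94 (fun u => chkFix tab mwordsA u) = true := by decide +kernel


end Cfsg.Agent.Helper9.TCData.HeA0
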