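import Cfsg.Agent.Lib.Helper9.TCData.HeA0.Main

set_option autoImplicit false
set_option maxRecDepth 1000000

namespace Cfsg.Agent.Helper9.TCData.HeA0
open Cfsg.Agent.Helper9.TC2

theorem m2_1044 : allRange 98136 94 (fun u => chkFix tab mwordsA u) = true := by decide +kernel

theorem m2_1045 : allRange 98230 94 (fun u => chkFix tab mwordsA u) = true := by decide +kernel

theorem m2_1046 : allRange 98324 94 (fun u => chkFix tab mwordsA u) = true := by decide +kernel

theorem m2_1047 : allRange 98418 94 (fun u => chkFix tab mwordsA u) = true := by decide +kernel

theorem m2_1048 : allRange 98512 94 (fun u => chkFix tab mwordsA u) = true := by decide +kernel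

theorem m2_1049 : allRange 98606 94 (fun u => chkFix tab mwordsA u) = true := by decide +kernel

theorem m2_1050 : allRange 98700 94 (fun u => chkFix tab mwordsA u) = true := by decide +kernel

theorem m2_1051 : allRange 98794 94 (fun u => chkFix tab mwordsA u) = true := by decide +kernel


end Cfsg.Agent.Helper9.TCData.HeA0
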