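import Cfsg.Agent.Lib.Helper9.TCData.HeA0.Main

set_option autoImplicit false
set_option maxRecDepth 1000000

namespace Cfsg.Agent.Helper9.TCData.HeA0
open Cfsg.Agent.Helper9.TC2

theorem m2_1052 : allRange 98888 94 (fun u => chkFix tab mwordsA u) = true := by decide +kernel

theorem m2_1053 : allRange 98982 94 (fun u => chkFix tab mwordsA u) = true := by decide +kernel

theorem m2_1054 : allRange 99076 94 (fun u => chkFix tab mwordsA u) = true := by decide +kernel

theorem m2_1055 : allRange 99170 94 (fun u => chkFix tab mwordsA u) = true := by decide +kernel

theorem m2_1056 : allRange 99264 94 (fun u => chkFix tab mwordsA u) = true := by decide +kernel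

theorem m2_1057 : allRange 99358 94 (fun u => chkFix tab mwordsA u) = true := by decide +kernel

theorem m2_1058 : allRange 99452 94 (fun u => chkFix tab mwordsA u) = true := by decide +kernel

theorem m2_1059 : allRange 99546 94 (fun u => chkFix tab mwordsA u) = true := by decide +kernel


end Cfsg.Agent.Helper9.TCData.HeA0
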