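import Cfsg.Agent.Lib.Helper9.TCData.HeA0.Main

set_option autoImplicit false
set_option maxRecDepth 1000000

namespace Cfsg.Agent.Helper9.TCData.HeA0
open Cfsg.Agent.Helper9.TC2

theorem m2_1060 : allRange 99640 94 (fun u => chkFix tab mwordsA u) = true := by decide +kernel

theorem m2_1061 : allRange 99734 94 (fun u => chkFix tab mwordsA u) = true := by decide +kernel

theorem m2_1062 : allRange 99828 94 (fun u => chkFix tab mwordsA u) = true := by decide +kernel

theorem m2_1063 : allRange 99922 94 (fun u => chkFix tab mwordsA u) = true := by decide +kernel

theorem m2_1064 : allRange 100016 94 (fun u => chkFix tab mwordsA u) = true := by decide +kernel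

theorem m2_1065 : allRange 100110 94 (fun u => chkFix tab mwordsA u) = true := by decide +kernel

theorem m2_1066 : allRange 100204 94 (fun u => chkFix tab mwordsA u) = true := by decide +kernel

theorem m2_1067 : allRange 100298 94 (fun u => chkFix tab mwordsA u) = true := by decide +kernel


end Cfsg.Agent.Helper9.TCData.HeA0
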