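import Cfsg.Agent.Lib.Helper9.TCData.HeA0.Main

set_option autoImplicit false
set_option maxRecDepth 1000000

namespace Cfsg.Agent.Helper9.TCData.HeA0
open Cfsg.Agent.Helper9.TC2

theorem e2_98 : allRange 237365 2351 (fun u => chkE tab 2 u) = true := by decide +kernel

theorem e2_99 : allRange 239716 2498 (fun u => chkE tab 2 u) = true := by decide +kernel

theorem e2_100 : allRange 242214 2557 (fun u => chkE tab 2 u) = true := by decide +kernel

theorem e2_101 : allRange 244771 2517 (fun u => chkE tab 2 u) = true := by decide +kernel

theorem e2_102 : allRange 247288 2438 (fun u => chkE tab 2 u) = true := by decide +kernel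

theorem e2_103 : allRange 249726 2568 (fun u => chkE tab 2 u) = true := by decide +kernel

theorem e2_104 : allRange 252294 2525 (fun u => chkE tab 2 u) = true := by decide +kernel

theorem e2_105 : allRange 254819 2648 (fun u => chkE tab 2 u) = true := by decide +kernel


end Cfsg.Agent.Helper9.TCData.HeA0
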