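import Cfsg.Agent.Lib.Helper9.TCData.HeA0.Main

set_option autoImplicit false
set_option maxRecDepth 1000000

namespace Cfsg.Agent.Helper9.TCData.HeA0
open Cfsg.Agent.Helper9.TC2

theorem m2_1116 : allRange 104904 94 (fun u => chkFix tab mwordsA u) = true := by decide +kernel

theorem m2_1117 : allRange 104998 94 (fun u => chkFix tab mwordsA u) = true := by decide +kernel

theorem m2_1118 : allRange 105092 94 (fun u => chkFix tab mwordsA u) = true := by decide +kernel

theorem m2_1119 : allRange 105186 94 (fun u => chkFix tab mwordsA u) = true := by decide +kernel

theorem m2_1120 : allRange 105280 94 (fun u => chkFix tab mwordsA u) = true := by decide +kernel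

theorem m2_1121 : allRange 105374 94 (fun u => chkFix tab mwordsA u) = true := by decide +kernel

theorem m2_1122 : allRange 105468 94 (fun u => chkFix tab mwordsA u) = true := by decide +kernel

theorem m2_1123 : allRange 105562 94 (fun u => chkFix tab mwordsA u) = true := by decide +kernel


end Cfsg.Agent.Helper9.TCData.HeA0
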