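import Cfsg.Agent.Lib.Helper9.TCData.HeA0.Main

set_option autoImplicit false
set_option maxRecDepth 1000000

namespace Cfsg.Agent.Helper9.TCData.HeA0
open Cfsg.Agent.Helper9.TC2

theorem m2_1132 : allRange 106408 94 (fun u => chkFix tab mwordsA u) = true := by decide +kernel

theorem m2_1133 : allRange 106502 94 (fun u => chkFix tab mwordsA u) = true := by decide +kernel

theorem m2_1134 : allRange 106596 94 (fun u => chkFix tab mwordsA u) = true := by decide +kernel

theorem m2_1135 : allRange 106690 94 (fun u => chkFix tab mwordsA u) = true := by decide +kernel

theorem m2_1136 : allRange 106784 94 (fun u => chkFix tab mwordsA u) = true := by decide +kernel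

theorem m2_1137 : allRange 106878 94 (fun u => chkFix tab mwordsA u) = true := by decide +kernel

theorem m2_1138 : allRange 106972 94 (fun u => chkFix tab mwordsA u) = true := by decide +kernel

theorem m2_1139 : allRange 107066 94 (fun u => chkFix tab mwordsA u) = true := by decide +kernel


end Cfsg.Agent.Helper9.TCData.HeA0
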