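import Cfsg.Agent.Lib.Helper9.TCData.HeA0.Main

set_option autoImplicit false
set_option maxRecDepth 1000000

namespace Cfsg.Agent.Helper9.TCData.HeA0
open Cfsg.Agent.Helper9.TC2

theorem m2_1156 : allRange 108664 94 (fun u => chkFix tab mwordsA u) = true := by decide +kernel

theorem m2_1157 : allRange 108758 94 (fun u => chkFix tab mwordsA u) = true := by decide +kernel

theorem m2_1158 : allRange 108852 94 (fun u => chkFix tab mwordsA u) = true := by decide +kernel

theorem m2_1159 : allRange 108946 94 (fun u => chkFix tab mwordsA u) = true := by decide +kernel

theorem m2_1160 : allRange 109040 94 (fun u => chkFix tab mwordsA u) = true := by decide +kernel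

theorem m2_1161 : allRange 109134 94 (fun u => chkFix tab mwordsA u) = true := by decide +kernel

theorem m2_1162 : allRange 109228 94 (fun u => chkFix tab mwordsA u) = true := by decide +kernel

theorem m2_1163 : allRange 109322 94 (fun u => chkFix tab mwordsA u) = true := by decide +kernel


end Cfsg.Agent.Helper9.TCData.HeA0
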