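import Cfsg.Agent.Lib.Helper9.TCData.HeA0.Main

set_option autoImplicit false
set_option maxRecDepth 1000000

namespace Cfsg.Agent.Helper9.TCData.HeA0
open Cfsg.Agent.Helper9.TC2

theorem e2_106 : allRange 257467 2506 (fun u => chkE tab 2 u) = true := by decide +kernel

theorem e2_107 : allRange 259973 2734 (fun u => chkE tab 2 u) = true := by decide +kernel

theorem e2_108 : allRange 262707 3062 (fun u => chkE tab 2 u) = true := by decide +kernel

theorem e2_109 : allRange 265769 3121 (fun u => chkE tab 2 u) = true := by decide +kernel

theorem e2_110 : allRange 268890 337 (fun u => chkE tab 2 u) = true := by decide +kernel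

theorem e3_0 : allRange 0 3922 (fun u => chkE tab 3 u) = true := by decide +kernel

theorem e3_1 : allRange 3922 4022 (fun u => chkE tab 3 u) = true := by decide +kernel

theorem e3_2 : allRange 7944 3650 (fun u => chkE tab 3 u) = true := by decide +kernel


end Cfsg.Agent.Helper9.TCData.HeA0
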