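import Cfsg.Agent.Lib.Helper9.TCData.HeA0.Main

set_option autoImplicit false
set_option maxRecDepth 1000000

namespace Cfsg.Agent.Helper9.TCData.HeA0
open Cfsg.Agent.Helper9.TC2

theorem m2_1180 : allRange 110920 94 (fun u => chkFix tab mwordsA u) = true := by decide +kernel

theorem m2_1181 : allRange 111014 94 (fun u => chkFix tab mwordsA u) = true := by decide +kernel

theorem m2_1182 : allRange 111108 94 (fun u => chkFix tab mwordsA u) = true := by decide +kernel

theorem m2_1183 : allRange 111202 94 (fun u => chkFix tab mwordsA u) = true := by decide +kernel

theorem m2_1184 : allRange 111296 94 (fun u => chkFix tab mwordsA u) = true := by decide +kernel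

theorem m2_1185 : allRange 111390 94 (fun u => chkFix tab mwordsA u) = true := by decide +kernel

theorem m2_1186 : allRange 111484 94 (fun u => chkFix tab mwordsA u) = true := by decide +kernel

theorem m2_1187 : allRange 111578 94 (fun u => chkFix tab mwordsA u) = true := by decide +kernel


end Cfsg.Agent.Helper9.TCData.HeA0
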