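import Cfsg.Agent.Lib.Helper9.TCData.HeA0.Main

set_option autoImplicit false
set_option maxRecDepth 1000000

namespace Cfsg.Agent.Helper9.TCData.HeA0
open Cfsg.Agent.Helper9.TC2

theorem m2_1196 : allRange 112424 94 (fun u => chkFix tab mwordsA u) = true := by decide +kernel

theorem m2_1197 : allRange 112518 94 (fun u => chkFix tab mwordsA u) = true := by decide +kernel

theorem m2_1198 : allRange 112612 94 (fun u => chkFix tab mwordsA u) = true := by decide +kernel

theorem m2_1199 : allRange 112706 94 (fun u => chkFix tab mwordsA u) = true := by decide +kernel

theorem m2_1200 : allRange 112800 94 (fun u => chkFix tab mwordsA u) = true := by decide +kernel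

theorem m2_1201 : allRange 112894 94 (fun u => chkFix tab mwordsA u) = true := by decide +kernel

theorem m2_1202 : allRange 112988 94 (fun u => chkFix tab mwordsA u) = true := by decide +kernel

theorem m2_1203 : allRange 113082 94 (fun u => chkFix tab mwordsA u) = true := by decide +kernel


end Cfsg.Agent.Helper9.TCData.HeA0
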