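import Cfsg.Agent.Lib.Helper9.TCData.HeA0.Main

set_option autoImplicit false
set_option maxRecDepth 1000000

namespace Cfsg.Agent.Helper9.TCData.HeA0
open Cfsg.Agent.Helper9.TC2

theorem m2_1236 : allRange 116184 94 (fun u => chkFix tab mwordsA u) = true := by decide +kernel

theorem m2_1237 : allRange 116278 94 (fun u => chkFix tab mwordsA u) = true := by decide +kernel

theorem m2_1238 : allRange 116372 94 (fun u => chkFix tab mwordsA u) = true := by decide +kernel

theorem m2_1239 : allRange 116466 94 (fun u => chkFix tab mwordsA u) = true := by decide +kernel

theorem m2_1240 : allRange 116560 94 (fun u => chkFix tab mwordsA u) = true := by decide +kernel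

theorem m2_1241 : allRange 116654 94 (fun u => chkFix tab mwordsA u) = true := by decide +kernel

theorem m2_1242 : allRange 116748 94 (fun u => chkFix tab mwordsA u) = true := by decide +kernel

theorem m2_1243 : allRange 116842 94 (fun u => chkFix tab mwordsA u) = true := by decide +kernel


end Cfsg.Agent.Helper9.TCData.HeA0
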