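import Cfsg.Agent.Lib.Helper9.TCData.HeA0.Main

set_option autoImplicit false
set_option maxRecDepth 1000000

namespace Cfsg.Agent.Helper9.TCData.HeA0
open Cfsg.Agent.Helper9.TC2

theorem e3_3 : allRange 11594 3923 (fun u => chkE tab 3 u) = true := by decide +kernel

theorem e3_4 : allRange 15517 3506 (fun u => chkE tab 3 u) = true := by decide +kernel

theorem e3_5 : allRange 19023 3866 (fun u => chkE tab 3 u) = true := by decide +kernel

theorem e3_6 : allRange 22889 3680 (fun u => chkE tab 3 u) = true := by decide +kernel

theorem e3_7 : allRange 26569 3259 (fun u => chkE tab 3 u) = true := by decide +kernel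

theorem e3_8 : allRange 29828 3367 (fun u => chkE tab 3 u) = true := by decide +kernel

theorem e3_9 : allRange 33195 3398 (fun u => chkE tab 3 u) = true := by decide +kernel

theorem e3_10 : allRange 36593 3089 (fun u => chkE tab 3 u) = true := by decide +kernel


end Cfsg.Agent.Helper9.TCData.HeA0
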