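import Cfsg.Agent.Lib.Helper9.TCData.HeA0.Main

set_option autoImplicit false
set_option maxRecDepth 1000000

namespace Cfsg.Agent.Helper9.TCData.HeA0
open Cfsg.Agent.Helper9.TC2

theorem m2_1252 : allRange 117688 94 (fun u => chkFix tab mwordsA u) = true := by decide +kernel

theorem m2_1253 : allRange 117782 94 (fun u => chkFix tab mwordsA u) = true := by decide +kernel

theorem m2_1254 : allRange 117876 94 (fun u => chkFix tab mwordsA u) = true := by decide +kernel

theorem m2_1255 : allRange 117970 94 (fun u => chkFix tab mwordsA u) = true := by decide +kernel

theorem m2_1256 : allRange 118064 94 (fun u => chkFix tab mwordsA u) = true := by decide +kernel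

theorem m2_1257 : allRange 118158 94 (fun u => chkFix tab mwordsA u) = true := by decide +kernel

theorem m2_1258 : allRange 118252 94 (fun u => chkFix tab mwordsA u) = true := by decide +kernel

theorem m2_1259 : allRange 118346 94 (fun u => chkFix tab mwordsA u) = true := by decide +kernel


end Cfsg.Agent.Helper9.TCData.HeA0
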