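import Cfsg.Agent.Lib.Helper9.TCData.HeA0.Main

set_option autoImplicit false
set_option maxRecDepth 1000000

namespace Cfsg.Agent.Helper9.TCData.HeA0
open Cfsg.Agent.Helper9.TC2

theorem m2_1268 : allRange 119192 94 (fun u => chkFix tab mwordsA u) = true := by decide +kernel

theorem m2_1269 : allRange 119286 94 (fun u => chkFix tab mwordsA u) = true := by decide +kernel

theorem m2_1270 : allRange 119380 94 (fun u => chkFix tab mwordsA u) = true := by decide +kernel

theorem m2_1271 : allRange 119474 94 (fun u => chkFix tab mwordsA u) = true := by decide +kernel

theorem m2_1272 : allRange 119568 94 (fun u => chkFix tab mwordsA u) = true := by decide +kernel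

theorem m2_1273 : allRange 119662 94 (fun u => chkFix tab mwordsA u) = true := by decide +kernel

theorem m2_1274 : allRange 119756 94 (fun u => chkFix tab mwordsA u) = true := by decide +kernel

theorem m2_1275 : allRange 119850 94 (fun u => chkFix tab mwordsA u) = true := by decide +kernel


end Cfsg.Agent.Helper9.TCData.HeA0
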