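import Cfsg.Agent.Lib.Helper9.TCData.HeA0.Main

set_option autoImplicit false
set_option maxRecDepth 1000000

namespace Cfsg.Agent.Helper9.TCData.HeA0
open Cfsg.Agent.Helper9.TC2

theorem m2_1276 : allRange 119944 94 (fun u => chkFix tab mwordsA u) = true := by decide +kernel

theorem m2_1277 : allRange 120038 94 (fun u => chkFix tab mwordsA u) = true := by decide +kernel

theorem m2_1278 : allRange 120132 94 (fun u => chkFix tab mwordsA u) = true := by decide +kernel

theorem m2_1279 : allRange 120226 94 (fun u => chkFix tab mwordsA u) = true := by decide +kernel

theorem m2_1280 : allRange 120320 94 (fun u => chkFix tab mwordsA u) = true := by decide +kernel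

theorem m2_1281 : allRange 120414 94 (fun u => chkFix tab mwordsA u) = true := by decide +kernel

theorem m2_1282 : allRange 120508 94 (fun u => chkFix tab mwordsA u) = true := by decide +kernel

theorem m2_1283 : allRange 120602 94 (fun u => chkFix tab mwordsA u) = true := by decide +kernel


end Cfsg.Agent.Helper9.TCData.HeA0
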