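import Cfsg.Agent.Lib.Helper9.TCData.HeA0.Main

set_option autoImplicit false
set_option maxRecDepth 1000000

namespace Cfsg.Agent.Helper9.TCData.HeA0
open Cfsg.Agent.Helper9.TC2

theorem m2_1308 : allRange 122952 94 (fun u => chkFix tab mwordsA u) = true := by decide +kernel

theorem m2_1309 : allRange 123046 94 (fun u => chkFix tab mwordsA u) = true := by decide +kernel

theorem m2_1310 : allRange 123140 94 (fun u => chkFix tab mwordsA u) = true := by decide +kernel

theorem m2_1311 : allRange 123234 94 (fun u => chkFix tab mwordsA u) = true := by decide +kernel

theorem m2_1312 : allRange 123328 94 (fun u => chkFix tab mwordsA u) = true := by decide +kernel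

theorem m2_1313 : allRange 123422 94 (fun u => chkFix tab mwordsA u) = true := by decide +kernel

theorem m2_1314 : allRange 123516 94 (fun u => chkFix tab mwordsA u) = true := by decide +kernel

theorem m2_1315 : allRange 123610 94 (fun u => chkFix tab mwordsA u) = true := by decide +kernel


end Cfsg.Agent.Helper9.TCData.HeA0
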