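import Cfsg.Agent.Lib.Helper9.TCData.HeA0.Main

set_option autoImplicit false
set_option maxRecDepth 1000000

namespace Cfsg.Agent.Helper9.TCData.HeA0
open Cfsg.Agent.Helper9.TC2

theorem m2_1324 : allRange 124456 94 (fun u => chkFix tab mwordsA u) = true := by decide +kernel

theorem m2_1325 : allRange 124550 94 (fun u => chkFix tab mwordsA u) = true := by decide +kernel

theorem m2_1326 : allRange 124644 94 (fun u => chkFix tab mwordsA u) = true := by decide +kernel

theorem m2_1327 : allRange 124738 94 (fun u => chkFix tab mwordsA u) = true := by decide +kernel

theorem m2_1328 : allRange 124832 94 (fun u => chkFix tab mwordsA u) = true := by decide +kernel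

theorem m2_1329 : allRange 124926 94 (fun u => chkFix tab mwordsA u) = true := by decide +kernel

theorem m2_1330 : allRange 125020 94 (fun u => chkFix tab mwordsA u) = true := by decide +kernel

theorem m2_1331 : allRange 125114 94 (fun u => chkFix tab mwordsA u) = true := by decide +kernel


end Cfsg.Agent.Helper9.TCData.HeA0
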