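import Cfsg.Agent.Lib.Helper9.TCData.HeA0.Main

set_option autoImplicit false
set_option maxRecDepth 1000000

namespace Cfsg.Agent.Helper9.TCData.HeA0
open Cfsg.Agent.Helper9.TC2

theorem e3_11 : allRange 39682 2989 (fun u => chkE tab 3 u) = true := by decide +kernel

theorem e3_12 : allRange 42671 2927 (fun u => chkE tab 3 u) = true := by decide +kernel

theorem e3_13 : allRange 45598 3162 (fun u => chkE tab 3 u) = true := by decide +kernel

theorem e3_14 : allRange 48760 2857 (fun u => chkE tab 3 u) = true := by decide +kernel

theorem e3_15 : allRange 51617 2767 (fun u => chkE tab 3 u) = true := by decide +kernel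

theorem e3_16 : allRange 54384 2988 (fun u => chkE tab 3 u) = true := by decide +kernel

theorem e3_17 : allRange 57372 2828 (fun u => chkE tab 3 u) = true := by decide +kernel

theorem e3_18 : allRange 60200 2731 (fun u => chkE tab 3 u) = true := by decide +kernel


end Cfsg.Agent.Helper9.TCData.HeA0
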