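import Cfsg.Agent.Lib.Helper9.TCData.HeA0.Main

set_option autoImplicit false
set_option maxRecDepth 1000000

namespace Cfsg.Agent.Helper9.TCData.HeA0
open Cfsg.Agent.Helper9.TC2

theorem m2_1372 : allRange 128968 94 (fun u => chkFix tab mwordsA u) = true := by decide +kernel

theorem m2_1373 : allRange 129062 94 (fun u => chkFix tab mwordsA u) = true := by decide +kernel

theorem m2_1374 : allRange 129156 94 (fun u => chkFix tab mwordsA u) = true := by decide +kernel

theorem m2_1375 : allRange 129250 94 (fun u => chkFix tab mwordsA u) = true := by decide +kernel

theorem m2_1376 : allRange 129344 94 (fun u => chkFix tab mwordsA u) = true := by decide +kernel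

theorem m2_1377 : allRange 129438 94 (fun u => chkFix tab mwordsA u) = true := by decide +kernel

theorem m2_1378 : allRange 129532 94 (fun u => chkFix tab mwordsA u) = true := by decide +kernel

theorem m2_1379 : allRange 129626 94 (fun u => chkFix tab mwordsA u) = true := by decide +kernel


end Cfsg.Agent.Helper9.TCData.HeA0
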