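import Cfsg.Agent.Lib.Helper9.TCData.HeA0.Main

set_option autoImplicit false
set_option maxRecDepth 1000000

namespace Cfsg.Agent.Helper9.TCData.HeA0
open Cfsg.Agent.Helper9.TC2

theorem m2_1388 : allRange 130472 94 (fun u => chkFix tab mwordsA u) = true := by decide +kernel

theorem m2_1389 : allRange 130566 94 (fun u => chkFix tab mwordsA u) = true := by decide +kernel

theorem m2_1390 : allRange 130660 94 (fun u => chkFix tab mwordsA u) = true := by decide +kernel

theorem m2_1391 : allRange 130754 94 (fun u => chkFix tab mwordsA u) = true := by decide +kernel

theorem m2_1392 : allRange 130848 94 (fun u => chkFix tab mwordsA u) = true := by decide +kernel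

theorem m2_1393 : allRange 130942 94 (fun u => chkFix tab mwordsA u) = true := by decide +kernel

theorem m2_1394 : allRange 131036 94 (fun u => chkFix tab mwordsA u) = true := by decide +kernel

theorem m2_1395 : allRange 131130 94 (fun u => chkFix tab mwordsA u) = true := by decide +kernel


end Cfsg.Agent.Helper9.TCData.HeA0
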