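import Cfsg.Agent.Lib.Helper9.TCData.HeA0.Main

set_option autoImplicit false
set_option maxRecDepth 1000000

namespace Cfsg.Agent.Helper9.TCData.HeA0
open Cfsg.Agent.Helper9.TC2

theorem m2_1404 : allRange 131976 94 (fun u => chkFix tab mwordsA u) = true := by decide +kernel

theorem m2_1405 : allRange 132070 94 (fun u => chkFix tab mwordsA u) = true := by decide +kernel

theorem m2_1406 : allRange 132164 94 (fun u => chkFix tab mwordsA u) = true := by decide +kernel

theorem m2_1407 : allRange 132258 94 (fun u => chkFix tab mwordsA u) = true := by decide +kernel

theorem m2_1408 : allRange 132352 94 (fun u => chkFix tab mwordsA u) = true := by decide +kernel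

theorem m2_1409 : allRange 132446 94 (fun u => chkFix tab mwordsA u) = true := by decide +kernel

theorem m2_1410 : allRange 132540 94 (fun u => chkFix tab mwordsA u) = true := by decide +kernel

theorem m2_1411 : allRange 132634 94 (fun u => chkFix tab mwordsA u) = true := by decide +kernel


end Cfsg.Agent.Helper9.TCData.HeA0
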