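import Cfsg.Agent.Lib.Helper9.TCData.HeA0.Main

set_option autoImplicit false
set_option maxRecDepth 1000000

namespace Cfsg.Agent.Helper9.TCData.HeA0
open Cfsg.Agent.Helper9.TC2

theorem e3_19 : allRange 62931 3037 (fun u => chkE tab 3 u) = true := by decide +kernel

theorem e3_20 : allRange 65968 2814 (fun u => chkE tab 3 u) = true := by decide +kernel

theorem e3_21 : allRange 68782 2817 (fun u => chkE tab 3 u) = true := by decide +kernel

theorem e3_22 : allRange 71599 2778 (fun u => chkE tab 3 u) = true := by decide +kernel

theorem e3_23 : allRange 74377 3031 (fun u => chkE tab 3 u) = true := by decide +kernel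

theorem e3_24 : allRange 77408 3401 (fun u => chkE tab 3 u) = true := by decide +kernel

theorem e3_25 : allRange 80809 3037 (fun u => chkE tab 3 u) = true := by decide +kernel

theorem e3_26 : allRange 83846 2583 (fun u => chkE tab 3 u) = true := by decide +kernel


end Cfsg.Agent.Helper9.TCData.HeA0
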