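import Cfsg.Agent.Lib.Helper9.TCData.HeA0.Main

set_option autoImplicit false
set_option maxRecDepth 1000000

namespace Cfsg.Agent.Helper9.TCData.HeA0
open Cfsg.Agent.Helper9.TC2

theorem m2_1420 : allRange 133480 94 (fun u => chkFix tab mwordsA u) = true := by decide +kernel

theorem m2_1421 : allRange 133574 94 (fun u => chkFix tab mwordsA u) = true := by decide +kernel

theorem m2_1422 : allRange 133668 94 (fun u => chkFix tab mwordsA u) = true := by decide +kernel

theorem m2_1423 : allRange 133762 94 (fun u => chkFix tab mwordsA u) = true := by decide +kernel

theorem m2_1424 : allRange 133856 94 (fun u => chkFix tab mwordsA u) = true := by decide +kernel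

theorem m2_1425 : allRange 133950 94 (fun u => chkFix tab mwordsA u) = true := by decide +kernel

theorem m2_1426 : allRange 134044 94 (fun u => chkFix tab mwordsA u) = true := by decide +kernel

theorem m2_1427 : allRange 134138 94 (fun u => chkFix tab mwordsA u) = true := by decide +kernel


end Cfsg.Agent.Helper9.TCData.HeA0
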