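import Cfsg.Agent.Lib.Helper9.TCData.HeA0.Main

set_option autoImplicit false
set_option maxRecDepth 1000000

namespace Cfsg.Agent.Helper9.TCData.HeA0
open Cfsg.Agent.Helper9.TC2

theorem m2_1484 : allRange 139496 94 (fun u => chkFix tab mwordsA u) = true := by decide +kernel

theorem m2_1485 : allRange 139590 94 (fun u => chkFix tab mwordsA u) = true := by decide +kernel

theorem m2_1486 : allRange 139684 94 (fun u => chkFix tab mwordsA u) = true := by decide +kernel

theorem m2_1487 : allRange 139778 94 (fun u => chkFix tab mwordsA u) = true := by decide +kernel

theorem m2_1488 : allRange 139872 94 (fun u => chkFix tab mwordsA u) = true := by decide +kernel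

theorem m2_1489 : allRange 139966 94 (fun u => chkFix tab mwordsA u) = true := by decide +kernel

theorem m2_1490 : allRange 140060 94 (fun u => chkFix tab mwordsA u) = true := by decide +kernel

theorem m2_1491 : allRange 140154 94 (fun u => chkFix tab mwordsA u) = true := by decide +kernel


end Cfsg.Agent.Helper9.TCData.HeA0
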