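import Cfsg.Agent.Lib.Helper9.TCData.HeA0.Main

set_option autoImplicit false
set_option maxRecDepth 1000000

namespace Cfsg.Agent.Helper9.TCData.HeA0
open Cfsg.Agent.Helper9.TC2

theorem m2_1508 : allRange 141752 94 (fun u => chkFix tab mwordsA u) = true := by decide +kernel

theorem m2_1509 : allRange 141846 94 (fun u => chkFix tab mwordsA u) = true := by decide +kernel

theorem m2_1510 : allRange 141940 94 (fun u => chkFix tab mwordsA u) = true := by decide +kernel

theorem m2_1511 : allRange 142034 94 (fun u => chkFix tab mwordsA u) = true := by decide +kernel

theorem m2_1512 : allRange 142128 94 (fun u => chkFix tab mwordsA u) = true := by decide +kernel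

theorem m2_1513 : allRange 142222 94 (fun u => chkFix tab mwordsA u) = true := by decide +kernel

theorem m2_1514 : allRange 142316 94 (fun u => chkFix tab mwordsA u) = true := by decide +kernel

theorem m2_1515 : allRange 142410 94 (fun u => chkFix tab mwordsA u) = true := by decide +kernel


end Cfsg.Agent.Helper9.TCData.HeA0
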