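import Cfsg.Agent.Lib.Helper9.TCData.HeA0.Main

set_option autoImplicit false
set_option maxRecDepth 1000000

namespace Cfsg.Agent.Helper9.TCData.HeA0
open Cfsg.Agent.Helper9.TC2

theorem m2_1524 : allRange 143256 94 (fun u => chkFix tab mwordsA u) = true := by decide +kernel

theorem m2_1525 : allRange 143350 94 (fun u => chkFix tab mwordsA u) = true := by decide +kernel

theorem m2_1526 : allRange 143444 94 (fun u => chkFix tab mwordsA u) = true := by decide +kernel

theorem m2_1527 : allRange 143538 94 (fun u => chkFix tab mwordsA u) = true := by decide +kernel

theorem m2_1528 : allRange 143632 94 (fun u => chkFix tab mwordsA u) = true := by decide +kernel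

theorem m2_1529 : allRange 143726 94 (fun u => chkFix tab mwordsA u) = true := by decide +kernel

theorem m2_1530 : allRange 143820 94 (fun u => chkFix tab mwordsA u) = true := by decide +kernel

theorem m2_1531 : allRange 143914 94 (fun u => chkFix tab mwordsA u) = true := by decide +kernel


end Cfsg.Agent.Helper9.TCData.HeA0
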