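import Cfsg.Agent.Lib.Helper9.TCData.HeA0.Main

set_option autoImplicit false
set_option maxRecDepth 1000000

namespace Cfsg.Agent.Helper9.TCData.HeA0
open Cfsg.Agent.Helper9.TC2

theorem m2_1532 : allRange 144008 94 (fun u => chkFix tab mwordsA u) = true := by decide +kernel

theorem m2_1533 : allRange 144102 94 (fun u => chkFix tab mwordsA u) = true := by decide +kernel

theorem m2_1534 : allRange 144196 94 (fun u => chkFix tab mwordsA u) = true := by decide +kernel

theorem m2_1535 : allRange 144290 94 (fun u => chkFix tab mwordsA u) = true := by decide +kernel

theorem m2_1536 : allRange 144384 94 (fun u => chkFix tab mwordsA u) = true := by decide +kernel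

theorem m2_1537 : allRange 144478 94 (fun u => chkFix tab mwordsA u) = true := by decide +kernel

theorem m2_1538 : allRange 144572 94 (fun u => chkFix tab mwordsA u) = true := by decide +kernel

theorem m2_1539 : allRange 144666 94 (fun u => chkFix tab mwordsA u) = true := by decide +kernel


end Cfsg.Agent.Helper9.TCData.HeA0
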