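import Cfsg.Agent.Lib.Helper9.TCData.HeA0.Main

set_option autoImplicit false
set_option maxRecDepth 1000000

namespace Cfsg.Agent.Helper9.TCData.HeA0
open Cfsg.Agent.Helper9.TC2

theorem e3_35 : allRange 110235 3258 (fun u => chkE tab 3 u) = true := by decide +kernel

theorem e3_36 : allRange 113493 3335 (fun u => chkE tab 3 u) = true := by decide +kernel

theorem e3_37 : allRange 116828 3154 (fun u => chkE tab 3 u) = true := by decide +kernel

theorem e3_38 : allRange 119982 3118 (fun u => chkE tab 3 u) = true := by decide +kernel

theorem e3_39 : allRange 123100 2814 (fun u => chkE tab 3 u) = true := by decide +kernel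

theorem e3_40 : allRange 125914 2954 (fun u => chkE tab 3 u) = true := by decide +kernel

theorem e3_41 : allRange 128868 2714 (fun u => chkE tab 3 u) = true := by decide +kernel

theorem e3_42 : allRange 131582 3032 (fun u => chkE tab 3 u) = true := by decide +kernel


end Cfsg.Agent.Helper9.TCData.HeA0
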