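import Cfsg.Agent.Lib.Helper9.TCData.HeA0.Main

set_option autoImplicit false
set_option maxRecDepth 1000000

namespace Cfsg.Agent.Helper9.TCData.HeA0
open Cfsg.Agent.Helper9.TC2

theorem m2_1580 : allRange 148520 94 (fun u => chkFix tab mwordsA u) = true := by decide +kernel

theorem m2_1581 : allRange 148614 94 (fun u => chkFix tab mwordsA u) = true := by decide +kernel

theorem m2_1582 : allRange 148708 94 (fun u => chkFix tab mwordsA u) = true := by decide +kernel

theorem m2_1583 : allRange 148802 94 (fun u => chkFix tab mwordsA u) = true := by decide +kernel

theorem m2_1584 : allRange 148896 94 (fun u => chkFix tab mwordsA u) = true := by decide +kernel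

theorem m2_1585 : allRange 148990 94 (fun u => chkFix tab mwordsA u) = true := by decide +kernel

theorem m2_1586 : allRange 149084 94 (fun u => chkFix tab mwordsA u) = true := by decide +kernel

theorem m2_1587 : allRange 149178 94 (fun u => chkFix tab mwordsA u) = true := by decide +kernel


end Cfsg.Agent.Helper9.TCData.HeA0
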