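import Cfsg.Agent.Lib.Helper9.TCData.HeA0.Main

set_option autoImplicit false
set_option maxRecDepth 1000000

namespace Cfsg.Agent.Helper9.TCData.HeA0
open Cfsg.Agent.Helper9.TC2

theorem m2_1620 : allRange 152280 94 (fun u => chkFix tab mwordsA u) = true := by decide +kernel

theorem m2_1621 : allRange 152374 94 (fun u => chkFix tab mwordsA u) = true := by decide +kernel

theorem m2_1622 : allRange 152468 94 (fun u => chkFix tab mwordsA u) = true := by decide +kernel

theorem m2_1623 : allRange 152562 94 (fun u => chkFix tab mwordsA u) = true := by decide +kernel

theorem m2_1624 : allRange 152656 94 (fun u => chkFix tab mwordsA u) = true := by decide +kernel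

theorem m2_1625 : allRange 152750 94 (fun u => chkFix tab mwordsA u) = true := by decide +kernel

theorem m2_1626 : allRange 152844 94 (fun u => chkFix tab mwordsA u) = true := by decide +kernel

theorem m2_1627 : allRange 152938 94 (fun u => chkFix tab mwordsA u) = true := by decide +kernel


end Cfsg.Agent.Helper9.TCData.HeA0
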