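import Cfsg.Agent.Lib.Helper9.TCData.HeA0.Main

set_option autoImplicit false
set_option maxRecDepth 1000000

namespace Cfsg.Agent.Helper9.TCData.HeA0
open Cfsg.Agent.Helper9.TC2

theorem m2_1636 : allRange 153784 94 (fun u => chkFix tab mwordsA u) = true := by decide +kernel

theorem m2_1637 : allRange 153878 94 (fun u => chkFix tab mwordsA u) = true := by decide +kernel

theorem m2_1638 : allRange 153972 94 (fun u => chkFix tab mwordsA u) = true := by decide +kernel

theorem m2_1639 : allRange 154066 94 (fun u => chkFix tab mwordsA u) = true := by decide +kernel

theorem m2_1640 : allRange 154160 94 (fun u => chkFix tab mwordsA u) = true := by decide +kernel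

theorem m2_1641 : allRange 154254 94 (fun u => chkFix tab mwordsA u) = true := by decide +kernel

theorem m2_1642 : allRange 154348 94 (fun u => chkFix tab mwordsA u) = true := by decide +kernel

theorem m2_1643 : allRange 154442 94 (fun u => chkFix tab mwordsA u) = true := by decide +kernel


end Cfsg.Agent.Helper9.TCData.HeA0
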