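import Cfsg.Agent.Lib.Helper9.TCData.HeA0.Main

set_option autoImplicit false
set_option maxRecDepth 1000000

namespace Cfsg.Agent.Helper9.TCData.HeA0
open Cfsg.Agent.Helper9.TC2

theorem m2_1644 : allRange 154536 94 (fun u => chkFix tab mwordsA u) = true := by decide +kernel

theorem m2_1645 : allRange 154630 94 (fun u => chkFix tab mwordsA u) = true := by decide +kernel

theorem m2_1646 : allRange 154724 94 (fun u => chkFix tab mwordsA u) = true := by decide +kernel

theorem m2_1647 : allRange 154818 94 (fun u => chkFix tab mwordsA u) = true := by decide +kernel

theorem m2_1648 : allRange 154912 94 (fun u => chkFix tab mwordsA u) = true := by decide +kernel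

theorem m2_1649 : allRange 155006 94 (fun u => chkFix tab mwordsA u) = true := by decide +kernel

theorem m2_1650 : allRange 155100 94 (fun u => chkFix tab mwordsA u) = true := by decide +kernel

theorem m2_1651 : allRange 155194 94 (fun u => chkFix tab mwordsA u) = true := by decide +kernel


end Cfsg.Agent.Helper9.TCData.HeA0
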