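import Cfsg.Agent.Lib.Helper9.TCData.HeA0.Main

set_option autoImplicit false
set_option maxRecDepth 1000000

namespace Cfsg.Agent.Helper9.TCData.HeA0
open Cfsg.Agent.Helper9.TC2

theorem e3_43 : allRange 134614 3031 (fun u => chkE tab 3 u) = true := by decide +kernel

theorem e3_44 : allRange 137645 3095 (fun u => chkE tab 3 u) = true := by decide +kernel

theorem e3_45 : allRange 140740 2851 (fun u => chkE tab 3 u) = true := by decide +kernel

theorem e3_46 : allRange 143591 2910 (fun u => chkE tab 3 u) = true := by decide +kernel

theorem e3_47 : allRange 146501 2846 (fun u => chkE tab 3 u) = true := by decide +kernel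

theorem e3_48 : allRange 149347 2787 (fun u => chkE tab 3 u) = true := by decide +kernel

theorem e3_49 : allRange 152134 2707 (fun u => chkE tab 3 u) = true := by decide +kernel

theorem e3_50 : allRange 154841 2682 (fun u => chkE tab 3 u) = true := by decide +kernel


end Cfsg.Agent.Helper9.TCData.HeA0
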