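import Cfsg.Agent.Lib.Helper9.TCData.HeA0.Main

set_option autoImplicit false
set_option maxRecDepth 1000000

namespace Cfsg.Agent.Helper9.TCData.HeA0
open Cfsg.Agent.Helper9.TC2

theorem m2_1660 : allRange 156040 94 (fun u => chkFix tab mwordsA u) = true := by decide +kernel

theorem m2_1661 : allRange 156134 94 (fun u => chkFix tab mwordsA u) = true := by decide +kernel

theorem m2_1662 : allRange 156228 94 (fun u => chkFix tab mwordsA u) = true := by decide +kernel

theorem m2_1663 : allRange 156322 94 (fun u => chkFix tab mwordsA u) = true := by decide +kernel

theorem m2_1664 : allRange 156416 94 (fun u => chkFix tab mwordsA u) = true := by decide +kernel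

theorem m2_1665 : allRange 156510 94 (fun u => chkFix tab mwordsA u) = true := by decide +kernel

theorem m2_1666 : allRange 156604 94 (fun u => chkFix tab mwordsA u) = true := by decide +kernel

theorem m2_1667 : allRange 156698 94 (fun u => chkFix tab mwordsA u) = true := by decide +kernel


end Cfsg.Agent.Helper9.TCData.HeA0
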