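import Cfsg.Agent.Lib.Helper9.TCData.HeA0.Main

set_option autoImplicit false
set_option maxRecDepth 1000000

namespace Cfsg.Agent.Helper9.TCData.HeA0
open Cfsg.Agent.Helper9.TC2

theorem m2_1676 : allRange 157544 94 (fun u => chkFix tab mwordsA u) = true := by decide +kernel

theorem m2_1677 : allRange 157638 94 (fun u => chkFix tab mwordsA u) = true := by decide +kernel

theorem m2_1678 : allRange 157732 94 (fun u => chkFix tab mwordsA u) = true := by decide +kernel

theorem m2_1679 : allRange 157826 94 (fun u => chkFix tab mwordsA u) = true := by decide +kernel

theorem m2_1680 : allRange 157920 94 (fun u => chkFix tab mwordsA u) = true := by decide +kernel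

theorem m2_1681 : allRange 158014 94 (fun u => chkFix tab mwordsA u) = true := by decide +kernel

theorem m2_1682 : allRange 158108 94 (fun u => chkFix tab mwordsA u) = true := by decide +kernel

theorem m2_1683 : allRange 158202 94 (fun u => chkFix tab mwordsA u) = true := by decide +kernel


end Cfsg.Agent.Helper9.TCData.HeA0
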