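import Cfsg.Agent.Lib.Helper9.TCData.HeA0.Main

set_option autoImplicit false
set_option maxRecDepth 1000000

namespace Cfsg.Agent.Helper9.TCData.HeA0
open Cfsg.Agent.Helper9.TC2

theorem m2_1708 : allRange 160552 94 (fun u => chkFix tab mwordsA u) = true := by decide +kernel

theorem m2_1709 : allRange 160646 94 (fun u => chkFix tab mwordsA u) = true := by decide +kernel

theorem m2_1710 : allRange 160740 94 (fun u => chkFix tab mwordsA u) = true := by decide +kernel

theorem m2_1711 : allRange 160834 94 (fun u => chkFix tab mwordsA u) = true := by decide +kernel

theorem m2_1712 : allRange 160928 94 (fun u => chkFix tab mwordsA u) = true := by decide +kernel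

theorem m2_1713 : allRange 161022 94 (fun u => chkFix tab mwordsA u) = true := by decide +kernel

theorem m2_1714 : allRange 161116 94 (fun u => chkFix tab mwordsA u) = true := by decide +kernel

theorem m2_1715 : allRange 161210 94 (fun u => chkFix tab mwordsA u) = true := by decide +kernel


end Cfsg.Agent.Helper9.TCData.HeA0
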