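import Cfsg.Agent.Lib.Helper9.TCData.HeA0.Main

set_option autoImplicit false
set_option maxRecDepth 1000000

namespace Cfsg.Agent.Helper9.TCData.HeA0
open Cfsg.Agent.Helper9.TC2

theorem e3_51 : allRange 157523 2602 (fun u => chkE tab 3 u) = true := by decide +kernel

theorem e3_52 : allRange 160125 2719 (fun u => chkE tab 3 u) = true := by decide +kernel

theorem e3_53 : allRange 162844 2574 (fun u => chkE tab 3 u) = true := by decide +kernel

theorem e3_54 : allRange 165418 2686 (fun u => chkE tab 3 u) = true := by decide +kernel

theorem e3_55 : allRange 168104 2658 (fun u => chkE tab 3 u) = true := by decide +kernel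

theorem e3_56 : allRange 170762 2566 (fun u => chkE tab 3 u) = true := by decide +kernel

theorem e3_57 : allRange 173328 2566 (fun u => chkE tab 3 u) = true := by decide +kernel

theorem e3_58 : allRange 175894 2682 (fun u => chkE tab 3 u) = true := by decide +kernel


end Cfsg.Agent.Helper9.TCData.HeA0
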