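import Cfsg.Agent.Lib.Helper9.TCData.HeA0.Main

set_option autoImplicit false
set_option maxRecDepth 1000000

namespace Cfsg.Agent.Helper9.TCData.HeA0
open Cfsg.Agent.Helper9.TC2

theorem m2_1732 : allRange 162808 94 (fun u => chkFix tab mwordsA u) = true := by decide +kernel

theorem m2_1733 : allRange 162902 94 (fun u => chkFix tab mwordsA u) = true := by decide +kernel

theorem m2_1734 : allRange 162996 94 (fun u => chkFix tab mwordsA u) = true := by decide +kernel

theorem m2_1735 : allRange 163090 94 (fun u => chkFix tab mwordsA u) = true := by decide +kernel

theorem m2_1736 : allRange 163184 94 (fun u => chkFix tab mwordsA u) = true := by decide +kernel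

theorem m2_1737 : allRange 163278 94 (fun u => chkFix tab mwordsA u) = true := by decide +kernel

theorem m2_1738 : allRange 163372 94 (fun u => chkFix tab mwordsA u) = true := by decide +kernel

theorem m2_1739 : allRange 163466 94 (fun u => chkFix tab mwordsA u) = true := by decide +kernel


end Cfsg.Agent.Helper9.TCData.HeA0
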