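import Cfsg.Agent.Lib.Helper9.TCData.HeA0.Main

set_option autoImplicit false
set_option maxRecDepth 1000000

namespace Cfsg.Agent.Helper9.TCData.HeA0
open Cfsg.Agent.Helper9.TC2

theorem m2_1748 : allRange 164312 94 (fun u => chkFix tab mwordsA u) = true := by decide +kernel

theorem m2_1749 : allRange 164406 94 (fun u => chkFix tab mwordsA u) = true := by decide +kernel

theorem m2_1750 : allRange 164500 94 (fun u => chkFix tab mwordsA u) = true := by decide +kernel

theorem m2_1751 : allRange 164594 94 (fun u => chkFix tab mwordsA u) = true := by decide +kernel

theorem m2_1752 : allRange 164688 94 (fun u => chkFix tab mwordsA u) = true := by decide +kernel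

theorem m2_1753 : allRange 164782 94 (fun u => chkFix tab mwordsA u) = true := by decide +kernel

theorem m2_1754 : allRange 164876 94 (fun u => chkFix tab mwordsA u) = true := by decide +kernel

theorem m2_1755 : allRange 164970 94 (fun u => chkFix tab mwordsA u) = true := by decide +kernel


end Cfsg.Agent.Helper9.TCData.HeA0
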