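import Cfsg.Agent.Lib.Helper9.TCData.HeA0.Main

set_option autoImplicit false
set_option maxRecDepth 1000000

namespace Cfsg.Agent.Helper9.TCData.HeA0
open Cfsg.Agent.Helper9.TC2

theorem e3_59 : allRange 178576 2554 (fun u => chkE tab 3 u) = true := by decide +kernel

theorem e3_60 : allRange 181130 2574 (fun u => chkE tab 3 u) = true := by decide +kernel

theorem e3_61 : allRange 183704 2469 (fun u => chkE tab 3 u) = true := by decide +kernel

theorem e3_62 : allRange 186173 2445 (fun u => chkE tab 3 u) = true := by decide +kernel

theorem e3_63 : allRange 188618 2420 (fun u => chkE tab 3 u) = true := by decide +kernel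

theorem e3_64 : allRange 191038 2443 (fun u => chkE tab 3 u) = true := by decide +kernel

theorem e3_65 : allRange 193481 2401 (fun u => chkE tab 3 u) = true := by decide +kernel

theorem e3_66 : allRange 195882 2362 (fun u => chkE tab 3 u) = true := by decide +kernel


end Cfsg.Agent.Helper9.TCData.HeA0
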