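import Cfsg.Agent.Lib.Helper9.TCData.HeA0.Main

set_option autoImplicit false
set_option maxRecDepth 1000000

namespace Cfsg.Agent.Helper9.TCData.HeA0
open Cfsg.Agent.Helper9.TC2

theorem m2_1812 : allRange 170328 94 (fun u => chkFix tab mwordsA u) = true := by decide +kernel

theorem m2_1813 : allRange 170422 94 (fun u => chkFix tab mwordsA u) = true := by decide +kernel

theorem m2_1814 : allRange 170516 94 (fun u => chkFix tab mwordsA u) = true := by decide +kernel

theorem m2_1815 : allRange 170610 94 (fun u => chkFix tab mwordsA u) = true := by decide +kernel

theorem m2_1816 : allRange 170704 94 (fun u => chkFix tab mwordsA u) = true := by decide +kernel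

theorem m2_1817 : allRange 170798 94 (fun u => chkFix tab mwordsA u) = true := by decide +kernel

theorem m2_1818 : allRange 170892 94 (fun u => chkFix tab mwordsA u) = true := by decide +kernel

theorem m2_1819 : allRange 170986 94 (fun u => chkFix tab mwordsA u) = true := by decide +kernel


end Cfsg.Agent.Helper9.TCData.HeA0
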