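import Cfsg.Agent.Lib.Helper9.TCData.HeA0.Main

set_option autoImplicit false
set_option maxRecDepth 1000000

namespace Cfsg.Agent.Helper9.TCData.HeA0
open Cfsg.Agent.Helper9.TC2

theorem m2_1836 : allRange 172584 94 (fun u => chkFix tab mwordsA u) = true := by decide +kernel

theorem m2_1837 : allRange 172678 94 (fun u => chkFix tab mwordsA u) = true := by decide +kernel

theorem m2_1838 : allRange 172772 94 (fun u => chkFix tab mwordsA u) = true := by decide +kernel

theorem m2_1839 : allRange 172866 94 (fun u => chkFix tab mwordsA u) = true := by decide +kernel

theorem m2_1840 : allRange 172960 94 (fun u => chkFix tab mwordsA u) = true := by decide +kernel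

theorem m2_1841 : allRange 173054 94 (fun u => chkFix tab mwordsA u) = true := by decide +kernel

theorem m2_1842 : allRange 173148 94 (fun u => chkFix tab mwordsA u) = true := by decide +kernel

theorem m2_1843 : allRange 173242 94 (fun u => chkFix tab mwordsA u) = true := by decide +kernel


end Cfsg.Agent.Helper9.TCData.HeA0
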