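import Cfsg.Agent.Lib.Helper9.TCData.HeA0.Main

set_option autoImplicit false
set_option maxRecDepth 1000000

namespace Cfsg.Agent.Helper9.TCData.HeA0
open Cfsg.Agent.Helper9.TC2

theorem m2_1852 : allRange 174088 94 (fun u => chkFix tab mwordsA u) = true := by decide +kernel

theorem m2_1853 : allRange 174182 94 (fun u => chkFix tab mwordsA u) = true := by decide +kernel

theorem m2_1854 : allRange 174276 94 (fun u => chkFix tab mwordsA u) = true := by decide +kernel

theorem m2_1855 : allRange 174370 94 (fun u => chkFix tab mwordsA u) = true := by decide +kernel

theorem m2_1856 : allRange 174464 94 (fun u => chkFix tab mwordsA u) = true := by decide +kernel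

theorem m2_1857 : allRange 174558 94 (fun u => chkFix tab mwordsA u) = true := by decide +kernel

theorem m2_1858 : allRange 174652 94 (fun u => chkFix tab mwordsA u) = true := by decide +kernel

theorem m2_1859 : allRange 174746 94 (fun u => chkFix tab mwordsA u) = true := by decide +kernel


end Cfsg.Agent.Helper9.TCData.HeA0
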