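import Cfsg.Agent.Lib.Helper9.TCData.HeA0.Main

set_option autoImplicit false
set_option maxRecDepth 1000000

namespace Cfsg.Agent.Helper9.TCData.HeA0
open Cfsg.Agent.Helper9.TC2

theorem m2_1884 : allRange 177096 94 (fun u => chkFix tab mwordsA u) = true := by decide +kernel

theorem m2_1885 : allRange 177190 94 (fun u => chkFix tab mwordsA u) = true := by decide +kernel

theorem m2_1886 : allRange 177284 94 (fun u => chkFix tab mwordsA u) = true := by decide +kernel

theorem m2_1887 : allRange 177378 94 (fun u => chkFix tab mwordsA u) = true := by decide +kernel

theorem m2_1888 : allRange 177472 94 (fun u => chkFix tab mwordsA u) = true := by decide +kernel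

theorem m2_1889 : allRange 177566 94 (fun u => chkFix tab mwordsA u) = true := by decide +kernel

theorem m2_1890 : allRange 177660 94 (fun u => chkFix tab mwordsA u) = true := by decide +kernel

theorem m2_1891 : allRange 177754 94 (fun u => chkFix tab mwordsA u) = true := by decide +kernel


end Cfsg.Agent.Helper9.TCData.HeA0
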