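import Cfsg.Agent.Lib.Helper9.TCData.HeA0.Main

set_option autoImplicit false
set_option maxRecDepth 1000000

namespace Cfsg.Agent.Helper9.TCData.HeA0
open Cfsg.Agent.Helper9.TC2

theorem e3_67 : allRange 198244 2412 (fun u => chkE tab 3 u) = true := by decide +kernel

theorem e3_68 : allRange 200656 2525 (fun u => chkE tab 3 u) = true := by decide +kernel

theorem e3_69 : allRange 203181 2424 (fun u => chkE tab 3 u) = true := by decide +kernel

theorem e3_70 : allRange 205605 2412 (fun u => chkE tab 3 u) = true := by decide +kernel

theorem e3_71 : allRange 208017 2372 (fun u => chkE tab 3 u) = true := by decide +kernel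

theorem e3_72 : allRange 210389 2319 (fun u => chkE tab 3 u) = true := by decide +kernel

theorem e3_73 : allRange 212708 2303 (fun u => chkE tab 3 u) = true := by decide +kernel

theorem e3_74 : allRange 215011 2354 (fun u => chkE tab 3 u) = true := by decide +kernel


end Cfsg.Agent.Helper9.TCData.HeA0
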