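import Cfsg.Agent.Lib.Helper9.TCData.HeA0.Main

set_option autoImplicit false
set_option maxRecDepth 1000000

namespace Cfsg.Agent.Helper9.TCData.HeA0
open Cfsg.Agent.Helper9.TC2

theorem m2_1892 : allRange 177848 94 (fun u => chkFix tab mwordsA u) = true := by decide +kernel

theorem m2_1893 : allRange 177942 94 (fun u => chkFix tab mwordsA u) = true := by decide +kernel

theorem m2_1894 : allRange 178036 94 (fun u => chkFix tab mwordsA u) = true := by decide +kernel

theorem m2_1895 : allRange 178130 94 (fun u => chkFix tab mwordsA u) = true := by decide +kernel

theorem m2_1896 : allRange 178224 94 (fun u => chkFix tab mwordsA u) = true := by decide +kernel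

theorem m2_1897 : allRange 178318 94 (fun u => chkFix tab mwordsA u) = true := by decide +kernel

theorem m2_1898 : allRange 178412 94 (fun u => chkFix tab mwordsA u) = true := by decide +kernel

theorem m2_1899 : allRange 178506 94 (fun u => chkFix tab mwordsA u) = true := by decide +kernel


end Cfsg.Agent.Helper9.TCData.HeA0
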