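import Cfsg.Agent.Lib.Helper9.TCData.HeA0.Main

set_option autoImplicit false
set_option maxRecDepth 1000000

namespace Cfsg.Agent.Helper9.TCData.HeA0
open Cfsg.Agent.Helper9.TC2

theorem m2_1916 : allRange 180104 94 (fun u => chkFix tab mwordsA u) = true := by decide +kernel

theorem m2_1917 : allRange 180198 94 (fun u => chkFix tab mwordsA u) = true := by decide +kernel

theorem m2_1918 : allRange 180292 94 (fun u => chkFix tab mwordsA u) = true := by decide +kernel

theorem m2_1919 : allRange 180386 94 (fun u => chkFix tab mwordsA u) = true := by decide +kernel

theorem m2_1920 : allRange 180480 94 (fun u => chkFix tab mwordsA u) = true := by decide +kernel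

theorem m2_1921 : allRange 180574 94 (fun u => chkFix tab mwordsA u) = true := by decide +kernel

theorem m2_1922 : allRange 180668 94 (fun u => chkFix tab mwordsA u) = true := by decide +kernel

theorem m2_1923 : allRange 180762 94 (fun u => chkFix tab mwordsA u) = true := by decide +kernel


end Cfsg.Agent.Helper9.TCData.HeA0
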