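import Cfsg.Agent.Lib.Helper9.TCData.HeA0.Main

set_option autoImplicit false
set_option maxRecDepth 1000000

namespace Cfsg.Agent.Helper9.TCData.HeA0
open Cfsg.Agent.Helper9.TC2

theorem m2_1924 : allRange 180856 94 (fun u => chkFix tab mwordsA u) = true := by decide +kernel

theorem m2_1925 : allRange 180950 94 (fun u => chkFix tab mwordsA u) = true := by decide +kernel

theorem m2_1926 : allRange 181044 94 (fun u => chkFix tab mwordsA u) = true := by decide +kernel

theorem m2_1927 : allRange 181138 94 (fun u => chkFix tab mwordsA u) = true := by decide +kernel

theorem m2_1928 : allRange 181232 94 (fun u => chkFix tab mwordsA u) = true := by decide +kernel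

theorem m2_1929 : allRange 181326 94 (fun u => chkFix tab mwordsA u) = true := by decide +kernel

theorem m2_1930 : allRange 181420 94 (fun u => chkFix tab mwordsA u) = true := by decide +kernel

theorem m2_1931 : allRange 181514 94 (fun u => chkFix tab mwordsA u) = true := by decide +kernel


end Cfsg.Agent.Helper9.TCData.HeA0
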