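import Cfsg.Agent.Lib.Helper9.TCData.HeA0.Main

set_option autoImplicit false
set_option maxRecDepth 1000000

namespace Cfsg.Agent.Helper9.TCData.HeA0
open Cfsg.Agent.Helper9.TC2

theorem m2_1932 : allRange 181608 94 (fun u => chkFix tab mwordsA u) = true := by decide +kernel

theorem m2_1933 : allRange 181702 94 (fun u => chkFix tab mwordsA u) = true := by decide +kernel

theorem m2_1934 : allRange 181796 94 (fun u => chkFix tab mwordsA u) = true := by decide +kernel

theorem m2_1935 : allRange 181890 94 (fun u => chkFix tab mwordsA u) = true := by decide +kernel

theorem m2_1936 : allRange 181984 94 (fun u => chkFix tab mwordsA u) = true := by decide +kernel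

theorem m2_1937 : allRange 182078 94 (fun u => chkFix tab mwordsA u) = true := by decide +kernel

theorem m2_1938 : allRange 182172 94 (fun u => chkFix tab mwordsA u) = true := by decide +kernel

theorem m2_1939 : allRange 182266 94 (fun u => chkFix tab mwordsA u) = true := by decide +kernel


end Cfsg.Agent.Helper9.TCData.HeA0
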