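import Cfsg.Agent.Lib.Helper9.TCData.HeA0.Main

set_option autoImplicit false
set_option maxRecDepth 1000000

namespace Cfsg.Agent.Helper9.TCData.HeA0
open Cfsg.Agent.Helper9.TC2

theorem m2_1940 : allRange 182360 94 (fun u => chkFix tab mwordsA u) = true := by decide +kernel

theorem m2_1941 : allRange 182454 94 (fun u => chkFix tab mwordsA u) = true := by decide +kernel

theorem m2_1942 : allRange 182548 94 (fun u => chkFix tab mwordsA u) = true := by decide +kernel

theorem m2_1943 : allRange 182642 94 (fun u => chkFix tab mwordsA u) = true := by decide +kernel

theorem m2_1944 : allRange 182736 94 (fun u => chkFix tab mwordsA u) = true := by decide +kernel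

theorem m2_1945 : allRange 182830 94 (fun u => chkFix tab mwordsA u) = true := by decide +kernel

theorem m2_1946 : allRange 182924 94 (fun u => chkFix tab mwordsA u) = true := by decide +kernel

theorem m2_1947 : allRange 183018 94 (fun u => chkFix tab mwordsA u) = true := by decide +kernel


end Cfsg.Agent.Helper9.TCData.HeA0
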