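import Cfsg.Agent.Lib.Helper9.TCData.HeA0.Main

set_option autoImplicit false
set_option maxRecDepth 1000000

namespace Cfsg.Agent.Helper9.TCData.HeA0
open Cfsg.Agent.Helper9.TC2

theorem e0_40 : allRange 91880 2547 (fun u => chkE tab 0 u) = true := by decide +kernel

theorem e0_41 : allRange 94427 2570 (fun u => chkE tab 0 u) = true := by decide +kernel

theorem e0_42 : allRange 96997 2271 (fun u => chkE tab 0 u) = true := by decide +kernel

theorem e0_43 : allRange 99268 2400 (fun u => chkE tab 0 u) = true := by decide +kernel

theorem e0_44 : allRange 101668 2475 (fun u => chkE tab 0 u) = true := by decide +kernel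

theorem e0_45 : allRange 104143 2500 (fun u => chkE tab 0 u) = true := by decide +kernel

theorem e0_46 : allRange 106643 2415 (fun u => chkE tab 0 u) = true := by decide +kernel

theorem e0_47 : allRange 109058 2233 (fun u => chkE tab 0 u) = true := by decide +kernel


end Cfsg.Agent.Helper9.TCData.HeA0
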