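import Cfsg.Agent.Lib.Helper9.TCData.HeA0.Main

set_option autoImplicit false
set_option maxRecDepth 1000000

namespace Cfsg.Agent.Helper9.TCData.HeA0
open Cfsg.Agent.Helper9.TC2

theorem e3_75 : allRange 217365 2331 (fun u => chkE tab 3 u) = true := by decide +kernel

theorem e3_76 : allRange 219696 2445 (fun u => chkE tab 3 u) = true := by decide +kernel

theorem e3_77 : allRange 222141 2431 (fun u => chkE tab 3 u) = true := by decide +kernel

theorem e3_78 : allRange 224572 2311 (fun u => chkE tab 3 u) = true := by decide +kernel

theorem e3_79 : allRange 226883 2499 (fun u => chkE tab 3 u) = true := by decide +kernel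

theorem e3_80 : allRange 229382 2438 (fun u => chkE tab 3 u) = true := by decide +kernel

theorem e3_81 : allRange 231820 2432 (fun u => chkE tab 3 u) = true := by decide +kernel

theorem e3_82 : allRange 234252 2526 (fun u => chkE tab 3 u) = true := by decide +kernel


end Cfsg.Agent.Helper9.TCData.HeA0
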