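import Cfsg.Agent.Lib.Helper9.TCData.HeA0.Main

set_option autoImplicit false
set_option maxRecDepth 1000000

namespace Cfsg.Agent.Helper9.TCData.HeA0
open Cfsg.Agent.Helper9.TC2

theorem m2_1996 : allRange 187624 94 (fun u => chkFix tab mwordsA u) = true := by decide +kernel

theorem m2_1997 : allRange 187718 94 (fun u => chkFix tab mwordsA u) = true := by decide +kernel

theorem m2_1998 : allRange 187812 94 (fun u => chkFix tab mwordsA u) = true := by decide +kernel

theorem m2_1999 : allRange 187906 94 (fun u => chkFix tab mwordsA u) = true := by decide +kernel

theorem m2_2000 : allRange 188000 94 (fun u => chkFix tab mwordsA u) = true := by decide +kernel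

theorem m2_2001 : allRange 188094 94 (fun u => chkFix tab mwordsA u) = true := by decide +kernel

theorem m2_2002 : allRange 188188 94 (fun u => chkFix tab mwordsA u) = true := by decide +kernel

theorem m2_2003 : allRange 188282 94 (fun u => chkFix tab mwordsA u) = true := by decide +kernel


end Cfsg.Agent.Helper9.TCData.HeA0
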