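import Cfsg.Agent.Lib.Helper9.TCData.HeA0.Main

set_option autoImplicit false
set_option maxRecDepth 1000000

namespace Cfsg.Agent.Helper9.TCData.HeA0
open Cfsg.Agent.Helper9.TC2

theorem m2_2004 : allRange 188376 94 (fun u => chkFix tab mwordsA u) = true := by decide +kernel

theorem m2_2005 : allRange 188470 94 (fun u => chkFix tab mwordsA u) = true := by decide +kernel

theorem m2_2006 : allRange 188564 94 (fun u => chkFix tab mwordsA u) = true := by decide +kernel

theorem m2_2007 : allRange 188658 94 (fun u => chkFix tab mwordsA u) = true := by decide +kernel

theorem m2_2008 : allRange 188752 94 (fun u => chkFix tab mwordsA u) = true := by decide +kernel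

theorem m2_2009 : allRange 188846 94 (fun u => chkFix tab mwordsA u) = true := by decide +kernel

theorem m2_2010 : allRange 188940 94 (fun u => chkFix tab mwordsA u) = true := by decide +kernel

theorem m2_2011 : allRange 189034 94 (fun u => chkFix tab mwordsA u) = true := by decide +kernel


end Cfsg.Agent.Helper9.TCData.HeA0
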