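import Cfsg.Agent.Lib.Helper9.TCData.HeA0.Main

set_option autoImplicit false
set_option maxRecDepth 1000000

namespace Cfsg.Agent.Helper9.TCData.HeA0
open Cfsg.Agent.Helper9.TC2

theorem m2_2012 : allRange 189128 94 (fun u => chkFix tab mwordsA u) = true := by decide +kernel

theorem m2_2013 : allRange 189222 94 (fun u => chkFix tab mwordsA u) = true := by decide +kernel

theorem m2_2014 : allRange 189316 94 (fun u => chkFix tab mwordsA u) = true := by decide +kernel

theorem m2_2015 : allRange 189410 94 (fun u => chkFix tab mwordsA u) = true := by decide +kernel

theorem m2_2016 : allRange 189504 94 (fun u => chkFix tab mwordsA u) = true := by decide +kernel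

theorem m2_2017 : allRange 189598 94 (fun u => chkFix tab mwordsA u) = true := by decide +kernel

theorem m2_2018 : allRange 189692 94 (fun u => chkFix tab mwordsA u) = true := by decide +kernel

theorem m2_2019 : allRange 189786 94 (fun u => chkFix tab mwordsA u) = true := by decide +kernel


end Cfsg.Agent.Helper9.TCData.HeA0
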