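import Cfsg.Agent.Lib.Helper9.TCData.HeA0.Main

set_option autoImplicit false
set_option maxRecDepth 1000000

namespace Cfsg.Agent.Helper9.TCData.HeA0
open Cfsg.Agent.Helper9.TC2

theorem m2_2020 : allRange 189880 94 (fun u => chkFix tab mwordsA u) = true := by decide +kernel

theorem m2_2021 : allRange 189974 94 (fun u => chkFix tab mwordsA u) = true := by decide +kernel

theorem m2_2022 : allRange 190068 94 (fun u => chkFix tab mwordsA u) = true := by decide +kernel

theorem m2_2023 : allRange 190162 94 (fun u => chkFix tab mwordsA u) = true := by decide +kernel

theorem m2_2024 : allRange 190256 94 (fun u => chkFix tab mwordsA u) = true := by decide +kernel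

theorem m2_2025 : allRange 190350 94 (fun u => chkFix tab mwordsA u) = true := by decide +kernel

theorem m2_2026 : allRange 190444 94 (fun u => chkFix tab mwordsA u) = true := by decide +kernel

theorem m2_2027 : allRange 190538 94 (fun u => chkFix tab mwordsA u) = true := by decide +kernel


end Cfsg.Agent.Helper9.TCData.HeA0
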