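import Cfsg.Agent.Lib.Helper9.TCData.HeA0.Main

set_option autoImplicit false
set_option maxRecDepth 1000000

namespace Cfsg.Agent.Helper9.TCData.HeA0
open Cfsg.Agent.Helper9.TC2

theorem m2_2028 : allRange 190632 94 (fun u => chkFix tab mwordsA u) = true := by decide +kernel

theorem m2_2029 : allRange 190726 94 (fun u => chkFix tab mwordsA u) = true := by decide +kernel

theorem m2_2030 : allRange 190820 94 (fun u => chkFix tab mwordsA u) = true := by decide +kernel

theorem m2_2031 : allRange 190914 94 (fun u => chkFix tab mwordsA u) = true := by decide +kernel

theorem m2_2032 : allRange 191008 94 (fun u => chkFix tab mwordsA u) = true := by decide +kernel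

theorem m2_2033 : allRange 191102 94 (fun u => chkFix tab mwordsA u) = true := by decide +kernel

theorem m2_2034 : allRange 191196 94 (fun u => chkFix tab mwordsA u) = true := by decide +kernel

theorem m2_2035 : allRange 191290 94 (fun u => chkFix tab mwordsA u) = true := by decide +kernel


end Cfsg.Agent.Helper9.TCData.HeA0
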