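import Cfsg.Agent.Lib.Helper9.TCData.HeA0.Main

set_option autoImplicit false
set_option maxRecDepth 1000000

namespace Cfsg.Agent.Helper9.TCData.HeA0
open Cfsg.Agent.Helper9.TC2

theorem m2_2036 : allRange 191384 94 (fun u => chkFix tab mwordsA u) = true := by decide +kernel

theorem m2_2037 : allRange 191478 94 (fun u => chkFix tab mwordsA u) = true := by decide +kernel

theorem m2_2038 : allRange 191572 94 (fun u => chkFix tab mwordsA u) = true := by decide +kernel

theorem m2_2039 : allRange 191666 94 (fun u => chkFix tab mwordsA u) = true := by decide +kernel

theorem m2_2040 : allRange 191760 94 (fun u => chkFix tab mwordsA u) = true := by decide +kernel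

theorem m2_2041 : allRange 191854 94 (fun u => chkFix tab mwordsA u) = true := by decide +kernel

theorem m2_2042 : allRange 191948 94 (fun u => chkFix tab mwordsA u) = true := by decide +kernel

theorem m2_2043 : allRange 192042 94 (fun u => chkFix tab mwordsA u) = true := by decide +kernel


end Cfsg.Agent.Helper9.TCData.HeA0
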