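import Cfsg.Agent.Lib.Helper9.TCData.HeA0.Main

set_option autoImplicit false
set_option maxRecDepth 1000000

namespace Cfsg.Agent.Helper9.TCData.HeA0
open Cfsg.Agent.Helper9.TC2

theorem m2_2044 : allRange 192136 94 (fun u => chkFix tab mwordsA u) = true := by decide +kernel

theorem m2_2045 : allRange 192230 94 (fun u => chkFix tab mwordsA u) = true := by decide +kernel

theorem m2_2046 : allRange 192324 94 (fun u => chkFix tab mwordsA u) = true := by decide +kernel

theorem m2_2047 : allRange 192418 94 (fun u => chkFix tab mwordsA u) = true := by decide +kernel

theorem m2_2048 : allRange 192512 94 (fun u => chkFix tab mwordsA u) = true := by decide +kernel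

theorem m2_2049 : allRange 192606 94 (fun u => chkFix tab mwordsA u) = true := by decide +kernel

theorem m2_2050 : allRange 192700 94 (fun u => chkFix tab mwordsA u) = true := by decide +kernel

theorem m2_2051 : allRange 192794 94 (fun u => chkFix tab mwordsA u) = true := by decide +kernel


end Cfsg.Agent.Helper9.TCData.HeA0
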