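import Cfsg.Agent.Lib.Helper9.TCData.HeA0.Main

set_option autoImplicit false
set_option maxRecDepth 1000000

namespace Cfsg.Agent.Helper9.TCData.HeA0
open Cfsg.Agent.Helper9.TC2

theorem m2_2060 : allRange 193640 94 (fun u => chkFix tab mwordsA u) = true := by decide +kernel

theorem m2_2061 : allRange 193734 94 (fun u => chkFix tab mwordsA u) = true := by decide +kernel

theorem m2_2062 : allRange 193828 94 (fun u => chkFix tab mwordsA u) = true := by decide +kernel

theorem m2_2063 : allRange 193922 94 (fun u => chkFix tab mwordsA u) = true := by decide +kernel

theorem m2_2064 : allRange 194016 94 (fun u => chkFix tab mwordsA u) = true := by decide +kernel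

theorem m2_2065 : allRange 194110 94 (fun u => chkFix tab mwordsA u) = true := by decide +kernel

theorem m2_2066 : allRange 194204 94 (fun u => chkFix tab mwordsA u) = true := by decide +kernel

theorem m2_2067 : allRange 194298 94 (fun u => chkFix tab mwordsA u) = true := by decide +kernel


end Cfsg.Agent.Helper9.TCData.HeA0
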