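import Cfsg.Agent.Lib.Helper9.TCData.HeA0.Main

set_option autoImplicit false
set_option maxRecDepth 1000000

namespace Cfsg.Agent.Helper9.TCData.HeA0
open Cfsg.Agent.Helper9.TC2

theorem m2_2068 : allRange 194392 94 (fun u => chkFix tab mwordsA u) = true := by decide +kernel

theorem m2_2069 : allRange 194486 94 (fun u => chkFix tab mwordsA u) = true := by decide +kernel

theorem m2_2070 : allRange 194580 94 (fun u => chkFix tab mwordsA u) = true := by decide +kernel

theorem m2_2071 : allRange 194674 94 (fun u => chkFix tab mwordsA u) = true := by decide +kernel

theorem m2_2072 : allRange 194768 94 (fun u => chkFix tab mwordsA u) = true := by decide +kernel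

theorem m2_2073 : allRange 194862 94 (fun u => chkFix tab mwordsA u) = true := by decide +kernel

theorem m2_2074 : allRange 194956 94 (fun u => chkFix tab mwordsA u) = true := by decide +kernel

theorem m2_2075 : allRange 195050 94 (fun u => chkFix tab mwordsA u) = true := by decide +kernel


end Cfsg.Agent.Helper9.TCData.HeA0
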