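import Cfsg.Agent.Lib.Helper9.TCData.HeA0.Main

set_option autoImplicit false
set_option maxRecDepth 1000000

namespace Cfsg.Agent.Helper9.TCData.HeA0
open Cfsg.Agent.Helper9.TC2

theorem m2_2076 : allRange 195144 94 (fun u => chkFix tab mwordsA u) = true := by decide +kernel

theorem m2_2077 : allRange 195238 94 (fun u => chkFix tab mwordsA u) = true := by decide +kernel

theorem m2_2078 : allRange 195332 94 (fun u => chkFix tab mwordsA u) = true := by decide +kernel

theorem m2_2079 : allRange 195426 94 (fun u => chkFix tab mwordsA u) = true := by decide +kernel

theorem m2_2080 : allRange 195520 94 (fun u => chkFix tab mwordsA u) = true := by decide +kernel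

theorem m2_2081 : allRange 195614 94 (fun u => chkFix tab mwordsA u) = true := by decide +kernel

theorem m2_2082 : allRange 195708 94 (fun u => chkFix tab mwordsA u) = true := by decide +kernel

theorem m2_2083 : allRange 195802 94 (fun u => chkFix tab mwordsA u) = true := by decide +kernel


end Cfsg.Agent.Helper9.TCData.HeA0
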