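import Cfsg.Agent.Lib.Helper9.TCData.HeA0.Main

set_option autoImplicit false
set_option maxRecDepth 1000000

namespace Cfsg.Agent.Helper9.TCData.HeA0
open Cfsg.Agent.Helper9.TC2

theorem m2_2084 : allRange 195896 94 (fun u => chkFix tab mwordsA u) = true := by decide +kernel

theorem m2_2085 : allRange 195990 94 (fun u => chkFix tab mwordsA u) = true := by decide +kernel

theorem m2_2086 : allRange 196084 94 (fun u => chkFix tab mwordsA u) = true := by decide +kernel

theorem m2_2087 : allRange 196178 94 (fun u => chkFix tab mwordsA u) = true := by decide +kernel

theorem m2_2088 : allRange 196272 94 (fun u => chkFix tab mwordsA u) = true := by decide +kernel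

theorem m2_2089 : allRange 196366 94 (fun u => chkFix tab mwordsA u) = true := by decide +kernel

theorem m2_2090 : allRange 196460 94 (fun u => chkFix tab mwordsA u) = true := by decide +kernel

theorem m2_2091 : allRange 196554 94 (fun u => chkFix tab mwordsA u) = true := by decide +kernel


end Cfsg.Agent.Helper9.TCData.HeA0
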