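import Cfsg.Agent.Lib.Helper9.TCData.HeA0.Main

set_option autoImplicit false
set_option maxRecDepth 1000000

namespace Cfsg.Agent.Helper9.TCData.HeA0
open Cfsg.Agent.Helper9.TC2

theorem m2_2108 : allRange 198152 94 (fun u => chkFix tab mwordsA u) = true := by decide +kernel

theorem m2_2109 : allRange 198246 94 (fun u => chkFix tab mwordsA u) = true := by decide +kernel

theorem m2_2110 : allRange 198340 94 (fun u => chkFix tab mwordsA u) = true := by decide +kernel

theorem m2_2111 : allRange 198434 94 (fun u => chkFix tab mwordsA u) = true := by decide +kernel

theorem m2_2112 : allRange 198528 94 (fun u => chkFix tab mwordsA u) = true := by decide +kernel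

theorem m2_2113 : allRange 198622 94 (fun u => chkFix tab mwordsA u) = true := by decide +kernel

theorem m2_2114 : allRange 198716 94 (fun u => chkFix tab mwordsA u) = true := by decide +kernel

theorem m2_2115 : allRange 198810 94 (fun u => chkFix tab mwordsA u) = true := by decide +kernel


end Cfsg.Agent.Helper9.TCData.HeA0
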