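import Cfsg.Agent.Lib.Helper9.TCData.HeA0.Main

set_option autoImplicit false
set_option maxRecDepth 1000000

namespace Cfsg.Agent.Helper9.TCData.HeA0
open Cfsg.Agent.Helper9.TC2

theorem m2_2116 : allRange 198904 94 (fun u => chkFix tab mwordsA u) = true := by decide +kernel

theorem m2_2117 : allRange 198998 94 (fun u => chkFix tab mwordsA u) = true := by decide +kernel

theorem m2_2118 : allRange 199092 94 (fun u => chkFix tab mwordsA u) = true := by decide +kernel

theorem m2_2119 : allRange 199186 94 (fun u => chkFix tab mwordsA u) = true := by decide +kernel

theorem m2_2120 : allRange 199280 94 (fun u => chkFix tab mwordsA u) = true := by decide +kernel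

theorem m2_2121 : allRange 199374 94 (fun u => chkFix tab mwordsA u) = true := by decide +kernel

theorem m2_2122 : allRange 199468 94 (fun u => chkFix tab mwordsA u) = true := by decide +kernel

theorem m2_2123 : allRange 199562 94 (fun u => chkFix tab mwordsA u) = true := by decide +kernel


end Cfsg.Agent.Helper9.TCData.HeA0
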