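import Cfsg.Agent.Lib.Helper9.TCData.HeA0.Main

set_option autoImplicit false
set_option maxRecDepth 1000000

namespace Cfsg.Agent.Helper9.TCData.HeA0
open Cfsg.Agent.Helper9.TC2

theorem m2_2124 : allRange 199656 94 (fun u => chkFix tab mwordsA u) = true := by decide +kernel

theorem m2_2125 : allRange 199750 94 (fun u => chkFix tab mwordsA u) = true := by decide +kernel

theorem m2_2126 : allRange 199844 94 (fun u => chkFix tab mwordsA u) = true := by decide +kernel

theorem m2_2127 : allRange 199938 94 (fun u => chkFix tab mwordsA u) = true := by decide +kernel

theorem m2_2128 : allRange 200032 94 (fun u => chkFix tab mwordsA u) = true := by decide +kernel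

theorem m2_2129 : allRange 200126 94 (fun u => chkFix tab mwordsA u) = true := by decide +kernel

theorem m2_2130 : allRange 200220 94 (fun u => chkFix tab mwordsA u) = true := by decide +kernel

theorem m2_2131 : allRange 200314 94 (fun u => chkFix tab mwordsA u) = true := by decide +kernel


end Cfsg.Agent.Helper9.TCData.HeA0
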