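import Cfsg.Agent.Lib.Helper9.TCData.HeA0.Main

set_option autoImplicit false
set_option maxRecDepth 1000000

namespace Cfsg.Agent.Helper9.TCData.HeA0
open Cfsg.Agent.Helper9.TC2

theorem e3_91 : allRange 256886 2789 (fun u => chkE tab 3 u) = true := by decide +kernel

theorem e3_92 : allRange 259675 2800 (fun u => chkE tab 3 u) = true := by decide +kernel

theorem e3_93 : allRange 262475 2981 (fun u => chkE tab 3 u) = true := by decide +kernel

theorem e3_94 : allRange 265456 3145 (fun u => chkE tab 3 u) = true := by decide +kernel

theorem e3_95 : allRange 268601 626 (fun u => chkE tab 3 u) = true := by decide +kernel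

theorem e4_0 : allRange 0 2895 (fun u => chkE tab 4 u) = true := by decide +kernel

theorem e4_1 : allRange 2895 3040 (fun u => chkE tab 4 u) = true := by decide +kernel

theorem e4_2 : allRange 5935 3038 (fun u => chkE tab 4 u) = true := by decide +kernel


end Cfsg.Agent.Helper9.TCData.HeA0
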