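import Cfsg.Agent.Lib.Helper9.TCData.HeA0.Main

set_option autoImplicit false
set_option maxRecDepth 1000000

namespace Cfsg.Agent.Helper9.TCData.HeA0
open Cfsg.Agent.Helper9.TC2

theorem m2_2132 : allRange 200408 94 (fun u => chkFix tab mwordsA u) = true := by decide +kernel

theorem m2_2133 : allRange 200502 94 (fun u => chkFix tab mwordsA u) = true := by decide +kernel

theorem m2_2134 : allRange 200596 94 (fun u => chkFix tab mwordsA u) = true := by decide +kernel

theorem m2_2135 : allRange 200690 94 (fun u => chkFix tab mwordsA u) = true := by decide +kernel

theorem m2_2136 : allRange 200784 94 (fun u => chkFix tab mwordsA u) = true := by decide +kernel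

theorem m2_2137 : allRange 200878 94 (fun u => chkFix tab mwordsA u) = true := by decide +kernel

theorem m2_2138 : allRange 200972 94 (fun u => chkFix tab mwordsA u) = true := by decide +kernel

theorem m2_2139 : allRange 201066 94 (fun u => chkFix tab mwordsA u) = true := by decide +kernel


end Cfsg.Agent.Helper9.TCData.HeA0
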