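import Cfsg.Agent.Lib.Helper9.TCData.HeA0.Main

set_option autoImplicit false
set_option maxRecDepth 1000000

namespace Cfsg.Agent.Helper9.TCData.HeA0
open Cfsg.Agent.Helper9.TC2

theorem m2_2140 : allRange 201160 94 (fun u => chkFix tab mwordsA u) = true := by decide +kernel

theorem m2_2141 : allRange 201254 94 (fun u => chkFix tab mwordsA u) = true := by decide +kernel

theorem m2_2142 : allRange 201348 94 (fun u => chkFix tab mwordsA u) = true := by decide +kernel

theorem m2_2143 : allRange 201442 94 (fun u => chkFix tab mwordsA u) = true := by decide +kernel

theorem m2_2144 : allRange 201536 94 (fun u => chkFix tab mwordsA u) = true := by decide +kernel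

theorem m2_2145 : allRange 201630 94 (fun u => chkFix tab mwordsA u) = true := by decide +kernel

theorem m2_2146 : allRange 201724 94 (fun u => chkFix tab mwordsA u) = true := by decide +kernel

theorem m2_2147 : allRange 201818 94 (fun u => chkFix tab mwordsA u) = true := by decide +kernel


end Cfsg.Agent.Helper9.TCData.HeA0
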