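import Cfsg.Agent.Lib.Helper9.TCData.HeA0.Main

set_option autoImplicit false
set_option maxRecDepth 1000000

namespace Cfsg.Agent.Helper9.TCData.HeA0
open Cfsg.Agent.Helper9.TC2

theorem m2_2156 : allRange 202664 94 (fun u => chkFix tab mwordsA u) = true := by decide +kernel

theorem m2_2157 : allRange 202758 94 (fun u => chkFix tab mwordsA u) = true := by decide +kernel

theorem m2_2158 : allRange 202852 94 (fun u => chkFix tab mwordsA u) = true := by decide +kernel

theorem m2_2159 : allRange 202946 94 (fun u => chkFix tab mwordsA u) = true := by decide +kernel

theorem m2_2160 : allRange 203040 94 (fun u => chkFix tab mwordsA u) = true := by decide +kernel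

theorem m2_2161 : allRange 203134 94 (fun u => chkFix tab mwordsA u) = true := by decide +kernel

theorem m2_2162 : allRange 203228 94 (fun u => chkFix tab mwordsA u) = true := by decide +kernel

theorem m2_2163 : allRange 203322 94 (fun u => chkFix tab mwordsA u) = true := by decide +kernel


end Cfsg.Agent.Helper9.TCData.HeA0
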