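import Cfsg.Agent.Lib.Helper9.TCData.HeA0.Main

set_option autoImplicit false
set_option maxRecDepth 1000000

namespace Cfsg.Agent.Helper9.TCData.HeA0
open Cfsg.Agent.Helper9.TC2

theorem m2_2164 : allRange 203416 94 (fun u => chkFix tab mwordsA u) = true := by decide +kernel

theorem m2_2165 : allRange 203510 94 (fun u => chkFix tab mwordsA u) = true := by decide +kernel

theorem m2_2166 : allRange 203604 94 (fun u => chkFix tab mwordsA u) = true := by decide +kernel

theorem m2_2167 : allRange 203698 94 (fun u => chkFix tab mwordsA u) = true := by decide +kernel

theorem m2_2168 : allRange 203792 94 (fun u => chkFix tab mwordsA u) = true := by decide +kernel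

theorem m2_2169 : allRange 203886 94 (fun u => chkFix tab mwordsA u) = true := by decide +kernel

theorem m2_2170 : allRange 203980 94 (fun u => chkFix tab mwordsA u) = true := by decide +kernel

theorem m2_2171 : allRange 204074 94 (fun u => chkFix tab mwordsA u) = true := by decide +kernel


end Cfsg.Agent.Helper9.TCData.HeA0
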