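import Cfsg.Agent.Lib.Helper9.TCData.HeA0.Main

set_option autoImplicit false
set_option maxRecDepth 1000000

namespace Cfsg.Agent.Helper9.TCData.HeA0
open Cfsg.Agent.Helper9.TC2

theorem m2_2172 : allRange 204168 94 (fun u => chkFix tab mwordsA u) = true := by decide +kernel

theorem m2_2173 : allRange 204262 94 (fun u => chkFix tab mwordsA u) = true := by decide +kernel

theorem m2_2174 : allRange 204356 94 (fun u => chkFix tab mwordsA u) = true := by decide +kernel

theorem m2_2175 : allRange 204450 94 (fun u => chkFix tab mwordsA u) = true := by decide +kernel

theorem m2_2176 : allRange 204544 94 (fun u => chkFix tab mwordsA u) = true := by decide +kernel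

theorem m2_2177 : allRange 204638 94 (fun u => chkFix tab mwordsA u) = true := by decide +kernel

theorem m2_2178 : allRange 204732 94 (fun u => chkFix tab mwordsA u) = true := by decide +kernel

theorem m2_2179 : allRange 204826 94 (fun u => chkFix tab mwordsA u) = true := by decide +kernel


end Cfsg.Agent.Helper9.TCData.HeA0
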