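import Cfsg.Agent.Lib.Helper9.TCData.HeA0.Main

set_option autoImplicit false
set_option maxRecDepth 1000000

namespace Cfsg.Agent.Helper9.TCData.HeA0
open Cfsg.Agent.Helper9.TC2

theorem m2_2180 : allRange 204920 94 (fun u => chkFix tab mwordsA u) = true := by decide +kernel

theorem m2_2181 : allRange 205014 94 (fun u => chkFix tab mwordsA u) = true := by decide +kernel

theorem m2_2182 : allRange 205108 94 (fun u => chkFix tab mwordsA u) = true := by decide +kernel

theorem m2_2183 : allRange 205202 94 (fun u => chkFix tab mwordsA u) = true := by decide +kernel

theorem m2_2184 : allRange 205296 94 (fun u => chkFix tab mwordsA u) = true := by decide +kernel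

theorem m2_2185 : allRange 205390 94 (fun u => chkFix tab mwordsA u) = true := by decide +kernel

theorem m2_2186 : allRange 205484 94 (fun u => chkFix tab mwordsA u) = true := by decide +kernel

theorem m2_2187 : allRange 205578 94 (fun u => chkFix tab mwordsA u) = true := by decide +kernel


end Cfsg.Agent.Helper9.TCData.HeA0
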