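import Cfsg.Agent.Lib.Helper9.TCData.HeA0.Main

set_option autoImplicit false
set_option maxRecDepth 1000000

namespace Cfsg.Agent.Helper9.TCData.HeA0
open Cfsg.Agent.Helper9.TC2

theorem m2_2188 : allRange 205672 94 (fun u => chkFix tab mwordsA u) = true := by decide +kernel

theorem m2_2189 : allRange 205766 94 (fun u => chkFix tab mwordsA u) = true := by decide +kernel

theorem m2_2190 : allRange 205860 94 (fun u => chkFix tab mwordsA u) = true := by decide +kernel

theorem m2_2191 : allRange 205954 94 (fun u => chkFix tab mwordsA u) = true := by decide +kernel

theorem m2_2192 : allRange 206048 94 (fun u => chkFix tab mwordsA u) = true := by decide +kernel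

theorem m2_2193 : allRange 206142 94 (fun u => chkFix tab mwordsA u) = true := by decide +kernel

theorem m2_2194 : allRange 206236 94 (fun u => chkFix tab mwordsA u) = true := by decide +kernel

theorem m2_2195 : allRange 206330 94 (fun u => chkFix tab mwordsA u) = true := by decide +kernel


end Cfsg.Agent.Helper9.TCData.HeA0
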