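import Cfsg.Agent.Lib.Helper9.TCData.HeA0.Main

set_option autoImplicit false
set_option maxRecDepth 1000000

namespace Cfsg.Agent.Helper9.TCData.HeA0
open Cfsg.Agent.Helper9.TC2

theorem m2_2196 : allRange 206424 94 (fun u => chkFix tab mwordsA u) = true := by decide +kernel

theorem m2_2197 : allRange 206518 94 (fun u => chkFix tab mwordsA u) = true := by decide +kernel

theorem m2_2198 : allRange 206612 94 (fun u => chkFix tab mwordsA u) = true := by decide +kernel

theorem m2_2199 : allRange 206706 94 (fun u => chkFix tab mwordsA u) = true := by decide +kernel

theorem m2_2200 : allRange 206800 94 (fun u => chkFix tab mwordsA u) = true := by decide +kernel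

theorem m2_2201 : allRange 206894 94 (fun u => chkFix tab mwordsA u) = true := by decide +kernel

theorem m2_2202 : allRange 206988 94 (fun u => chkFix tab mwordsA u) = true := by decide +kernel

theorem m2_2203 : allRange 207082 94 (fun u => chkFix tab mwordsA u) = true := by decide +kernel


end Cfsg.Agent.Helper9.TCData.HeA0
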