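import Cfsg.Agent.Lib.Helper9.TCData.HeA0.Main

set_option autoImplicit false
set_option maxRecDepth 1000000

namespace Cfsg.Agent.Helper9.TCData.HeA0
open Cfsg.Agent.Helper9.TC2

theorem m2_2204 : allRange 207176 94 (fun u => chkFix tab mwordsA u) = true := by decide +kernel

theorem m2_2205 : allRange 207270 94 (fun u => chkFix tab mwordsA u) = true := by decide +kernel

theorem m2_2206 : allRange 207364 94 (fun u => chkFix tab mwordsA u) = true := by decide +kernel

theorem m2_2207 : allRange 207458 94 (fun u => chkFix tab mwordsA u) = true := by decide +kernel

theorem m2_2208 : allRange 207552 94 (fun u => chkFix tab mwordsA u) = true := by decide +kernel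

theorem m2_2209 : allRange 207646 94 (fun u => chkFix tab mwordsA u) = true := by decide +kernel

theorem m2_2210 : allRange 207740 94 (fun u => chkFix tab mwordsA u) = true := by decide +kernel

theorem m2_2211 : allRange 207834 94 (fun u => chkFix tab mwordsA u) = true := by decide +kernel


end Cfsg.Agent.Helper9.TCData.HeA0
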