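import Cfsg.Agent.Lib.Helper9.TCData.HeA0.Main

set_option autoImplicit false
set_option maxRecDepth 1000000

namespace Cfsg.Agent.Helper9.TCData.HeA0
open Cfsg.Agent.Helper9.TC2

theorem m2_2212 : allRange 207928 94 (fun u => chkFix tab mwordsA u) = true := by decide +kernel

theorem m2_2213 : allRange 208022 94 (fun u => chkFix tab mwordsA u) = true := by decide +kernel

theorem m2_2214 : allRange 208116 94 (fun u => chkFix tab mwordsA u) = true := by decide +kernel

theorem m2_2215 : allRange 208210 94 (fun u => chkFix tab mwordsA u) = true := by decide +kernel

theorem m2_2216 : allRange 208304 94 (fun u => chkFix tab mwordsA u) = true := by decide +kernel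

theorem m2_2217 : allRange 208398 94 (fun u => chkFix tab mwordsA u) = true := by decide +kernel

theorem m2_2218 : allRange 208492 94 (fun u => chkFix tab mwordsA u) = true := by decide +kernel

theorem m2_2219 : allRange 208586 94 (fun u => chkFix tab mwordsA u) = true := by decide +kernel


end Cfsg.Agent.Helper9.TCData.HeA0
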