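import Cfsg.Agent.Lib.Helper9.TCData.HeA0.Main

set_option autoImplicit false
set_option maxRecDepth 1000000

namespace Cfsg.Agent.Helper9.TCData.HeA0
open Cfsg.Agent.Helper9.TC2

theorem m2_2220 : allRange 208680 94 (fun u => chkFix tab mwordsA u) = true := by decide +kernel

theorem m2_2221 : allRange 208774 94 (fun u => chkFix tab mwordsA u) = true := by decide +kernel

theorem m2_2222 : allRange 208868 94 (fun u => chkFix tab mwordsA u) = true := by decide +kernel

theorem m2_2223 : allRange 208962 94 (fun u => chkFix tab mwordsA u) = true := by decide +kernel

theorem m2_2224 : allRange 209056 94 (fun u => chkFix tab mwordsA u) = true := by decide +kernel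

theorem m2_2225 : allRange 209150 94 (fun u => chkFix tab mwordsA u) = true := by decide +kernel

theorem m2_2226 : allRange 209244 94 (fun u => chkFix tab mwordsA u) = true := by decide +kernel

theorem m2_2227 : allRange 209338 94 (fun u => chkFix tab mwordsA u) = true := by decide +kernel


end Cfsg.Agent.Helper9.TCData.HeA0
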