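import Cfsg.Agent.Lib.Helper9.TCData.HeA0.Main

set_option autoImplicit false
set_option maxRecDepth 1000000

namespace Cfsg.Agent.Helper9.TCData.HeA0
open Cfsg.Agent.Helper9.TC2

theorem m2_2228 : allRange 209432 94 (fun u => chkFix tab mwordsA u) = true := by decide +kernel

theorem m2_2229 : allRange 209526 94 (fun u => chkFix tab mwordsA u) = true := by decide +kernel

theorem m2_2230 : allRange 209620 94 (fun u => chkFix tab mwordsA u) = true := by decide +kernel

theorem m2_2231 : allRange 209714 94 (fun u => chkFix tab mwordsA u) = true := by decide +kernel

theorem m2_2232 : allRange 209808 94 (fun u => chkFix tab mwordsA u) = true := by decide +kernel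

theorem m2_2233 : allRange 209902 94 (fun u => chkFix tab mwordsA u) = true := by decide +kernel

theorem m2_2234 : allRange 209996 94 (fun u => chkFix tab mwordsA u) = true := by decide +kernel

theorem m2_2235 : allRange 210090 94 (fun u => chkFix tab mwordsA u) = true := by decide +kernel


end Cfsg.Agent.Helper9.TCData.HeA0
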