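import Cfsg.Agent.Lib.Helper9.TCData.HeA0.Main

set_option autoImplicit false
set_option maxRecDepth 1000000

namespace Cfsg.Agent.Helper9.TCData.HeA0
open Cfsg.Agent.Helper9.TC2

theorem m2_2252 : allRange 211688 94 (fun u => chkFix tab mwordsA u) = true := by decide +kernel

theorem m2_2253 : allRange 211782 94 (fun u => chkFix tab mwordsA u) = true := by decide +kernel

theorem m2_2254 : allRange 211876 94 (fun u => chkFix tab mwordsA u) = true := by decide +kernel

theorem m2_2255 : allRange 211970 94 (fun u => chkFix tab mwordsA u) = true := by decide +kernel

theorem m2_2256 : allRange 212064 94 (fun u => chkFix tab mwordsA u) = true := by decide +kernel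

theorem m2_2257 : allRange 212158 94 (fun u => chkFix tab mwordsA u) = true := by decide +kernel

theorem m2_2258 : allRange 212252 94 (fun u => chkFix tab mwordsA u) = true := by decide +kernel

theorem m2_2259 : allRange 212346 94 (fun u => chkFix tab mwordsA u) = true := by decide +kernel


end Cfsg.Agent.Helper9.TCData.HeA0
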