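import Cfsg.Agent.Lib.Helper9.TCData.HeA0.Main

set_option autoImplicit false
set_option maxRecDepth 1000000

namespace Cfsg.Agent.Helper9.TCData.HeA0
open Cfsg.Agent.Helper9.TC2

theorem m2_2268 : allRange 213192 94 (fun u => chkFix tab mwordsA u) = true := by decide +kernel

theorem m2_2269 : allRange 213286 94 (fun u => chkFix tab mwordsA u) = true := by decide +kernel

theorem m2_2270 : allRange 213380 94 (fun u => chkFix tab mwordsA u) = true := by decide +kernel

theorem m2_2271 : allRange 213474 94 (fun u => chkFix tab mwordsA u) = true := by decide +kernel

theorem m2_2272 : allRange 213568 94 (fun u => chkFix tab mwordsA u) = true := by decide +kernel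

theorem m2_2273 : allRange 213662 94 (fun u => chkFix tab mwordsA u) = true := by decide +kernel

theorem m2_2274 : allRange 213756 94 (fun u => chkFix tab mwordsA u) = true := by decide +kernel

theorem m2_2275 : allRange 213850 94 (fun u => chkFix tab mwordsA u) = true := by decide +kernel


end Cfsg.Agent.Helper9.TCData.HeA0
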