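import Cfsg.Agent.Lib.Helper9.TCData.HeA0.Main

set_option autoImplicit false
set_option maxRecDepth 1000000

namespace Cfsg.Agent.Helper9.TCData.HeA0
open Cfsg.Agent.Helper9.TC2

theorem m2_2276 : allRange 213944 94 (fun u => chkFix tab mwordsA u) = true := by decide +kernel

theorem m2_2277 : allRange 214038 94 (fun u => chkFix tab mwordsA u) = true := by decide +kernel

theorem m2_2278 : allRange 214132 94 (fun u => chkFix tab mwordsA u) = true := by decide +kernel

theorem m2_2279 : allRange 214226 94 (fun u => chkFix tab mwordsA u) = true := by decide +kernel

theorem m2_2280 : allRange 214320 94 (fun u => chkFix tab mwordsA u) = true := by decide +kernel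

theorem m2_2281 : allRange 214414 94 (fun u => chkFix tab mwordsA u) = true := by decide +kernel

theorem m2_2282 : allRange 214508 94 (fun u => chkFix tab mwordsA u) = true := by decide +kernel

theorem m2_2283 : allRange 214602 94 (fun u => chkFix tab mwordsA u) = true := by decide +kernel


end Cfsg.Agent.Helper9.TCData.HeA0
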