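import Cfsg.Agent.Lib.Helper9.TCData.HeA0.Main

set_option autoImplicit false
set_option maxRecDepth 1000000

namespace Cfsg.Agent.Helper9.TCData.HeA0
open Cfsg.Agent.Helper9.TC2

theorem m2_2284 : allRange 214696 94 (fun u => chkFix tab mwordsA u) = true := by decide +kernel

theorem m2_2285 : allRange 214790 94 (fun u => chkFix tab mwordsA u) = true := by decide +kernel

theorem m2_2286 : allRange 214884 94 (fun u => chkFix tab mwordsA u) = true := by decide +kernel

theorem m2_2287 : allRange 214978 94 (fun u => chkFix tab mwordsA u) = true := by decide +kernel

theorem m2_2288 : allRange 215072 94 (fun u => chkFix tab mwordsA u) = true := by decide +kernel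

theorem m2_2289 : allRange 215166 94 (fun u => chkFix tab mwordsA u) = true := by decide +kernel

theorem m2_2290 : allRange 215260 94 (fun u => chkFix tab mwordsA u) = true := by decide +kernel

theorem m2_2291 : allRange 215354 94 (fun u => chkFix tab mwordsA u) = true := by decide +kernel


end Cfsg.Agent.Helper9.TCData.HeA0
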