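import Cfsg.Agent.Lib.Helper9.TCData.HeA0.Main

set_option autoImplicit false
set_option maxRecDepth 1000000

namespace Cfsg.Agent.Helper9.TCData.HeA0
open Cfsg.Agent.Helper9.TC2

theorem m2_2292 : allRange 215448 94 (fun u => chkFix tab mwordsA u) = true := by decide +kernel

theorem m2_2293 : allRange 215542 94 (fun u => chkFix tab mwordsA u) = true := by decide +kernel

theorem m2_2294 : allRange 215636 94 (fun u => chkFix tab mwordsA u) = true := by decide +kernel

theorem m2_2295 : allRange 215730 94 (fun u => chkFix tab mwordsA u) = true := by decide +kernel

theorem m2_2296 : allRange 215824 94 (fun u => chkFix tab mwordsA u) = true := by decide +kernel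

theorem m2_2297 : allRange 215918 94 (fun u => chkFix tab mwordsA u) = true := by decide +kernel

theorem m2_2298 : allRange 216012 94 (fun u => chkFix tab mwordsA u) = true := by decide +kernel

theorem m2_2299 : allRange 216106 94 (fun u => chkFix tab mwordsA u) = true := by decide +kernel


end Cfsg.Agent.Helper9.TCData.HeA0
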