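import Cfsg.Agent.Lib.Helper9.TCData.HeA0.Main

set_option autoImplicit false
set_option maxRecDepth 1000000

namespace Cfsg.Agent.Helper9.TCData.HeA0
open Cfsg.Agent.Helper9.TC2

theorem m2_2300 : allRange 216200 94 (fun u => chkFix tab mwordsA u) = true := by decide +kernel

theorem m2_2301 : allRange 216294 94 (fun u => chkFix tab mwordsA u) = true := by decide +kernel

theorem m2_2302 : allRange 216388 94 (fun u => chkFix tab mwordsA u) = true := by decide +kernel

theorem m2_2303 : allRange 216482 94 (fun u => chkFix tab mwordsA u) = true := by decide +kernel

theorem m2_2304 : allRange 216576 94 (fun u => chkFix tab mwordsA u) = true := by decide +kernel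

theorem m2_2305 : allRange 216670 94 (fun u => chkFix tab mwordsA u) = true := by decide +kernel

theorem m2_2306 : allRange 216764 94 (fun u => chkFix tab mwordsA u) = true := by decide +kernel

theorem m2_2307 : allRange 216858 94 (fun u => chkFix tab mwordsA u) = true := by decide +kernel


end Cfsg.Agent.Helper9.TCData.HeA0
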