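import Cfsg.Agent.Lib.Helper9.TCData.HeA0.Main

set_option autoImplicit false
set_option maxRecDepth 1000000

namespace Cfsg.Agent.Helper9.TCData.HeA0
open Cfsg.Agent.Helper9.TC2

theorem m2_2308 : allRange 216952 94 (fun u => chkFix tab mwordsA u) = true := by decide +kernel

theorem m2_2309 : allRange 217046 94 (fun u => chkFix tab mwordsA u) = true := by decide +kernel

theorem m2_2310 : allRange 217140 94 (fun u => chkFix tab mwordsA u) = true := by decide +kernel

theorem m2_2311 : allRange 217234 94 (fun u => chkFix tab mwordsA u) = true := by decide +kernel

theorem m2_2312 : allRange 217328 94 (fun u => chkFix tab mwordsA u) = true := by decide +kernel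

theorem m2_2313 : allRange 217422 94 (fun u => chkFix tab mwordsA u) = true := by decide +kernel

theorem m2_2314 : allRange 217516 94 (fun u => chkFix tab mwordsA u) = true := by decide +kernel

theorem m2_2315 : allRange 217610 94 (fun u => chkFix tab mwordsA u) = true := by decide +kernel


end Cfsg.Agent.Helper9.TCData.HeA0
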