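import Cfsg.Agent.Lib.Helper9.TCData.HeA0.Main

set_option autoImplicit false
set_option maxRecDepth 1000000

namespace Cfsg.Agent.Helper9.TCData.HeA0
open Cfsg.Agent.Helper9.TC2

theorem m2_2316 : allRange 217704 94 (fun u => chkFix tab mwordsA u) = true := by decide +kernel

theorem m2_2317 : allRange 217798 94 (fun u => chkFix tab mwordsA u) = true := by decide +kernel

theorem m2_2318 : allRange 217892 94 (fun u => chkFix tab mwordsA u) = true := by decide +kernel

theorem m2_2319 : allRange 217986 94 (fun u => chkFix tab mwordsA u) = true := by decide +kernel

theorem m2_2320 : allRange 218080 94 (fun u => chkFix tab mwordsA u) = true := by decide +kernel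

theorem m2_2321 : allRange 218174 94 (fun u => chkFix tab mwordsA u) = true := by decide +kernel

theorem m2_2322 : allRange 218268 94 (fun u => chkFix tab mwordsA u) = true := by decide +kernel

theorem m2_2323 : allRange 218362 94 (fun u => chkFix tab mwordsA u) = true := by decide +kernel


end Cfsg.Agent.Helper9.TCData.HeA0
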