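import Cfsg.Agent.Lib.Helper9.TCData.HeA0.Main

set_option autoImplicit false
set_option maxRecDepth 1000000

namespace Cfsg.Agent.Helper9.TCData.HeA0
open Cfsg.Agent.Helper9.TC2

theorem m2_2324 : allRange 218456 94 (fun u => chkFix tab mwordsA u) = true := by decide +kernel

theorem m2_2325 : allRange 218550 94 (fun u => chkFix tab mwordsA u) = true := by decide +kernel

theorem m2_2326 : allRange 218644 94 (fun u => chkFix tab mwordsA u) = true := by decide +kernel

theorem m2_2327 : allRange 218738 94 (fun u => chkFix tab mwordsA u) = true := by decide +kernel

theorem m2_2328 : allRange 218832 94 (fun u => chkFix tab mwordsA u) = true := by decide +kernel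

theorem m2_2329 : allRange 218926 94 (fun u => chkFix tab mwordsA u) = true := by decide +kernel

theorem m2_2330 : allRange 219020 94 (fun u => chkFix tab mwordsA u) = true := by decide +kernel

theorem m2_2331 : allRange 219114 94 (fun u => chkFix tab mwordsA u) = true := by decide +kernel


end Cfsg.Agent.Helper9.TCData.HeA0
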