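import Cfsg.Agent.Lib.Helper9.TCData.HeA0.Main

set_option autoImplicit false
set_option maxRecDepth 1000000

namespace Cfsg.Agent.Helper9.TCData.HeA0
open Cfsg.Agent.Helper9.TC2

theorem m2_2348 : allRange 220712 94 (fun u => chkFix tab mwordsA u) = true := by decide +kernel

theorem m2_2349 : allRange 220806 94 (fun u => chkFix tab mwordsA u) = true := by decide +kernel

theorem m2_2350 : allRange 220900 94 (fun u => chkFix tab mwordsA u) = true := by decide +kernel

theorem m2_2351 : allRange 220994 94 (fun u => chkFix tab mwordsA u) = true := by decide +kernel

theorem m2_2352 : allRange 221088 94 (fun u => chkFix tab mwordsA u) = true := by decide +kernel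

theorem m2_2353 : allRange 221182 94 (fun u => chkFix tab mwordsA u) = true := by decide +kernel

theorem m2_2354 : allRange 221276 94 (fun u => chkFix tab mwordsA u) = true := by decide +kernel

theorem m2_2355 : allRange 221370 94 (fun u => chkFix tab mwordsA u) = true := by decide +kernel


end Cfsg.Agent.Helper9.TCData.HeA0
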