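import Cfsg.Agent.Lib.Helper9.TCData.HeA0.Main

set_option autoImplicit false
set_option maxRecDepth 1000000

namespace Cfsg.Agent.Helper9.TCData.HeA0
open Cfsg.Agent.Helper9.TC2

theorem m2_2356 : allRange 221464 94 (fun u => chkFix tab mwordsA u) = true := by decide +kernel

theorem m2_2357 : allRange 221558 94 (fun u => chkFix tab mwordsA u) = true := by decide +kernel

theorem m2_2358 : allRange 221652 94 (fun u => chkFix tab mwordsA u) = true := by decide +kernel

theorem m2_2359 : allRange 221746 94 (fun u => chkFix tab mwordsA u) = true := by decide +kernel

theorem m2_2360 : allRange 221840 94 (fun u => chkFix tab mwordsA u) = true := by decide +kernel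

theorem m2_2361 : allRange 221934 94 (fun u => chkFix tab mwordsA u) = true := by decide +kernel

theorem m2_2362 : allRange 222028 94 (fun u => chkFix tab mwordsA u) = true := by decide +kernel

theorem m2_2363 : allRange 222122 94 (fun u => chkFix tab mwordsA u) = true := by decide +kernel


end Cfsg.Agent.Helper9.TCData.HeA0
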