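import Cfsg.Agent.Lib.Helper9.TCData.HeA0.Main

set_option autoImplicit false
set_option maxRecDepth 1000000

namespace Cfsg.Agent.Helper9.TCData.HeA0
open Cfsg.Agent.Helper9.TC2

theorem m2_2364 : allRange 222216 94 (fun u => chkFix tab mwordsA u) = true := by decide +kernel

theorem m2_2365 : allRange 222310 94 (fun u => chkFix tab mwordsA u) = true := by decide +kernel

theorem m2_2366 : allRange 222404 94 (fun u => chkFix tab mwordsA u) = true := by decide +kernel

theorem m2_2367 : allRange 222498 94 (fun u => chkFix tab mwordsA u) = true := by decide +kernel

theorem m2_2368 : allRange 222592 94 (fun u => chkFix tab mwordsA u) = true := by decide +kernel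

theorem m2_2369 : allRange 222686 94 (fun u => chkFix tab mwordsA u) = true := by decide +kernel

theorem m2_2370 : allRange 222780 94 (fun u => chkFix tab mwordsA u) = true := by decide +kernel

theorem m2_2371 : allRange 222874 94 (fun u => chkFix tab mwordsA u) = true := by decide +kernel


end Cfsg.Agent.Helper9.TCData.HeA0
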