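import Cfsg.Agent.Lib.Helper9.TCData.HeA0.Main

set_option autoImplicit false
set_option maxRecDepth 1000000

namespace Cfsg.Agent.Helper9.TCData.HeA0
open Cfsg.Agent.Helper9.TC2

theorem e4_19 : allRange 55731 2886 (fun u => chkE tab 4 u) = true := by decide +kernel

theorem e4_20 : allRange 58617 2870 (fun u => chkE tab 4 u) = true := by decide +kernel

theorem e4_21 : allRange 61487 2795 (fun u => chkE tab 4 u) = true := by decide +kernel

theorem e4_22 : allRange 64282 2905 (fun u => chkE tab 4 u) = true := by decide +kernel

theorem e4_23 : allRange 67187 2807 (fun u => chkE tab 4 u) = true := by decide +kernel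

theorem e4_24 : allRange 69994 2910 (fun u => chkE tab 4 u) = true := by decide +kernel

theorem e4_25 : allRange 72904 2769 (fun u => chkE tab 4 u) = true := by decide +kernel

theorem e4_26 : allRange 75673 2966 (fun u => chkE tab 4 u) = true := by decide +kernel


end Cfsg.Agent.Helper9.TCData.HeA0
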