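import Cfsg.Agent.Lib.Helper9.TCData.HeA0.Main

set_option autoImplicit false
set_option maxRecDepth 1000000

namespace Cfsg.Agent.Helper9.TCData.HeA0
open Cfsg.Agent.Helper9.TC2

theorem m2_2380 : allRange 223720 94 (fun u => chkFix tab mwordsA u) = true := by decide +kernel

theorem m2_2381 : allRange 223814 94 (fun u => chkFix tab mwordsA u) = true := by decide +kernel

theorem m2_2382 : allRange 223908 94 (fun u => chkFix tab mwordsA u) = true := by decide +kernel

theorem m2_2383 : allRange 224002 94 (fun u => chkFix tab mwordsA u) = true := by decide +kernel

theorem m2_2384 : allRange 224096 94 (fun u => chkFix tab mwordsA u) = true := by decide +kernel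

theorem m2_2385 : allRange 224190 94 (fun u => chkFix tab mwordsA u) = true := by decide +kernel

theorem m2_2386 : allRange 224284 94 (fun u => chkFix tab mwordsA u) = true := by decide +kernel

theorem m2_2387 : allRange 224378 94 (fun u => chkFix tab mwordsA u) = true := by decide +kernel


end Cfsg.Agent.Helper9.TCData.HeA0
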