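import Cfsg.Agent.Lib.Helper9.TCData.HeA0.Main

set_option autoImplicit false
set_option maxRecDepth 1000000

namespace Cfsg.Agent.Helper9.TCData.HeA0
open Cfsg.Agent.Helper9.TC2

theorem m2_2412 : allRange 226728 94 (fun u => chkFix tab mwordsA u) = true := by decide +kernel

theorem m2_2413 : allRange 226822 94 (fun u => chkFix tab mwordsA u) = true := by decide +kernel

theorem m2_2414 : allRange 226916 94 (fun u => chkFix tab mwordsA u) = true := by decide +kernel

theorem m2_2415 : allRange 227010 94 (fun u => chkFix tab mwordsA u) = true := by decide +kernel

theorem m2_2416 : allRange 227104 94 (fun u => chkFix tab mwordsA u) = true := by decide +kernel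

theorem m2_2417 : allRange 227198 94 (fun u => chkFix tab mwordsA u) = true := by decide +kernel

theorem m2_2418 : allRange 227292 94 (fun u => chkFix tab mwordsA u) = true := by decide +kernel

theorem m2_2419 : allRange 227386 94 (fun u => chkFix tab mwordsA u) = true := by decide +kernel


end Cfsg.Agent.Helper9.TCData.HeA0
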