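import Cfsg.Agent.Lib.Helper9.TCData.HeA0.Main

set_option autoImplicit false
set_option maxRecDepth 1000000

namespace Cfsg.Agent.Helper9.TCData.HeA0
open Cfsg.Agent.Helper9.TC2

theorem m2_2420 : allRange 227480 94 (fun u => chkFix tab mwordsA u) = true := by decide +kernel

theorem m2_2421 : allRange 227574 94 (fun u => chkFix tab mwordsA u) = true := by decide +kernel

theorem m2_2422 : allRange 227668 94 (fun u => chkFix tab mwordsA u) = true := by decide +kernel

theorem m2_2423 : allRange 227762 94 (fun u => chkFix tab mwordsA u) = true := by decide +kernel

theorem m2_2424 : allRange 227856 94 (fun u => chkFix tab mwordsA u) = true := by decide +kernel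

theorem m2_2425 : allRange 227950 94 (fun u => chkFix tab mwordsA u) = true := by decide +kernel

theorem m2_2426 : allRange 228044 94 (fun u => chkFix tab mwordsA u) = true := by decide +kernel

theorem m2_2427 : allRange 228138 94 (fun u => chkFix tab mwordsA u) = true := by decide +kernel


end Cfsg.Agent.Helper9.TCData.HeA0
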