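import Cfsg.Agent.Lib.Helper9.TCData.HeA0.Main

set_option autoImplicit false
set_option maxRecDepth 1000000

namespace Cfsg.Agent.Helper9.TCData.HeA0
open Cfsg.Agent.Helper9.TC2

theorem m2_2428 : allRange 228232 94 (fun u => chkFix tab mwordsA u) = true := by decide +kernel

theorem m2_2429 : allRange 228326 94 (fun u => chkFix tab mwordsA u) = true := by decide +kernel

theorem m2_2430 : allRange 228420 94 (fun u => chkFix tab mwordsA u) = true := by decide +kernel

theorem m2_2431 : allRange 228514 94 (fun u => chkFix tab mwordsA u) = true := by decide +kernel

theorem m2_2432 : allRange 228608 94 (fun u => chkFix tab mwordsA u) = true := by decide +kernel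

theorem m2_2433 : allRange 228702 94 (fun u => chkFix tab mwordsA u) = true := by decide +kernel

theorem m2_2434 : allRange 228796 94 (fun u => chkFix tab mwordsA u) = true := by decide +kernel

theorem m2_2435 : allRange 228890 94 (fun u => chkFix tab mwordsA u) = true := by decide +kernel


end Cfsg.Agent.Helper9.TCData.HeA0
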