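import Cfsg.Agent.Lib.Helper9.TCData.HeA0.Main

set_option autoImplicit false
set_option maxRecDepth 1000000

namespace Cfsg.Agent.Helper9.TCData.HeA0
open Cfsg.Agent.Helper9.TC2

theorem m2_2444 : allRange 229736 94 (fun u => chkFix tab mwordsA u) = true := by decide +kernel

theorem m2_2445 : allRange 229830 94 (fun u => chkFix tab mwordsA u) = true := by decide +kernel

theorem m2_2446 : allRange 229924 94 (fun u => chkFix tab mwordsA u) = true := by decide +kernel

theorem m2_2447 : allRange 230018 94 (fun u => chkFix tab mwordsA u) = true := by decide +kernel

theorem m2_2448 : allRange 230112 94 (fun u => chkFix tab mwordsA u) = true := by decide +kernel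

theorem m2_2449 : allRange 230206 94 (fun u => chkFix tab mwordsA u) = true := by decide +kernel

theorem m2_2450 : allRange 230300 94 (fun u => chkFix tab mwordsA u) = true := by decide +kernel

theorem m2_2451 : allRange 230394 94 (fun u => chkFix tab mwordsA u) = true := by decide +kernel


end Cfsg.Agent.Helper9.TCData.HeA0
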