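import Cfsg.Agent.Lib.Helper9.TCData.HeA0.Main

set_option autoImplicit false
set_option maxRecDepth 1000000

namespace Cfsg.Agent.Helper9.TCData.HeA0
open Cfsg.Agent.Helper9.TC2

theorem m2_2452 : allRange 230488 94 (fun u => chkFix tab mwordsA u) = true := by decide +kernel

theorem m2_2453 : allRange 230582 94 (fun u => chkFix tab mwordsA u) = true := by decide +kernel

theorem m2_2454 : allRange 230676 94 (fun u => chkFix tab mwordsA u) = true := by decide +kernel

theorem m2_2455 : allRange 230770 94 (fun u => chkFix tab mwordsA u) = true := by decide +kernel

theorem m2_2456 : allRange 230864 94 (fun u => chkFix tab mwordsA u) = true := by decide +kernel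

theorem m2_2457 : allRange 230958 94 (fun u => chkFix tab mwordsA u) = true := by decide +kernel

theorem m2_2458 : allRange 231052 94 (fun u => chkFix tab mwordsA u) = true := by decide +kernel

theorem m2_2459 : allRange 231146 94 (fun u => chkFix tab mwordsA u) = true := by decide +kernel


end Cfsg.Agent.Helper9.TCData.HeA0
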