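import Cfsg.Agent.Lib.Helper9.TCData.HeA0.Main

set_option autoImplicit false
set_option maxRecDepth 1000000

namespace Cfsg.Agent.Helper9.TCData.HeA0
open Cfsg.Agent.Helper9.TC2

theorem m2_2460 : allRange 231240 94 (fun u => chkFix tab mwordsA u) = true := by decide +kernel

theorem m2_2461 : allRange 231334 94 (fun u => chkFix tab mwordsA u) = true := by decide +kernel

theorem m2_2462 : allRange 231428 94 (fun u => chkFix tab mwordsA u) = true := by decide +kernel

theorem m2_2463 : allRange 231522 94 (fun u => chkFix tab mwordsA u) = true := by decide +kernel

theorem m2_2464 : allRange 231616 94 (fun u => chkFix tab mwordsA u) = true := by decide +kernel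

theorem m2_2465 : allRange 231710 94 (fun u => chkFix tab mwordsA u) = true := by decide +kernel

theorem m2_2466 : allRange 231804 94 (fun u => chkFix tab mwordsA u) = true := by decide +kernel

theorem m2_2467 : allRange 231898 94 (fun u => chkFix tab mwordsA u) = true := by decide +kernel


end Cfsg.Agent.Helper9.TCData.HeA0
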