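import Cfsg.Agent.Lib.Helper9.TCData.HeA0.Main

set_option autoImplicit false
set_option maxRecDepth 1000000

namespace Cfsg.Agent.Helper9.TCData.HeA0
open Cfsg.Agent.Helper9.TC2

theorem m2_2468 : allRange 231992 94 (fun u => chkFix tab mwordsA u) = true := by decide +kernel

theorem m2_2469 : allRange 232086 94 (fun u => chkFix tab mwordsA u) = true := by decide +kernel

theorem m2_2470 : allRange 232180 94 (fun u => chkFix tab mwordsA u) = true := by decide +kernel

theorem m2_2471 : allRange 232274 94 (fun u => chkFix tab mwordsA u) = true := by decide +kernel

theorem m2_2472 : allRange 232368 94 (fun u => chkFix tab mwordsA u) = true := by decide +kernel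

theorem m2_2473 : allRange 232462 94 (fun u => chkFix tab mwordsA u) = true := by decide +kernel

theorem m2_2474 : allRange 232556 94 (fun u => chkFix tab mwordsA u) = true := by decide +kernel

theorem m2_2475 : allRange 232650 94 (fun u => chkFix tab mwordsA u) = true := by decide +kernel


end Cfsg.Agent.Helper9.TCData.HeA0
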