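import Cfsg.Agent.Lib.Helper9.TCData.HeA0.Main

set_option autoImplicit false
set_option maxRecDepth 1000000

namespace Cfsg.Agent.Helper9.TCData.HeA0
open Cfsg.Agent.Helper9.TC2

theorem m2_2476 : allRange 232744 94 (fun u => chkFix tab mwordsA u) = true := by decide +kernel

theorem m2_2477 : allRange 232838 94 (fun u => chkFix tab mwordsA u) = true := by decide +kernel

theorem m2_2478 : allRange 232932 94 (fun u => chkFix tab mwordsA u) = true := by decide +kernel

theorem m2_2479 : allRange 233026 94 (fun u => chkFix tab mwordsA u) = true := by decide +kernel

theorem m2_2480 : allRange 233120 94 (fun u => chkFix tab mwordsA u) = true := by decide +kernel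

theorem m2_2481 : allRange 233214 94 (fun u => chkFix tab mwordsA u) = true := by decide +kernel

theorem m2_2482 : allRange 233308 94 (fun u => chkFix tab mwordsA u) = true := by decide +kernel

theorem m2_2483 : allRange 233402 94 (fun u => chkFix tab mwordsA u) = true := by decide +kernel


end Cfsg.Agent.Helper9.TCData.HeA0
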