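import Cfsg.Agent.Lib.Helper9.TCData.HeA0.Main

set_option autoImplicit false
set_option maxRecDepth 1000000

namespace Cfsg.Agent.Helper9.TCData.HeA0
open Cfsg.Agent.Helper9.TC2

theorem m2_2484 : allRange 233496 94 (fun u => chkFix tab mwordsA u) = true := by decide +kernel

theorem m2_2485 : allRange 233590 94 (fun u => chkFix tab mwordsA u) = true := by decide +kernel

theorem m2_2486 : allRange 233684 94 (fun u => chkFix tab mwordsA u) = true := by decide +kernel

theorem m2_2487 : allRange 233778 94 (fun u => chkFix tab mwordsA u) = true := by decide +kernel

theorem m2_2488 : allRange 233872 94 (fun u => chkFix tab mwordsA u) = true := by decide +kernel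

theorem m2_2489 : allRange 233966 94 (fun u => chkFix tab mwordsA u) = true := by decide +kernel

theorem m2_2490 : allRange 234060 94 (fun u => chkFix tab mwordsA u) = true := by decide +kernel

theorem m2_2491 : allRange 234154 94 (fun u => chkFix tab mwordsA u) = true := by decide +kernel


end Cfsg.Agent.Helper9.TCData.HeA0
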