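import Cfsg.Agent.Lib.Helper9.TCData.HeA0.Main

set_option autoImplicit false
set_option maxRecDepth 1000000

namespace Cfsg.Agent.Helper9.TCData.HeA0
open Cfsg.Agent.Helper9.TC2

theorem m2_2500 : allRange 235000 94 (fun u => chkFix tab mwordsA u) = true := by decide +kernel

theorem m2_2501 : allRange 235094 94 (fun u => chkFix tab mwordsA u) = true := by decide +kernel

theorem m2_2502 : allRange 235188 94 (fun u => chkFix tab mwordsA u) = true := by decide +kernel

theorem m2_2503 : allRange 235282 94 (fun u => chkFix tab mwordsA u) = true := by decide +kernel

theorem m2_2504 : allRange 235376 94 (fun u => chkFix tab mwordsA u) = true := by decide +kernel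

theorem m2_2505 : allRange 235470 94 (fun u => chkFix tab mwordsA u) = true := by decide +kernel

theorem m2_2506 : allRange 235564 94 (fun u => chkFix tab mwordsA u) = true := by decide +kernel

theorem m2_2507 : allRange 235658 94 (fun u => chkFix tab mwordsA u) = true := by decide +kernel


end Cfsg.Agent.Helper9.TCData.HeA0
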