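import Cfsg.Agent.Lib.Helper9.TCData.HeA0.Main

set_option autoImplicit false
set_option maxRecDepth 1000000

namespace Cfsg.Agent.Helper9.TCData.HeA0
open Cfsg.Agent.Helper9.TC2

theorem m2_2508 : allRange 235752 94 (fun u => chkFix tab mwordsA u) = true := by decide +kernel

theorem m2_2509 : allRange 235846 94 (fun u => chkFix tab mwordsA u) = true := by decide +kernel

theorem m2_2510 : allRange 235940 94 (fun u => chkFix tab mwordsA u) = true := by decide +kernel

theorem m2_2511 : allRange 236034 94 (fun u => chkFix tab mwordsA u) = true := by decide +kernel

theorem m2_2512 : allRange 236128 94 (fun u => chkFix tab mwordsA u) = true := by decide +kernel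

theorem m2_2513 : allRange 236222 94 (fun u => chkFix tab mwordsA u) = true := by decide +kernel

theorem m2_2514 : allRange 236316 94 (fun u => chkFix tab mwordsA u) = true := by decide +kernel

theorem m2_2515 : allRange 236410 94 (fun u => chkFix tab mwordsA u) = true := by decide +kernel


end Cfsg.Agent.Helper9.TCData.HeA0
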