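import Cfsg.Agent.Lib.Helper9.TCData.HeA0.Main

set_option autoImplicit false
set_option maxRecDepth 1000000

namespace Cfsg.Agent.Helper9.TCData.HeA0
open Cfsg.Agent.Helper9.TC2

theorem m2_2516 : allRange 236504 94 (fun u => chkFix tab mwordsA u) = true := by decide +kernel

theorem m2_2517 : allRange 236598 94 (fun u => chkFix tab mwordsA u) = true := by decide +kernel

theorem m2_2518 : allRange 236692 94 (fun u => chkFix tab mwordsA u) = true := by decide +kernel

theorem m2_2519 : allRange 236786 94 (fun u => chkFix tab mwordsA u) = true := by decide +kernel

theorem m2_2520 : allRange 236880 94 (fun u => chkFix tab mwordsA u) = true := by decide +kernel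

theorem m2_2521 : allRange 236974 94 (fun u => chkFix tab mwordsA u) = true := by decide +kernel

theorem m2_2522 : allRange 237068 94 (fun u => chkFix tab mwordsA u) = true := by decide +kernel

theorem m2_2523 : allRange 237162 94 (fun u => chkFix tab mwordsA u) = true := by decide +kernel


end Cfsg.Agent.Helper9.TCData.HeA0
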