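import Cfsg.Agent.Lib.Helper9.TCData.HeA0.Main

set_option autoImplicit false
set_option maxRecDepth 1000000

namespace Cfsg.Agent.Helper9.TCData.HeA0
open Cfsg.Agent.Helper9.TC2

theorem m2_2524 : allRange 237256 94 (fun u => chkFix tab mwordsA u) = true := by decide +kernel

theorem m2_2525 : allRange 237350 94 (fun u => chkFix tab mwordsA u) = true := by decide +kernel

theorem m2_2526 : allRange 237444 94 (fun u => chkFix tab mwordsA u) = true := by decide +kernel

theorem m2_2527 : allRange 237538 94 (fun u => chkFix tab mwordsA u) = true := by decide +kernel

theorem m2_2528 : allRange 237632 94 (fun u => chkFix tab mwordsA u) = true := by decide +kernel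

theorem m2_2529 : allRange 237726 94 (fun u => chkFix tab mwordsA u) = true := by decide +kernel

theorem m2_2530 : allRange 237820 94 (fun u => chkFix tab mwordsA u) = true := by decide +kernel

theorem m2_2531 : allRange 237914 94 (fun u => chkFix tab mwordsA u) = true := by decide +kernel


end Cfsg.Agent.Helper9.TCData.HeA0
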