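import Cfsg.Agent.Lib.Helper9.TCData.HeA0.Main

set_option autoImplicit false
set_option maxRecDepth 1000000

namespace Cfsg.Agent.Helper9.TCData.HeA0
open Cfsg.Agent.Helper9.TC2

theorem e4_35 : allRange 102010 2918 (fun u => chkE tab 4 u) = true := by decide +kernel

theorem e4_36 : allRange 104928 3020 (fun u => chkE tab 4 u) = true := by decide +kernel

theorem e4_37 : allRange 107948 2947 (fun u => chkE tab 4 u) = true := by decide +kernel

theorem e4_38 : allRange 110895 2953 (fun u => chkE tab 4 u) = true := by decide +kernel

theorem e4_39 : allRange 113848 2947 (fun u => chkE tab 4 u) = true := by decide +kernel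

theorem e4_40 : allRange 116795 2862 (fun u => chkE tab 4 u) = true := by decide +kernel

theorem e4_41 : allRange 119657 2995 (fun u => chkE tab 4 u) = true := by decide +kernel

theorem e4_42 : allRange 122652 3007 (fun u => chkE tab 4 u) = true := by decide +kernel


end Cfsg.Agent.Helper9.TCData.HeA0
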