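import Cfsg.Agent.Lib.Helper9.TCData.HeA0.Main

set_option autoImplicit false
set_option maxRecDepth 1000000

namespace Cfsg.Agent.Helper9.TCData.HeA0
open Cfsg.Agent.Helper9.TC2

theorem m2_2548 : allRange 239512 94 (fun u => chkFix tab mwordsA u) = true := by decide +kernel

theorem m2_2549 : allRange 239606 94 (fun u => chkFix tab mwordsA u) = true := by decide +kernel

theorem m2_2550 : allRange 239700 94 (fun u => chkFix tab mwordsA u) = true := by decide +kernel

theorem m2_2551 : allRange 239794 94 (fun u => chkFix tab mwordsA u) = true := by decide +kernel

theorem m2_2552 : allRange 239888 94 (fun u => chkFix tab mwordsA u) = true := by decide +kernel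

theorem m2_2553 : allRange 239982 94 (fun u => chkFix tab mwordsA u) = true := by decide +kernel

theorem m2_2554 : allRange 240076 94 (fun u => chkFix tab mwordsA u) = true := by decide +kernel

theorem m2_2555 : allRange 240170 94 (fun u => chkFix tab mwordsA u) = true := by decide +kernel


end Cfsg.Agent.Helper9.TCData.HeA0
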