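import Cfsg.Agent.Lib.Helper9.TCData.HeA0.Main

set_option autoImplicit false
set_option maxRecDepth 1000000

namespace Cfsg.Agent.Helper9.TCData.HeA0
open Cfsg.Agent.Helper9.TC2

theorem m2_2556 : allRange 240264 94 (fun u => chkFix tab mwordsA u) = true := by decide +kernel

theorem m2_2557 : allRange 240358 94 (fun u => chkFix tab mwordsA u) = true := by decide +kernel

theorem m2_2558 : allRange 240452 94 (fun u => chkFix tab mwordsA u) = true := by decide +kernel

theorem m2_2559 : allRange 240546 94 (fun u => chkFix tab mwordsA u) = true := by decide +kernel

theorem m2_2560 : allRange 240640 94 (fun u => chkFix tab mwordsA u) = true := by decide +kernel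

theorem m2_2561 : allRange 240734 94 (fun u => chkFix tab mwordsA u) = true := by decide +kernel

theorem m2_2562 : allRange 240828 94 (fun u => chkFix tab mwordsA u) = true := by decide +kernel

theorem m2_2563 : allRange 240922 94 (fun u => chkFix tab mwordsA u) = true := by decide +kernel


end Cfsg.Agent.Helper9.TCData.HeA0
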