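import Cfsg.Agent.Lib.Helper9.TCData.HeA0.Main

set_option autoImplicit false
set_option maxRecDepth 1000000

namespace Cfsg.Agent.Helper9.TCData.HeA0
open Cfsg.Agent.Helper9.TC2

theorem m2_2564 : allRange 241016 94 (fun u => chkFix tab mwordsA u) = true := by decide +kernel

theorem m2_2565 : allRange 241110 94 (fun u => chkFix tab mwordsA u) = true := by decide +kernel

theorem m2_2566 : allRange 241204 94 (fun u => chkFix tab mwordsA u) = true := by decide +kernel

theorem m2_2567 : allRange 241298 94 (fun u => chkFix tab mwordsA u) = true := by decide +kernel

theorem m2_2568 : allRange 241392 94 (fun u => chkFix tab mwordsA u) = true := by decide +kernel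

theorem m2_2569 : allRange 241486 94 (fun u => chkFix tab mwordsA u) = true := by decide +kernel

theorem m2_2570 : allRange 241580 94 (fun u => chkFix tab mwordsA u) = true := by decide +kernel

theorem m2_2571 : allRange 241674 94 (fun u => chkFix tab mwordsA u) = true := by decide +kernel


end Cfsg.Agent.Helper9.TCData.HeA0
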