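import Cfsg.Agent.Lib.Helper9.TCData.HeA0.Main

set_option autoImplicit false
set_option maxRecDepth 1000000

namespace Cfsg.Agent.Helper9.TCData.HeA0
open Cfsg.Agent.Helper9.TC2

theorem m2_2572 : allRange 241768 94 (fun u => chkFix tab mwordsA u) = true := by decide +kernel

theorem m2_2573 : allRange 241862 94 (fun u => chkFix tab mwordsA u) = true := by decide +kernel

theorem m2_2574 : allRange 241956 94 (fun u => chkFix tab mwordsA u) = true := by decide +kernel

theorem m2_2575 : allRange 242050 94 (fun u => chkFix tab mwordsA u) = true := by decide +kernel

theorem m2_2576 : allRange 242144 94 (fun u => chkFix tab mwordsA u) = true := by decide +kernel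

theorem m2_2577 : allRange 242238 94 (fun u => chkFix tab mwordsA u) = true := by decide +kernel

theorem m2_2578 : allRange 242332 94 (fun u => chkFix tab mwordsA u) = true := by decide +kernel

theorem m2_2579 : allRange 242426 94 (fun u => chkFix tab mwordsA u) = true := by decide +kernel


end Cfsg.Agent.Helper9.TCData.HeA0
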