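import Cfsg.Agent.Lib.Helper9.TCData.HeA0.Main

set_option autoImplicit false
set_option maxRecDepth 1000000

namespace Cfsg.Agent.Helper9.TCData.HeA0
open Cfsg.Agent.Helper9.TC2

theorem m2_2580 : allRange 242520 94 (fun u => chkFix tab mwordsA u) = true := by decide +kernel

theorem m2_2581 : allRange 242614 94 (fun u => chkFix tab mwordsA u) = true := by decide +kernel

theorem m2_2582 : allRange 242708 94 (fun u => chkFix tab mwordsA u) = true := by decide +kernel

theorem m2_2583 : allRange 242802 94 (fun u => chkFix tab mwordsA u) = true := by decide +kernel

theorem m2_2584 : allRange 242896 94 (fun u => chkFix tab mwordsA u) = true := by decide +kernel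

theorem m2_2585 : allRange 242990 94 (fun u => chkFix tab mwordsA u) = true := by decide +kernel

theorem m2_2586 : allRange 243084 94 (fun u => chkFix tab mwordsA u) = true := by decide +kernel

theorem m2_2587 : allRange 243178 94 (fun u => chkFix tab mwordsA u) = true := by decide +kernel


end Cfsg.Agent.Helper9.TCData.HeA0
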