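import Cfsg.Agent.Lib.Helper9.TCData.HeA0.Main

set_option autoImplicit false
set_option maxRecDepth 1000000

namespace Cfsg.Agent.Helper9.TCData.HeA0
open Cfsg.Agent.Helper9.TC2

theorem m2_2596 : allRange 244024 94 (fun u => chkFix tab mwordsA u) = true := by decide +kernel

theorem m2_2597 : allRange 244118 94 (fun u => chkFix tab mwordsA u) = true := by decide +kernel

theorem m2_2598 : allRange 244212 94 (fun u => chkFix tab mwordsA u) = true := by decide +kernel

theorem m2_2599 : allRange 244306 94 (fun u => chkFix tab mwordsA u) = true := by decide +kernel

theorem m2_2600 : allRange 244400 94 (fun u => chkFix tab mwordsA u) = true := by decide +kernel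

theorem m2_2601 : allRange 244494 94 (fun u => chkFix tab mwordsA u) = true := by decide +kernel

theorem m2_2602 : allRange 244588 94 (fun u => chkFix tab mwordsA u) = true := by decide +kernel

theorem m2_2603 : allRange 244682 94 (fun u => chkFix tab mwordsA u) = true := by decide +kernel


end Cfsg.Agent.Helper9.TCData.HeA0
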