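import Cfsg.Agent.Lib.Helper9.TCData.HeA0.Main

set_option autoImplicit false
set_option maxRecDepth 1000000

namespace Cfsg.Agent.Helper9.TCData.HeA0
open Cfsg.Agent.Helper9.TC2

theorem m2_2604 : allRange 244776 94 (fun u => chkFix tab mwordsA u) = true := by decide +kernel

theorem m2_2605 : allRange 244870 94 (fun u => chkFix tab mwordsA u) = true := by decide +kernel

theorem m2_2606 : allRange 244964 94 (fun u => chkFix tab mwordsA u) = true := by decide +kernel

theorem m2_2607 : allRange 245058 94 (fun u => chkFix tab mwordsA u) = true := by decide +kernel

theorem m2_2608 : allRange 245152 94 (fun u => chkFix tab mwordsA u) = true := by decide +kernel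

theorem m2_2609 : allRange 245246 94 (fun u => chkFix tab mwordsA u) = true := by decide +kernel

theorem m2_2610 : allRange 245340 94 (fun u => chkFix tab mwordsA u) = true := by decide +kernel

theorem m2_2611 : allRange 245434 94 (fun u => chkFix tab mwordsA u) = true := by decide +kernel


end Cfsg.Agent.Helper9.TCData.HeA0
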