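import Cfsg.Agent.Lib.Helper9.TCData.HeA0.Main

set_option autoImplicit false
set_option maxRecDepth 1000000

namespace Cfsg.Agent.Helper9.TCData.HeA0
open Cfsg.Agent.Helper9.TC2

theorem e4_43 : allRange 125659 2838 (fun u => chkE tab 4 u) = true := by decide +kernel

theorem e4_44 : allRange 128497 2858 (fun u => chkE tab 4 u) = true := by decide +kernel

theorem e4_45 : allRange 131355 3036 (fun u => chkE tab 4 u) = true := by decide +kernel

theorem e4_46 : allRange 134391 2875 (fun u => chkE tab 4 u) = true := by decide +kernel

theorem e4_47 : allRange 137266 2866 (fun u => chkE tab 4 u) = true := by decide +kernel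

theorem e4_48 : allRange 140132 2842 (fun u => chkE tab 4 u) = true := by decide +kernel

theorem e4_49 : allRange 142974 2852 (fun u => chkE tab 4 u) = true := by decide +kernel

theorem e4_50 : allRange 145826 2927 (fun u => chkE tab 4 u) = true := by decide +kernel


end Cfsg.Agent.Helper9.TCData.HeA0
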