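import Cfsg.Agent.Lib.Helper9.TCData.HeA0.Main

set_option autoImplicit false
set_option maxRecDepth 1000000

namespace Cfsg.Agent.Helper9.TCData.HeA0
open Cfsg.Agent.Helper9.TC2

theorem m2_2612 : allRange 245528 94 (fun u => chkFix tab mwordsA u) = true := by decide +kernel

theorem m2_2613 : allRange 245622 94 (fun u => chkFix tab mwordsA u) = true := by decide +kernel

theorem m2_2614 : allRange 245716 94 (fun u => chkFix tab mwordsA u) = true := by decide +kernel

theorem m2_2615 : allRange 245810 94 (fun u => chkFix tab mwordsA u) = true := by decide +kernel

theorem m2_2616 : allRange 245904 94 (fun u => chkFix tab mwordsA u) = true := by decide +kernel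

theorem m2_2617 : allRange 245998 94 (fun u => chkFix tab mwordsA u) = true := by decide +kernel

theorem m2_2618 : allRange 246092 94 (fun u => chkFix tab mwordsA u) = true := by decide +kernel

theorem m2_2619 : allRange 246186 94 (fun u => chkFix tab mwordsA u) = true := by decide +kernel


end Cfsg.Agent.Helper9.TCData.HeA0
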