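import Cfsg.Agent.Lib.Helper9.TCData.HeA0.Main

set_option autoImplicit false
set_option maxRecDepth 1000000

namespace Cfsg.Agent.Helper9.TCData.HeA0
open Cfsg.Agent.Helper9.TC2

theorem m2_2636 : allRange 247784 94 (fun u => chkFix tab mwordsA u) = true := by decide +kernel

theorem m2_2637 : allRange 247878 94 (fun u => chkFix tab mwordsA u) = true := by decide +kernel

theorem m2_2638 : allRange 247972 94 (fun u => chkFix tab mwordsA u) = true := by decide +kernel

theorem m2_2639 : allRange 248066 94 (fun u => chkFix tab mwordsA u) = true := by decide +kernel

theorem m2_2640 : allRange 248160 94 (fun u => chkFix tab mwordsA u) = true := by decide +kernel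

theorem m2_2641 : allRange 248254 94 (fun u => chkFix tab mwordsA u) = true := by decide +kernel

theorem m2_2642 : allRange 248348 94 (fun u => chkFix tab mwordsA u) = true := by decide +kernel

theorem m2_2643 : allRange 248442 94 (fun u => chkFix tab mwordsA u) = true := by decide +kernel


end Cfsg.Agent.Helper9.TCData.HeA0
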