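import Cfsg.Agent.Lib.Helper9.TCData.HeA0.Main

set_option autoImplicit false
set_option maxRecDepth 1000000

namespace Cfsg.Agent.Helper9.TCData.HeA0
open Cfsg.Agent.Helper9.TC2

theorem m2_2644 : allRange 248536 94 (fun u => chkFix tab mwordsA u) = true := by decide +kernel

theorem m2_2645 : allRange 248630 94 (fun u => chkFix tab mwordsA u) = true := by decide +kernel

theorem m2_2646 : allRange 248724 94 (fun u => chkFix tab mwordsA u) = true := by decide +kernel

theorem m2_2647 : allRange 248818 94 (fun u => chkFix tab mwordsA u) = true := by decide +kernel

theorem m2_2648 : allRange 248912 94 (fun u => chkFix tab mwordsA u) = true := by decide +kernel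

theorem m2_2649 : allRange 249006 94 (fun u => chkFix tab mwordsA u) = true := by decide +kernel

theorem m2_2650 : allRange 249100 94 (fun u => chkFix tab mwordsA u) = true := by decide +kernel

theorem m2_2651 : allRange 249194 94 (fun u => chkFix tab mwordsA u) = true := by decide +kernel


end Cfsg.Agent.Helper9.TCData.HeA0
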