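import Cfsg.Agent.Lib.Helper9.TCData.HeA0.Main

set_option autoImplicit false
set_option maxRecDepth 1000000

namespace Cfsg.Agent.Helper9.TCData.HeA0
open Cfsg.Agent.Helper9.TC2

theorem m2_2668 : allRange 250792 94 (fun u => chkFix tab mwordsA u) = true := by decide +kernel

theorem m2_2669 : allRange 250886 94 (fun u => chkFix tab mwordsA u) = true := by decide +kernel

theorem m2_2670 : allRange 250980 94 (fun u => chkFix tab mwordsA u) = true := by decide +kernel

theorem m2_2671 : allRange 251074 94 (fun u => chkFix tab mwordsA u) = true := by decide +kernel

theorem m2_2672 : allRange 251168 94 (fun u => chkFix tab mwordsA u) = true := by decide +kernel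

theorem m2_2673 : allRange 251262 94 (fun u => chkFix tab mwordsA u) = true := by decide +kernel

theorem m2_2674 : allRange 251356 94 (fun u => chkFix tab mwordsA u) = true := by decide +kernel

theorem m2_2675 : allRange 251450 94 (fun u => chkFix tab mwordsA u) = true := by decide +kernel


end Cfsg.Agent.Helper9.TCData.HeA0
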