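import Cfsg.Agent.Lib.Helper9.TCData.HeA0.Main

set_option autoImplicit false
set_option maxRecDepth 1000000

namespace Cfsg.Agent.Helper9.TCData.HeA0
open Cfsg.Agent.Helper9.TC2

theorem m2_2676 : allRange 251544 94 (fun u => chkFix tab mwordsA u) = true := by decide +kernel

theorem m2_2677 : allRange 251638 94 (fun u => chkFix tab mwordsA u) = true := by decide +kernel

theorem m2_2678 : allRange 251732 94 (fun u => chkFix tab mwordsA u) = true := by decide +kernel

theorem m2_2679 : allRange 251826 94 (fun u => chkFix tab mwordsA u) = true := by decide +kernel

theorem m2_2680 : allRange 251920 94 (fun u => chkFix tab mwordsA u) = true := by decide +kernel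

theorem m2_2681 : allRange 252014 94 (fun u => chkFix tab mwordsA u) = true := by decide +kernel

theorem m2_2682 : allRange 252108 94 (fun u => chkFix tab mwordsA u) = true := by decide +kernel

theorem m2_2683 : allRange 252202 94 (fun u => chkFix tab mwordsA u) = true := by decide +kernel


end Cfsg.Agent.Helper9.TCData.HeA0
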