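import Cfsg.Agent.Lib.Helper9.TCData.HeA0.Main

set_option autoImplicit false
set_option maxRecDepth 1000000

namespace Cfsg.Agent.Helper9.TCData.HeA0
open Cfsg.Agent.Helper9.TC2

theorem m2_2684 : allRange 252296 94 (fun u => chkFix tab mwordsA u) = true := by decide +kernel

theorem m2_2685 : allRange 252390 94 (fun u => chkFix tab mwordsA u) = true := by decide +kernel

theorem m2_2686 : allRange 252484 94 (fun u => chkFix tab mwordsA u) = true := by decide +kernel

theorem m2_2687 : allRange 252578 94 (fun u => chkFix tab mwordsA u) = true := by decide +kernel

theorem m2_2688 : allRange 252672 94 (fun u => chkFix tab mwordsA u) = true := by decide +kernel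

theorem m2_2689 : allRange 252766 94 (fun u => chkFix tab mwordsA u) = true := by decide +kernel

theorem m2_2690 : allRange 252860 94 (fun u => chkFix tab mwordsA u) = true := by decide +kernel

theorem m2_2691 : allRange 252954 94 (fun u => chkFix tab mwordsA u) = true := by decide +kernel


end Cfsg.Agent.Helper9.TCData.HeA0
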