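import Cfsg.Agent.Lib.Helper9.TCData.HeA0.Main

set_option autoImplicit false
set_option maxRecDepth 1000000

namespace Cfsg.Agent.Helper9.TCData.HeA0
open Cfsg.Agent.Helper9.TC2

theorem e4_51 : allRange 148753 2874 (fun u => chkE tab 4 u) = true := by decide +kernel

theorem e4_52 : allRange 151627 2907 (fun u => chkE tab 4 u) = true := by decide +kernel

theorem e4_53 : allRange 154534 2847 (fun u => chkE tab 4 u) = true := by decide +kernel

theorem e4_54 : allRange 157381 2701 (fun u => chkE tab 4 u) = true := by decide +kernel

theorem e4_55 : allRange 160082 2771 (fun u => chkE tab 4 u) = true := by decide +kernel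

theorem e4_56 : allRange 162853 2739 (fun u => chkE tab 4 u) = true := by decide +kernel

theorem e4_57 : allRange 165592 2863 (fun u => chkE tab 4 u) = true := by decide +kernel

theorem e4_58 : allRange 168455 2922 (fun u => chkE tab 4 u) = true := by decide +kernel


end Cfsg.Agent.Helper9.TCData.HeA0
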