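import Cfsg.Agent.Lib.Helper9.TCData.HeA0.Main

set_option autoImplicit false
set_option maxRecDepth 1000000

namespace Cfsg.Agent.Helper9.TCData.HeA0
open Cfsg.Agent.Helper9.TC2

theorem m2_2692 : allRange 253048 94 (fun u => chkFix tab mwordsA u) = true := by decide +kernel

theorem m2_2693 : allRange 253142 94 (fun u => chkFix tab mwordsA u) = true := by decide +kernel

theorem m2_2694 : allRange 253236 94 (fun u => chkFix tab mwordsA u) = true := by decide +kernel

theorem m2_2695 : allRange 253330 94 (fun u => chkFix tab mwordsA u) = true := by decide +kernel

theorem m2_2696 : allRange 253424 94 (fun u => chkFix tab mwordsA u) = true := by decide +kernel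

theorem m2_2697 : allRange 253518 94 (fun u => chkFix tab mwordsA u) = true := by decide +kernel

theorem m2_2698 : allRange 253612 94 (fun u => chkFix tab mwordsA u) = true := by decide +kernel

theorem m2_2699 : allRange 253706 94 (fun u => chkFix tab mwordsA u) = true := by decide +kernel


end Cfsg.Agent.Helper9.TCData.HeA0
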