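import Cfsg.Agent.Lib.Helper9.TCData.HeA0.Main

set_option autoImplicit false
set_option maxRecDepth 1000000

namespace Cfsg.Agent.Helper9.TCData.HeA0
open Cfsg.Agent.Helper9.TC2

theorem m2_2700 : allRange 253800 94 (fun u => chkFix tab mwordsA u) = true := by decide +kernel

theorem m2_2701 : allRange 253894 94 (fun u => chkFix tab mwordsA u) = true := by decide +kernel

theorem m2_2702 : allRange 253988 94 (fun u => chkFix tab mwordsA u) = true := by decide +kernel

theorem m2_2703 : allRange 254082 94 (fun u => chkFix tab mwordsA u) = true := by decide +kernel

theorem m2_2704 : allRange 254176 94 (fun u => chkFix tab mwordsA u) = true := by decide +kernel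

theorem m2_2705 : allRange 254270 94 (fun u => chkFix tab mwordsA u) = true := by decide +kernel

theorem m2_2706 : allRange 254364 94 (fun u => chkFix tab mwordsA u) = true := by decide +kernel

theorem m2_2707 : allRange 254458 94 (fun u => chkFix tab mwordsA u) = true := by decide +kernel


end Cfsg.Agent.Helper9.TCData.HeA0
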