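import Cfsg.Agent.Lib.Helper9.TCData.HeA0.Main

set_option autoImplicit false
set_option maxRecDepth 1000000

namespace Cfsg.Agent.Helper9.TCData.HeA0
open Cfsg.Agent.Helper9.TC2

theorem m2_2716 : allRange 255304 94 (fun u => chkFix tab mwordsA u) = true := by decide +kernel

theorem m2_2717 : allRange 255398 94 (fun u => chkFix tab mwordsA u) = true := by decide +kernel

theorem m2_2718 : allRange 255492 94 (fun u => chkFix tab mwordsA u) = true := by decide +kernel

theorem m2_2719 : allRange 255586 94 (fun u => chkFix tab mwordsA u) = true := by decide +kernel

theorem m2_2720 : allRange 255680 94 (fun u => chkFix tab mwordsA u) = true := by decide +kernel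

theorem m2_2721 : allRange 255774 94 (fun u => chkFix tab mwordsA u) = true := by decide +kernel

theorem m2_2722 : allRange 255868 94 (fun u => chkFix tab mwordsA u) = true := by decide +kernel

theorem m2_2723 : allRange 255962 94 (fun u => chkFix tab mwordsA u) = true := by decide +kernel


end Cfsg.Agent.Helper9.TCData.HeA0
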