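import Cfsg.Agent.Lib.Helper9.TCData.HeA0.Main

set_option autoImplicit false
set_option maxRecDepth 1000000

namespace Cfsg.Agent.Helper9.TCData.HeA0
open Cfsg.Agent.Helper9.TC2

theorem m2_2732 : allRange 256808 94 (fun u => chkFix tab mwordsA u) = true := by decide +kernel

theorem m2_2733 : allRange 256902 94 (fun u => chkFix tab mwordsA u) = true := by decide +kernel

theorem m2_2734 : allRange 256996 94 (fun u => chkFix tab mwordsA u) = true := by decide +kernel

theorem m2_2735 : allRange 257090 94 (fun u => chkFix tab mwordsA u) = true := by decide +kernel

theorem m2_2736 : allRange 257184 94 (fun u => chkFix tab mwordsA u) = true := by decide +kernel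

theorem m2_2737 : allRange 257278 94 (fun u => chkFix tab mwordsA u) = true := by decide +kernel

theorem m2_2738 : allRange 257372 94 (fun u => chkFix tab mwordsA u) = true := by decide +kernel

theorem m2_2739 : allRange 257466 94 (fun u => chkFix tab mwordsA u) = true := by decide +kernel


end Cfsg.Agent.Helper9.TCData.HeA0
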