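import Cfsg.Agent.Lib.Helper9.TCData.HeA0.Main

set_option autoImplicit false
set_option maxRecDepth 1000000

namespace Cfsg.Agent.Helper9.TCData.HeA0
open Cfsg.Agent.Helper9.TC2

theorem m2_2740 : allRange 257560 94 (fun u => chkFix tab mwordsA u) = true := by decide +kernel

theorem m2_2741 : allRange 257654 94 (fun u => chkFix tab mwordsA u) = true := by decide +kernel

theorem m2_2742 : allRange 257748 94 (fun u => chkFix tab mwordsA u) = true := by decide +kernel

theorem m2_2743 : allRange 257842 94 (fun u => chkFix tab mwordsA u) = true := by decide +kernel

theorem m2_2744 : allRange 257936 94 (fun u => chkFix tab mwordsA u) = true := by decide +kernel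

theorem m2_2745 : allRange 258030 94 (fun u => chkFix tab mwordsA u) = true := by decide +kernel

theorem m2_2746 : allRange 258124 94 (fun u => chkFix tab mwordsA u) = true := by decide +kernel

theorem m2_2747 : allRange 258218 94 (fun u => chkFix tab mwordsA u) = true := by decide +kernel


end Cfsg.Agent.Helper9.TCData.HeA0
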