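import Cfsg.Agent.Lib.Helper9.TCData.HeA0.Main

set_option autoImplicit false
set_option maxRecDepth 1000000

namespace Cfsg.Agent.Helper9.TCData.HeA0
open Cfsg.Agent.Helper9.TC2

theorem m2_2756 : allRange 259064 94 (fun u => chkFix tab mwordsA u) = true := by decide +kernel

theorem m2_2757 : allRange 259158 94 (fun u => chkFix tab mwordsA u) = true := by decide +kernel

theorem m2_2758 : allRange 259252 94 (fun u => chkFix tab mwordsA u) = true := by decide +kernel

theorem m2_2759 : allRange 259346 94 (fun u => chkFix tab mwordsA u) = true := by decide +kernel

theorem m2_2760 : allRange 259440 94 (fun u => chkFix tab mwordsA u) = true := by decide +kernel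

theorem m2_2761 : allRange 259534 94 (fun u => chkFix tab mwordsA u) = true := by decide +kernel

theorem m2_2762 : allRange 259628 94 (fun u => chkFix tab mwordsA u) = true := by decide +kernel

theorem m2_2763 : allRange 259722 94 (fun u => chkFix tab mwordsA u) = true := by decide +kernel


end Cfsg.Agent.Helper9.TCData.HeA0
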