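import Cfsg.Agent.Lib.Helper9.TCData.HeA0.Main

set_option autoImplicit false
set_option maxRecDepth 1000000

namespace Cfsg.Agent.Helper9.TCData.HeA0
open Cfsg.Agent.Helper9.TC2

theorem m2_2764 : allRange 259816 94 (fun u => chkFix tab mwordsA u) = true := by decide +kernel

theorem m2_2765 : allRange 259910 94 (fun u => chkFix tab mwordsA u) = true := by decide +kernel

theorem m2_2766 : allRange 260004 94 (fun u => chkFix tab mwordsA u) = true := by decide +kernel

theorem m2_2767 : allRange 260098 94 (fun u => chkFix tab mwordsA u) = true := by decide +kernel

theorem m2_2768 : allRange 260192 94 (fun u => chkFix tab mwordsA u) = true := by decide +kernel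

theorem m2_2769 : allRange 260286 94 (fun u => chkFix tab mwordsA u) = true := by decide +kernel

theorem m2_2770 : allRange 260380 94 (fun u => chkFix tab mwordsA u) = true := by decide +kernel

theorem m2_2771 : allRange 260474 94 (fun u => chkFix tab mwordsA u) = true := by decide +kernel


end Cfsg.Agent.Helper9.TCData.HeA0
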