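import Cfsg.Agent.Lib.Helper9.TCData.HeA0.Main

set_option autoImplicit false
set_option maxRecDepth 1000000

namespace Cfsg.Agent.Helper9.TCData.HeA0
open Cfsg.Agent.Helper9.TC2

theorem e0_48 : allRange 111291 2349 (fun u => chkE tab 0 u) = true := by decide +kernel

theorem e0_49 : allRange 113640 2267 (fun u => chkE tab 0 u) = true := by decide +kernel

theorem e0_50 : allRange 115907 2279 (fun u => chkE tab 0 u) = true := by decide +kernel

theorem e0_51 : allRange 118186 2440 (fun u => chkE tab 0 u) = true := by decide +kernel

theorem e0_52 : allRange 120626 2467 (fun u => chkE tab 0 u) = true := by decide +kernel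

theorem e0_53 : allRange 123093 2531 (fun u => chkE tab 0 u) = true := by decide +kernel

theorem e0_54 : allRange 125624 2516 (fun u => chkE tab 0 u) = true := by decide +kernel

theorem e0_55 : allRange 128140 2350 (fun u => chkE tab 0 u) = true := by decide +kernel


end Cfsg.Agent.Helper9.TCData.HeA0
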