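import Cfsg.Agent.Lib.Helper9.TCData.HeA0.Main

set_option autoImplicit false
set_option maxRecDepth 1000000

namespace Cfsg.Agent.Helper9.TCData.HeA0
open Cfsg.Agent.Helper9.TC2

theorem e4_59 : allRange 171377 2683 (fun u => chkE tab 4 u) = true := by decide +kernel

theorem e4_60 : allRange 174060 2815 (fun u => chkE tab 4 u) = true := by decide +kernel

theorem e4_61 : allRange 176875 2908 (fun u => chkE tab 4 u) = true := by decide +kernel

theorem e4_62 : allRange 179783 2802 (fun u => chkE tab 4 u) = true := by decide +kernel

theorem e4_63 : allRange 182585 2755 (fun u => chkE tab 4 u) = true := by decide +kernel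

theorem e4_64 : allRange 185340 2793 (fun u => chkE tab 4 u) = true := by decide +kernel

theorem e4_65 : allRange 188133 2695 (fun u => chkE tab 4 u) = true := by decide +kernel

theorem e4_66 : allRange 190828 2757 (fun u => chkE tab 4 u) = true := by decide +kernel


end Cfsg.Agent.Helper9.TCData.HeA0
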