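import Cfsg.Agent.Lib.Helper9.TCData.HeA0.Main

set_option autoImplicit false
set_option maxRecDepth 1000000

namespace Cfsg.Agent.Helper9.TCData.HeA0
open Cfsg.Agent.Helper9.TC2

theorem m2_2772 : allRange 260568 94 (fun u => chkFix tab mwordsA u) = true := by decide +kernel

theorem m2_2773 : allRange 260662 94 (fun u => chkFix tab mwordsA u) = true := by decide +kernel

theorem m2_2774 : allRange 260756 94 (fun u => chkFix tab mwordsA u) = true := by decide +kernel

theorem m2_2775 : allRange 260850 94 (fun u => chkFix tab mwordsA u) = true := by decide +kernel

theorem m2_2776 : allRange 260944 94 (fun u => chkFix tab mwordsA u) = true := by decide +kernel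

theorem m2_2777 : allRange 261038 94 (fun u => chkFix tab mwordsA u) = true := by decide +kernel

theorem m2_2778 : allRange 261132 94 (fun u => chkFix tab mwordsA u) = true := by decide +kernel

theorem m2_2779 : allRange 261226 94 (fun u => chkFix tab mwordsA u) = true := by decide +kernel


end Cfsg.Agent.Helper9.TCData.HeA0
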