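import Cfsg.Agent.Lib.Helper9.TCData.HeA0.Main

set_option autoImplicit false
set_option maxRecDepth 1000000

namespace Cfsg.Agent.Helper9.TCData.HeA0
open Cfsg.Agent.Helper9.TC2

theorem m2_2780 : allRange 261320 94 (fun u => chkFix tab mwordsA u) = true := by decide +kernel

theorem m2_2781 : allRange 261414 94 (fun u => chkFix tab mwordsA u) = true := by decide +kernel

theorem m2_2782 : allRange 261508 94 (fun u => chkFix tab mwordsA u) = true := by decide +kernel

theorem m2_2783 : allRange 261602 94 (fun u => chkFix tab mwordsA u) = true := by decide +kernel

theorem m2_2784 : allRange 261696 94 (fun u => chkFix tab mwordsA u) = true := by decide +kernel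

theorem m2_2785 : allRange 261790 94 (fun u => chkFix tab mwordsA u) = true := by decide +kernel

theorem m2_2786 : allRange 261884 94 (fun u => chkFix tab mwordsA u) = true := by decide +kernel

theorem m2_2787 : allRange 261978 94 (fun u => chkFix tab mwordsA u) = true := by decide +kernel


end Cfsg.Agent.Helper9.TCData.HeA0
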