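import Cfsg.Agent.Lib.Helper9.TCData.HeA0.Main

set_option autoImplicit false
set_option maxRecDepth 1000000

namespace Cfsg.Agent.Helper9.TCData.HeA0
open Cfsg.Agent.Helper9.TC2

theorem m2_2788 : allRange 262072 94 (fun u => chkFix tab mwordsA u) = true := by decide +kernel

theorem m2_2789 : allRange 262166 94 (fun u => chkFix tab mwordsA u) = true := by decide +kernel

theorem m2_2790 : allRange 262260 94 (fun u => chkFix tab mwordsA u) = true := by decide +kernel

theorem m2_2791 : allRange 262354 94 (fun u => chkFix tab mwordsA u) = true := by decide +kernel

theorem m2_2792 : allRange 262448 94 (fun u => chkFix tab mwordsA u) = true := by decide +kernel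

theorem m2_2793 : allRange 262542 94 (fun u => chkFix tab mwordsA u) = true := by decide +kernel

theorem m2_2794 : allRange 262636 94 (fun u => chkFix tab mwordsA u) = true := by decide +kernel

theorem m2_2795 : allRange 262730 94 (fun u => chkFix tab mwordsA u) = true := by decide +kernel


end Cfsg.Agent.Helper9.TCData.HeA0
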