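import Cfsg.Agent.Lib.Helper9.TCData.HeA0.Main

set_option autoImplicit false
set_option maxRecDepth 1000000

namespace Cfsg.Agent.Helper9.TCData.HeA0
open Cfsg.Agent.Helper9.TC2

theorem m2_2796 : allRange 262824 94 (fun u => chkFix tab mwordsA u) = true := by decide +kernel

theorem m2_2797 : allRange 262918 94 (fun u => chkFix tab mwordsA u) = true := by decide +kernel

theorem m2_2798 : allRange 263012 94 (fun u => chkFix tab mwordsA u) = true := by decide +kernel

theorem m2_2799 : allRange 263106 94 (fun u => chkFix tab mwordsA u) = true := by decide +kernel

theorem m2_2800 : allRange 263200 94 (fun u => chkFix tab mwordsA u) = true := by decide +kernel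

theorem m2_2801 : allRange 263294 94 (fun u => chkFix tab mwordsA u) = true := by decide +kernel

theorem m2_2802 : allRange 263388 94 (fun u => chkFix tab mwordsA u) = true := by decide +kernel

theorem m2_2803 : allRange 263482 94 (fun u => chkFix tab mwordsA u) = true := by decide +kernel


end Cfsg.Agent.Helper9.TCData.HeA0
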