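import Cfsg.Agent.Lib.Helper9.TCData.HeA0.Main

set_option autoImplicit false
set_option maxRecDepth 1000000

namespace Cfsg.Agent.Helper9.TCData.HeA0
open Cfsg.Agent.Helper9.TC2

theorem m2_2804 : allRange 263576 94 (fun u => chkFix tab mwordsA u) = true := by decide +kernel

theorem m2_2805 : allRange 263670 94 (fun u => chkFix tab mwordsA u) = true := by decide +kernel

theorem m2_2806 : allRange 263764 94 (fun u => chkFix tab mwordsA u) = true := by decide +kernel

theorem m2_2807 : allRange 263858 94 (fun u => chkFix tab mwordsA u) = true := by decide +kernel

theorem m2_2808 : allRange 263952 94 (fun u => chkFix tab mwordsA u) = true := by decide +kernel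

theorem m2_2809 : allRange 264046 94 (fun u => chkFix tab mwordsA u) = true := by decide +kernel

theorem m2_2810 : allRange 264140 94 (fun u => chkFix tab mwordsA u) = true := by decide +kernel

theorem m2_2811 : allRange 264234 94 (fun u => chkFix tab mwordsA u) = true := by decide +kernel


end Cfsg.Agent.Helper9.TCData.HeA0
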