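import Cfsg.Agent.Lib.Helper9.TCData.HeA0.Main

set_option autoImplicit false
set_option maxRecDepth 1000000

namespace Cfsg.Agent.Helper9.TCData.HeA0
open Cfsg.Agent.Helper9.TC2

theorem m2_2812 : allRange 264328 94 (fun u => chkFix tab mwordsA u) = true := by decide +kernel

theorem m2_2813 : allRange 264422 94 (fun u => chkFix tab mwordsA u) = true := by decide +kernel

theorem m2_2814 : allRange 264516 94 (fun u => chkFix tab mwordsA u) = true := by decide +kernel

theorem m2_2815 : allRange 264610 94 (fun u => chkFix tab mwordsA u) = true := by decide +kernel

theorem m2_2816 : allRange 264704 94 (fun u => chkFix tab mwordsA u) = true := by decide +kernel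

theorem m2_2817 : allRange 264798 94 (fun u => chkFix tab mwordsA u) = true := by decide +kernel

theorem m2_2818 : allRange 264892 94 (fun u => chkFix tab mwordsA u) = true := by decide +kernel

theorem m2_2819 : allRange 264986 94 (fun u => chkFix tab mwordsA u) = true := by decide +kernel


end Cfsg.Agent.Helper9.TCData.HeA0
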