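import Cfsg.Agent.Lib.Helper9.TCData.HeA0.Main

set_option autoImplicit false
set_option maxRecDepth 1000000

namespace Cfsg.Agent.Helper9.TCData.HeA0
open Cfsg.Agent.Helper9.TC2

theorem m2_2828 : allRange 265832 94 (fun u => chkFix tab mwordsA u) = true := by decide +kernel

theorem m2_2829 : allRange 265926 94 (fun u => chkFix tab mwordsA u) = true := by decide +kernel

theorem m2_2830 : allRange 266020 94 (fun u => chkFix tab mwordsA u) = true := by decide +kernel

theorem m2_2831 : allRange 266114 94 (fun u => chkFix tab mwordsA u) = true := by decide +kernel

theorem m2_2832 : allRange 266208 94 (fun u => chkFix tab mwordsA u) = true := by decide +kernel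

theorem m2_2833 : allRange 266302 94 (fun u => chkFix tab mwordsA u) = true := by decide +kernel

theorem m2_2834 : allRange 266396 94 (fun u => chkFix tab mwordsA u) = true := by decide +kernel

theorem m2_2835 : allRange 266490 70 (fun u => chkFix tab mwordsA u) = true := by decide +kernel


end Cfsg.Agent.Helper9.TCData.HeA0
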