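import Cfsg.Agent.Lib.Helper9.TCData.HeA0.Main

set_option autoImplicit false
set_option maxRecDepth 1000000

namespace Cfsg.Agent.Helper9.TCData.HeA0
open Cfsg.Agent.Helper9.TC2

theorem e4_67 : allRange 193585 2750 (fun u => chkE tab 4 u) = true := by decide +kernel

theorem e4_68 : allRange 196335 2768 (fun u => chkE tab 4 u) = true := by decide +kernel

theorem e4_69 : allRange 199103 2805 (fun u => chkE tab 4 u) = true := by decide +kernel

theorem e4_70 : allRange 201908 2823 (fun u => chkE tab 4 u) = true := by decide +kernel

theorem e4_71 : allRange 204731 2810 (fun u => chkE tab 4 u) = true := by decide +kernel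

theorem e4_72 : allRange 207541 2889 (fun u => chkE tab 4 u) = true := by decide +kernel

theorem e4_73 : allRange 210430 2805 (fun u => chkE tab 4 u) = true := by decide +kernel

theorem e4_74 : allRange 213235 2823 (fun u => chkE tab 4 u) = true := by decide +kernel


end Cfsg.Agent.Helper9.TCData.HeA0
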