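import Cfsg.Agent.Lib.Helper9.TCData.HeA0.Main

set_option autoImplicit false
set_option maxRecDepth 1000000

namespace Cfsg.Agent.Helper9.TCData.HeA0
open Cfsg.Agent.Helper9.TC2

theorem e4_75 : allRange 216058 2857 (fun u => chkE tab 4 u) = true := by decide +kernel

theorem e4_76 : allRange 218915 2896 (fun u => chkE tab 4 u) = true := by decide +kernel

theorem e4_77 : allRange 221811 2944 (fun u => chkE tab 4 u) = true := by decide +kernel

theorem e4_78 : allRange 224755 2860 (fun u => chkE tab 4 u) = true := by decide +kernel

theorem e4_79 : allRange 227615 2924 (fun u => chkE tab 4 u) = true := by decide +kernel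

theorem e4_80 : allRange 230539 2890 (fun u => chkE tab 4 u) = true := by decide +kernel

theorem e4_81 : allRange 233429 3197 (fun u => chkE tab 4 u) = true := by decide +kernel

theorem e4_82 : allRange 236626 2966 (fun u => chkE tab 4 u) = true := by decide +kernel


end Cfsg.Agent.Helper9.TCData.HeA0
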