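import Cfsg.Agent.Lib.Helper9.TCData.HeA0.Main

set_option autoImplicit false
set_option maxRecDepth 1000000

namespace Cfsg.Agent.Helper9.TCData.HeA0
open Cfsg.Agent.Helper9.TC2

theorem e4_83 : allRange 239592 3066 (fun u => chkE tab 4 u) = true := by decide +kernel

theorem e4_84 : allRange 242658 3163 (fun u => chkE tab 4 u) = true := by decide +kernel

theorem e4_85 : allRange 245821 3127 (fun u => chkE tab 4 u) = true := by decide +kernel

theorem e4_86 : allRange 248948 3246 (fun u => chkE tab 4 u) = true := by decide +kernel

theorem e4_87 : allRange 252194 3262 (fun u => chkE tab 4 u) = true := by decide +kernel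

theorem e4_88 : allRange 255456 3316 (fun u => chkE tab 4 u) = true := by decide +kernel

theorem e4_89 : allRange 258772 3650 (fun u => chkE tab 4 u) = true := by decide +kernel

theorem e4_90 : allRange 262422 3762 (fun u => chkE tab 4 u) = true := by decide +kernel


end Cfsg.Agent.Helper9.TCData.HeA0
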