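import Cfsg.Agent.Lib.Helper9.TCData.HeA0.Main

set_option autoImplicit false
set_option maxRecDepth 1000000

namespace Cfsg.Agent.Helper9.TCData.HeA0
open Cfsg.Agent.Helper9.TC2

theorem e5_7 : allRange 23840 3201 (fun u => chkE tab 5 u) = true := by decide +kernel

theorem e5_8 : allRange 27041 3013 (fun u => chkE tab 5 u) = true := by decide +kernel

theorem e5_9 : allRange 30054 3092 (fun u => chkE tab 5 u) = true := by decide +kernel

theorem e5_10 : allRange 33146 3110 (fun u => chkE tab 5 u) = true := by decide +kernel

theorem e5_11 : allRange 36256 2950 (fun u => chkE tab 5 u) = true := by decide +kernel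

theorem e5_12 : allRange 39206 2890 (fun u => chkE tab 5 u) = true := by decide +kernel

theorem e5_13 : allRange 42096 3023 (fun u => chkE tab 5 u) = true := by decide +kernel

theorem e5_14 : allRange 45119 2924 (fun u => chkE tab 5 u) = true := by decide +kernel


end Cfsg.Agent.Helper9.TCData.HeA0
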