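import Cfsg.Agent.Lib.Helper9.TCData.HeA0.Main

set_option autoImplicit false
set_option maxRecDepth 1000000

namespace Cfsg.Agent.Helper9.TCData.HeA0
open Cfsg.Agent.Helper9.TC2

theorem e5_15 : allRange 48043 3047 (fun u => chkE tab 5 u) = true := by decide +kernel

theorem e5_16 : allRange 51090 2801 (fun u => chkE tab 5 u) = true := by decide +kernel

theorem e5_17 : allRange 53891 2882 (fun u => chkE tab 5 u) = true := by decide +kernel

theorem e5_18 : allRange 56773 2996 (fun u => chkE tab 5 u) = true := by decide +kernel

theorem e5_19 : allRange 59769 2966 (fun u => chkE tab 5 u) = true := by decide +kernel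

theorem e5_20 : allRange 62735 2923 (fun u => chkE tab 5 u) = true := by decide +kernel

theorem e5_21 : allRange 65658 2743 (fun u => chkE tab 5 u) = true := by decide +kernel

theorem e5_22 : allRange 68401 2949 (fun u => chkE tab 5 u) = true := by decide +kernel


end Cfsg.Agent.Helper9.TCData.HeA0
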