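import Cfsg.Agent.Lib.Helper9.TCData.HeA0.Main

set_option autoImplicit false
set_option maxRecDepth 1000000

namespace Cfsg.Agent.Helper9.TCData.HeA0
open Cfsg.Agent.Helper9.TC2

theorem e5_23 : allRange 71350 2956 (fun u => chkE tab 5 u) = true := by decide +kernel

theorem e5_24 : allRange 74306 2893 (fun u => chkE tab 5 u) = true := by decide +kernel

theorem e5_25 : allRange 77199 3054 (fun u => chkE tab 5 u) = true := by decide +kernel

theorem e5_26 : allRange 80253 2914 (fun u => chkE tab 5 u) = true := by decide +kernel

theorem e5_27 : allRange 83167 2789 (fun u => chkE tab 5 u) = true := by decide +kernel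

theorem e5_28 : allRange 85956 2683 (fun u => chkE tab 5 u) = true := by decide +kernel

theorem e5_29 : allRange 88639 2895 (fun u => chkE tab 5 u) = true := by decide +kernel

theorem e5_30 : allRange 91534 2826 (fun u => chkE tab 5 u) = true := by decide +kernel


end Cfsg.Agent.Helper9.TCData.HeA0
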