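import Cfsg.Agent.Lib.Helper9.TCData.HeA0.Main

set_option autoImplicit false
set_option maxRecDepth 1000000

namespace Cfsg.Agent.Helper9.TCData.HeA0
open Cfsg.Agent.Helper9.TC2

theorem e5_31 : allRange 94360 2942 (fun u => chkE tab 5 u) = true := by decide +kernel

theorem e5_32 : allRange 97302 2968 (fun u => chkE tab 5 u) = true := by decide +kernel

theorem e5_33 : allRange 100270 2938 (fun u => chkE tab 5 u) = true := by decide +kernel

theorem e5_34 : allRange 103208 2860 (fun u => chkE tab 5 u) = true := by decide +kernel

theorem e5_35 : allRange 106068 3024 (fun u => chkE tab 5 u) = true := by decide +kernel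

theorem e5_36 : allRange 109092 2987 (fun u => chkE tab 5 u) = true := by decide +kernel

theorem e5_37 : allRange 112079 3156 (fun u => chkE tab 5 u) = true := by decide +kernel

theorem e5_38 : allRange 115235 3196 (fun u => chkE tab 5 u) = true := by decide +kernel


end Cfsg.Agent.Helper9.TCData.HeA0
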