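import Cfsg.Agent.Lib.Helper9.TCData.HeA0.Main

set_option autoImplicit false
set_option maxRecDepth 1000000

namespace Cfsg.Agent.Helper9.TCData.HeA0
open Cfsg.Agent.Helper9.TC2

theorem e5_39 : allRange 118431 2981 (fun u => chkE tab 5 u) = true := by decide +kernel

theorem e5_40 : allRange 121412 2802 (fun u => chkE tab 5 u) = true := by decide +kernel

theorem e5_41 : allRange 124214 2877 (fun u => chkE tab 5 u) = true := by decide +kernel

theorem e5_42 : allRange 127091 2821 (fun u => chkE tab 5 u) = true := by decide +kernel

theorem e5_43 : allRange 129912 2928 (fun u => chkE tab 5 u) = true := by decide +kernel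

theorem e5_44 : allRange 132840 3004 (fun u => chkE tab 5 u) = true := by decide +kernel

theorem e5_45 : allRange 135844 2995 (fun u => chkE tab 5 u) = true := by decide +kernel

theorem e5_46 : allRange 138839 2914 (fun u => chkE tab 5 u) = true := by decide +kernel


end Cfsg.Agent.Helper9.TCData.HeA0
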