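import Cfsg.Agent.Lib.Helper9.TCData.HeA0.Main

set_option autoImplicit false
set_option maxRecDepth 1000000

namespace Cfsg.Agent.Helper9.TCData.HeA0
open Cfsg.Agent.Helper9.TC2

theorem e0_56 : allRange 130490 2524 (fun u => chkE tab 0 u) = true := by decide +kernel

theorem e0_57 : allRange 133014 2484 (fun u => chkE tab 0 u) = true := by decide +kernel

theorem e0_58 : allRange 135498 2319 (fun u => chkE tab 0 u) = true := by decide +kernel

theorem e0_59 : allRange 137817 2300 (fun u => chkE tab 0 u) = true := by decide +kernel

theorem e0_60 : allRange 140117 2362 (fun u => chkE tab 0 u) = true := by decide +kernel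

theorem e0_61 : allRange 142479 2462 (fun u => chkE tab 0 u) = true := by decide +kernel

theorem e0_62 : allRange 144941 2415 (fun u => chkE tab 0 u) = true := by decide +kernel

theorem e0_63 : allRange 147356 2417 (fun u => chkE tab 0 u) = true := by decide +kernel


end Cfsg.Agent.Helper9.TCData.HeA0
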