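import Cfsg.Agent.Lib.Helper9.TCData.HeA0.Main

set_option autoImplicit false
set_option maxRecDepth 1000000

namespace Cfsg.Agent.Helper9.TCData.HeA0
open Cfsg.Agent.Helper9.TC2

theorem e5_47 : allRange 141753 3031 (fun u => chkE tab 5 u) = true := by decide +kernel

theorem e5_48 : allRange 144784 2850 (fun u => chkE tab 5 u) = true := by decide +kernel

theorem e5_49 : allRange 147634 2899 (fun u => chkE tab 5 u) = true := by decide +kernel

theorem e5_50 : allRange 150533 2832 (fun u => chkE tab 5 u) = true := by decide +kernel

theorem e5_51 : allRange 153365 2872 (fun u => chkE tab 5 u) = true := by decide +kernel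

theorem e5_52 : allRange 156237 2913 (fun u => chkE tab 5 u) = true := by decide +kernel

theorem e5_53 : allRange 159150 2962 (fun u => chkE tab 5 u) = true := by decide +kernel

theorem e5_54 : allRange 162112 2869 (fun u => chkE tab 5 u) = true := by decide +kernel


end Cfsg.Agent.Helper9.TCData.HeA0
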