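import Cfsg.Agent.Lib.Helper9.TCData.HeA0.Main

set_option autoImplicit false
set_option maxRecDepth 1000000

namespace Cfsg.Agent.Helper9.TCData.HeA0
open Cfsg.Agent.Helper9.TC2

theorem e5_55 : allRange 164981 2789 (fun u => chkE tab 5 u) = true := by decide +kernel

theorem e5_56 : allRange 167770 2740 (fun u => chkE tab 5 u) = true := by decide +kernel

theorem e5_57 : allRange 170510 2742 (fun u => chkE tab 5 u) = true := by decide +kernel

theorem e5_58 : allRange 173252 2701 (fun u => chkE tab 5 u) = true := by decide +kernel

theorem e5_59 : allRange 175953 2847 (fun u => chkE tab 5 u) = true := by decide +kernel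

theorem e5_60 : allRange 178800 2655 (fun u => chkE tab 5 u) = true := by decide +kernel

theorem e5_61 : allRange 181455 2836 (fun u => chkE tab 5 u) = true := by decide +kernel

theorem e5_62 : allRange 184291 2661 (fun u => chkE tab 5 u) = true := by decide +kernel


end Cfsg.Agent.Helper9.TCData.HeA0
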