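import Cfsg.Agent.Lib.Helper9.TCData.HeA0.Main

set_option autoImplicit false
set_option maxRecDepth 1000000

namespace Cfsg.Agent.Helper9.TCData.HeA0
open Cfsg.Agent.Helper9.TC2

theorem e5_63 : allRange 186952 2627 (fun u => chkE tab 5 u) = true := by decide +kernel

theorem e5_64 : allRange 189579 2774 (fun u => chkE tab 5 u) = true := by decide +kernel

theorem e5_65 : allRange 192353 2666 (fun u => chkE tab 5 u) = true := by decide +kernel

theorem e5_66 : allRange 195019 2699 (fun u => chkE tab 5 u) = true := by decide +kernel

theorem e5_67 : allRange 197718 2654 (fun u => chkE tab 5 u) = true := by decide +kernel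

theorem e5_68 : allRange 200372 2625 (fun u => chkE tab 5 u) = true := by decide +kernel

theorem e5_69 : allRange 202997 2703 (fun u => chkE tab 5 u) = true := by decide +kernel

theorem e5_70 : allRange 205700 2758 (fun u => chkE tab 5 u) = true := by decide +kernel


end Cfsg.Agent.Helper9.TCData.HeA0
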