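import Cfsg.Agent.Lib.Helper9.TCData.HeA0.Main

set_option autoImplicit false
set_option maxRecDepth 1000000

namespace Cfsg.Agent.Helper9.TCData.HeA0
open Cfsg.Agent.Helper9.TC2

theorem e5_71 : allRange 208458 2661 (fun u => chkE tab 5 u) = true := by decide +kernel

theorem e5_72 : allRange 211119 2722 (fun u => chkE tab 5 u) = true := by decide +kernel

theorem e5_73 : allRange 213841 2622 (fun u => chkE tab 5 u) = true := by decide +kernel

theorem e5_74 : allRange 216463 2560 (fun u => chkE tab 5 u) = true := by decide +kernel

theorem e5_75 : allRange 219023 2683 (fun u => chkE tab 5 u) = true := by decide +kernel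

theorem e5_76 : allRange 221706 2688 (fun u => chkE tab 5 u) = true := by decide +kernel

theorem e5_77 : allRange 224394 2589 (fun u => chkE tab 5 u) = true := by decide +kernel

theorem e5_78 : allRange 226983 2641 (fun u => chkE tab 5 u) = true := by decide +kernel


end Cfsg.Agent.Helper9.TCData.HeA0
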