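import Cfsg.Agent.Lib.Helper9.TCData.HeA0.Main

set_option autoImplicit false
set_option maxRecDepth 1000000

namespace Cfsg.Agent.Helper9.TCData.HeA0
open Cfsg.Agent.Helper9.TC2

theorem e5_79 : allRange 229624 2618 (fun u => chkE tab 5 u) = true := by decide +kernel

theorem e5_80 : allRange 232242 2671 (fun u => chkE tab 5 u) = true := by decide +kernel

theorem e5_81 : allRange 234913 2663 (fun u => chkE tab 5 u) = true := by decide +kernel

theorem e5_82 : allRange 237576 2694 (fun u => chkE tab 5 u) = true := by decide +kernel

theorem e5_83 : allRange 240270 2811 (fun u => chkE tab 5 u) = true := by decide +kernel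

theorem e5_84 : allRange 243081 2744 (fun u => chkE tab 5 u) = true := by decide +kernel

theorem e5_85 : allRange 245825 2762 (fun u => chkE tab 5 u) = true := by decide +kernel

theorem e5_86 : allRange 248587 2823 (fun u => chkE tab 5 u) = true := by decide +kernel


end Cfsg.Agent.Helper9.TCData.HeA0
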