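import Cfsg.Agent.Lib.Helper9.TCData.HeA0.Main

set_option autoImplicit false
set_option maxRecDepth 1000000

namespace Cfsg.Agent.Helper9.TCData.HeA0
open Cfsg.Agent.Helper9.TC2

theorem e5_87 : allRange 251410 2861 (fun u => chkE tab 5 u) = true := by decide +kernel

theorem e5_88 : allRange 254271 2921 (fun u => chkE tab 5 u) = true := by decide +kernel

theorem e5_89 : allRange 257192 2956 (fun u => chkE tab 5 u) = true := by decide +kernel

theorem e5_90 : allRange 260148 3094 (fun u => chkE tab 5 u) = true := by decide +kernel

theorem e5_91 : allRange 263242 3401 (fun u => chkE tab 5 u) = true := by decide +kernel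

theorem e5_92 : allRange 266643 2584 (fun u => chkE tab 5 u) = true := by decide +kernel

theorem e6_0 : allRange 0 3177 (fun u => chkE tab 6 u) = true := by decide +kernel

theorem e6_1 : allRange 3177 3494 (fun u => chkE tab 6 u) = true := by decide +kernel


end Cfsg.Agent.Helper9.TCData.HeA0
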