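import Cfsg.Agent.Lib.Helper9.TCData.HeA0.Main

set_option autoImplicit false
set_option maxRecDepth 1000000

namespace Cfsg.Agent.Helper9.TCData.HeA0
open Cfsg.Agent.Helper9.TC2

theorem e6_2 : allRange 6671 3328 (fun u => chkE tab 6 u) = true := by decide +kernel

theorem e6_3 : allRange 9999 3430 (fun u => chkE tab 6 u) = true := by decide +kernel

theorem e6_4 : allRange 13429 3267 (fun u => chkE tab 6 u) = true := by decide +kernel

theorem e6_5 : allRange 16696 3214 (fun u => chkE tab 6 u) = true := by decide +kernel

theorem e6_6 : allRange 19910 3172 (fun u => chkE tab 6 u) = true := by decide +kernel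

theorem e6_7 : allRange 23082 3147 (fun u => chkE tab 6 u) = true := by decide +kernel

theorem e6_8 : allRange 26229 3017 (fun u => chkE tab 6 u) = true := by decide +kernel

theorem e6_9 : allRange 29246 2933 (fun u => chkE tab 6 u) = true := by decide +kernel


end Cfsg.Agent.Helper9.TCData.HeA0
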