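import Cfsg.Agent.Lib.Helper9.TCData.HeA0.Main

set_option autoImplicit false
set_option maxRecDepth 1000000

namespace Cfsg.Agent.Helper9.TCData.HeA0
open Cfsg.Agent.Helper9.TC2

theorem e6_18 : allRange 55343 2928 (fun u => chkE tab 6 u) = true := by decide +kernel

theorem e6_19 : allRange 58271 2830 (fun u => chkE tab 6 u) = true := by decide +kernel

theorem e6_20 : allRange 61101 2959 (fun u => chkE tab 6 u) = true := by decide +kernel

theorem e6_21 : allRange 64060 2824 (fun u => chkE tab 6 u) = true := by decide +kernel

theorem e6_22 : allRange 66884 2792 (fun u => chkE tab 6 u) = true := by decide +kernel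

theorem e6_23 : allRange 69676 2873 (fun u => chkE tab 6 u) = true := by decide +kernel

theorem e6_24 : allRange 72549 2890 (fun u => chkE tab 6 u) = true := by decide +kernel

theorem e6_25 : allRange 75439 2940 (fun u => chkE tab 6 u) = true := by decide +kernel


end Cfsg.Agent.Helper9.TCData.HeA0
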