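import Cfsg.Agent.Lib.Helper9.TCData.HeA0.Main

set_option autoImplicit false
set_option maxRecDepth 1000000

namespace Cfsg.Agent.Helper9.TCData.HeA0
open Cfsg.Agent.Helper9.TC2

theorem e6_26 : allRange 78379 2824 (fun u => chkE tab 6 u) = true := by decide +kernel

theorem e6_27 : allRange 81203 2872 (fun u => chkE tab 6 u) = true := by decide +kernel

theorem e6_28 : allRange 84075 2715 (fun u => chkE tab 6 u) = true := by decide +kernel

theorem e6_29 : allRange 86790 2608 (fun u => chkE tab 6 u) = true := by decide +kernel

theorem e6_30 : allRange 89398 2850 (fun u => chkE tab 6 u) = true := by decide +kernel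

theorem e6_31 : allRange 92248 2838 (fun u => chkE tab 6 u) = true := by decide +kernel

theorem e6_32 : allRange 95086 2847 (fun u => chkE tab 6 u) = true := by decide +kernel

theorem e6_33 : allRange 97933 2921 (fun u => chkE tab 6 u) = true := by decide +kernel


end Cfsg.Agent.Helper9.TCData.HeA0
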