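import Cfsg.Agent.Lib.Helper9.TCData.HeA0.Main

set_option autoImplicit false
set_option maxRecDepth 1000000

namespace Cfsg.Agent.Helper9.TCData.HeA0
open Cfsg.Agent.Helper9.TC2

theorem e0_64 : allRange 149773 2254 (fun u => chkE tab 0 u) = true := by decide +kernel

theorem e0_65 : allRange 152027 2288 (fun u => chkE tab 0 u) = true := by decide +kernel

theorem e0_66 : allRange 154315 2241 (fun u => chkE tab 0 u) = true := by decide +kernel

theorem e0_67 : allRange 156556 2278 (fun u => chkE tab 0 u) = true := by decide +kernel

theorem e0_68 : allRange 158834 2365 (fun u => chkE tab 0 u) = true := by decide +kernel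

theorem e0_69 : allRange 161199 2388 (fun u => chkE tab 0 u) = true := by decide +kernel

theorem e0_70 : allRange 163587 2325 (fun u => chkE tab 0 u) = true := by decide +kernel

theorem e0_71 : allRange 165912 2467 (fun u => chkE tab 0 u) = true := by decide +kernel


end Cfsg.Agent.Helper9.TCData.HeA0
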