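import Cfsg.Agent.Lib.Helper9.TCData.HeA0.Main

set_option autoImplicit false
set_option maxRecDepth 1000000

namespace Cfsg.Agent.Helper9.TCData.HeA0
open Cfsg.Agent.Helper9.TC2

theorem e6_34 : allRange 100854 2854 (fun u => chkE tab 6 u) = true := by decide +kernel

theorem e6_35 : allRange 103708 2835 (fun u => chkE tab 6 u) = true := by decide +kernel

theorem e6_36 : allRange 106543 2935 (fun u => chkE tab 6 u) = true := by decide +kernel

theorem e6_37 : allRange 109478 2966 (fun u => chkE tab 6 u) = true := by decide +kernel

theorem e6_38 : allRange 112444 2970 (fun u => chkE tab 6 u) = true := by decide +kernel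

theorem e6_39 : allRange 115414 3076 (fun u => chkE tab 6 u) = true := by decide +kernel

theorem e6_40 : allRange 118490 2984 (fun u => chkE tab 6 u) = true := by decide +kernel

theorem e6_41 : allRange 121474 2782 (fun u => chkE tab 6 u) = true := by decide +kernel


end Cfsg.Agent.Helper9.TCData.HeA0
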