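import Cfsg.Agent.Lib.Helper9.TCData.HeA0.Main

set_option autoImplicit false
set_option maxRecDepth 1000000

namespace Cfsg.Agent.Helper9.TCData.HeA0
open Cfsg.Agent.Helper9.TC2

theorem e6_42 : allRange 124256 2714 (fun u => chkE tab 6 u) = true := by decide +kernel

theorem e6_43 : allRange 126970 2832 (fun u => chkE tab 6 u) = true := by decide +kernel

theorem e6_44 : allRange 129802 2783 (fun u => chkE tab 6 u) = true := by decide +kernel

theorem e6_45 : allRange 132585 2886 (fun u => chkE tab 6 u) = true := by decide +kernel

theorem e6_46 : allRange 135471 2907 (fun u => chkE tab 6 u) = true := by decide +kernel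

theorem e6_47 : allRange 138378 2882 (fun u => chkE tab 6 u) = true := by decide +kernel

theorem e6_48 : allRange 141260 2902 (fun u => chkE tab 6 u) = true := by decide +kernel

theorem e6_49 : allRange 144162 2994 (fun u => chkE tab 6 u) = true := by decide +kernel


end Cfsg.Agent.Helper9.TCData.HeA0
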