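import Cfsg.Agent.Lib.Helper9.TCData.HeA0.Main

set_option autoImplicit false
set_option maxRecDepth 1000000

namespace Cfsg.Agent.Helper9.TCData.HeA0
open Cfsg.Agent.Helper9.TC2

theorem e6_50 : allRange 147156 2875 (fun u => chkE tab 6 u) = true := by decide +kernel

theorem e6_51 : allRange 150031 2849 (fun u => chkE tab 6 u) = true := by decide +kernel

theorem e6_52 : allRange 152880 2875 (fun u => chkE tab 6 u) = true := by decide +kernel

theorem e6_53 : allRange 155755 2733 (fun u => chkE tab 6 u) = true := by decide +kernel

theorem e6_54 : allRange 158488 2770 (fun u => chkE tab 6 u) = true := by decide +kernel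

theorem e6_55 : allRange 161258 2755 (fun u => chkE tab 6 u) = true := by decide +kernel

theorem e6_56 : allRange 164013 2742 (fun u => chkE tab 6 u) = true := by decide +kernel

theorem e6_57 : allRange 166755 2735 (fun u => chkE tab 6 u) = true := by decide +kernel


end Cfsg.Agent.Helper9.TCData.HeA0
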