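import Cfsg.Agent.Lib.Helper9.TCData.HeA0.Main

set_option autoImplicit false
set_option maxRecDepth 1000000

namespace Cfsg.Agent.Helper9.TCData.HeA0
open Cfsg.Agent.Helper9.TC2

theorem e6_58 : allRange 169490 2676 (fun u => chkE tab 6 u) = true := by decide +kernel

theorem e6_59 : allRange 172166 2641 (fun u => chkE tab 6 u) = true := by decide +kernel

theorem e6_60 : allRange 174807 2710 (fun u => chkE tab 6 u) = true := by decide +kernel

theorem e6_61 : allRange 177517 2615 (fun u => chkE tab 6 u) = true := by decide +kernel

theorem e6_62 : allRange 180132 2658 (fun u => chkE tab 6 u) = true := by decide +kernel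

theorem e6_63 : allRange 182790 2669 (fun u => chkE tab 6 u) = true := by decide +kernel

theorem e6_64 : allRange 185459 2759 (fun u => chkE tab 6 u) = true := by decide +kernel

theorem e6_65 : allRange 188218 2654 (fun u => chkE tab 6 u) = true := by decide +kernel


end Cfsg.Agent.Helper9.TCData.HeA0
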