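import Cfsg.Agent.Lib.Helper9.TCData.HeA0.Main

set_option autoImplicit false
set_option maxRecDepth 1000000

namespace Cfsg.Agent.Helper9.TCData.HeA0
open Cfsg.Agent.Helper9.TC2

theorem e6_66 : allRange 190872 2570 (fun u => chkE tab 6 u) = true := by decide +kernel

theorem e6_67 : allRange 193442 2631 (fun u => chkE tab 6 u) = true := by decide +kernel

theorem e6_68 : allRange 196073 2546 (fun u => chkE tab 6 u) = true := by decide +kernel

theorem e6_69 : allRange 198619 2524 (fun u => chkE tab 6 u) = true := by decide +kernel

theorem e6_70 : allRange 201143 2471 (fun u => chkE tab 6 u) = true := by decide +kernel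

theorem e6_71 : allRange 203614 2606 (fun u => chkE tab 6 u) = true := by decide +kernel

theorem e6_72 : allRange 206220 2575 (fun u => chkE tab 6 u) = true := by decide +kernel

theorem e6_73 : allRange 208795 2543 (fun u => chkE tab 6 u) = true := by decide +kernel


end Cfsg.Agent.Helper9.TCData.HeA0
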