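import Cfsg.Agent.Lib.Helper9.TCData.HeA0.Main

set_option autoImplicit false
set_option maxRecDepth 1000000

namespace Cfsg.Agent.Helper9.TCData.HeA0
open Cfsg.Agent.Helper9.TC2

theorem e6_74 : allRange 211338 2510 (fun u => chkE tab 6 u) = true := by decide +kernel

theorem e6_75 : allRange 213848 2513 (fun u => chkE tab 6 u) = true := by decide +kernel

theorem e6_76 : allRange 216361 2476 (fun u => chkE tab 6 u) = true := by decide +kernel

theorem e6_77 : allRange 218837 2611 (fun u => chkE tab 6 u) = true := by decide +kernel

theorem e6_78 : allRange 221448 2635 (fun u => chkE tab 6 u) = true := by decide +kernel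

theorem e6_79 : allRange 224083 2496 (fun u => chkE tab 6 u) = true := by decide +kernel

theorem e6_80 : allRange 226579 2630 (fun u => chkE tab 6 u) = true := by decide +kernel

theorem e6_81 : allRange 229209 2596 (fun u => chkE tab 6 u) = true := by decide +kernel


end Cfsg.Agent.Helper9.TCData.HeA0
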