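import Cfsg.Agent.Lib.Helper9.TCData.HeA0.Main

set_option autoImplicit false
set_option maxRecDepth 1000000

namespace Cfsg.Agent.Helper9.TCData.HeA0
open Cfsg.Agent.Helper9.TC2

theorem e6_82 : allRange 231805 2668 (fun u => chkE tab 6 u) = true := by decide +kernel

theorem e6_83 : allRange 234473 2583 (fun u => chkE tab 6 u) = true := by decide +kernel

theorem e6_84 : allRange 237056 2582 (fun u => chkE tab 6 u) = true := by decide +kernel

theorem e6_85 : allRange 239638 2729 (fun u => chkE tab 6 u) = true := by decide +kernel

theorem e6_86 : allRange 242367 2803 (fun u => chkE tab 6 u) = true := by decide +kernel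

theorem e6_87 : allRange 245170 2698 (fun u => chkE tab 6 u) = true := by decide +kernel

theorem e6_88 : allRange 247868 2757 (fun u => chkE tab 6 u) = true := by decide +kernel

theorem e6_89 : allRange 250625 2801 (fun u => chkE tab 6 u) = true := by decide +kernel


end Cfsg.Agent.Helper9.TCData.HeA0
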