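import Cfsg.Agent.Lib.Helper9.TCData.HeA0.Main

set_option autoImplicit false
set_option maxRecDepth 1000000

namespace Cfsg.Agent.Helper9.TCData.HeA0
open Cfsg.Agent.Helper9.TC2

theorem e6_90 : allRange 253426 2891 (fun u => chkE tab 6 u) = true := by decide +kernel

theorem e6_91 : allRange 256317 2891 (fun u => chkE tab 6 u) = true := by decide +kernel

theorem e6_92 : allRange 259208 2994 (fun u => chkE tab 6 u) = true := by decide +kernel

theorem e6_93 : allRange 262202 3316 (fun u => chkE tab 6 u) = true := by decide +kernel

theorem e6_94 : allRange 265518 3438 (fun u => chkE tab 6 u) = true := by decide +kernel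

theorem e6_95 : allRange 268956 271 (fun u => chkE tab 6 u) = true := by decide +kernel


end Cfsg.Agent.Helper9.TCData.HeA0
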