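import Cfsg.Agent.Lib.Helper9.TCData.HeA0.Main

set_option autoImplicit false
set_option maxRecDepth 1000000

namespace Cfsg.Agent.Helper9.TCData.HeA0
open Cfsg.Agent.Helper9.TC2

theorem l_0 : allRange 0 30408 (fun u => chkL tab u) = true := by decide +kernel

theorem l_1 : allRange 30408 42525 (fun u => chkL tab u) = true := by decide +kernel

theorem l_2 : allRange 72933 46885 (fun u => chkL tab u) = true := by decide +kernel

theorem l_3 : allRange 119818 49394 (fun u => chkL tab u) = true := by decide +kernel

theorem l_4 : allRange 169212 53280 (fun u => chkL tab u) = true := by decide +kernel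

theorem l_5 : allRange 222492 46735 (fun u => chkL tab u) = true := by decide +kernel


end Cfsg.Agent.Helper9.TCData.HeA0
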