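import Cfsg.Agent.Lib.Helper9.TCData.HeA0.Main

set_option autoImplicit false
set_option maxRecDepth 1000000

namespace Cfsg.Agent.Helper9.TCData.HeA0
open Cfsg.Agent.Helper9.TC2

theorem e0_72 : allRange 168379 2530 (fun u => chkE tab 0 u) = true := by decide +kernel

theorem e0_73 : allRange 170909 2477 (fun u => chkE tab 0 u) = true := by decide +kernel

theorem e0_74 : allRange 173386 2454 (fun u => chkE tab 0 u) = true := by decide +kernel

theorem e0_75 : allRange 175840 2556 (fun u => chkE tab 0 u) = true := by decide +kernel

theorem e0_76 : allRange 178396 2530 (fun u => chkE tab 0 u) = true := by decide +kernel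

theorem e0_77 : allRange 180926 2325 (fun u => chkE tab 0 u) = true := by decide +kernel

theorem e0_78 : allRange 183251 2252 (fun u => chkE tab 0 u) = true := by decide +kernel

theorem e0_79 : allRange 185503 2518 (fun u => chkE tab 0 u) = true := by decide +kernel


end Cfsg.Agent.Helper9.TCData.HeA0
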