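import Cfsg.Agent.Lib.Helper9.TCData.HeA0.Main

set_option autoImplicit false
set_option maxRecDepth 1000000

namespace Cfsg.Agent.Helper9.TCData.HeA0
open Cfsg.Agent.Helper9.TC2

theorem f_16 : allRange 5568 348 (fun u => chkFin tab u) = true := by decide +kernel

theorem f_17 : allRange 5916 348 (fun u => chkFin tab u) = true := by decide +kernel

theorem f_18 : allRange 6264 348 (fun u => chkFin tab u) = true := by decide +kernel

theorem f_19 : allRange 6612 348 (fun u => chkFin tab u) = true := by decide +kernel

theorem f_20 : allRange 6960 348 (fun u => chkFin tab u) = true := by decide +kernel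

theorem f_21 : allRange 7308 348 (fun u => chkFin tab u) = true := by decide +kernel

theorem f_22 : allRange 7656 348 (fun u => chkFin tab u) = true := by decide +kernel

theorem f_23 : allRange 8004 348 (fun u => chkFin tab u) = true := by decide +kernel


end Cfsg.Agent.Helper9.TCData.HeA0
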