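import Cfsg.Agent.Lib.Helper9.TCData.HeA0.Main

set_option autoImplicit false
set_option maxRecDepth 1000000

namespace Cfsg.Agent.Helper9.TCData.HeA0
open Cfsg.Agent.Helper9.TC2

theorem f_64 : allRange 22272 348 (fun u => chkFin tab u) = true := by decide +kernel

theorem f_65 : allRange 22620 348 (fun u => chkFin tab u) = true := by decide +kernel

theorem f_66 : allRange 22968 348 (fun u => chkFin tab u) = true := by decide +kernel

theorem f_67 : allRange 23316 348 (fun u => chkFin tab u) = true := by decide +kernel

theorem f_68 : allRange 23664 348 (fun u => chkFin tab u) = true := by decide +kernel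

theorem f_69 : allRange 24012 348 (fun u => chkFin tab u) = true := by decide +kernel

theorem f_70 : allRange 24360 348 (fun u => chkFin tab u) = true := by decide +kernel

theorem f_71 : allRange 24708 348 (fun u => chkFin tab u) = true := by decide +kernel


end Cfsg.Agent.Helper9.TCData.HeA0
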