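import Cfsg.Agent.Lib.Helper9.TCData.HeA0.S0
import Cfsg.Agent.Lib.Helper9.TCData.HeA0.S1
import Cfsg.Agent.Lib.Helper9.TCData.HeA0.S2
import Cfsg.Agent.Lib.Helper9.TCData.HeA0.S3
import Cfsg.Agent.Lib.Helper9.TCData.HeA0.S4
import Cfsg.Agent.Lib.Helper9.TCData.HeA0.S5
import Cfsg.Agent.Lib.Helper9.TCData.HeA0.S6
import Cfsg.Agent.Lib.Helper9.TCData.HeA0.S7
import Cfsg.Agent.Lib.Helper9.TCData.HeA0.S8
import Cfsg.Agent.Lib.Helper9.TCData.HeA0.S9
import Cfsg.Agent.Lib.Helper9.TCData.HeA0.S10
import Cfsg.Agent.Lib.Helper9.TCData.HeA0.S11
import Cfsg.Agent.Lib.Helper9.TCData.HeA0.S12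
import Cfsg.Agent.Lib.Helper9.TCData.HeA0.S13
import Cfsg.Agent.Lib.Helper9.TCData.HeA0.S14
import Cfsg.Agent.Lib.Helper9.TCData.HeA0.S15
import Cfsg.Agent.Lib.Helper9.TCData.HeA0.S16
import Cfsg.Agent.Lib.Helper9.TCData.HeA0.S17
import Cfsg.Agent.Lib.Helper9.TCData.HeA0.S18
import Cfsg.Agent.Lib.Helper9.TCData.HeA0.S19
import Cfsg.Agent.Lib.Helper9.TCData.HeA0.S20
import Cfsg.Agent.Lib.Helper9.TCData.HeA0.S21
import Cfsg.Agent.Lib.Helper9.TCData.HeA0.S22
import Cfsg.Agent.Lib.Helper9.TCData.HeA0.S23
import Cfsg.Agent.Lib.Helper9.TCData.HeA0.S24
import Cfsg.Agent.Lib.Helper9.TCData.HeA0.S25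
import Cfsg.Agent.Lib.Helper9.TCData.HeA0.S26
import Cfsg.Agent.Lib.Helper9.TCData.HeA0.S27
import Cfsg.Agent.Lib.Helper9.TCData.HeA0.S28
import Cfsg.Agent.Lib.Helper9.TCData.HeA0.S29
import Cfsg.Agent.Lib.Helper9.TCData.HeA0.S30
import Cfsg.Agent.Lib.Helper9.TCData.HeA0.S31
import Cfsg.Agent.Lib.Helper9.TCData.HeA0.S32
import Cfsg.Agent.Lib.Helper9.TCData.HeA0.S33
import Cfsg.Agent.Lib.Helper9.TCData.HeA0.S34
import Cfsg.Agent.Lib.Helper9.TCData.HeA0.S35
import Cfsg.Agent.Lib.Helper9.TCData.HeA0.S36
import Cfsg.Agent.Lib.Helper9.TCData.HeA0.S37
import Cfsg.Agent.Lib.Helper9.TCData.HeA0.S38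
import Cfsg.Agent.Lib.Helper9.TCData.HeA0.S39
import Cfsg.Agent.Lib.Helper9.TCData.HeA0.S40
import Cfsg.Agent.Lib.Helper9.TCData.HeA0.S41
import Cfsg.Agent.Lib.Helper9.TCData.HeA0.S42
import Cfsg.Agent.Lib.Helper9.TCData.HeA0.S43
import Cfsg.Agent.Lib.Helper9.TCData.HeA0.S44
import Cfsg.Agent.Lib.Helper9.TCData.HeA0.S45
import Cfsg.Agent.Lib.Helper9.TCData.HeA0.S46
import Cfsg.Agent.Lib.Helper9.TCData.HeA0.S47
import Cfsg.Agent.Lib.Helper9.TCData.HeA0.S48
import Cfsg.Agent.Lib.Helper9.TCData.HeA0.S49
import Cfsg.Agent.Lib.Helper9.TCData.HeA0.S50
import Cfsg.Agent.Lib.Helper9.TCData.HeA0.S51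
import Cfsg.Agent.Lib.Helper9.TCData.HeA0.S52
import Cfsg.Agent.Lib.Helper9.TCData.HeA0.S53
import Cfsg.Agent.Lib.Helper9.TCData.HeA0.S54
import Cfsg.Agent.Lib.Helper9.TCData.HeA0.S55
import Cfsg.Agent.Lib.Helper9.TCData.HeA0.S56
import Cfsg.Agent.Lib.Helper9.TCData.HeA0.S57
import Cfsg.Agent.Lib.Helper9.TCData.HeA0.S58
import Cfsg.Agent.Lib.Helper9.TCData.HeA0.S59
import Cfsg.Agent.Lib.Helper9.TCData.HeA0.S60
import Cfsg.Agent.Lib.Helper9.TCData.HeA0.S61
import Cfsg.Agent.Lib.Helper9.TCData.HeA0.S62
import Cfsg.Agent.Lib.Helper9.TCData.HeA0.S63
import Cfsg.Agent.Lib.Helper9.TCData.HeA0.S64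
import Cfsg.Agent.Lib.Helper9.TCData.HeA0.S65
import Cfsg.Agent.Lib.Helper9.TCData.HeA0.S66
import Cfsg.Agent.Lib.Helper9.TCData.HeA0.S67
import Cfsg.Agent.Lib.Helper9.TCData.HeA0.S68
import Cfsg.Agent.Lib.Helper9.TCData.HeA0.S69
import Cfsg.Agent.Lib.Helper9.TCData.HeA0.S70
import Cfsg.Agent.Lib.Helper9.TCData.HeA0.S71
import Cfsg.Agent.Lib.Helper9.TCData.HeA0.S72
import Cfsg.Agent.Lib.Helper9.TCData.HeA0.S73
import Cfsg.Agent.Lib.Helper9.TCData.HeA0.S74
import Cfsg.Agent.Lib.Helper9.TCData.HeA0.S75
import Cfsg.Agent.Lib.Helper9.TCData.HeA0.S76
import Cfsg.Agent.Lib.Helper9.TCData.HeA0.S77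
import Cfsg.Agent.Lib.Helper9.TCData.HeA0.S78
import Cfsg.Agent.Lib.Helper9.TCData.HeA0.S79
import Cfsg.Agent.Lib.Helper9.TCData.HeA0.S80
import Cfsg.Agent.Lib.Helper9.TCData.HeA0.S81
import Cfsg.Agent.Lib.Helper9.TCData.HeA0.S82
import Cfsg.Agent.Lib.Helper9.TCData.HeA0.S83
import Cfsg.Agent.Lib.Helper9.TCData.HeA0.S84
import Cfsg.Agent.Lib.Helper9.TCData.HeA0.S85
import Cfsg.Agent.Lib.Helper9.TCData.HeA0.S86
import Cfsg.Agent.Lib.Helper9.TCData.HeA0.S87
import Cfsg.Agent.Lib.Helper9.TCData.HeA0.S88
import Cfsg.Agent.Lib.Helper9.TCData.HeA0.S89
import Cfsg.Agent.Lib.Helper9.TCData.HeA0.S90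
import Cfsg.Agent.Lib.Helper9.TCData.HeA0.S91
import Cfsg.Agent.Lib.Helper9.TCData.HeA0.S92
import Cfsg.Agent.Lib.Helper9.TCData.HeA0.S93
import Cfsg.Agent.Lib.Helper9.TCData.HeA0.S94
import Cfsg.Agent.Lib.Helper9.TCData.HeA0.S95
import Cfsg.Agent.Lib.Helper9.TCData.HeA0.S96
import Cfsg.Agent.Lib.Helper9.TCData.HeA0.S97
import Cfsg.Agent.Lib.Helper9.TCData.HeA0.S98
import Cfsg.Agent.Lib.Helper9.TCData.HeA0.S99
import Cfsg.Agent.Lib.Helper9.TCData.HeA0.S100
import Cfsg.Agent.Lib.Helper9.TCData.HeA0.S101
import Cfsg.Agent.Lib.Helper9.TCData.HeA0.S102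
import Cfsg.Agent.Lib.Helper9.TCData.HeA0.S103
import Cfsg.Agent.Lib.Helper9.TCData.HeA0.S104
import Cfsg.Agent.Lib.Helper9.TCData.HeA0.S105
import Cfsg.Agent.Lib.Helper9.TCData.HeA0.S106
import Cfsg.Agent.Lib.Helper9.TCData.HeA0.S107
import Cfsg.Agent.Lib.Helper9.TCData.HeA0.S108
import Cfsg.Agent.Lib.Helper9.TCData.HeA0.S109
import Cfsg.Agent.Lib.Helper9.TCData.HeA0.S110
import Cfsg.Agent.Lib.Helper9.TCData.HeA0.S111
import Cfsg.Agent.Lib.Helper9.TCData.HeA0.S112
import Cfsg.Agent.Lib.Helper9.TCData.HeA0.S113
import Cfsg.Agent.Lib.Helper9.TCData.HeA0.S114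
import Cfsg.Agent.Lib.Helper9.TCData.HeA0.S115
import Cfsg.Agent.Lib.Helper9.TCData.HeA0.S116
import Cfsg.Agent.Lib.Helper9.TCData.HeA0.S117
import Cfsg.Agent.Lib.Helper9.TCData.HeA0.S118
import Cfsg.Agent.Lib.Helper9.TCData.HeA0.S119
import Cfsg.Agent.Lib.Helper9.TCData.HeA0.S120
import Cfsg.Agent.Lib.Helper9.TCData.HeA0.S121
import Cfsg.Agent.Lib.Helper9.TCData.HeA0.S122
import Cfsg.Agent.Lib.Helper9.TCData.HeA0.S123
import Cfsg.Agent.Lib.Helper9.TCData.HeA0.S124
import Cfsg.Agent.Lib.Helper9.TCData.HeA0.S125
import Cfsg.Agent.Lib.Helper9.TCData.HeA0.S126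
import Cfsg.Agent.Lib.Helper9.TCData.HeA0.S127
import Cfsg.Agent.Lib.Helper9.TCData.HeA0.S128
import Cfsg.Agent.Lib.Helper9.TCData.HeA0.S129
import Cfsg.Agent.Lib.Helper9.TCData.HeA0.S130
import Cfsg.Agent.Lib.Helper9.TCData.HeA0.S131
import Cfsg.Agent.Lib.Helper9.TCData.HeA0.S132
import Cfsg.Agent.Lib.Helper9.TCData.HeA0.S133
import Cfsg.Agent.Lib.Helper9.TCData.HeA0.S134
import Cfsg.Agent.Lib.Helper9.TCData.HeA0.S135
import Cfsg.Agent.Lib.Helper9.TCData.HeA0.S136
import Cfsg.Agent.Lib.Helper9.TCData.HeA0.S137
import Cfsg.Agent.Lib.Helper9.TCData.HeA0.S138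
import Cfsg.Agent.Lib.Helper9.TCData.HeA0.S139
import Cfsg.Agent.Lib.Helper9.TCData.HeA0.S140
import Cfsg.Agent.Lib.Helper9.TCData.HeA0.S141
import Cfsg.Agent.Lib.Helper9.TCData.HeA0.S142
import Cfsg.Agent.Lib.Helper9.TCData.HeA0.S143
import Cfsg.Agent.Lib.Helper9.TCData.HeA0.S144
import Cfsg.Agent.Lib.Helper9.TCData.HeA0.S145
import Cfsg.Agent.Lib.Helper9.TCData.HeA0.S146
import Cfsg.Agent.Lib.Helper9.TCData.HeA0.S147
import Cfsg.Agent.Lib.Helper9.TCData.HeA0.S148
import Cfsg.Agent.Lib.Helper9.TCData.HeA0.S149
import Cfsg.Agent.Lib.Helper9.TCData.HeA0.S150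
import Cfsg.Agent.Lib.Helper9.TCData.HeA0.S151
import Cfsg.Agent.Lib.Helper9.TCData.HeA0.S152
import Cfsg.Agent.Lib.Helper9.TCData.HeA0.S153
import Cfsg.Agent.Lib.Helper9.TCData.HeA0.S154
import Cfsg.Agent.Lib.Helper9.TCData.HeA0.S155
import Cfsg.Agent.Lib.Helper9.TCData.HeA0.S156
import Cfsg.Agent.Lib.Helper9.TCData.HeA0.S157
import Cfsg.Agent.Lib.Helper9.TCData.HeA0.S158
import Cfsg.Agent.Lib.Helper9.TCData.HeA0.S159
import Cfsg.Agent.Lib.Helper9.TCData.HeA0.S160
import Cfsg.Agent.Lib.Helper9.TCData.HeA0.S161
import Cfsg.Agent.Lib.Helper9.TCData.HeA0.S162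
import Cfsg.Agent.Lib.Helper9.TCData.HeA0.S163
import Cfsg.Agent.Lib.Helper9.TCData.HeA0.S164
import Cfsg.Agent.Lib.Helper9.TCData.HeA0.S165
import Cfsg.Agent.Lib.Helper9.TCData.HeA0.S166
import Cfsg.Agent.Lib.Helper9.TCData.HeA0.S167
import Cfsg.Agent.Lib.Helper9.TCData.HeA0.S168
import Cfsg.Agent.Lib.Helper9.TCData.HeA0.S169
import Cfsg.Agent.Lib.Helper9.TCData.HeA0.S170
import Cfsg.Agent.Lib.Helper9.TCData.HeA0.S171
import Cfsg.Agent.Lib.Helper9.TCData.HeA0.S172
import Cfsg.Agent.Lib.Helper9.TCData.HeA0.S173
import Cfsg.Agent.Lib.Helper9.TCData.HeA0.S174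
import Cfsg.Agent.Lib.Helper9.TCData.HeA0.S175
import Cfsg.Agent.Lib.Helper9.TCData.HeA0.S176
import Cfsg.Agent.Lib.Helper9.TCData.HeA0.S177
import Cfsg.Agent.Lib.Helper9.TCData.HeA0.S178
import Cfsg.Agent.Lib.Helper9.TCData.HeA0.S179
import Cfsg.Agent.Lib.Helper9.TCData.HeA0.S180
import Cfsg.Agent.Lib.Helper9.TCData.HeA0.S181
import Cfsg.Agent.Lib.Helper9.TCData.HeA0.S182
import Cfsg.Agent.Lib.Helper9.TCData.HeA0.S183
import Cfsg.Agent.Lib.Helper9.TCData.HeA0.S184
import Cfsg.Agent.Lib.Helper9.TCData.HeA0.S185
import Cfsg.Agent.Lib.Helper9.TCData.HeA0.S186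
import Cfsg.Agent.Lib.Helper9.TCData.HeA0.S187
import Cfsg.Agent.Lib.Helper9.TCData.HeA0.S188
import Cfsg.Agent.Lib.Helper9.TCData.HeA0.S189
import Cfsg.Agent.Lib.Helper9.TCData.HeA0.S190
import Cfsg.Agent.Lib.Helper9.TCData.HeA0.S191
import Cfsg.Agent.Lib.Helper9.TCData.HeA0.S192
import Cfsg.Agent.Lib.Helper9.TCData.HeA0.S193
import Cfsg.Agent.Lib.Helper9.TCData.HeA0.S194
import Cfsg.Agent.Lib.Helper9.TCData.HeA0.S195
import Cfsg.Agent.Lib.Helper9.TCData.HeA0.S196
import Cfsg.Agent.Lib.Helper9.TCData.HeA0.S197
import Cfsg.Agent.Lib.Helper9.TCData.HeA0.S198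
import Cfsg.Agent.Lib.Helper9.TCData.HeA0.S199
import Cfsg.Agent.Lib.Helper9.TCData.HeA0.S200
import Cfsg.Agent.Lib.Helper9.TCData.HeA0.S201
import Cfsg.Agent.Lib.Helper9.TCData.HeA0.S202
import Cfsg.Agent.Lib.Helper9.TCData.HeA0.S203
import Cfsg.Agent.Lib.Helper9.TCData.HeA0.S204
import Cfsg.Agent.Lib.Helper9.TCData.HeA0.S205
import Cfsg.Agent.Lib.Helper9.TCData.HeA0.S206
import Cfsg.Agent.Lib.Helper9.TCData.HeA0.S207
import Cfsg.Agent.Lib.Helper9.TCData.HeA0.S208
import Cfsg.Agent.Lib.Helper9.TCData.HeA0.S209
import Cfsg.Agent.Lib.Helper9.TCData.HeA0.S210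
import Cfsg.Agent.Lib.Helper9.TCData.HeA0.S211
import Cfsg.Agent.Lib.Helper9.TCData.HeA0.S212
import Cfsg.Agent.Lib.Helper9.TCData.HeA0.S213
import Cfsg.Agent.Lib.Helper9.TCData.HeA0.S214
import Cfsg.Agent.Lib.Helper9.TCData.HeA0.S215
import Cfsg.Agent.Lib.Helper9.TCData.HeA0.S216
import Cfsg.Agent.Lib.Helper9.TCData.HeA0.S217
import Cfsg.Agent.Lib.Helper9.TCData.HeA0.S218
import Cfsg.Agent.Lib.Helper9.TCData.HeA0.S219
import Cfsg.Agent.Lib.Helper9.TCData.HeA0.S220
import Cfsg.Agent.Lib.Helper9.TCData.HeA0.S221
import Cfsg.Agent.Lib.Helper9.TCData.HeA0.S222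
import Cfsg.Agent.Lib.Helper9.TCData.HeA0.S223
import Cfsg.Agent.Lib.Helper9.TCData.HeA0.S224
import Cfsg.Agent.Lib.Helper9.TCData.HeA0.S225
import Cfsg.Agent.Lib.Helper9.TCData.HeA0.S226
import Cfsg.Agent.Lib.Helper9.TCData.HeA0.S227
import Cfsg.Agent.Lib.Helper9.TCData.HeA0.S228
import Cfsg.Agent.Lib.Helper9.TCData.HeA0.S229
import Cfsg.Agent.Lib.Helper9.TCData.HeA0.S230
import Cfsg.Agent.Lib.Helper9.TCData.HeA0.S231
import Cfsg.Agent.Lib.Helper9.TCData.HeA0.S232
import Cfsg.Agent.Lib.Helper9.TCData.HeA0.S233
import Cfsg.Agent.Lib.Helper9.TCData.HeA0.S234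
import Cfsg.Agent.Lib.Helper9.TCData.HeA0.S235
import Cfsg.Agent.Lib.Helper9.TCData.HeA0.S236
import Cfsg.Agent.Lib.Helper9.TCData.HeA0.S237
import Cfsg.Agent.Lib.Helper9.TCData.HeA0.S238
import Cfsg.Agent.Lib.Helper9.TCData.HeA0.S239
import Cfsg.Agent.Lib.Helper9.TCData.HeA0.S240
import Cfsg.Agent.Lib.Helper9.TCData.HeA0.S241
import Cfsg.Agent.Lib.Helper9.TCData.HeA0.S242
import Cfsg.Agent.Lib.Helper9.TCData.HeA0.S243
import Cfsg.Agent.Lib.Helper9.TCData.HeA0.S244
import Cfsg.Agent.Lib.Helper9.TCData.HeA0.S245
import Cfsg.Agent.Lib.Helper9.TCData.HeA0.S246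
import Cfsg.Agent.Lib.Helper9.TCData.HeA0.S247
import Cfsg.Agent.Lib.Helper9.TCData.HeA0.S248
import Cfsg.Agent.Lib.Helper9.TCData.HeA0.S249
import Cfsg.Agent.Lib.Helper9.TCData.HeA0.S250
import Cfsg.Agent.Lib.Helper9.TCData.HeA0.S251
import Cfsg.Agent.Lib.Helper9.TCData.HeA0.S252
import Cfsg.Agent.Lib.Helper9.TCData.HeA0.S253
import Cfsg.Agent.Lib.Helper9.TCData.HeA0.S254
import Cfsg.Agent.Lib.Helper9.TCData.HeA0.S255
import Cfsg.Agent.Lib.Helper9.TCData.HeA0.S256
import Cfsg.Agent.Lib.Helper9.TCData.HeA0.S257
import Cfsg.Agent.Lib.Helper9.TCData.HeA0.S258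
import Cfsg.Agent.Lib.Helper9.TCData.HeA0.S259
import Cfsg.Agent.Lib.Helper9.TCData.HeA0.S260
import Cfsg.Agent.Lib.Helper9.TCData.HeA0.S261
import Cfsg.Agent.Lib.Helper9.TCData.HeA0.S262
import Cfsg.Agent.Lib.Helper9.TCData.HeA0.S263
import Cfsg.Agent.Lib.Helper9.TCData.HeA0.S264
import Cfsg.Agent.Lib.Helper9.TCData.HeA0.S265
import Cfsg.Agent.Lib.Helper9.TCData.HeA0.S266
import Cfsg.Agent.Lib.Helper9.TCData.HeA0.S267
import Cfsg.Agent.Lib.Helper9.TCData.HeA0.S268
import Cfsg.Agent.Lib.Helper9.TCData.HeA0.S269
import Cfsg.Agent.Lib.Helper9.TCData.HeA0.S270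
import Cfsg.Agent.Lib.Helper9.TCData.HeA0.S271
import Cfsg.Agent.Lib.Helper9.TCData.HeA0.S272
import Cfsg.Agent.Lib.Helper9.TCData.HeA0.S273
import Cfsg.Agent.Lib.Helper9.TCData.HeA0.S274
import Cfsg.Agent.Lib.Helper9.TCData.HeA0.S275
import Cfsg.Agent.Lib.Helper9.TCData.HeA0.S276
import Cfsg.Agent.Lib.Helper9.TCData.HeA0.S277
import Cfsg.Agent.Lib.Helper9.TCData.HeA0.S278
import Cfsg.Agent.Lib.Helper9.TCData.HeA0.S279
import Cfsg.Agent.Lib.Helper9.TCData.HeA0.S280
import Cfsg.Agent.Lib.Helper9.TCData.HeA0.S281
import Cfsg.Agent.Lib.Helper9.TCData.HeA0.S282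
import Cfsg.Agent.Lib.Helper9.TCData.HeA0.S283
import Cfsg.Agent.Lib.Helper9.TCData.HeA0.S284
import Cfsg.Agent.Lib.Helper9.TCData.HeA0.S285
import Cfsg.Agent.Lib.Helper9.TCData.HeA0.S286
import Cfsg.Agent.Lib.Helper9.TCData.HeA0.S287
import Cfsg.Agent.Lib.Helper9.TCData.HeA0.S288
import Cfsg.Agent.Lib.Helper9.TCData.HeA0.S289
import Cfsg.Agent.Lib.Helper9.TCData.HeA0.S290
import Cfsg.Agent.Lib.Helper9.TCData.HeA0.S291
import Cfsg.Agent.Lib.Helper9.TCData.HeA0.S292
import Cfsg.Agent.Lib.Helper9.TCData.HeA0.S293
import Cfsg.Agent.Lib.Helper9.TCData.HeA0.S294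
import Cfsg.Agent.Lib.Helper9.TCData.HeA0.S295
import Cfsg.Agent.Lib.Helper9.TCData.HeA0.S296
import Cfsg.Agent.Lib.Helper9.TCData.HeA0.S297
import Cfsg.Agent.Lib.Helper9.TCData.HeA0.S298
import Cfsg.Agent.Lib.Helper9.TCData.HeA0.S299
import Cfsg.Agent.Lib.Helper9.TCData.HeA0.S300
import Cfsg.Agent.Lib.Helper9.TCData.HeA0.S301
import Cfsg.Agent.Lib.Helper9.TCData.HeA0.S302
import Cfsg.Agent.Lib.Helper9.TCData.HeA0.S303
import Cfsg.Agent.Lib.Helper9.TCData.HeA0.S304
import Cfsg.Agent.Lib.Helper9.TCData.HeA0.S305
import Cfsg.Agent.Lib.Helper9.TCData.HeA0.S306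
import Cfsg.Agent.Lib.Helper9.TCData.HeA0.S307
import Cfsg.Agent.Lib.Helper9.TCData.HeA0.S308
import Cfsg.Agent.Lib.Helper9.TCData.HeA0.S309
import Cfsg.Agent.Lib.Helper9.TCData.HeA0.S310
import Cfsg.Agent.Lib.Helper9.TCData.HeA0.S311
import Cfsg.Agent.Lib.Helper9.TCData.HeA0.S312
import Cfsg.Agent.Lib.Helper9.TCData.HeA0.S313
import Cfsg.Agent.Lib.Helper9.TCData.HeA0.S314
import Cfsg.Agent.Lib.Helper9.TCData.HeA0.S315
import Cfsg.Agent.Lib.Helper9.TCData.HeA0.S316
import Cfsg.Agent.Lib.Helper9.TCData.HeA0.S317
import Cfsg.Agent.Lib.Helper9.TCData.HeA0.S318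
import Cfsg.Agent.Lib.Helper9.TCData.HeA0.S319
import Cfsg.Agent.Lib.Helper9.TCData.HeA0.S320
import Cfsg.Agent.Lib.Helper9.TCData.HeA0.S321
import Cfsg.Agent.Lib.Helper9.TCData.HeA0.S322
import Cfsg.Agent.Lib.Helper9.TCData.HeA0.S323
import Cfsg.Agent.Lib.Helper9.TCData.HeA0.S324
import Cfsg.Agent.Lib.Helper9.TCData.HeA0.S325
import Cfsg.Agent.Lib.Helper9.TCData.HeA0.S326
import Cfsg.Agent.Lib.Helper9.TCData.HeA0.S327
import Cfsg.Agent.Lib.Helper9.TCData.HeA0.S328
import Cfsg.Agent.Lib.Helper9.TCData.HeA0.S329
import Cfsg.Agent.Lib.Helper9.TCData.HeA0.S330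
import Cfsg.Agent.Lib.Helper9.TCData.HeA0.S331
import Cfsg.Agent.Lib.Helper9.TCData.HeA0.S332
import Cfsg.Agent.Lib.Helper9.TCData.HeA0.S333
import Cfsg.Agent.Lib.Helper9.TCData.HeA0.S334
import Cfsg.Agent.Lib.Helper9.TCData.HeA0.S335
import Cfsg.Agent.Lib.Helper9.TCData.HeA0.S336
import Cfsg.Agent.Lib.Helper9.TCData.HeA0.S337
import Cfsg.Agent.Lib.Helper9.TCData.HeA0.S338
import Cfsg.Agent.Lib.Helper9.TCData.HeA0.S339
import Cfsg.Agent.Lib.Helper9.TCData.HeA0.S340
import Cfsg.Agent.Lib.Helper9.TCData.HeA0.S341
import Cfsg.Agent.Lib.Helper9.TCData.HeA0.S342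
import Cfsg.Agent.Lib.Helper9.TCData.HeA0.S343
import Cfsg.Agent.Lib.Helper9.TCData.HeA0.S344
import Cfsg.Agent.Lib.Helper9.TCData.HeA0.S345
import Cfsg.Agent.Lib.Helper9.TCData.HeA0.S346
import Cfsg.Agent.Lib.Helper9.TCData.HeA0.S347
import Cfsg.Agent.Lib.Helper9.TCData.HeA0.S348
import Cfsg.Agent.Lib.Helper9.TCData.HeA0.S349
import Cfsg.Agent.Lib.Helper9.TCData.HeA0.S350
import Cfsg.Agent.Lib.Helper9.TCData.HeA0.S351
import Cfsg.Agent.Lib.Helper9.TCData.HeA0.S352
import Cfsg.Agent.Lib.Helper9.TCData.HeA0.S353
import Cfsg.Agent.Lib.Helper9.TCData.HeA0.S354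
import Cfsg.Agent.Lib.Helper9.TCData.HeA0.S355
import Cfsg.Agent.Lib.Helper9.TCData.HeA0.S356
import Cfsg.Agent.Lib.Helper9.TCData.HeA0.S357
import Cfsg.Agent.Lib.Helper9.TCData.HeA0.S358
import Cfsg.Agent.Lib.Helper9.TCData.HeA0.S359
import Cfsg.Agent.Lib.Helper9.TCData.HeA0.S360
import Cfsg.Agent.Lib.Helper9.TCData.HeA0.S361
import Cfsg.Agent.Lib.Helper9.TCData.HeA0.S362
import Cfsg.Agent.Lib.Helper9.TCData.HeA0.S363
import Cfsg.Agent.Lib.Helper9.TCData.HeA0.S364
import Cfsg.Agent.Lib.Helper9.TCData.HeA0.S365
import Cfsg.Agent.Lib.Helper9.TCData.HeA0.S366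
import Cfsg.Agent.Lib.Helper9.TCData.HeA0.S367
import Cfsg.Agent.Lib.Helper9.TCData.HeA0.S368
import Cfsg.Agent.Lib.Helper9.TCData.HeA0.S369
import Cfsg.Agent.Lib.Helper9.TCData.HeA0.S370
import Cfsg.Agent.Lib.Helper9.TCData.HeA0.S371
import Cfsg.Agent.Lib.Helper9.TCData.HeA0.S372
import Cfsg.Agent.Lib.Helper9.TCData.HeA0.S373
import Cfsg.Agent.Lib.Helper9.TCData.HeA0.S374
import Cfsg.Agent.Lib.Helper9.TCData.HeA0.S375
import Cfsg.Agent.Lib.Helper9.TCData.HeA0.S376
import Cfsg.Agent.Lib.Helper9.TCData.HeA0.S377
import Cfsg.Agent.Lib.Helper9.TCData.HeA0.S378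
import Cfsg.Agent.Lib.Helper9.TCData.HeA0.S379
import Cfsg.Agent.Lib.Helper9.TCData.HeA0.S380
import Cfsg.Agent.Lib.Helper9.TCData.HeA0.S381
import Cfsg.Agent.Lib.Helper9.TCData.HeA0.S382
import Cfsg.Agent.Lib.Helper9.TCData.HeA0.S383
import Cfsg.Agent.Lib.Helper9.TCData.HeA0.S384
import Cfsg.Agent.Lib.Helper9.TCData.HeA0.S385
import Cfsg.Agent.Lib.Helper9.TCData.HeA0.S386
import Cfsg.Agent.Lib.Helper9.TCData.HeA0.S387
import Cfsg.Agent.Lib.Helper9.TCData.HeA0.S388
import Cfsg.Agent.Lib.Helper9.TCData.HeA0.S389
import Cfsg.Agent.Lib.Helper9.TCData.HeA0.S390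
import Cfsg.Agent.Lib.Helper9.TCData.HeA0.S391
import Cfsg.Agent.Lib.Helper9.TCData.HeA0.S392
import Cfsg.Agent.Lib.Helper9.TCData.HeA0.S393
import Cfsg.Agent.Lib.Helper9.TCData.HeA0.S394
import Cfsg.Agent.Lib.Helper9.TCData.HeA0.S395
import Cfsg.Agent.Lib.Helper9.TCData.HeA0.S396
import Cfsg.Agent.Lib.Helper9.TCData.HeA0.S397
import Cfsg.Agent.Lib.Helper9.TCData.HeA0.S398
import Cfsg.Agent.Lib.Helper9.TCData.HeA0.S399
import Cfsg.Agent.Lib.Helper9.TCData.HeA0.S400
import Cfsg.Agent.Lib.Helper9.TCData.HeA0.S401
import Cfsg.Agent.Lib.Helper9.TCData.HeA0.S402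
import Cfsg.Agent.Lib.Helper9.TCData.HeA0.S403
import Cfsg.Agent.Lib.Helper9.TCData.HeA0.S404
import Cfsg.Agent.Lib.Helper9.TCData.HeA0.S405
import Cfsg.Agent.Lib.Helper9.TCData.HeA0.S406
import Cfsg.Agent.Lib.Helper9.TCData.HeA0.S407
import Cfsg.Agent.Lib.Helper9.TCData.HeA0.S408
import Cfsg.Agent.Lib.Helper9.TCData.HeA0.S409
import Cfsg.Agent.Lib.Helper9.TCData.HeA0.S410
import Cfsg.Agent.Lib.Helper9.TCData.HeA0.S411
import Cfsg.Agent.Lib.Helper9.TCData.HeA0.S412
import Cfsg.Agent.Lib.Helper9.TCData.HeA0.S413
import Cfsg.Agent.Lib.Helper9.TCData.HeA0.S414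
import Cfsg.Agent.Lib.Helper9.TCData.HeA0.S415
import Cfsg.Agent.Lib.Helper9.TCData.HeA0.S416
import Cfsg.Agent.Lib.Helper9.TCData.HeA0.S417
import Cfsg.Agent.Lib.Helper9.TCData.HeA0.S418
import Cfsg.Agent.Lib.Helper9.TCData.HeA0.S419
import Cfsg.Agent.Lib.Helper9.TCData.HeA0.S420
import Cfsg.Agent.Lib.Helper9.TCData.HeA0.S421
import Cfsg.Agent.Lib.Helper9.TCData.HeA0.S422
import Cfsg.Agent.Lib.Helper9.TCData.HeA0.S423
import Cfsg.Agent.Lib.Helper9.TCData.HeA0.S424
import Cfsg.Agent.Lib.Helper9.TCData.HeA0.S425
import Cfsg.Agent.Lib.Helper9.TCData.HeA0.S426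
import Cfsg.Agent.Lib.Helper9.TCData.HeA0.S427
import Cfsg.Agent.Lib.Helper9.TCData.HeA0.S428
import Cfsg.Agent.Lib.Helper9.TCData.HeA0.S429
import Cfsg.Agent.Lib.Helper9.TCData.HeA0.S430
import Cfsg.Agent.Lib.Helper9.TCData.HeA0.S431
import Cfsg.Agent.Lib.Helper9.TCData.HeA0.S432
import Cfsg.Agent.Lib.Helper9.TCData.HeA0.S433
import Cfsg.Agent.Lib.Helper9.TCData.HeA0.S434
import Cfsg.Agent.Lib.Helper9.TCData.HeA0.S435
import Cfsg.Agent.Lib.Helper9.TCData.HeA0.S436
import Cfsg.Agent.Lib.Helper9.TCData.HeA0.S437
import Cfsg.Agent.Lib.Helper9.TCData.HeA0.S438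
import Cfsg.Agent.Lib.Helper9.TCData.HeA0.S439
import Cfsg.Agent.Lib.Helper9.TCData.HeA0.S440
import Cfsg.Agent.Lib.Helper9.TCData.HeA0.S441
import Cfsg.Agent.Lib.Helper9.TCData.HeA0.S442
import Cfsg.Agent.Lib.Helper9.TCData.HeA0.S443
import Cfsg.Agent.Lib.Helper9.TCData.HeA0.S444
import Cfsg.Agent.Lib.Helper9.TCData.HeA0.S445
import Cfsg.Agent.Lib.Helper9.TCData.HeA0.S446
import Cfsg.Agent.Lib.Helper9.TCData.HeA0.S447
import Cfsg.Agent.Lib.Helper9.TCData.HeA0.S448
import Cfsg.Agent.Lib.Helper9.TCData.HeA0.S449
import Cfsg.Agent.Lib.Helper9.TCData.HeA0.S450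
import Cfsg.Agent.Lib.Helper9.TCData.HeA0.S451
import Cfsg.Agent.Lib.Helper9.TCData.HeA0.S452
import Cfsg.Agent.Lib.Helper9.TCData.HeA0.S453
import Cfsg.Agent.Lib.Helper9.TCData.HeA0.S454
import Cfsg.Agent.Lib.Helper9.TCData.HeA0.S455
import Cfsg.Agent.Lib.Helper9.TCData.HeA0.S456
import Cfsg.Agent.Lib.Helper9.TCData.HeA0.S457
import Cfsg.Agent.Lib.Helper9.TCData.HeA0.S458
import Cfsg.Agent.Lib.Helper9.TCData.HeA0.S459
import Cfsg.Agent.Lib.Helper9.TCData.HeA0.S460
import Cfsg.Agent.Lib.Helper9.TCData.HeA0.S461
import Cfsg.Agent.Lib.Helper9.TCData.HeA0.S462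
import Cfsg.Agent.Lib.Helper9.TCData.HeA0.S463
import Cfsg.Agent.Lib.Helper9.TCData.HeA0.S464
import Cfsg.Agent.Lib.Helper9.TCData.HeA0.S465
import Cfsg.Agent.Lib.Helper9.TCData.HeA0.S466
import Cfsg.Agent.Lib.Helper9.TCData.HeA0.S467
import Cfsg.Agent.Lib.Helper9.TCData.HeA0.S468
import Cfsg.Agent.Lib.Helper9.TCData.HeA0.S469
import Cfsg.Agent.Lib.Helper9.TCData.HeA0.S470
import Cfsg.Agent.Lib.Helper9.TCData.HeA0.S471
import Cfsg.Agent.Lib.Helper9.TCData.HeA0.S472
import Cfsg.Agent.Lib.Helper9.TCData.HeA0.S473
import Cfsg.Agent.Lib.Helper9.TCData.HeA0.S474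
import Cfsg.Agent.Lib.Helper9.TCData.HeA0.S475
import Cfsg.Agent.Lib.Helper9.TCData.HeA0.S476
import Cfsg.Agent.Lib.Helper9.TCData.HeA0.S477
import Cfsg.Agent.Lib.Helper9.TCData.HeA0.S478
import Cfsg.Agent.Lib.Helper9.TCData.HeA0.S479
import Cfsg.Agent.Lib.Helper9.TCData.HeA0.S480
import Cfsg.Agent.Lib.Helper9.TCData.HeA0.S481
import Cfsg.Agent.Lib.Helper9.TCData.HeA0.S482
import Cfsg.Agent.Lib.Helper9.TCData.HeA0.S483
import Cfsg.Agent.Lib.Helper9.TCData.HeA0.S484
import Cfsg.Agent.Lib.Helper9.TCData.HeA0.S485
import Cfsg.Agent.Lib.Helper9.TCData.HeA0.S486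
import Cfsg.Agent.Lib.Helper9.TCData.HeA0.S487
import Cfsg.Agent.Lib.Helper9.TCData.HeA0.S488
import Cfsg.Agent.Lib.Helper9.TCData.HeA0.S489
import Cfsg.Agent.Lib.Helper9.TCData.HeA0.S490
import Cfsg.Agent.Lib.Helper9.TCData.HeA0.S491
import Cfsg.Agent.Lib.Helper9.TCData.HeA0.S492
import Cfsg.Agent.Lib.Helper9.TCData.HeA0.S493
import Cfsg.Agent.Lib.Helper9.TCData.HeA0.S494
import Cfsg.Agent.Lib.Helper9.TCData.HeA0.S495
import Cfsg.Agent.Lib.Helper9.TCData.HeA0.S496
import Cfsg.Agent.Lib.Helper9.TCData.HeA0.S497
import Cfsg.Agent.Lib.Helper9.TCData.HeA0.S498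
import Cfsg.Agent.Lib.Helper9.TCData.HeA0.S499
import Cfsg.Agent.Lib.Helper9.TCData.HeA0.S500
import Cfsg.Agent.Lib.Helper9.TCData.HeA0.S501
import Cfsg.Agent.Lib.Helper9.TCData.HeA0.S502
import Cfsg.Agent.Lib.Helper9.TCData.HeA0.S503
import Cfsg.Agent.Lib.Helper9.TCData.HeA0.S504
import Cfsg.Agent.Lib.Helper9.TCData.HeA0.S505
import Cfsg.Agent.Lib.Helper9.TCData.HeA0.S506
import Cfsg.Agent.Lib.Helper9.TCData.HeA0.S507
import Cfsg.Agent.Lib.Helper9.TCData.HeA0.S508
import Cfsg.Agent.Lib.Helper9.TCData.HeA0.S509
import Cfsg.Agent.Lib.Helper9.TCData.HeA0.S510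
import Cfsg.Agent.Lib.Helper9.TCData.HeA0.S511
import Cfsg.Agent.Lib.Helper9.TCData.HeA0.S512
import Cfsg.Agent.Lib.Helper9.TCData.HeA0.S513
import Cfsg.Agent.Lib.Helper9.TCData.HeA0.S514
import Cfsg.Agent.Lib.Helper9.TCData.HeA0.S515
import Cfsg.Agent.Lib.Helper9.TCData.HeA0.S516
import Cfsg.Agent.Lib.Helper9.TCData.HeA0.S517
import Cfsg.Agent.Lib.Helper9.TCData.HeA0.S518
import Cfsg.Agent.Lib.Helper9.TCData.HeA0.S519
import Cfsg.Agent.Lib.Helper9.TCData.HeA0.S520
import Cfsg.Agent.Lib.Helper9.TCData.HeA0.S521
import Cfsg.Agent.Lib.Helper9.TCData.HeA0.S522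
import Cfsg.Agent.Lib.Helper9.TCData.HeA0.S523
import Cfsg.Agent.Lib.Helper9.TCData.HeA0.S524
import Cfsg.Agent.Lib.Helper9.TCData.HeA0.S525
import Cfsg.Agent.Lib.Helper9.TCData.HeA0.S526
import Cfsg.Agent.Lib.Helper9.TCData.HeA0.S527
import Cfsg.Agent.Lib.Helper9.TCData.HeA0.S528
import Cfsg.Agent.Lib.Helper9.TCData.HeA0.S529
import Cfsg.Agent.Lib.Helper9.TCData.HeA0.S530
import Cfsg.Agent.Lib.Helper9.TCData.HeA0.S531
import Cfsg.Agent.Lib.Helper9.TCData.HeA0.S532
import Cfsg.Agent.Lib.Helper9.TCData.HeA0.S533
import Cfsg.Agent.Lib.Helper9.TCData.HeA0.S534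
import Cfsg.Agent.Lib.Helper9.TCData.HeA0.S535
import Cfsg.Agent.Lib.Helper9.TCData.HeA0.S536
import Cfsg.Agent.Lib.Helper9.TCData.HeA0.S537
import Cfsg.Agent.Lib.Helper9.TCData.HeA0.S538
import Cfsg.Agent.Lib.Helper9.TCData.HeA0.S539
import Cfsg.Agent.Lib.Helper9.TCData.HeA0.S540
import Cfsg.Agent.Lib.Helper9.TCData.HeA0.S541
import Cfsg.Agent.Lib.Helper9.TCData.HeA0.S542
import Cfsg.Agent.Lib.Helper9.TCData.HeA0.S543
import Cfsg.Agent.Lib.Helper9.TCData.HeA0.S544
import Cfsg.Agent.Lib.Helper9.TCData.HeA0.S545
import Cfsg.Agent.Lib.Helper9.TCData.HeA0.S546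
import Cfsg.Agent.Lib.Helper9.TCData.HeA0.S547
import Cfsg.Agent.Lib.Helper9.TCData.HeA0.S548
import Cfsg.Agent.Lib.Helper9.TCData.HeA0.S549
import Cfsg.Agent.Lib.Helper9.TCData.HeA0.S550
import Cfsg.Agent.Lib.Helper9.TCData.HeA0.S551
import Cfsg.Agent.Lib.Helper9.TCData.HeA0.S552
import Cfsg.Agent.Lib.Helper9.TCData.HeA0.S553
import Cfsg.Agent.Lib.Helper9.TCData.HeA0.S554
import Cfsg.Agent.Lib.Helper9.TCData.HeA0.S555
import Cfsg.Agent.Lib.Helper9.TCData.HeA0.S556
import Cfsg.Agent.Lib.Helper9.TCData.HeA0.S557
import Cfsg.Agent.Lib.Helper9.TCData.HeA0.S558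
import Cfsg.Agent.Lib.Helper9.TCData.HeA0.S559
import Cfsg.Agent.Lib.Helper9.TCData.HeA0.S560
import Cfsg.Agent.Lib.Helper9.TCData.HeA0.S561
import Cfsg.Agent.Lib.Helper9.TCData.HeA0.S562
import Cfsg.Agent.Lib.Helper9.TCData.HeA0.S563
import Cfsg.Agent.Lib.Helper9.TCData.HeA0.S564
import Cfsg.Agent.Lib.Helper9.TCData.HeA0.S565
import Cfsg.Agent.Lib.Helper9.TCData.HeA0.S566
import Cfsg.Agent.Lib.Helper9.TCData.HeA0.S567
import Cfsg.Agent.Lib.Helper9.TCData.HeA0.S568
import Cfsg.Agent.Lib.Helper9.TCData.HeA0.S569
import Cfsg.Agent.Lib.Helper9.TCData.HeA0.S570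
import Cfsg.Agent.Lib.Helper9.TCData.HeA0.S571
import Cfsg.Agent.Lib.Helper9.TCData.HeA0.S572
import Cfsg.Agent.Lib.Helper9.TCData.HeA0.S573
import Cfsg.Agent.Lib.Helper9.TCData.HeA0.S574
import Cfsg.Agent.Lib.Helper9.TCData.HeA0.S575
import Cfsg.Agent.Lib.Helper9.TCData.HeA0.S576
import Cfsg.Agent.Lib.Helper9.TCData.HeA0.S577
import Cfsg.Agent.Lib.Helper9.TCData.HeA0.S578
import Cfsg.Agent.Lib.Helper9.TCData.HeA0.S579
import Cfsg.Agent.Lib.Helper9.TCData.HeA0.S580
import Cfsg.Agent.Lib.Helper9.TCData.HeA0.S581
import Cfsg.Agent.Lib.Helper9.TCData.HeA0.S582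
import Cfsg.Agent.Lib.Helper9.TCData.HeA0.S583
import Cfsg.Agent.Lib.Helper9.TCData.HeA0.S584
import Cfsg.Agent.Lib.Helper9.TCData.HeA0.S585
import Cfsg.Agent.Lib.Helper9.TCData.HeA0.S586
import Cfsg.Agent.Lib.Helper9.TCData.HeA0.S587
import Cfsg.Agent.Lib.Helper9.TCData.HeA0.S588
import Cfsg.Agent.Lib.Helper9.TCData.HeA0.S589
import Cfsg.Agent.Lib.Helper9.TCData.HeA0.S590
import Cfsg.Agent.Lib.Helper9.TCData.HeA0.S591
import Cfsg.Agent.Lib.Helper9.TCData.HeA0.S592
import Cfsg.Agent.Lib.Helper9.TCData.HeA0.S593
import Cfsg.Agent.Lib.Helper9.TCData.HeA0.S594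
import Cfsg.Agent.Lib.Helper9.TCData.HeA0.S595
import Cfsg.Agent.Lib.Helper9.TCData.HeA0.S596
import Cfsg.Agent.Lib.Helper9.TCData.HeA0.S597
import Cfsg.Agent.Lib.Helper9.TCData.HeA0.S598
import Cfsg.Agent.Lib.Helper9.TCData.HeA0.S599
import Cfsg.Agent.Lib.Helper9.TCData.HeA0.S600
import Cfsg.Agent.Lib.Helper9.TCData.HeA0.S601
import Cfsg.Agent.Lib.Helper9.TCData.HeA0.S602
import Cfsg.Agent.Lib.Helper9.TCData.HeA0.S603
import Cfsg.Agent.Lib.Helper9.TCData.HeA0.S604
import Cfsg.Agent.Lib.Helper9.TCData.HeA0.S605
import Cfsg.Agent.Lib.Helper9.TCData.HeA0.S606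
import Cfsg.Agent.Lib.Helper9.TCData.HeA0.S607

set_option autoImplicit false
set_option maxRecDepth 1000000

namespace Cfsg.Agent.Helper9.TCData.HeA0
open Cfsg.Agent.Helper9.TC2


theorem hE0 : ∀ u < 269227, chkE tab 0 u = true := by
  have h0 : ∀ u < 0, (fun u => chkE tab 0 u) u = true := range_zero
  have h1 : ∀ u < 1819, (fun u => chkE tab 0 u) u = true := ext_range (a := 0) (len := 1819) h0 e0_0
  have h2 : ∀ u < 3957, (fun u => chkE tab 0 u) u = true := ext_range (a := 1819) (len := 2138) h1 e0_1
  have h3 : ∀ u < 6021, (fun u => chkE tab 0 u) u = true := ext_range (a := 3957) (len := 2064) h2 e0_2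
  have h4 : ∀ u < 8148, (fun u => chkE tab 0 u) u = true := ext_range (a := 6021) (len := 2127) h3 e0_3
  have h5 : ∀ u < 10522, (fun u => chkE tab 0 u) u = true := ext_range (a := 8148) (len := 2374) h4 e0_4
  have h6 : ∀ u < 12941, (fun u => chkE tab 0 u) u = true := ext_range (a := 10522) (len := 2419) h5 e0_5
  have h7 : ∀ u < 14907, (fun u => chkE tab 0 u) u = true := ext_range (a := 12941) (len := 1966) h6 e0_6
  have h8 : ∀ u < 17049, (fun u => chkE tab 0 u) u = true := ext_range (a := 14907) (len := 2142) h7 e0_7
  have h9 : ∀ u < 19695, (fun u => chkE tab 0 u) u = true := ext_range (a := 17049) (len := 2646) h8 e0_8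
  have h10 : ∀ u < 21663, (fun u => chkE tab 0 u) u = true := ext_range (a := 19695) (len := 1968) h9 e0_9
  have h11 : ∀ u < 24335, (fun u => chkE tab 0 u) u = true := ext_range (a := 21663) (len := 2672) h10 e0_10
  have h12 : ∀ u < 26474, (fun u => chkE tab 0 u) u = true := ext_range (a := 24335) (len := 2139) h11 e0_11
  have h13 : ∀ u < 28553, (fun u => chkE tab 0 u) u = true := ext_range (a := 26474) (len := 2079) h12 e0_12
  have h14 : ∀ u < 30648, (fun u => chkE tab 0 u) u = true := ext_range (a := 28553) (len := 2095) h13 e0_13
  have h15 : ∀ u < 33084, (fun u => chkE tab 0 u) u = true := ext_range (a := 30648) (len := 2436) h14 e0_14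
  have h16 : ∀ u < 35847, (fun u => chkE tab 0 u) u = true := ext_range (a := 33084) (len := 2763) h15 e0_15
  have h17 : ∀ u < 37876, (fun u => chkE tab 0 u) u = true := ext_range (a := 35847) (len := 2029) h16 e0_16
  have h18 : ∀ u < 39978, (fun u => chkE tab 0 u) u = true := ext_range (a := 37876) (len := 2102) h17 e0_17
  have h19 : ∀ u < 42359, (fun u => chkE tab 0 u) u = true := ext_range (a := 39978) (len := 2381) h18 e0_18
  have h20 : ∀ u < 45041, (fun u => chkE tab 0 u) u = true := ext_range (a := 42359) (len := 2682) h19 e0_19
  have h21 : ∀ u < 47153, (fun u => chkE tab 0 u) u = true := ext_range (a := 45041) (len := 2112) h20 e0_20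
  have h22 : ∀ u < 49272, (fun u => chkE tab 0 u) u = true := ext_range (a := 47153) (len := 2119) h21 e0_21
  have h23 : ∀ u < 51594, (fun u => chkE tab 0 u) u = true := ext_range (a := 49272) (len := 2322) h22 e0_22
  have h24 : ∀ u < 53876, (fun u => chkE tab 0 u) u = true := ext_range (a := 51594) (len := 2282) h23 e0_23
  have h25 : ∀ u < 56314, (fun u => chkE tab 0 u) u = true := ext_range (a := 53876) (len := 2438) h24 e0_24
  have h26 : ∀ u < 58508, (fun u => chkE tab 0 u) u = true := ext_range (a := 56314) (len := 2194) h25 e0_25
  have h27 : ∀ u < 61399, (fun u => chkE tab 0 u) u = true := ext_range (a := 58508) (len := 2891) h26 e0_26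
  have h28 : ∀ u < 63641, (fun u => chkE tab 0 u) u = true := ext_range (a := 61399) (len := 2242) h27 e0_27
  have h29 : ∀ u < 65764, (fun u => chkE tab 0 u) u = true := ext_range (a := 63641) (len := 2123) h28 e0_28
  have h30 : ∀ u < 68102, (fun u => chkE tab 0 u) u = true := ext_range (a := 65764) (len := 2338) h29 e0_29
  have h31 : ∀ u < 70454, (fun u => chkE tab 0 u) u = true := ext_range (a := 68102) (len := 2352) h30 e0_30
  have h32 : ∀ u < 73026, (fun u => chkE tab 0 u) u = true := ext_range (a := 70454) (len := 2572) h31 e0_31
  have h33 : ∀ u < 75388, (fun u => chkE tab 0 u) u = true := ext_range (a := 73026) (len := 2362) h32 e0_32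
  have h34 : ∀ u < 77515, (fun u => chkE tab 0 u) u = true := ext_range (a := 75388) (len := 2127) h33 e0_33
  have h35 : ∀ u < 79851, (fun u => chkE tab 0 u) u = true := ext_range (a := 77515) (len := 2336) h34 e0_34
  have h36 : ∀ u < 82220, (fun u => chkE tab 0 u) u = true := ext_range (a := 79851) (len := 2369) h35 e0_35
  have h37 : ∀ u < 84582, (fun u => chkE tab 0 u) u = true := ext_range (a := 82220) (len := 2362) h36 e0_36
  have h38 : ∀ u < 87066, (fun u => chkE tab 0 u) u = true := ext_range (a := 84582) (len := 2484) h37 e0_37
  have h39 : ∀ u < 89510, (fun u => chkE tab 0 u) u = true := ext_range (a := 87066) (len := 2444) h38 e0_38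
  have h40 : ∀ u < 91880, (fun u => chkE tab 0 u) u = true := ext_range (a := 89510) (len := 2370) h39 e0_39
  have h41 : ∀ u < 94427, (fun u => chkE tab 0 u) u = true := ext_range (a := 91880) (len := 2547) h40 e0_40
  have h42 : ∀ u < 96997, (fun u => chkE tab 0 u) u = true := ext_range (a := 94427) (len := 2570) h41 e0_41
  have h43 : ∀ u < 99268, (fun u => chkE tab 0 u) u = true := ext_range (a := 96997) (len := 2271) h42 e0_42
  have h44 : ∀ u < 101668, (fun u => chkE tab 0 u) u = true := ext_range (a := 99268) (len := 2400) h43 e0_43
  have h45 : ∀ u < 104143, (fun u => chkE tab 0 u) u = true := ext_range (a := 101668) (len := 2475) h44 e0_44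
  have h46 : ∀ u < 106643, (fun u => chkE tab 0 u) u = true := ext_range (a := 104143) (len := 2500) h45 e0_45
  have h47 : ∀ u < 109058, (fun u => chkE tab 0 u) u = true := ext_range (a := 106643) (len := 2415) h46 e0_46
  have h48 : ∀ u < 111291, (fun u => chkE tab 0 u) u = true := ext_range (a := 109058) (len := 2233) h47 e0_47
  have h49 : ∀ u < 113640, (fun u => chkE tab 0 u) u = true := ext_range (a := 111291) (len := 2349) h48 e0_48
  have h50 : ∀ u < 115907, (fun u => chkE tab 0 u) u = true := ext_range (a := 113640) (len := 2267) h49 e0_49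
  have h51 : ∀ u < 118186, (fun u => chkE tab 0 u) u = true := ext_range (a := 115907) (len := 2279) h50 e0_50
  have h52 : ∀ u < 120626, (fun u => chkE tab 0 u) u = true := ext_range (a := 118186) (len := 2440) h51 e0_51
  have h53 : ∀ u < 123093, (fun u => chkE tab 0 u) u = true := ext_range (a := 120626) (len := 2467) h52 e0_52
  have h54 : ∀ u < 125624, (fun u => chkE tab 0 u) u = true := ext_range (a := 123093) (len := 2531) h53 e0_53
  have h55 : ∀ u < 128140, (fun u => chkE tab 0 u) u = true := ext_range (a := 125624) (len := 2516) h54 e0_54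
  have h56 : ∀ u < 130490, (fun u => chkE tab 0 u) u = true := ext_range (a := 128140) (len := 2350) h55 e0_55
  have h57 : ∀ u < 133014, (fun u => chkE tab 0 u) u = true := ext_range (a := 130490) (len := 2524) h56 e0_56
  have h58 : ∀ u < 135498, (fun u => chkE tab 0 u) u = true := ext_range (a := 133014) (len := 2484) h57 e0_57
  have h59 : ∀ u < 137817, (fun u => chkE tab 0 u) u = true := ext_range (a := 135498) (len := 2319) h58 e0_58
  have h60 : ∀ u < 140117, (fun u => chkE tab 0 u) u = true := ext_range (a := 137817) (len := 2300) h59 e0_59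
  have h61 : ∀ u < 142479, (fun u => chkE tab 0 u) u = true := ext_range (a := 140117) (len := 2362) h60 e0_60
  have h62 : ∀ u < 144941, (fun u => chkE tab 0 u) u = true := ext_range (a := 142479) (len := 2462) h61 e0_61
  have h63 : ∀ u < 147356, (fun u => chkE tab 0 u) u = true := ext_range (a := 144941) (len := 2415) h62 e0_62
  have h64 : ∀ u < 149773, (fun u => chkE tab 0 u) u = true := ext_range (a := 147356) (len := 2417) h63 e0_63
  have h65 : ∀ u < 152027, (fun u => chkE tab 0 u) u = true := ext_range (a := 149773) (len := 2254) h64 e0_64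
  have h66 : ∀ u < 154315, (fun u => chkE tab 0 u) u = true := ext_range (a := 152027) (len := 2288) h65 e0_65
  have h67 : ∀ u < 156556, (fun u => chkE tab 0 u) u = true := ext_range (a := 154315) (len := 2241) h66 e0_66
  have h68 : ∀ u < 158834, (fun u => chkE tab 0 u) u = true := ext_range (a := 156556) (len := 2278) h67 e0_67
  have h69 : ∀ u < 161199, (fun u => chkE tab 0 u) u = true := ext_range (a := 158834) (len := 2365) h68 e0_68
  have h70 : ∀ u < 163587, (fun u => chkE tab 0 u) u = true := ext_range (a := 161199) (len := 2388) h69 e0_69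
  have h71 : ∀ u < 165912, (fun u => chkE tab 0 u) u = true := ext_range (a := 163587) (len := 2325) h70 e0_70
  have h72 : ∀ u < 168379, (fun u => chkE tab 0 u) u = true := ext_range (a := 165912) (len := 2467) h71 e0_71
  have h73 : ∀ u < 170909, (fun u => chkE tab 0 u) u = true := ext_range (a := 168379) (len := 2530) h72 e0_72
  have h74 : ∀ u < 173386, (fun u => chkE tab 0 u) u = true := ext_range (a := 170909) (len := 2477) h73 e0_73
  have h75 : ∀ u < 175840, (fun u => chkE tab 0 u) u = true := ext_range (a := 173386) (len := 2454) h74 e0_74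
  have h76 : ∀ u < 178396, (fun u => chkE tab 0 u) u = true := ext_range (a := 175840) (len := 2556) h75 e0_75
  have h77 : ∀ u < 180926, (fun u => chkE tab 0 u) u = true := ext_range (a := 178396) (len := 2530) h76 e0_76
  have h78 : ∀ u < 183251, (fun u => chkE tab 0 u) u = true := ext_range (a := 180926) (len := 2325) h77 e0_77
  have h79 : ∀ u < 185503, (fun u => chkE tab 0 u) u = true := ext_range (a := 183251) (len := 2252) h78 e0_78
  have h80 : ∀ u < 188021, (fun u => chkE tab 0 u) u = true := ext_range (a := 185503) (len := 2518) h79 e0_79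
  have h81 : ∀ u < 190457, (fun u => chkE tab 0 u) u = true := ext_range (a := 188021) (len := 2436) h80 e0_80
  have h82 : ∀ u < 193058, (fun u => chkE tab 0 u) u = true := ext_range (a := 190457) (len := 2601) h81 e0_81
  have h83 : ∀ u < 195513, (fun u => chkE tab 0 u) u = true := ext_range (a := 193058) (len := 2455) h82 e0_82
  have h84 : ∀ u < 198118, (fun u => chkE tab 0 u) u = true := ext_range (a := 195513) (len := 2605) h83 e0_83
  have h85 : ∀ u < 200516, (fun u => chkE tab 0 u) u = true := ext_range (a := 198118) (len := 2398) h84 e0_84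
  have h86 : ∀ u < 202923, (fun u => chkE tab 0 u) u = true := ext_range (a := 200516) (len := 2407) h85 e0_85
  have h87 : ∀ u < 205420, (fun u => chkE tab 0 u) u = true := ext_range (a := 202923) (len := 2497) h86 e0_86
  have h88 : ∀ u < 207753, (fun u => chkE tab 0 u) u = true := ext_range (a := 205420) (len := 2333) h87 e0_87
  have h89 : ∀ u < 210442, (fun u => chkE tab 0 u) u = true := ext_range (a := 207753) (len := 2689) h88 e0_88
  have h90 : ∀ u < 212939, (fun u => chkE tab 0 u) u = true := ext_range (a := 210442) (len := 2497) h89 e0_89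
  have h91 : ∀ u < 215415, (fun u => chkE tab 0 u) u = true := ext_range (a := 212939) (len := 2476) h90 e0_90
  have h92 : ∀ u < 218047, (fun u => chkE tab 0 u) u = true := ext_range (a := 215415) (len := 2632) h91 e0_91
  have h93 : ∀ u < 220732, (fun u => chkE tab 0 u) u = true := ext_range (a := 218047) (len := 2685) h92 e0_92
  have h94 : ∀ u < 223439, (fun u => chkE tab 0 u) u = true := ext_range (a := 220732) (len := 2707) h93 e0_93
  have h95 : ∀ u < 226112, (fun u => chkE tab 0 u) u = true := ext_range (a := 223439) (len := 2673) h94 e0_94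
  have h96 : ∀ u < 228899, (fun u => chkE tab 0 u) u = true := ext_range (a := 226112) (len := 2787) h95 e0_95
  have h97 : ∀ u < 231463, (fun u => chkE tab 0 u) u = true := ext_range (a := 228899) (len := 2564) h96 e0_96
  have h98 : ∀ u < 234168, (fun u => chkE tab 0 u) u = true := ext_range (a := 231463) (len := 2705) h97 e0_97
  have h99 : ∀ u < 236976, (fun u => chkE tab 0 u) u = true := ext_range (a := 234168) (len := 2808) h98 e0_98
  have h100 : ∀ u < 239841, (fun u => chkE tab 0 u) u = true := ext_range (a := 236976) (len := 2865) h99 e0_99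
  have h101 : ∀ u < 242704, (fun u => chkE tab 0 u) u = true := ext_range (a := 239841) (len := 2863) h100 e0_100
  have h102 : ∀ u < 245557, (fun u => chkE tab 0 u) u = true := ext_range (a := 242704) (len := 2853) h101 e0_101
  have h103 : ∀ u < 248403, (fun u => chkE tab 0 u) u = true := ext_range (a := 245557) (len := 2846) h102 e0_102
  have h104 : ∀ u < 251330, (fun u => chkE tab 0 u) u = true := ext_range (a := 248403) (len := 2927) h103 e0_103
  have h105 : ∀ u < 254282, (fun u => chkE tab 0 u) u = true := ext_range (a := 251330) (len := 2952) h104 e0_104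
  have h106 : ∀ u < 257509, (fun u => chkE tab 0 u) u = true := ext_range (a := 254282) (len := 3227) h105 e0_105
  have h107 : ∀ u < 260756, (fun u => chkE tab 0 u) u = true := ext_range (a := 257509) (len := 3247) h106 e0_106
  have h108 : ∀ u < 264080, (fun u => chkE tab 0 u) u = true := ext_range (a := 260756) (len := 3324) h107 e0_107
  have h109 : ∀ u < 267533, (fun u => chkE tab 0 u) u = true := ext_range (a := 264080) (len := 3453) h108 e0_108
  have h110 : ∀ u < 269227, (fun u => chkE tab 0 u) u = true := ext_range (a := 267533) (len := 1694) h109 e0_109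
  exact h110

theorem hE1 : ∀ u < 269227, chkE tab 1 u = true := by
  have h0 : ∀ u < 0, (fun u => chkE tab 1 u) u = true := range_zero
  have h1 : ∀ u < 2318, (fun u => chkE tab 1 u) u = true := ext_range (a := 0) (len := 2318) h0 e1_0
  have h2 : ∀ u < 4596, (fun u => chkE tab 1 u) u = true := ext_range (a := 2318) (len := 2278) h1 e1_1
  have h3 : ∀ u < 6846, (fun u => chkE tab 1 u) u = true := ext_range (a := 4596) (len := 2250) h2 e1_2
  have h4 : ∀ u < 9040, (fun u => chkE tab 1 u) u = true := ext_range (a := 6846) (len := 2194) h3 e1_3
  have h5 : ∀ u < 11353, (fun u => chkE tab 1 u) u = true := ext_range (a := 9040) (len := 2313) h4 e1_4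
  have h6 : ∀ u < 13713, (fun u => chkE tab 1 u) u = true := ext_range (a := 11353) (len := 2360) h5 e1_5
  have h7 : ∀ u < 16006, (fun u => chkE tab 1 u) u = true := ext_range (a := 13713) (len := 2293) h6 e1_6
  have h8 : ∀ u < 18344, (fun u => chkE tab 1 u) u = true := ext_range (a := 16006) (len := 2338) h7 e1_7
  have h9 : ∀ u < 20795, (fun u => chkE tab 1 u) u = true := ext_range (a := 18344) (len := 2451) h8 e1_8
  have h10 : ∀ u < 23068, (fun u => chkE tab 1 u) u = true := ext_range (a := 20795) (len := 2273) h9 e1_9
  have h11 : ∀ u < 25382, (fun u => chkE tab 1 u) u = true := ext_range (a := 23068) (len := 2314) h10 e1_10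
  have h12 : ∀ u < 27720, (fun u => chkE tab 1 u) u = true := ext_range (a := 25382) (len := 2338) h11 e1_11
  have h13 : ∀ u < 30138, (fun u => chkE tab 1 u) u = true := ext_range (a := 27720) (len := 2418) h12 e1_12
  have h14 : ∀ u < 32486, (fun u => chkE tab 1 u) u = true := ext_range (a := 30138) (len := 2348) h13 e1_13
  have h15 : ∀ u < 34873, (fun u => chkE tab 1 u) u = true := ext_range (a := 32486) (len := 2387) h14 e1_14
  have h16 : ∀ u < 37220, (fun u => chkE tab 1 u) u = true := ext_range (a := 34873) (len := 2347) h15 e1_15
  have h17 : ∀ u < 39598, (fun u => chkE tab 1 u) u = true := ext_range (a := 37220) (len := 2378) h16 e1_16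
  have h18 : ∀ u < 41983, (fun u => chkE tab 1 u) u = true := ext_range (a := 39598) (len := 2385) h17 e1_17
  have h19 : ∀ u < 44278, (fun u => chkE tab 1 u) u = true := ext_range (a := 41983) (len := 2295) h18 e1_18
  have h20 : ∀ u < 46712, (fun u => chkE tab 1 u) u = true := ext_range (a := 44278) (len := 2434) h19 e1_19
  have h21 : ∀ u < 49216, (fun u => chkE tab 1 u) u = true := ext_range (a := 46712) (len := 2504) h20 e1_20
  have h22 : ∀ u < 51706, (fun u => chkE tab 1 u) u = true := ext_range (a := 49216) (len := 2490) h21 e1_21
  have h23 : ∀ u < 54129, (fun u => chkE tab 1 u) u = true := ext_range (a := 51706) (len := 2423) h22 e1_22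
  have h24 : ∀ u < 56592, (fun u => chkE tab 1 u) u = true := ext_range (a := 54129) (len := 2463) h23 e1_23
  have h25 : ∀ u < 58952, (fun u => chkE tab 1 u) u = true := ext_range (a := 56592) (len := 2360) h24 e1_24
  have h26 : ∀ u < 61364, (fun u => chkE tab 1 u) u = true := ext_range (a := 58952) (len := 2412) h25 e1_25
  have h27 : ∀ u < 63800, (fun u => chkE tab 1 u) u = true := ext_range (a := 61364) (len := 2436) h26 e1_26
  have h28 : ∀ u < 66360, (fun u => chkE tab 1 u) u = true := ext_range (a := 63800) (len := 2560) h27 e1_27
  have h29 : ∀ u < 68961, (fun u => chkE tab 1 u) u = true := ext_range (a := 66360) (len := 2601) h28 e1_28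
  have h30 : ∀ u < 71425, (fun u => chkE tab 1 u) u = true := ext_range (a := 68961) (len := 2464) h29 e1_29
  have h31 : ∀ u < 73935, (fun u => chkE tab 1 u) u = true := ext_range (a := 71425) (len := 2510) h30 e1_30
  have h32 : ∀ u < 76387, (fun u => chkE tab 1 u) u = true := ext_range (a := 73935) (len := 2452) h31 e1_31
  have h33 : ∀ u < 79004, (fun u => chkE tab 1 u) u = true := ext_range (a := 76387) (len := 2617) h32 e1_32
  have h34 : ∀ u < 81664, (fun u => chkE tab 1 u) u = true := ext_range (a := 79004) (len := 2660) h33 e1_33
  have h35 : ∀ u < 84278, (fun u => chkE tab 1 u) u = true := ext_range (a := 81664) (len := 2614) h34 e1_34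
  have h36 : ∀ u < 86913, (fun u => chkE tab 1 u) u = true := ext_range (a := 84278) (len := 2635) h35 e1_35
  have h37 : ∀ u < 89448, (fun u => chkE tab 1 u) u = true := ext_range (a := 86913) (len := 2535) h36 e1_36
  have h38 : ∀ u < 91905, (fun u => chkE tab 1 u) u = true := ext_range (a := 89448) (len := 2457) h37 e1_37
  have h39 : ∀ u < 94491, (fun u => chkE tab 1 u) u = true := ext_range (a := 91905) (len := 2586) h38 e1_38
  have h40 : ∀ u < 97010, (fun u => chkE tab 1 u) u = true := ext_range (a := 94491) (len := 2519) h39 e1_39
  have h41 : ∀ u < 99648, (fun u => chkE tab 1 u) u = true := ext_range (a := 97010) (len := 2638) h40 e1_40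
  have h42 : ∀ u < 102366, (fun u => chkE tab 1 u) u = true := ext_range (a := 99648) (len := 2718) h41 e1_41
  have h43 : ∀ u < 105069, (fun u => chkE tab 1 u) u = true := ext_range (a := 102366) (len := 2703) h42 e1_42
  have h44 : ∀ u < 107611, (fun u => chkE tab 1 u) u = true := ext_range (a := 105069) (len := 2542) h43 e1_43
  have h45 : ∀ u < 110162, (fun u => chkE tab 1 u) u = true := ext_range (a := 107611) (len := 2551) h44 e1_44
  have h46 : ∀ u < 112833, (fun u => chkE tab 1 u) u = true := ext_range (a := 110162) (len := 2671) h45 e1_45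
  have h47 : ∀ u < 115296, (fun u => chkE tab 1 u) u = true := ext_range (a := 112833) (len := 2463) h46 e1_46
  have h48 : ∀ u < 117833, (fun u => chkE tab 1 u) u = true := ext_range (a := 115296) (len := 2537) h47 e1_47
  have h49 : ∀ u < 120337, (fun u => chkE tab 1 u) u = true := ext_range (a := 117833) (len := 2504) h48 e1_48
  have h50 : ∀ u < 122964, (fun u => chkE tab 1 u) u = true := ext_range (a := 120337) (len := 2627) h49 e1_49
  have h51 : ∀ u < 125652, (fun u => chkE tab 1 u) u = true := ext_range (a := 122964) (len := 2688) h50 e1_50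
  have h52 : ∀ u < 128320, (fun u => chkE tab 1 u) u = true := ext_range (a := 125652) (len := 2668) h51 e1_51
  have h53 : ∀ u < 130745, (fun u => chkE tab 1 u) u = true := ext_range (a := 128320) (len := 2425) h52 e1_52
  have h54 : ∀ u < 133346, (fun u => chkE tab 1 u) u = true := ext_range (a := 130745) (len := 2601) h53 e1_53
  have h55 : ∀ u < 135943, (fun u => chkE tab 1 u) u = true := ext_range (a := 133346) (len := 2597) h54 e1_54
  have h56 : ∀ u < 138510, (fun u => chkE tab 1 u) u = true := ext_range (a := 135943) (len := 2567) h55 e1_55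
  have h57 : ∀ u < 141003, (fun u => chkE tab 1 u) u = true := ext_range (a := 138510) (len := 2493) h56 e1_56
  have h58 : ∀ u < 143478, (fun u => chkE tab 1 u) u = true := ext_range (a := 141003) (len := 2475) h57 e1_57
  have h59 : ∀ u < 146114, (fun u => chkE tab 1 u) u = true := ext_range (a := 143478) (len := 2636) h58 e1_58
  have h60 : ∀ u < 148591, (fun u => chkE tab 1 u) u = true := ext_range (a := 146114) (len := 2477) h59 e1_59
  have h61 : ∀ u < 151097, (fun u => chkE tab 1 u) u = true := ext_range (a := 148591) (len := 2506) h60 e1_60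
  have h62 : ∀ u < 153548, (fun u => chkE tab 1 u) u = true := ext_range (a := 151097) (len := 2451) h61 e1_61
  have h63 : ∀ u < 155969, (fun u => chkE tab 1 u) u = true := ext_range (a := 153548) (len := 2421) h62 e1_62
  have h64 : ∀ u < 158312, (fun u => chkE tab 1 u) u = true := ext_range (a := 155969) (len := 2343) h63 e1_63
  have h65 : ∀ u < 160668, (fun u => chkE tab 1 u) u = true := ext_range (a := 158312) (len := 2356) h64 e1_64
  have h66 : ∀ u < 163106, (fun u => chkE tab 1 u) u = true := ext_range (a := 160668) (len := 2438) h65 e1_65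
  have h67 : ∀ u < 165630, (fun u => chkE tab 1 u) u = true := ext_range (a := 163106) (len := 2524) h66 e1_66
  have h68 : ∀ u < 168078, (fun u => chkE tab 1 u) u = true := ext_range (a := 165630) (len := 2448) h67 e1_67
  have h69 : ∀ u < 170745, (fun u => chkE tab 1 u) u = true := ext_range (a := 168078) (len := 2667) h68 e1_68
  have h70 : ∀ u < 173318, (fun u => chkE tab 1 u) u = true := ext_range (a := 170745) (len := 2573) h69 e1_69
  have h71 : ∀ u < 175873, (fun u => chkE tab 1 u) u = true := ext_range (a := 173318) (len := 2555) h70 e1_70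
  have h72 : ∀ u < 178583, (fun u => chkE tab 1 u) u = true := ext_range (a := 175873) (len := 2710) h71 e1_71
  have h73 : ∀ u < 181161, (fun u => chkE tab 1 u) u = true := ext_range (a := 178583) (len := 2578) h72 e1_72
  have h74 : ∀ u < 183621, (fun u => chkE tab 1 u) u = true := ext_range (a := 181161) (len := 2460) h73 e1_73
  have h75 : ∀ u < 186089, (fun u => chkE tab 1 u) u = true := ext_range (a := 183621) (len := 2468) h74 e1_74
  have h76 : ∀ u < 188531, (fun u => chkE tab 1 u) u = true := ext_range (a := 186089) (len := 2442) h75 e1_75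
  have h77 : ∀ u < 191072, (fun u => chkE tab 1 u) u = true := ext_range (a := 188531) (len := 2541) h76 e1_76
  have h78 : ∀ u < 193663, (fun u => chkE tab 1 u) u = true := ext_range (a := 191072) (len := 2591) h77 e1_77
  have h79 : ∀ u < 196320, (fun u => chkE tab 1 u) u = true := ext_range (a := 193663) (len := 2657) h78 e1_78
  have h80 : ∀ u < 198939, (fun u => chkE tab 1 u) u = true := ext_range (a := 196320) (len := 2619) h79 e1_79
  have h81 : ∀ u < 201544, (fun u => chkE tab 1 u) u = true := ext_range (a := 198939) (len := 2605) h80 e1_80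
  have h82 : ∀ u < 204029, (fun u => chkE tab 1 u) u = true := ext_range (a := 201544) (len := 2485) h81 e1_81
  have h83 : ∀ u < 206550, (fun u => chkE tab 1 u) u = true := ext_range (a := 204029) (len := 2521) h82 e1_82
  have h84 : ∀ u < 209193, (fun u => chkE tab 1 u) u = true := ext_range (a := 206550) (len := 2643) h83 e1_83
  have h85 : ∀ u < 211688, (fun u => chkE tab 1 u) u = true := ext_range (a := 209193) (len := 2495) h84 e1_84
  have h86 : ∀ u < 214350, (fun u => chkE tab 1 u) u = true := ext_range (a := 211688) (len := 2662) h85 e1_85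
  have h87 : ∀ u < 217003, (fun u => chkE tab 1 u) u = true := ext_range (a := 214350) (len := 2653) h86 e1_86
  have h88 : ∀ u < 219726, (fun u => chkE tab 1 u) u = true := ext_range (a := 217003) (len := 2723) h87 e1_87
  have h89 : ∀ u < 222587, (fun u => chkE tab 1 u) u = true := ext_range (a := 219726) (len := 2861) h88 e1_88
  have h90 : ∀ u < 225382, (fun u => chkE tab 1 u) u = true := ext_range (a := 222587) (len := 2795) h89 e1_89
  have h91 : ∀ u < 228161, (fun u => chkE tab 1 u) u = true := ext_range (a := 225382) (len := 2779) h90 e1_90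
  have h92 : ∀ u < 231023, (fun u => chkE tab 1 u) u = true := ext_range (a := 228161) (len := 2862) h91 e1_91
  have h93 : ∀ u < 233822, (fun u => chkE tab 1 u) u = true := ext_range (a := 231023) (len := 2799) h92 e1_92
  have h94 : ∀ u < 236727, (fun u => chkE tab 1 u) u = true := ext_range (a := 233822) (len := 2905) h93 e1_93
  have h95 : ∀ u < 239597, (fun u => chkE tab 1 u) u = true := ext_range (a := 236727) (len := 2870) h94 e1_94
  have h96 : ∀ u < 242657, (fun u => chkE tab 1 u) u = true := ext_range (a := 239597) (len := 3060) h95 e1_95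
  have h97 : ∀ u < 245839, (fun u => chkE tab 1 u) u = true := ext_range (a := 242657) (len := 3182) h96 e1_96
  have h98 : ∀ u < 248827, (fun u => chkE tab 1 u) u = true := ext_range (a := 245839) (len := 2988) h97 e1_97
  have h99 : ∀ u < 252017, (fun u => chkE tab 1 u) u = true := ext_range (a := 248827) (len := 3190) h98 e1_98
  have h100 : ∀ u < 255328, (fun u => chkE tab 1 u) u = true := ext_range (a := 252017) (len := 3311) h99 e1_99
  have h101 : ∀ u < 258753, (fun u => chkE tab 1 u) u = true := ext_range (a := 255328) (len := 3425) h100 e1_100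
  have h102 : ∀ u < 262347, (fun u => chkE tab 1 u) u = true := ext_range (a := 258753) (len := 3594) h101 e1_101
  have h103 : ∀ u < 266154, (fun u => chkE tab 1 u) u = true := ext_range (a := 262347) (len := 3807) h102 e1_102
  have h104 : ∀ u < 269227, (fun u => chkE tab 1 u) u = true := ext_range (a := 266154) (len := 3073) h103 e1_103
  exact h104

theorem hE2 : ∀ u < 269227, chkE tab 2 u = true := by
  have h0 : ∀ u < 0, (fun u => chkE tab 2 u) u = true := range_zero
  have h1 : ∀ u < 2555, (fun u => chkE tab 2 u) u = true := ext_range (a := 0) (len := 2555) h0 e2_0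
  have h2 : ∀ u < 5143, (fun u => chkE tab 2 u) u = true := ext_range (a := 2555) (len := 2588) h1 e2_1
  have h3 : ∀ u < 7652, (fun u => chkE tab 2 u) u = true := ext_range (a := 5143) (len := 2509) h2 e2_2
  have h4 : ∀ u < 10141, (fun u => chkE tab 2 u) u = true := ext_range (a := 7652) (len := 2489) h3 e2_3
  have h5 : ∀ u < 12563, (fun u => chkE tab 2 u) u = true := ext_range (a := 10141) (len := 2422) h4 e2_4
  have h6 : ∀ u < 15102, (fun u => chkE tab 2 u) u = true := ext_range (a := 12563) (len := 2539) h5 e2_5
  have h7 : ∀ u < 17525, (fun u => chkE tab 2 u) u = true := ext_range (a := 15102) (len := 2423) h6 e2_6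
  have h8 : ∀ u < 20044, (fun u => chkE tab 2 u) u = true := ext_range (a := 17525) (len := 2519) h7 e2_7
  have h9 : ∀ u < 22529, (fun u => chkE tab 2 u) u = true := ext_range (a := 20044) (len := 2485) h8 e2_8
  have h10 : ∀ u < 25060, (fun u => chkE tab 2 u) u = true := ext_range (a := 22529) (len := 2531) h9 e2_9
  have h11 : ∀ u < 27557, (fun u => chkE tab 2 u) u = true := ext_range (a := 25060) (len := 2497) h10 e2_10
  have h12 : ∀ u < 30013, (fun u => chkE tab 2 u) u = true := ext_range (a := 27557) (len := 2456) h11 e2_11
  have h13 : ∀ u < 32482, (fun u => chkE tab 2 u) u = true := ext_range (a := 30013) (len := 2469) h12 e2_12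
  have h14 : ∀ u < 35035, (fun u => chkE tab 2 u) u = true := ext_range (a := 32482) (len := 2553) h13 e2_13
  have h15 : ∀ u < 37524, (fun u => chkE tab 2 u) u = true := ext_range (a := 35035) (len := 2489) h14 e2_14
  have h16 : ∀ u < 39873, (fun u => chkE tab 2 u) u = true := ext_range (a := 37524) (len := 2349) h15 e2_15
  have h17 : ∀ u < 42321, (fun u => chkE tab 2 u) u = true := ext_range (a := 39873) (len := 2448) h16 e2_16
  have h18 : ∀ u < 44644, (fun u => chkE tab 2 u) u = true := ext_range (a := 42321) (len := 2323) h17 e2_17
  have h19 : ∀ u < 47048, (fun u => chkE tab 2 u) u = true := ext_range (a := 44644) (len := 2404) h18 e2_18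
  have h20 : ∀ u < 49490, (fun u => chkE tab 2 u) u = true := ext_range (a := 47048) (len := 2442) h19 e2_19
  have h21 : ∀ u < 51864, (fun u => chkE tab 2 u) u = true := ext_range (a := 49490) (len := 2374) h20 e2_20
  have h22 : ∀ u < 54248, (fun u => chkE tab 2 u) u = true := ext_range (a := 51864) (len := 2384) h21 e2_21
  have h23 : ∀ u < 56747, (fun u => chkE tab 2 u) u = true := ext_range (a := 54248) (len := 2499) h22 e2_22
  have h24 : ∀ u < 59272, (fun u => chkE tab 2 u) u = true := ext_range (a := 56747) (len := 2525) h23 e2_23
  have h25 : ∀ u < 61547, (fun u => chkE tab 2 u) u = true := ext_range (a := 59272) (len := 2275) h24 e2_24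
  have h26 : ∀ u < 63917, (fun u => chkE tab 2 u) u = true := ext_range (a := 61547) (len := 2370) h25 e2_25
  have h27 : ∀ u < 66363, (fun u => chkE tab 2 u) u = true := ext_range (a := 63917) (len := 2446) h26 e2_26
  have h28 : ∀ u < 68707, (fun u => chkE tab 2 u) u = true := ext_range (a := 66363) (len := 2344) h27 e2_27
  have h29 : ∀ u < 71041, (fun u => chkE tab 2 u) u = true := ext_range (a := 68707) (len := 2334) h28 e2_28
  have h30 : ∀ u < 73449, (fun u => chkE tab 2 u) u = true := ext_range (a := 71041) (len := 2408) h29 e2_29
  have h31 : ∀ u < 75788, (fun u => chkE tab 2 u) u = true := ext_range (a := 73449) (len := 2339) h30 e2_30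
  have h32 : ∀ u < 78523, (fun u => chkE tab 2 u) u = true := ext_range (a := 75788) (len := 2735) h31 e2_31
  have h33 : ∀ u < 81102, (fun u => chkE tab 2 u) u = true := ext_range (a := 78523) (len := 2579) h32 e2_32
  have h34 : ∀ u < 83647, (fun u => chkE tab 2 u) u = true := ext_range (a := 81102) (len := 2545) h33 e2_33
  have h35 : ∀ u < 86111, (fun u => chkE tab 2 u) u = true := ext_range (a := 83647) (len := 2464) h34 e2_34
  have h36 : ∀ u < 88479, (fun u => chkE tab 2 u) u = true := ext_range (a := 86111) (len := 2368) h35 e2_35
  have h37 : ∀ u < 90946, (fun u => chkE tab 2 u) u = true := ext_range (a := 88479) (len := 2467) h36 e2_36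
  have h38 : ∀ u < 93366, (fun u => chkE tab 2 u) u = true := ext_range (a := 90946) (len := 2420) h37 e2_37
  have h39 : ∀ u < 95705, (fun u => chkE tab 2 u) u = true := ext_range (a := 93366) (len := 2339) h38 e2_38
  have h40 : ∀ u < 98103, (fun u => chkE tab 2 u) u = true := ext_range (a := 95705) (len := 2398) h39 e2_39
  have h41 : ∀ u < 100861, (fun u => chkE tab 2 u) u = true := ext_range (a := 98103) (len := 2758) h40 e2_40
  have h42 : ∀ u < 103489, (fun u => chkE tab 2 u) u = true := ext_range (a := 100861) (len := 2628) h41 e2_41
  have h43 : ∀ u < 105994, (fun u => chkE tab 2 u) u = true := ext_range (a := 103489) (len := 2505) h42 e2_42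
  have h44 : ∀ u < 108797, (fun u => chkE tab 2 u) u = true := ext_range (a := 105994) (len := 2803) h43 e2_43
  have h45 : ∀ u < 111324, (fun u => chkE tab 2 u) u = true := ext_range (a := 108797) (len := 2527) h44 e2_44
  have h46 : ∀ u < 113853, (fun u => chkE tab 2 u) u = true := ext_range (a := 111324) (len := 2529) h45 e2_45
  have h47 : ∀ u < 116458, (fun u => chkE tab 2 u) u = true := ext_range (a := 113853) (len := 2605) h46 e2_46
  have h48 : ∀ u < 119139, (fun u => chkE tab 2 u) u = true := ext_range (a := 116458) (len := 2681) h47 e2_47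
  have h49 : ∀ u < 121755, (fun u => chkE tab 2 u) u = true := ext_range (a := 119139) (len := 2616) h48 e2_48
  have h50 : ∀ u < 124297, (fun u => chkE tab 2 u) u = true := ext_range (a := 121755) (len := 2542) h49 e2_49
  have h51 : ∀ u < 126794, (fun u => chkE tab 2 u) u = true := ext_range (a := 124297) (len := 2497) h50 e2_50
  have h52 : ∀ u < 129220, (fun u => chkE tab 2 u) u = true := ext_range (a := 126794) (len := 2426) h51 e2_51
  have h53 : ∀ u < 131518, (fun u => chkE tab 2 u) u = true := ext_range (a := 129220) (len := 2298) h52 e2_52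
  have h54 : ∀ u < 134112, (fun u => chkE tab 2 u) u = true := ext_range (a := 131518) (len := 2594) h53 e2_53
  have h55 : ∀ u < 136801, (fun u => chkE tab 2 u) u = true := ext_range (a := 134112) (len := 2689) h54 e2_54
  have h56 : ∀ u < 139380, (fun u => chkE tab 2 u) u = true := ext_range (a := 136801) (len := 2579) h55 e2_55
  have h57 : ∀ u < 141917, (fun u => chkE tab 2 u) u = true := ext_range (a := 139380) (len := 2537) h56 e2_56
  have h58 : ∀ u < 144376, (fun u => chkE tab 2 u) u = true := ext_range (a := 141917) (len := 2459) h57 e2_57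
  have h59 : ∀ u < 146835, (fun u => chkE tab 2 u) u = true := ext_range (a := 144376) (len := 2459) h58 e2_58
  have h60 : ∀ u < 149292, (fun u => chkE tab 2 u) u = true := ext_range (a := 146835) (len := 2457) h59 e2_59
  have h61 : ∀ u < 151802, (fun u => chkE tab 2 u) u = true := ext_range (a := 149292) (len := 2510) h60 e2_60
  have h62 : ∀ u < 154267, (fun u => chkE tab 2 u) u = true := ext_range (a := 151802) (len := 2465) h61 e2_61
  have h63 : ∀ u < 156539, (fun u => chkE tab 2 u) u = true := ext_range (a := 154267) (len := 2272) h62 e2_62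
  have h64 : ∀ u < 158849, (fun u => chkE tab 2 u) u = true := ext_range (a := 156539) (len := 2310) h63 e2_63
  have h65 : ∀ u < 161156, (fun u => chkE tab 2 u) u = true := ext_range (a := 158849) (len := 2307) h64 e2_64
  have h66 : ∀ u < 163575, (fun u => chkE tab 2 u) u = true := ext_range (a := 161156) (len := 2419) h65 e2_65
  have h67 : ∀ u < 165874, (fun u => chkE tab 2 u) u = true := ext_range (a := 163575) (len := 2299) h66 e2_66
  have h68 : ∀ u < 168338, (fun u => chkE tab 2 u) u = true := ext_range (a := 165874) (len := 2464) h67 e2_67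
  have h69 : ∀ u < 170780, (fun u => chkE tab 2 u) u = true := ext_range (a := 168338) (len := 2442) h68 e2_68
  have h70 : ∀ u < 173152, (fun u => chkE tab 2 u) u = true := ext_range (a := 170780) (len := 2372) h69 e2_69
  have h71 : ∀ u < 175573, (fun u => chkE tab 2 u) u = true := ext_range (a := 173152) (len := 2421) h70 e2_70
  have h72 : ∀ u < 178070, (fun u => chkE tab 2 u) u = true := ext_range (a := 175573) (len := 2497) h71 e2_71
  have h73 : ∀ u < 180351, (fun u => chkE tab 2 u) u = true := ext_range (a := 178070) (len := 2281) h72 e2_72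
  have h74 : ∀ u < 182809, (fun u => chkE tab 2 u) u = true := ext_range (a := 180351) (len := 2458) h73 e2_73
  have h75 : ∀ u < 185007, (fun u => chkE tab 2 u) u = true := ext_range (a := 182809) (len := 2198) h74 e2_74
  have h76 : ∀ u < 187240, (fun u => chkE tab 2 u) u = true := ext_range (a := 185007) (len := 2233) h75 e2_75
  have h77 : ∀ u < 189487, (fun u => chkE tab 2 u) u = true := ext_range (a := 187240) (len := 2247) h76 e2_76
  have h78 : ∀ u < 191793, (fun u => chkE tab 2 u) u = true := ext_range (a := 189487) (len := 2306) h77 e2_77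
  have h79 : ∀ u < 193953, (fun u => chkE tab 2 u) u = true := ext_range (a := 191793) (len := 2160) h78 e2_78
  have h80 : ∀ u < 196097, (fun u => chkE tab 2 u) u = true := ext_range (a := 193953) (len := 2144) h79 e2_79
  have h81 : ∀ u < 198375, (fun u => chkE tab 2 u) u = true := ext_range (a := 196097) (len := 2278) h80 e2_80
  have h82 : ∀ u < 200703, (fun u => chkE tab 2 u) u = true := ext_range (a := 198375) (len := 2328) h81 e2_81
  have h83 : ∀ u < 202921, (fun u => chkE tab 2 u) u = true := ext_range (a := 200703) (len := 2218) h82 e2_82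
  have h84 : ∀ u < 205117, (fun u => chkE tab 2 u) u = true := ext_range (a := 202921) (len := 2196) h83 e2_83
  have h85 : ∀ u < 207395, (fun u => chkE tab 2 u) u = true := ext_range (a := 205117) (len := 2278) h84 e2_84
  have h86 : ∀ u < 209661, (fun u => chkE tab 2 u) u = true := ext_range (a := 207395) (len := 2266) h85 e2_85
  have h87 : ∀ u < 211909, (fun u => chkE tab 2 u) u = true := ext_range (a := 209661) (len := 2248) h86 e2_86
  have h88 : ∀ u < 214207, (fun u => chkE tab 2 u) u = true := ext_range (a := 211909) (len := 2298) h87 e2_87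
  have h89 : ∀ u < 216465, (fun u => chkE tab 2 u) u = true := ext_range (a := 214207) (len := 2258) h88 e2_88
  have h90 : ∀ u < 218816, (fun u => chkE tab 2 u) u = true := ext_range (a := 216465) (len := 2351) h89 e2_89
  have h91 : ∀ u < 221036, (fun u => chkE tab 2 u) u = true := ext_range (a := 218816) (len := 2220) h90 e2_90
  have h92 : ∀ u < 223347, (fun u => chkE tab 2 u) u = true := ext_range (a := 221036) (len := 2311) h91 e2_91
  have h93 : ∀ u < 225766, (fun u => chkE tab 2 u) u = true := ext_range (a := 223347) (len := 2419) h92 e2_92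
  have h94 : ∀ u < 228037, (fun u => chkE tab 2 u) u = true := ext_range (a := 225766) (len := 2271) h93 e2_93
  have h95 : ∀ u < 230340, (fun u => chkE tab 2 u) u = true := ext_range (a := 228037) (len := 2303) h94 e2_94
  have h96 : ∀ u < 232615, (fun u => chkE tab 2 u) u = true := ext_range (a := 230340) (len := 2275) h95 e2_95
  have h97 : ∀ u < 234932, (fun u => chkE tab 2 u) u = true := ext_range (a := 232615) (len := 2317) h96 e2_96
  have h98 : ∀ u < 237365, (fun u => chkE tab 2 u) u = true := ext_range (a := 234932) (len := 2433) h97 e2_97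
  have h99 : ∀ u < 239716, (fun u => chkE tab 2 u) u = true := ext_range (a := 237365) (len := 2351) h98 e2_98
  have h100 : ∀ u < 242214, (fun u => chkE tab 2 u) u = true := ext_range (a := 239716) (len := 2498) h99 e2_99
  have h101 : ∀ u < 244771, (fun u => chkE tab 2 u) u = true := ext_range (a := 242214) (len := 2557) h100 e2_100
  have h102 : ∀ u < 247288, (fun u => chkE tab 2 u) u = true := ext_range (a := 244771) (len := 2517) h101 e2_101
  have h103 : ∀ u < 249726, (fun u => chkE tab 2 u) u = true := ext_range (a := 247288) (len := 2438) h102 e2_102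
  have h104 : ∀ u < 252294, (fun u => chkE tab 2 u) u = true := ext_range (a := 249726) (len := 2568) h103 e2_103
  have h105 : ∀ u < 254819, (fun u => chkE tab 2 u) u = true := ext_range (a := 252294) (len := 2525) h104 e2_104
  have h106 : ∀ u < 257467, (fun u => chkE tab 2 u) u = true := ext_range (a := 254819) (len := 2648) h105 e2_105
  have h107 : ∀ u < 259973, (fun u => chkE tab 2 u) u = true := ext_range (a := 257467) (len := 2506) h106 e2_106
  have h108 : ∀ u < 262707, (fun u => chkE tab 2 u) u = true := ext_range (a := 259973) (len := 2734) h107 e2_107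
  have h109 : ∀ u < 265769, (fun u => chkE tab 2 u) u = true := ext_range (a := 262707) (len := 3062) h108 e2_108
  have h110 : ∀ u < 268890, (fun u => chkE tab 2 u) u = true := ext_range (a := 265769) (len := 3121) h109 e2_109
  have h111 : ∀ u < 269227, (fun u => chkE tab 2 u) u = true := ext_range (a := 268890) (len := 337) h110 e2_110
  exact h111

theorem hE3 : ∀ u < 269227, chkE tab 3 u = true := by
  have h0 : ∀ u < 0, (fun u => chkE tab 3 u) u = true := range_zero
  have h1 : ∀ u < 3922, (fun u => chkE tab 3 u) u = true := ext_range (a := 0) (len := 3922) h0 e3_0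
  have h2 : ∀ u < 7944, (fun u => chkE tab 3 u) u = true := ext_range (a := 3922) (len := 4022) h1 e3_1
  have h3 : ∀ u < 11594, (fun u => chkE tab 3 u) u = true := ext_range (a := 7944) (len := 3650) h2 e3_2
  have h4 : ∀ u < 15517, (fun u => chkE tab 3 u) u = true := ext_range (a := 11594) (len := 3923) h3 e3_3
  have h5 : ∀ u < 19023, (fun u => chkE tab 3 u) u = true := ext_range (a := 15517) (len := 3506) h4 e3_4
  have h6 : ∀ u < 22889, (fun u => chkE tab 3 u) u = true := ext_range (a := 19023) (len := 3866) h5 e3_5
  have h7 : ∀ u < 26569, (fun u => chkE tab 3 u) u = true := ext_range (a := 22889) (len := 3680) h6 e3_6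
  have h8 : ∀ u < 29828, (fun u => chkE tab 3 u) u = true := ext_range (a := 26569) (len := 3259) h7 e3_7
  have h9 : ∀ u < 33195, (fun u => chkE tab 3 u) u = true := ext_range (a := 29828) (len := 3367) h8 e3_8
  have h10 : ∀ u < 36593, (fun u => chkE tab 3 u) u = true := ext_range (a := 33195) (len := 3398) h9 e3_9
  have h11 : ∀ u < 39682, (fun u => chkE tab 3 u) u = true := ext_range (a := 36593) (len := 3089) h10 e3_10
  have h12 : ∀ u < 42671, (fun u => chkE tab 3 u) u = true := ext_range (a := 39682) (len := 2989) h11 e3_11
  have h13 : ∀ u < 45598, (fun u => chkE tab 3 u) u = true := ext_range (a := 42671) (len := 2927) h12 e3_12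
  have h14 : ∀ u < 48760, (fun u => chkE tab 3 u) u = true := ext_range (a := 45598) (len := 3162) h13 e3_13
  have h15 : ∀ u < 51617, (fun u => chkE tab 3 u) u = true := ext_range (a := 48760) (len := 2857) h14 e3_14
  have h16 : ∀ u < 54384, (fun u => chkE tab 3 u) u = true := ext_range (a := 51617) (len := 2767) h15 e3_15
  have h17 : ∀ u < 57372, (fun u => chkE tab 3 u) u = true := ext_range (a := 54384) (len := 2988) h16 e3_16
  have h18 : ∀ u < 60200, (fun u => chkE tab 3 u) u = true := ext_range (a := 57372) (len := 2828) h17 e3_17
  have h19 : ∀ u < 62931, (fun u => chkE tab 3 u) u = true := ext_range (a := 60200) (len := 2731) h18 e3_18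
  have h20 : ∀ u < 65968, (fun u => chkE tab 3 u) u = true := ext_range (a := 62931) (len := 3037) h19 e3_19
  have h21 : ∀ u < 68782, (fun u => chkE tab 3 u) u = true := ext_range (a := 65968) (len := 2814) h20 e3_20
  have h22 : ∀ u < 71599, (fun u => chkE tab 3 u) u = true := ext_range (a := 68782) (len := 2817) h21 e3_21
  have h23 : ∀ u < 74377, (fun u => chkE tab 3 u) u = true := ext_range (a := 71599) (len := 2778) h22 e3_22
  have h24 : ∀ u < 77408, (fun u => chkE tab 3 u) u = true := ext_range (a := 74377) (len := 3031) h23 e3_23
  have h25 : ∀ u < 80809, (fun u => chkE tab 3 u) u = true := ext_range (a := 77408) (len := 3401) h24 e3_24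
  have h26 : ∀ u < 83846, (fun u => chkE tab 3 u) u = true := ext_range (a := 80809) (len := 3037) h25 e3_25
  have h27 : ∀ u < 86429, (fun u => chkE tab 3 u) u = true := ext_range (a := 83846) (len := 2583) h26 e3_26
  have h28 : ∀ u < 89104, (fun u => chkE tab 3 u) u = true := ext_range (a := 86429) (len := 2675) h27 e3_27
  have h29 : ∀ u < 92090, (fun u => chkE tab 3 u) u = true := ext_range (a := 89104) (len := 2986) h28 e3_28
  have h30 : ∀ u < 94877, (fun u => chkE tab 3 u) u = true := ext_range (a := 92090) (len := 2787) h29 e3_29
  have h31 : ∀ u < 97671, (fun u => chkE tab 3 u) u = true := ext_range (a := 94877) (len := 2794) h30 e3_30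
  have h32 : ∀ u < 101011, (fun u => chkE tab 3 u) u = true := ext_range (a := 97671) (len := 3340) h31 e3_31
  have h33 : ∀ u < 104015, (fun u => chkE tab 3 u) u = true := ext_range (a := 101011) (len := 3004) h32 e3_32
  have h34 : ∀ u < 107142, (fun u => chkE tab 3 u) u = true := ext_range (a := 104015) (len := 3127) h33 e3_33
  have h35 : ∀ u < 110235, (fun u => chkE tab 3 u) u = true := ext_range (a := 107142) (len := 3093) h34 e3_34
  have h36 : ∀ u < 113493, (fun u => chkE tab 3 u) u = true := ext_range (a := 110235) (len := 3258) h35 e3_35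
  have h37 : ∀ u < 116828, (fun u => chkE tab 3 u) u = true := ext_range (a := 113493) (len := 3335) h36 e3_36
  have h38 : ∀ u < 119982, (fun u => chkE tab 3 u) u = true := ext_range (a := 116828) (len := 3154) h37 e3_37
  have h39 : ∀ u < 123100, (fun u => chkE tab 3 u) u = true := ext_range (a := 119982) (len := 3118) h38 e3_38
  have h40 : ∀ u < 125914, (fun u => chkE tab 3 u) u = true := ext_range (a := 123100) (len := 2814) h39 e3_39
  have h41 : ∀ u < 128868, (fun u => chkE tab 3 u) u = true := ext_range (a := 125914) (len := 2954) h40 e3_40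
  have h42 : ∀ u < 131582, (fun u => chkE tab 3 u) u = true := ext_range (a := 128868) (len := 2714) h41 e3_41
  have h43 : ∀ u < 134614, (fun u => chkE tab 3 u) u = true := ext_range (a := 131582) (len := 3032) h42 e3_42
  have h44 : ∀ u < 137645, (fun u => chkE tab 3 u) u = true := ext_range (a := 134614) (len := 3031) h43 e3_43
  have h45 : ∀ u < 140740, (fun u => chkE tab 3 u) u = true := ext_range (a := 137645) (len := 3095) h44 e3_44
  have h46 : ∀ u < 143591, (fun u => chkE tab 3 u) u = true := ext_range (a := 140740) (len := 2851) h45 e3_45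
  have h47 : ∀ u < 146501, (fun u => chkE tab 3 u) u = true := ext_range (a := 143591) (len := 2910) h46 e3_46
  have h48 : ∀ u < 149347, (fun u => chkE tab 3 u) u = true := ext_range (a := 146501) (len := 2846) h47 e3_47
  have h49 : ∀ u < 152134, (fun u => chkE tab 3 u) u = true := ext_range (a := 149347) (len := 2787) h48 e3_48
  have h50 : ∀ u < 154841, (fun u => chkE tab 3 u) u = true := ext_range (a := 152134) (len := 2707) h49 e3_49
  have h51 : ∀ u < 157523, (fun u => chkE tab 3 u) u = true := ext_range (a := 154841) (len := 2682) h50 e3_50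
  have h52 : ∀ u < 160125, (fun u => chkE tab 3 u) u = true := ext_range (a := 157523) (len := 2602) h51 e3_51
  have h53 : ∀ u < 162844, (fun u => chkE tab 3 u) u = true := ext_range (a := 160125) (len := 2719) h52 e3_52
  have h54 : ∀ u < 165418, (fun u => chkE tab 3 u) u = true := ext_range (a := 162844) (len := 2574) h53 e3_53
  have h55 : ∀ u < 168104, (fun u => chkE tab 3 u) u = true := ext_range (a := 165418) (len := 2686) h54 e3_54
  have h56 : ∀ u < 170762, (fun u => chkE tab 3 u) u = true := ext_range (a := 168104) (len := 2658) h55 e3_55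
  have h57 : ∀ u < 173328, (fun u => chkE tab 3 u) u = true := ext_range (a := 170762) (len := 2566) h56 e3_56
  have h58 : ∀ u < 175894, (fun u => chkE tab 3 u) u = true := ext_range (a := 173328) (len := 2566) h57 e3_57
  have h59 : ∀ u < 178576, (fun u => chkE tab 3 u) u = true := ext_range (a := 175894) (len := 2682) h58 e3_58
  have h60 : ∀ u < 181130, (fun u => chkE tab 3 u) u = true := ext_range (a := 178576) (len := 2554) h59 e3_59
  have h61 : ∀ u < 183704, (fun u => chkE tab 3 u) u = true := ext_range (a := 181130) (len := 2574) h60 e3_60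
  have h62 : ∀ u < 186173, (fun u => chkE tab 3 u) u = true := ext_range (a := 183704) (len := 2469) h61 e3_61
  have h63 : ∀ u < 188618, (fun u => chkE tab 3 u) u = true := ext_range (a := 186173) (len := 2445) h62 e3_62
  have h64 : ∀ u < 191038, (fun u => chkE tab 3 u) u = true := ext_range (a := 188618) (len := 2420) h63 e3_63
  have h65 : ∀ u < 193481, (fun u => chkE tab 3 u) u = true := ext_range (a := 191038) (len := 2443) h64 e3_64
  have h66 : ∀ u < 195882, (fun u => chkE tab 3 u) u = true := ext_range (a := 193481) (len := 2401) h65 e3_65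
  have h67 : ∀ u < 198244, (fun u => chkE tab 3 u) u = true := ext_range (a := 195882) (len := 2362) h66 e3_66
  have h68 : ∀ u < 200656, (fun u => chkE tab 3 u) u = true := ext_range (a := 198244) (len := 2412) h67 e3_67
  have h69 : ∀ u < 203181, (fun u => chkE tab 3 u) u = true := ext_range (a := 200656) (len := 2525) h68 e3_68
  have h70 : ∀ u < 205605, (fun u => chkE tab 3 u) u = true := ext_range (a := 203181) (len := 2424) h69 e3_69
  have h71 : ∀ u < 208017, (fun u => chkE tab 3 u) u = true := ext_range (a := 205605) (len := 2412) h70 e3_70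
  have h72 : ∀ u < 210389, (fun u => chkE tab 3 u) u = true := ext_range (a := 208017) (len := 2372) h71 e3_71
  have h73 : ∀ u < 212708, (fun u => chkE tab 3 u) u = true := ext_range (a := 210389) (len := 2319) h72 e3_72
  have h74 : ∀ u < 215011, (fun u => chkE tab 3 u) u = true := ext_range (a := 212708) (len := 2303) h73 e3_73
  have h75 : ∀ u < 217365, (fun u => chkE tab 3 u) u = true := ext_range (a := 215011) (len := 2354) h74 e3_74
  have h76 : ∀ u < 219696, (fun u => chkE tab 3 u) u = true := ext_range (a := 217365) (len := 2331) h75 e3_75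
  have h77 : ∀ u < 222141, (fun u => chkE tab 3 u) u = true := ext_range (a := 219696) (len := 2445) h76 e3_76
  have h78 : ∀ u < 224572, (fun u => chkE tab 3 u) u = true := ext_range (a := 222141) (len := 2431) h77 e3_77
  have h79 : ∀ u < 226883, (fun u => chkE tab 3 u) u = true := ext_range (a := 224572) (len := 2311) h78 e3_78
  have h80 : ∀ u < 229382, (fun u => chkE tab 3 u) u = true := ext_range (a := 226883) (len := 2499) h79 e3_79
  have h81 : ∀ u < 231820, (fun u => chkE tab 3 u) u = true := ext_range (a := 229382) (len := 2438) h80 e3_80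
  have h82 : ∀ u < 234252, (fun u => chkE tab 3 u) u = true := ext_range (a := 231820) (len := 2432) h81 e3_81
  have h83 : ∀ u < 236778, (fun u => chkE tab 3 u) u = true := ext_range (a := 234252) (len := 2526) h82 e3_82
  have h84 : ∀ u < 239126, (fun u => chkE tab 3 u) u = true := ext_range (a := 236778) (len := 2348) h83 e3_83
  have h85 : ∀ u < 241632, (fun u => chkE tab 3 u) u = true := ext_range (a := 239126) (len := 2506) h84 e3_84
  have h86 : ∀ u < 244232, (fun u => chkE tab 3 u) u = true := ext_range (a := 241632) (len := 2600) h85 e3_85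
  have h87 : ∀ u < 246657, (fun u => chkE tab 3 u) u = true := ext_range (a := 244232) (len := 2425) h86 e3_86
  have h88 : ∀ u < 249070, (fun u => chkE tab 3 u) u = true := ext_range (a := 246657) (len := 2413) h87 e3_87
  have h89 : ∀ u < 251645, (fun u => chkE tab 3 u) u = true := ext_range (a := 249070) (len := 2575) h88 e3_88
  have h90 : ∀ u < 254225, (fun u => chkE tab 3 u) u = true := ext_range (a := 251645) (len := 2580) h89 e3_89
  have h91 : ∀ u < 256886, (fun u => chkE tab 3 u) u = true := ext_range (a := 254225) (len := 2661) h90 e3_90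
  have h92 : ∀ u < 259675, (fun u => chkE tab 3 u) u = true := ext_range (a := 256886) (len := 2789) h91 e3_91
  have h93 : ∀ u < 262475, (fun u => chkE tab 3 u) u = true := ext_range (a := 259675) (len := 2800) h92 e3_92
  have h94 : ∀ u < 265456, (fun u => chkE tab 3 u) u = true := ext_range (a := 262475) (len := 2981) h93 e3_93
  have h95 : ∀ u < 268601, (fun u => chkE tab 3 u) u = true := ext_range (a := 265456) (len := 3145) h94 e3_94
  have h96 : ∀ u < 269227, (fun u => chkE tab 3 u) u = true := ext_range (a := 268601) (len := 626) h95 e3_95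
  exact h96

theorem hE4 : ∀ u < 269227, chkE tab 4 u = true := by
  have h0 : ∀ u < 0, (fun u => chkE tab 4 u) u = true := range_zero
  have h1 : ∀ u < 2895, (fun u => chkE tab 4 u) u = true := ext_range (a := 0) (len := 2895) h0 e4_0
  have h2 : ∀ u < 5935, (fun u => chkE tab 4 u) u = true := ext_range (a := 2895) (len := 3040) h1 e4_1
  have h3 : ∀ u < 8973, (fun u => chkE tab 4 u) u = true := ext_range (a := 5935) (len := 3038) h2 e4_2
  have h4 : ∀ u < 11977, (fun u => chkE tab 4 u) u = true := ext_range (a := 8973) (len := 3004) h3 e4_3
  have h5 : ∀ u < 14977, (fun u => chkE tab 4 u) u = true := ext_range (a := 11977) (len := 3000) h4 e4_4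
  have h6 : ∀ u < 17970, (fun u => chkE tab 4 u) u = true := ext_range (a := 14977) (len := 2993) h5 e4_5
  have h7 : ∀ u < 21011, (fun u => chkE tab 4 u) u = true := ext_range (a := 17970) (len := 3041) h6 e4_6
  have h8 : ∀ u < 24013, (fun u => chkE tab 4 u) u = true := ext_range (a := 21011) (len := 3002) h7 e4_7
  have h9 : ∀ u < 26894, (fun u => chkE tab 4 u) u = true := ext_range (a := 24013) (len := 2881) h8 e4_8
  have h10 : ∀ u < 29806, (fun u => chkE tab 4 u) u = true := ext_range (a := 26894) (len := 2912) h9 e4_9
  have h11 : ∀ u < 32752, (fun u => chkE tab 4 u) u = true := ext_range (a := 29806) (len := 2946) h10 e4_10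
  have h12 : ∀ u < 35715, (fun u => chkE tab 4 u) u = true := ext_range (a := 32752) (len := 2963) h11 e4_11
  have h13 : ∀ u < 38616, (fun u => chkE tab 4 u) u = true := ext_range (a := 35715) (len := 2901) h12 e4_12
  have h14 : ∀ u < 41496, (fun u => chkE tab 4 u) u = true := ext_range (a := 38616) (len := 2880) h13 e4_13
  have h15 : ∀ u < 44272, (fun u => chkE tab 4 u) u = true := ext_range (a := 41496) (len := 2776) h14 e4_14
  have h16 : ∀ u < 47071, (fun u => chkE tab 4 u) u = true := ext_range (a := 44272) (len := 2799) h15 e4_15
  have h17 : ∀ u < 49880, (fun u => chkE tab 4 u) u = true := ext_range (a := 47071) (len := 2809) h16 e4_16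
  have h18 : ∀ u < 52823, (fun u => chkE tab 4 u) u = true := ext_range (a := 49880) (len := 2943) h17 e4_17
  have h19 : ∀ u < 55731, (fun u => chkE tab 4 u) u = true := ext_range (a := 52823) (len := 2908) h18 e4_18
  have h20 : ∀ u < 58617, (fun u => chkE tab 4 u) u = true := ext_range (a := 55731) (len := 2886) h19 e4_19
  have h21 : ∀ u < 61487, (fun u => chkE tab 4 u) u = true := ext_range (a := 58617) (len := 2870) h20 e4_20
  have h22 : ∀ u < 64282, (fun u => chkE tab 4 u) u = true := ext_range (a := 61487) (len := 2795) h21 e4_21
  have h23 : ∀ u < 67187, (fun u => chkE tab 4 u) u = true := ext_range (a := 64282) (len := 2905) h22 e4_22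
  have h24 : ∀ u < 69994, (fun u => chkE tab 4 u) u = true := ext_range (a := 67187) (len := 2807) h23 e4_23
  have h25 : ∀ u < 72904, (fun u => chkE tab 4 u) u = true := ext_range (a := 69994) (len := 2910) h24 e4_24
  have h26 : ∀ u < 75673, (fun u => chkE tab 4 u) u = true := ext_range (a := 72904) (len := 2769) h25 e4_25
  have h27 : ∀ u < 78639, (fun u => chkE tab 4 u) u = true := ext_range (a := 75673) (len := 2966) h26 e4_26
  have h28 : ∀ u < 81542, (fun u => chkE tab 4 u) u = true := ext_range (a := 78639) (len := 2903) h27 e4_27
  have h29 : ∀ u < 84522, (fun u => chkE tab 4 u) u = true := ext_range (a := 81542) (len := 2980) h28 e4_28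
  have h30 : ∀ u < 87473, (fun u => chkE tab 4 u) u = true := ext_range (a := 84522) (len := 2951) h29 e4_29
  have h31 : ∀ u < 90296, (fun u => chkE tab 4 u) u = true := ext_range (a := 87473) (len := 2823) h30 e4_30
  have h32 : ∀ u < 93290, (fun u => chkE tab 4 u) u = true := ext_range (a := 90296) (len := 2994) h31 e4_31
  have h33 : ∀ u < 96197, (fun u => chkE tab 4 u) u = true := ext_range (a := 93290) (len := 2907) h32 e4_32
  have h34 : ∀ u < 99069, (fun u => chkE tab 4 u) u = true := ext_range (a := 96197) (len := 2872) h33 e4_33
  have h35 : ∀ u < 102010, (fun u => chkE tab 4 u) u = true := ext_range (a := 99069) (len := 2941) h34 e4_34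
  have h36 : ∀ u < 104928, (fun u => chkE tab 4 u) u = true := ext_range (a := 102010) (len := 2918) h35 e4_35
  have h37 : ∀ u < 107948, (fun u => chkE tab 4 u) u = true := ext_range (a := 104928) (len := 3020) h36 e4_36
  have h38 : ∀ u < 110895, (fun u => chkE tab 4 u) u = true := ext_range (a := 107948) (len := 2947) h37 e4_37
  have h39 : ∀ u < 113848, (fun u => chkE tab 4 u) u = true := ext_range (a := 110895) (len := 2953) h38 e4_38
  have h40 : ∀ u < 116795, (fun u => chkE tab 4 u) u = true := ext_range (a := 113848) (len := 2947) h39 e4_39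
  have h41 : ∀ u < 119657, (fun u => chkE tab 4 u) u = true := ext_range (a := 116795) (len := 2862) h40 e4_40
  have h42 : ∀ u < 122652, (fun u => chkE tab 4 u) u = true := ext_range (a := 119657) (len := 2995) h41 e4_41
  have h43 : ∀ u < 125659, (fun u => chkE tab 4 u) u = true := ext_range (a := 122652) (len := 3007) h42 e4_42
  have h44 : ∀ u < 128497, (fun u => chkE tab 4 u) u = true := ext_range (a := 125659) (len := 2838) h43 e4_43
  have h45 : ∀ u < 131355, (fun u => chkE tab 4 u) u = true := ext_range (a := 128497) (len := 2858) h44 e4_44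
  have h46 : ∀ u < 134391, (fun u => chkE tab 4 u) u = true := ext_range (a := 131355) (len := 3036) h45 e4_45
  have h47 : ∀ u < 137266, (fun u => chkE tab 4 u) u = true := ext_range (a := 134391) (len := 2875) h46 e4_46
  have h48 : ∀ u < 140132, (fun u => chkE tab 4 u) u = true := ext_range (a := 137266) (len := 2866) h47 e4_47
  have h49 : ∀ u < 142974, (fun u => chkE tab 4 u) u = true := ext_range (a := 140132) (len := 2842) h48 e4_48
  have h50 : ∀ u < 145826, (fun u => chkE tab 4 u) u = true := ext_range (a := 142974) (len := 2852) h49 e4_49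
  have h51 : ∀ u < 148753, (fun u => chkE tab 4 u) u = true := ext_range (a := 145826) (len := 2927) h50 e4_50
  have h52 : ∀ u < 151627, (fun u => chkE tab 4 u) u = true := ext_range (a := 148753) (len := 2874) h51 e4_51
  have h53 : ∀ u < 154534, (fun u => chkE tab 4 u) u = true := ext_range (a := 151627) (len := 2907) h52 e4_52
  have h54 : ∀ u < 157381, (fun u => chkE tab 4 u) u = true := ext_range (a := 154534) (len := 2847) h53 e4_53
  have h55 : ∀ u < 160082, (fun u => chkE tab 4 u) u = true := ext_range (a := 157381) (len := 2701) h54 e4_54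
  have h56 : ∀ u < 162853, (fun u => chkE tab 4 u) u = true := ext_range (a := 160082) (len := 2771) h55 e4_55
  have h57 : ∀ u < 165592, (fun u => chkE tab 4 u) u = true := ext_range (a := 162853) (len := 2739) h56 e4_56
  have h58 : ∀ u < 168455, (fun u => chkE tab 4 u) u = true := ext_range (a := 165592) (len := 2863) h57 e4_57
  have h59 : ∀ u < 171377, (fun u => chkE tab 4 u) u = true := ext_range (a := 168455) (len := 2922) h58 e4_58
  have h60 : ∀ u < 174060, (fun u => chkE tab 4 u) u = true := ext_range (a := 171377) (len := 2683) h59 e4_59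
  have h61 : ∀ u < 176875, (fun u => chkE tab 4 u) u = true := ext_range (a := 174060) (len := 2815) h60 e4_60
  have h62 : ∀ u < 179783, (fun u => chkE tab 4 u) u = true := ext_range (a := 176875) (len := 2908) h61 e4_61
  have h63 : ∀ u < 182585, (fun u => chkE tab 4 u) u = true := ext_range (a := 179783) (len := 2802) h62 e4_62
  have h64 : ∀ u < 185340, (fun u => chkE tab 4 u) u = true := ext_range (a := 182585) (len := 2755) h63 e4_63
  have h65 : ∀ u < 188133, (fun u => chkE tab 4 u) u = true := ext_range (a := 185340) (len := 2793) h64 e4_64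
  have h66 : ∀ u < 190828, (fun u => chkE tab 4 u) u = true := ext_range (a := 188133) (len := 2695) h65 e4_65
  have h67 : ∀ u < 193585, (fun u => chkE tab 4 u) u = true := ext_range (a := 190828) (len := 2757) h66 e4_66
  have h68 : ∀ u < 196335, (fun u => chkE tab 4 u) u = true := ext_range (a := 193585) (len := 2750) h67 e4_67
  have h69 : ∀ u < 199103, (fun u => chkE tab 4 u) u = true := ext_range (a := 196335) (len := 2768) h68 e4_68
  have h70 : ∀ u < 201908, (fun u => chkE tab 4 u) u = true := ext_range (a := 199103) (len := 2805) h69 e4_69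
  have h71 : ∀ u < 204731, (fun u => chkE tab 4 u) u = true := ext_range (a := 201908) (len := 2823) h70 e4_70
  have h72 : ∀ u < 207541, (fun u => chkE tab 4 u) u = true := ext_range (a := 204731) (len := 2810) h71 e4_71
  have h73 : ∀ u < 210430, (fun u => chkE tab 4 u) u = true := ext_range (a := 207541) (len := 2889) h72 e4_72
  have h74 : ∀ u < 213235, (fun u => chkE tab 4 u) u = true := ext_range (a := 210430) (len := 2805) h73 e4_73
  have h75 : ∀ u < 216058, (fun u => chkE tab 4 u) u = true := ext_range (a := 213235) (len := 2823) h74 e4_74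
  have h76 : ∀ u < 218915, (fun u => chkE tab 4 u) u = true := ext_range (a := 216058) (len := 2857) h75 e4_75
  have h77 : ∀ u < 221811, (fun u => chkE tab 4 u) u = true := ext_range (a := 218915) (len := 2896) h76 e4_76
  have h78 : ∀ u < 224755, (fun u => chkE tab 4 u) u = true := ext_range (a := 221811) (len := 2944) h77 e4_77
  have h79 : ∀ u < 227615, (fun u => chkE tab 4 u) u = true := ext_range (a := 224755) (len := 2860) h78 e4_78
  have h80 : ∀ u < 230539, (fun u => chkE tab 4 u) u = true := ext_range (a := 227615) (len := 2924) h79 e4_79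
  have h81 : ∀ u < 233429, (fun u => chkE tab 4 u) u = true := ext_range (a := 230539) (len := 2890) h80 e4_80
  have h82 : ∀ u < 236626, (fun u => chkE tab 4 u) u = true := ext_range (a := 233429) (len := 3197) h81 e4_81
  have h83 : ∀ u < 239592, (fun u => chkE tab 4 u) u = true := ext_range (a := 236626) (len := 2966) h82 e4_82
  have h84 : ∀ u < 242658, (fun u => chkE tab 4 u) u = true := ext_range (a := 239592) (len := 3066) h83 e4_83
  have h85 : ∀ u < 245821, (fun u => chkE tab 4 u) u = true := ext_range (a := 242658) (len := 3163) h84 e4_84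
  have h86 : ∀ u < 248948, (fun u => chkE tab 4 u) u = true := ext_range (a := 245821) (len := 3127) h85 e4_85
  have h87 : ∀ u < 252194, (fun u => chkE tab 4 u) u = true := ext_range (a := 248948) (len := 3246) h86 e4_86
  have h88 : ∀ u < 255456, (fun u => chkE tab 4 u) u = true := ext_range (a := 252194) (len := 3262) h87 e4_87
  have h89 : ∀ u < 258772, (fun u => chkE tab 4 u) u = true := ext_range (a := 255456) (len := 3316) h88 e4_88
  have h90 : ∀ u < 262422, (fun u => chkE tab 4 u) u = true := ext_range (a := 258772) (len := 3650) h89 e4_89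
  have h91 : ∀ u < 266184, (fun u => chkE tab 4 u) u = true := ext_range (a := 262422) (len := 3762) h90 e4_90
  have h92 : ∀ u < 269227, (fun u => chkE tab 4 u) u = true := ext_range (a := 266184) (len := 3043) h91 e4_91
  exact h92

theorem hE5 : ∀ u < 269227, chkE tab 5 u = true := by
  have h0 : ∀ u < 0, (fun u => chkE tab 5 u) u = true := range_zero
  have h1 : ∀ u < 3352, (fun u => chkE tab 5 u) u = true := ext_range (a := 0) (len := 3352) h0 e5_0
  have h2 : ∀ u < 6992, (fun u => chkE tab 5 u) u = true := ext_range (a := 3352) (len := 3640) h1 e5_1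
  have h3 : ∀ u < 10559, (fun u => chkE tab 5 u) u = true := ext_range (a := 6992) (len := 3567) h2 e5_2
  have h4 : ∀ u < 13986, (fun u => chkE tab 5 u) u = true := ext_range (a := 10559) (len := 3427) h3 e5_3
  have h5 : ∀ u < 17277, (fun u => chkE tab 5 u) u = true := ext_range (a := 13986) (len := 3291) h4 e5_4
  have h6 : ∀ u < 20625, (fun u => chkE tab 5 u) u = true := ext_range (a := 17277) (len := 3348) h5 e5_5
  have h7 : ∀ u < 23840, (fun u => chkE tab 5 u) u = true := ext_range (a := 20625) (len := 3215) h6 e5_6
  have h8 : ∀ u < 27041, (fun u => chkE tab 5 u) u = true := ext_range (a := 23840) (len := 3201) h7 e5_7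
  have h9 : ∀ u < 30054, (fun u => chkE tab 5 u) u = true := ext_range (a := 27041) (len := 3013) h8 e5_8
  have h10 : ∀ u < 33146, (fun u => chkE tab 5 u) u = true := ext_range (a := 30054) (len := 3092) h9 e5_9
  have h11 : ∀ u < 36256, (fun u => chkE tab 5 u) u = true := ext_range (a := 33146) (len := 3110) h10 e5_10
  have h12 : ∀ u < 39206, (fun u => chkE tab 5 u) u = true := ext_range (a := 36256) (len := 2950) h11 e5_11
  have h13 : ∀ u < 42096, (fun u => chkE tab 5 u) u = true := ext_range (a := 39206) (len := 2890) h12 e5_12
  have h14 : ∀ u < 45119, (fun u => chkE tab 5 u) u = true := ext_range (a := 42096) (len := 3023) h13 e5_13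
  have h15 : ∀ u < 48043, (fun u => chkE tab 5 u) u = true := ext_range (a := 45119) (len := 2924) h14 e5_14
  have h16 : ∀ u < 51090, (fun u => chkE tab 5 u) u = true := ext_range (a := 48043) (len := 3047) h15 e5_15
  have h17 : ∀ u < 53891, (fun u => chkE tab 5 u) u = true := ext_range (a := 51090) (len := 2801) h16 e5_16
  have h18 : ∀ u < 56773, (fun u => chkE tab 5 u) u = true := ext_range (a := 53891) (len := 2882) h17 e5_17
  have h19 : ∀ u < 59769, (fun u => chkE tab 5 u) u = true := ext_range (a := 56773) (len := 2996) h18 e5_18
  have h20 : ∀ u < 62735, (fun u => chkE tab 5 u) u = true := ext_range (a := 59769) (len := 2966) h19 e5_19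
  have h21 : ∀ u < 65658, (fun u => chkE tab 5 u) u = true := ext_range (a := 62735) (len := 2923) h20 e5_20
  have h22 : ∀ u < 68401, (fun u => chkE tab 5 u) u = true := ext_range (a := 65658) (len := 2743) h21 e5_21
  have h23 : ∀ u < 71350, (fun u => chkE tab 5 u) u = true := ext_range (a := 68401) (len := 2949) h22 e5_22
  have h24 : ∀ u < 74306, (fun u => chkE tab 5 u) u = true := ext_range (a := 71350) (len := 2956) h23 e5_23
  have h25 : ∀ u < 77199, (fun u => chkE tab 5 u) u = true := ext_range (a := 74306) (len := 2893) h24 e5_24
  have h26 : ∀ u < 80253, (fun u => chkE tab 5 u) u = true := ext_range (a := 77199) (len := 3054) h25 e5_25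
  have h27 : ∀ u < 83167, (fun u => chkE tab 5 u) u = true := ext_range (a := 80253) (len := 2914) h26 e5_26
  have h28 : ∀ u < 85956, (fun u => chkE tab 5 u) u = true := ext_range (a := 83167) (len := 2789) h27 e5_27
  have h29 : ∀ u < 88639, (fun u => chkE tab 5 u) u = true := ext_range (a := 85956) (len := 2683) h28 e5_28
  have h30 : ∀ u < 91534, (fun u => chkE tab 5 u) u = true := ext_range (a := 88639) (len := 2895) h29 e5_29
  have h31 : ∀ u < 94360, (fun u => chkE tab 5 u) u = true := ext_range (a := 91534) (len := 2826) h30 e5_30
  have h32 : ∀ u < 97302, (fun u => chkE tab 5 u) u = true := ext_range (a := 94360) (len := 2942) h31 e5_31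
  have h33 : ∀ u < 100270, (fun u => chkE tab 5 u) u = true := ext_range (a := 97302) (len := 2968) h32 e5_32
  have h34 : ∀ u < 103208, (fun u => chkE tab 5 u) u = true := ext_range (a := 100270) (len := 2938) h33 e5_33
  have h35 : ∀ u < 106068, (fun u => chkE tab 5 u) u = true := ext_range (a := 103208) (len := 2860) h34 e5_34
  have h36 : ∀ u < 109092, (fun u => chkE tab 5 u) u = true := ext_range (a := 106068) (len := 3024) h35 e5_35
  have h37 : ∀ u < 112079, (fun u => chkE tab 5 u) u = true := ext_range (a := 109092) (len := 2987) h36 e5_36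
  have h38 : ∀ u < 115235, (fun u => chkE tab 5 u) u = true := ext_range (a := 112079) (len := 3156) h37 e5_37
  have h39 : ∀ u < 118431, (fun u => chkE tab 5 u) u = true := ext_range (a := 115235) (len := 3196) h38 e5_38
  have h40 : ∀ u < 121412, (fun u => chkE tab 5 u) u = true := ext_range (a := 118431) (len := 2981) h39 e5_39
  have h41 : ∀ u < 124214, (fun u => chkE tab 5 u) u = true := ext_range (a := 121412) (len := 2802) h40 e5_40
  have h42 : ∀ u < 127091, (fun u => chkE tab 5 u) u = true := ext_range (a := 124214) (len := 2877) h41 e5_41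
  have h43 : ∀ u < 129912, (fun u => chkE tab 5 u) u = true := ext_range (a := 127091) (len := 2821) h42 e5_42
  have h44 : ∀ u < 132840, (fun u => chkE tab 5 u) u = true := ext_range (a := 129912) (len := 2928) h43 e5_43
  have h45 : ∀ u < 135844, (fun u => chkE tab 5 u) u = true := ext_range (a := 132840) (len := 3004) h44 e5_44
  have h46 : ∀ u < 138839, (fun u => chkE tab 5 u) u = true := ext_range (a := 135844) (len := 2995) h45 e5_45
  have h47 : ∀ u < 141753, (fun u => chkE tab 5 u) u = true := ext_range (a := 138839) (len := 2914) h46 e5_46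
  have h48 : ∀ u < 144784, (fun u => chkE tab 5 u) u = true := ext_range (a := 141753) (len := 3031) h47 e5_47
  have h49 : ∀ u < 147634, (fun u => chkE tab 5 u) u = true := ext_range (a := 144784) (len := 2850) h48 e5_48
  have h50 : ∀ u < 150533, (fun u => chkE tab 5 u) u = true := ext_range (a := 147634) (len := 2899) h49 e5_49
  have h51 : ∀ u < 153365, (fun u => chkE tab 5 u) u = true := ext_range (a := 150533) (len := 2832) h50 e5_50
  have h52 : ∀ u < 156237, (fun u => chkE tab 5 u) u = true := ext_range (a := 153365) (len := 2872) h51 e5_51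
  have h53 : ∀ u < 159150, (fun u => chkE tab 5 u) u = true := ext_range (a := 156237) (len := 2913) h52 e5_52
  have h54 : ∀ u < 162112, (fun u => chkE tab 5 u) u = true := ext_range (a := 159150) (len := 2962) h53 e5_53
  have h55 : ∀ u < 164981, (fun u => chkE tab 5 u) u = true := ext_range (a := 162112) (len := 2869) h54 e5_54
  have h56 : ∀ u < 167770, (fun u => chkE tab 5 u) u = true := ext_range (a := 164981) (len := 2789) h55 e5_55
  have h57 : ∀ u < 170510, (fun u => chkE tab 5 u) u = true := ext_range (a := 167770) (len := 2740) h56 e5_56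
  have h58 : ∀ u < 173252, (fun u => chkE tab 5 u) u = true := ext_range (a := 170510) (len := 2742) h57 e5_57
  have h59 : ∀ u < 175953, (fun u => chkE tab 5 u) u = true := ext_range (a := 173252) (len := 2701) h58 e5_58
  have h60 : ∀ u < 178800, (fun u => chkE tab 5 u) u = true := ext_range (a := 175953) (len := 2847) h59 e5_59
  have h61 : ∀ u < 181455, (fun u => chkE tab 5 u) u = true := ext_range (a := 178800) (len := 2655) h60 e5_60
  have h62 : ∀ u < 184291, (fun u => chkE tab 5 u) u = true := ext_range (a := 181455) (len := 2836) h61 e5_61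
  have h63 : ∀ u < 186952, (fun u => chkE tab 5 u) u = true := ext_range (a := 184291) (len := 2661) h62 e5_62
  have h64 : ∀ u < 189579, (fun u => chkE tab 5 u) u = true := ext_range (a := 186952) (len := 2627) h63 e5_63
  have h65 : ∀ u < 192353, (fun u => chkE tab 5 u) u = true := ext_range (a := 189579) (len := 2774) h64 e5_64
  have h66 : ∀ u < 195019, (fun u => chkE tab 5 u) u = true := ext_range (a := 192353) (len := 2666) h65 e5_65
  have h67 : ∀ u < 197718, (fun u => chkE tab 5 u) u = true := ext_range (a := 195019) (len := 2699) h66 e5_66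
  have h68 : ∀ u < 200372, (fun u => chkE tab 5 u) u = true := ext_range (a := 197718) (len := 2654) h67 e5_67
  have h69 : ∀ u < 202997, (fun u => chkE tab 5 u) u = true := ext_range (a := 200372) (len := 2625) h68 e5_68
  have h70 : ∀ u < 205700, (fun u => chkE tab 5 u) u = true := ext_range (a := 202997) (len := 2703) h69 e5_69
  have h71 : ∀ u < 208458, (fun u => chkE tab 5 u) u = true := ext_range (a := 205700) (len := 2758) h70 e5_70
  have h72 : ∀ u < 211119, (fun u => chkE tab 5 u) u = true := ext_range (a := 208458) (len := 2661) h71 e5_71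
  have h73 : ∀ u < 213841, (fun u => chkE tab 5 u) u = true := ext_range (a := 211119) (len := 2722) h72 e5_72
  have h74 : ∀ u < 216463, (fun u => chkE tab 5 u) u = true := ext_range (a := 213841) (len := 2622) h73 e5_73
  have h75 : ∀ u < 219023, (fun u => chkE tab 5 u) u = true := ext_range (a := 216463) (len := 2560) h74 e5_74
  have h76 : ∀ u < 221706, (fun u => chkE tab 5 u) u = true := ext_range (a := 219023) (len := 2683) h75 e5_75
  have h77 : ∀ u < 224394, (fun u => chkE tab 5 u) u = true := ext_range (a := 221706) (len := 2688) h76 e5_76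
  have h78 : ∀ u < 226983, (fun u => chkE tab 5 u) u = true := ext_range (a := 224394) (len := 2589) h77 e5_77
  have h79 : ∀ u < 229624, (fun u => chkE tab 5 u) u = true := ext_range (a := 226983) (len := 2641) h78 e5_78
  have h80 : ∀ u < 232242, (fun u => chkE tab 5 u) u = true := ext_range (a := 229624) (len := 2618) h79 e5_79
  have h81 : ∀ u < 234913, (fun u => chkE tab 5 u) u = true := ext_range (a := 232242) (len := 2671) h80 e5_80
  have h82 : ∀ u < 237576, (fun u => chkE tab 5 u) u = true := ext_range (a := 234913) (len := 2663) h81 e5_81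
  have h83 : ∀ u < 240270, (fun u => chkE tab 5 u) u = true := ext_range (a := 237576) (len := 2694) h82 e5_82
  have h84 : ∀ u < 243081, (fun u => chkE tab 5 u) u = true := ext_range (a := 240270) (len := 2811) h83 e5_83
  have h85 : ∀ u < 245825, (fun u => chkE tab 5 u) u = true := ext_range (a := 243081) (len := 2744) h84 e5_84
  have h86 : ∀ u < 248587, (fun u => chkE tab 5 u) u = true := ext_range (a := 245825) (len := 2762) h85 e5_85
  have h87 : ∀ u < 251410, (fun u => chkE tab 5 u) u = true := ext_range (a := 248587) (len := 2823) h86 e5_86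
  have h88 : ∀ u < 254271, (fun u => chkE tab 5 u) u = true := ext_range (a := 251410) (len := 2861) h87 e5_87
  have h89 : ∀ u < 257192, (fun u => chkE tab 5 u) u = true := ext_range (a := 254271) (len := 2921) h88 e5_88
  have h90 : ∀ u < 260148, (fun u => chkE tab 5 u) u = true := ext_range (a := 257192) (len := 2956) h89 e5_89
  have h91 : ∀ u < 263242, (fun u => chkE tab 5 u) u = true := ext_range (a := 260148) (len := 3094) h90 e5_90
  have h92 : ∀ u < 266643, (fun u => chkE tab 5 u) u = true := ext_range (a := 263242) (len := 3401) h91 e5_91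
  have h93 : ∀ u < 269227, (fun u => chkE tab 5 u) u = true := ext_range (a := 266643) (len := 2584) h92 e5_92
  exact h93

theorem hE6 : ∀ u < 269227, chkE tab 6 u = true := by
  have h0 : ∀ u < 0, (fun u => chkE tab 6 u) u = true := range_zero
  have h1 : ∀ u < 3177, (fun u => chkE tab 6 u) u = true := ext_range (a := 0) (len := 3177) h0 e6_0
  have h2 : ∀ u < 6671, (fun u => chkE tab 6 u) u = true := ext_range (a := 3177) (len := 3494) h1 e6_1
  have h3 : ∀ u < 9999, (fun u => chkE tab 6 u) u = true := ext_range (a := 6671) (len := 3328) h2 e6_2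
  have h4 : ∀ u < 13429, (fun u => chkE tab 6 u) u = true := ext_range (a := 9999) (len := 3430) h3 e6_3
  have h5 : ∀ u < 16696, (fun u => chkE tab 6 u) u = true := ext_range (a := 13429) (len := 3267) h4 e6_4
  have h6 : ∀ u < 19910, (fun u => chkE tab 6 u) u = true := ext_range (a := 16696) (len := 3214) h5 e6_5
  have h7 : ∀ u < 23082, (fun u => chkE tab 6 u) u = true := ext_range (a := 19910) (len := 3172) h6 e6_6
  have h8 : ∀ u < 26229, (fun u => chkE tab 6 u) u = true := ext_range (a := 23082) (len := 3147) h7 e6_7
  have h9 : ∀ u < 29246, (fun u => chkE tab 6 u) u = true := ext_range (a := 26229) (len := 3017) h8 e6_8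
  have h10 : ∀ u < 32179, (fun u => chkE tab 6 u) u = true := ext_range (a := 29246) (len := 2933) h9 e6_9
  have h11 : ∀ u < 35271, (fun u => chkE tab 6 u) u = true := ext_range (a := 32179) (len := 3092) h10 e6_10
  have h12 : ∀ u < 38289, (fun u => chkE tab 6 u) u = true := ext_range (a := 35271) (len := 3018) h11 e6_11
  have h13 : ∀ u < 41102, (fun u => chkE tab 6 u) u = true := ext_range (a := 38289) (len := 2813) h12 e6_12
  have h14 : ∀ u < 43957, (fun u => chkE tab 6 u) u = true := ext_range (a := 41102) (len := 2855) h13 e6_13
  have h15 : ∀ u < 46988, (fun u => chkE tab 6 u) u = true := ext_range (a := 43957) (len := 3031) h14 e6_14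
  have h16 : ∀ u < 49868, (fun u => chkE tab 6 u) u = true := ext_range (a := 46988) (len := 2880) h15 e6_15
  have h17 : ∀ u < 52673, (fun u => chkE tab 6 u) u = true := ext_range (a := 49868) (len := 2805) h16 e6_16
  have h18 : ∀ u < 55343, (fun u => chkE tab 6 u) u = true := ext_range (a := 52673) (len := 2670) h17 e6_17
  have h19 : ∀ u < 58271, (fun u => chkE tab 6 u) u = true := ext_range (a := 55343) (len := 2928) h18 e6_18
  have h20 : ∀ u < 61101, (fun u => chkE tab 6 u) u = true := ext_range (a := 58271) (len := 2830) h19 e6_19
  have h21 : ∀ u < 64060, (fun u => chkE tab 6 u) u = true := ext_range (a := 61101) (len := 2959) h20 e6_20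
  have h22 : ∀ u < 66884, (fun u => chkE tab 6 u) u = true := ext_range (a := 64060) (len := 2824) h21 e6_21
  have h23 : ∀ u < 69676, (fun u => chkE tab 6 u) u = true := ext_range (a := 66884) (len := 2792) h22 e6_22
  have h24 : ∀ u < 72549, (fun u => chkE tab 6 u) u = true := ext_range (a := 69676) (len := 2873) h23 e6_23
  have h25 : ∀ u < 75439, (fun u => chkE tab 6 u) u = true := ext_range (a := 72549) (len := 2890) h24 e6_24
  have h26 : ∀ u < 78379, (fun u => chkE tab 6 u) u = true := ext_range (a := 75439) (len := 2940) h25 e6_25
  have h27 : ∀ u < 81203, (fun u => chkE tab 6 u) u = true := ext_range (a := 78379) (len := 2824) h26 e6_26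
  have h28 : ∀ u < 84075, (fun u => chkE tab 6 u) u = true := ext_range (a := 81203) (len := 2872) h27 e6_27
  have h29 : ∀ u < 86790, (fun u => chkE tab 6 u) u = true := ext_range (a := 84075) (len := 2715) h28 e6_28
  have h30 : ∀ u < 89398, (fun u => chkE tab 6 u) u = true := ext_range (a := 86790) (len := 2608) h29 e6_29
  have h31 : ∀ u < 92248, (fun u => chkE tab 6 u) u = true := ext_range (a := 89398) (len := 2850) h30 e6_30
  have h32 : ∀ u < 95086, (fun u => chkE tab 6 u) u = true := ext_range (a := 92248) (len := 2838) h31 e6_31
  have h33 : ∀ u < 97933, (fun u => chkE tab 6 u) u = true := ext_range (a := 95086) (len := 2847) h32 e6_32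
  have h34 : ∀ u < 100854, (fun u => chkE tab 6 u) u = true := ext_range (a := 97933) (len := 2921) h33 e6_33
  have h35 : ∀ u < 103708, (fun u => chkE tab 6 u) u = true := ext_range (a := 100854) (len := 2854) h34 e6_34
  have h36 : ∀ u < 106543, (fun u => chkE tab 6 u) u = true := ext_range (a := 103708) (len := 2835) h35 e6_35
  have h37 : ∀ u < 109478, (fun u => chkE tab 6 u) u = true := ext_range (a := 106543) (len := 2935) h36 e6_36
  have h38 : ∀ u < 112444, (fun u => chkE tab 6 u) u = true := ext_range (a := 109478) (len := 2966) h37 e6_37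
  have h39 : ∀ u < 115414, (fun u => chkE tab 6 u) u = true := ext_range (a := 112444) (len := 2970) h38 e6_38
  have h40 : ∀ u < 118490, (fun u => chkE tab 6 u) u = true := ext_range (a := 115414) (len := 3076) h39 e6_39
  have h41 : ∀ u < 121474, (fun u => chkE tab 6 u) u = true := ext_range (a := 118490) (len := 2984) h40 e6_40
  have h42 : ∀ u < 124256, (fun u => chkE tab 6 u) u = true := ext_range (a := 121474) (len := 2782) h41 e6_41
  have h43 : ∀ u < 126970, (fun u => chkE tab 6 u) u = true := ext_range (a := 124256) (len := 2714) h42 e6_42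
  have h44 : ∀ u < 129802, (fun u => chkE tab 6 u) u = true := ext_range (a := 126970) (len := 2832) h43 e6_43
  have h45 : ∀ u < 132585, (fun u => chkE tab 6 u) u = true := ext_range (a := 129802) (len := 2783) h44 e6_44
  have h46 : ∀ u < 135471, (fun u => chkE tab 6 u) u = true := ext_range (a := 132585) (len := 2886) h45 e6_45
  have h47 : ∀ u < 138378, (fun u => chkE tab 6 u) u = true := ext_range (a := 135471) (len := 2907) h46 e6_46
  have h48 : ∀ u < 141260, (fun u => chkE tab 6 u) u = true := ext_range (a := 138378) (len := 2882) h47 e6_47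
  have h49 : ∀ u < 144162, (fun u => chkE tab 6 u) u = true := ext_range (a := 141260) (len := 2902) h48 e6_48
  have h50 : ∀ u < 147156, (fun u => chkE tab 6 u) u = true := ext_range (a := 144162) (len := 2994) h49 e6_49
  have h51 : ∀ u < 150031, (fun u => chkE tab 6 u) u = true := ext_range (a := 147156) (len := 2875) h50 e6_50
  have h52 : ∀ u < 152880, (fun u => chkE tab 6 u) u = true := ext_range (a := 150031) (len := 2849) h51 e6_51
  have h53 : ∀ u < 155755, (fun u => chkE tab 6 u) u = true := ext_range (a := 152880) (len := 2875) h52 e6_52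
  have h54 : ∀ u < 158488, (fun u => chkE tab 6 u) u = true := ext_range (a := 155755) (len := 2733) h53 e6_53
  have h55 : ∀ u < 161258, (fun u => chkE tab 6 u) u = true := ext_range (a := 158488) (len := 2770) h54 e6_54
  have h56 : ∀ u < 164013, (fun u => chkE tab 6 u) u = true := ext_range (a := 161258) (len := 2755) h55 e6_55
  have h57 : ∀ u < 166755, (fun u => chkE tab 6 u) u = true := ext_range (a := 164013) (len := 2742) h56 e6_56
  have h58 : ∀ u < 169490, (fun u => chkE tab 6 u) u = true := ext_range (a := 166755) (len := 2735) h57 e6_57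
  have h59 : ∀ u < 172166, (fun u => chkE tab 6 u) u = true := ext_range (a := 169490) (len := 2676) h58 e6_58
  have h60 : ∀ u < 174807, (fun u => chkE tab 6 u) u = true := ext_range (a := 172166) (len := 2641) h59 e6_59
  have h61 : ∀ u < 177517, (fun u => chkE tab 6 u) u = true := ext_range (a := 174807) (len := 2710) h60 e6_60
  have h62 : ∀ u < 180132, (fun u => chkE tab 6 u) u = true := ext_range (a := 177517) (len := 2615) h61 e6_61
  have h63 : ∀ u < 182790, (fun u => chkE tab 6 u) u = true := ext_range (a := 180132) (len := 2658) h62 e6_62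
  have h64 : ∀ u < 185459, (fun u => chkE tab 6 u) u = true := ext_range (a := 182790) (len := 2669) h63 e6_63
  have h65 : ∀ u < 188218, (fun u => chkE tab 6 u) u = true := ext_range (a := 185459) (len := 2759) h64 e6_64
  have h66 : ∀ u < 190872, (fun u => chkE tab 6 u) u = true := ext_range (a := 188218) (len := 2654) h65 e6_65
  have h67 : ∀ u < 193442, (fun u => chkE tab 6 u) u = true := ext_range (a := 190872) (len := 2570) h66 e6_66
  have h68 : ∀ u < 196073, (fun u => chkE tab 6 u) u = true := ext_range (a := 193442) (len := 2631) h67 e6_67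
  have h69 : ∀ u < 198619, (fun u => chkE tab 6 u) u = true := ext_range (a := 196073) (len := 2546) h68 e6_68
  have h70 : ∀ u < 201143, (fun u => chkE tab 6 u) u = true := ext_range (a := 198619) (len := 2524) h69 e6_69
  have h71 : ∀ u < 203614, (fun u => chkE tab 6 u) u = true := ext_range (a := 201143) (len := 2471) h70 e6_70
  have h72 : ∀ u < 206220, (fun u => chkE tab 6 u) u = true := ext_range (a := 203614) (len := 2606) h71 e6_71
  have h73 : ∀ u < 208795, (fun u => chkE tab 6 u) u = true := ext_range (a := 206220) (len := 2575) h72 e6_72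
  have h74 : ∀ u < 211338, (fun u => chkE tab 6 u) u = true := ext_range (a := 208795) (len := 2543) h73 e6_73
  have h75 : ∀ u < 213848, (fun u => chkE tab 6 u) u = true := ext_range (a := 211338) (len := 2510) h74 e6_74
  have h76 : ∀ u < 216361, (fun u => chkE tab 6 u) u = true := ext_range (a := 213848) (len := 2513) h75 e6_75
  have h77 : ∀ u < 218837, (fun u => chkE tab 6 u) u = true := ext_range (a := 216361) (len := 2476) h76 e6_76
  have h78 : ∀ u < 221448, (fun u => chkE tab 6 u) u = true := ext_range (a := 218837) (len := 2611) h77 e6_77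
  have h79 : ∀ u < 224083, (fun u => chkE tab 6 u) u = true := ext_range (a := 221448) (len := 2635) h78 e6_78
  have h80 : ∀ u < 226579, (fun u => chkE tab 6 u) u = true := ext_range (a := 224083) (len := 2496) h79 e6_79
  have h81 : ∀ u < 229209, (fun u => chkE tab 6 u) u = true := ext_range (a := 226579) (len := 2630) h80 e6_80
  have h82 : ∀ u < 231805, (fun u => chkE tab 6 u) u = true := ext_range (a := 229209) (len := 2596) h81 e6_81
  have h83 : ∀ u < 234473, (fun u => chkE tab 6 u) u = true := ext_range (a := 231805) (len := 2668) h82 e6_82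
  have h84 : ∀ u < 237056, (fun u => chkE tab 6 u) u = true := ext_range (a := 234473) (len := 2583) h83 e6_83
  have h85 : ∀ u < 239638, (fun u => chkE tab 6 u) u = true := ext_range (a := 237056) (len := 2582) h84 e6_84
  have h86 : ∀ u < 242367, (fun u => chkE tab 6 u) u = true := ext_range (a := 239638) (len := 2729) h85 e6_85
  have h87 : ∀ u < 245170, (fun u => chkE tab 6 u) u = true := ext_range (a := 242367) (len := 2803) h86 e6_86
  have h88 : ∀ u < 247868, (fun u => chkE tab 6 u) u = true := ext_range (a := 245170) (len := 2698) h87 e6_87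
  have h89 : ∀ u < 250625, (fun u => chkE tab 6 u) u = true := ext_range (a := 247868) (len := 2757) h88 e6_88
  have h90 : ∀ u < 253426, (fun u => chkE tab 6 u) u = true := ext_range (a := 250625) (len := 2801) h89 e6_89
  have h91 : ∀ u < 256317, (fun u => chkE tab 6 u) u = true := ext_range (a := 253426) (len := 2891) h90 e6_90
  have h92 : ∀ u < 259208, (fun u => chkE tab 6 u) u = true := ext_range (a := 256317) (len := 2891) h91 e6_91
  have h93 : ∀ u < 262202, (fun u => chkE tab 6 u) u = true := ext_range (a := 259208) (len := 2994) h92 e6_92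
  have h94 : ∀ u < 265518, (fun u => chkE tab 6 u) u = true := ext_range (a := 262202) (len := 3316) h93 e6_93
  have h95 : ∀ u < 268956, (fun u => chkE tab 6 u) u = true := ext_range (a := 265518) (len := 3438) h94 e6_94
  have h96 : ∀ u < 269227, (fun u => chkE tab 6 u) u = true := ext_range (a := 268956) (len := 271) h95 e6_95
  exact h96

theorem hL : ∀ u < 269227, chkL tab u = true := by
  have h0 : ∀ u < 0, (fun u => chkL tab u) u = true := range_zero
  have h1 : ∀ u < 30408, (fun u => chkL tab u) u = true := ext_range (a := 0) (len := 30408) h0 l_0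
  have h2 : ∀ u < 72933, (fun u => chkL tab u) u = true := ext_range (a := 30408) (len := 42525) h1 l_1
  have h3 : ∀ u < 119818, (fun u => chkL tab u) u = true := ext_range (a := 72933) (len := 46885) h2 l_2
  have h4 : ∀ u < 169212, (fun u => chkL tab u) u = true := ext_range (a := 119818) (len := 49394) h3 l_3
  have h5 : ∀ u < 222492, (fun u => chkL tab u) u = true := ext_range (a := 169212) (len := 53280) h4 l_4
  have h6 : ∀ u < 269227, (fun u => chkL tab u) u = true := ext_range (a := 222492) (len := 46735) h5 l_5
  exact h6

theorem hF : ∀ u < 266560, chkFin tab u = true := by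
  have h0 : ∀ u < 0, (fun u => chkFin tab u) u = true := range_zero
  have h1 : ∀ u < 348, (fun u => chkFin tab u) u = true := ext_range (a := 0) (len := 348) h0 f_0
  have h2 : ∀ u < 696, (fun u => chkFin tab u) u = true := ext_range (a := 348) (len := 348) h1 f_1
  have h3 : ∀ u < 1044, (fun u => chkFin tab u) u = true := ext_range (a := 696) (len := 348) h2 f_2
  have h4 : ∀ u < 1392, (fun u => chkFin tab u) u = true := ext_range (a := 1044) (len := 348) h3 f_3
  have h5 : ∀ u < 1740, (fun u => chkFin tab u) u = true := ext_range (a := 1392) (len := 348) h4 f_4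
  have h6 : ∀ u < 2088, (fun u => chkFin tab u) u = true := ext_range (a := 1740) (len := 348) h5 f_5
  have h7 : ∀ u < 2436, (fun u => chkFin tab u) u = true := ext_range (a := 2088) (len := 348) h6 f_6
  have h8 : ∀ u < 2784, (fun u => chkFin tab u) u = true := ext_range (a := 2436) (len := 348) h7 f_7
  have h9 : ∀ u < 3132, (fun u => chkFin tab u) u = true := ext_range (a := 2784) (len := 348) h8 f_8
  have h10 : ∀ u < 3480, (fun u => chkFin tab u) u = true := ext_range (a := 3132) (len := 348) h9 f_9
  have h11 : ∀ u < 3828, (fun u => chkFin tab u) u = true := ext_range (a := 3480) (len := 348) h10 f_10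
  have h12 : ∀ u < 4176, (fun u => chkFin tab u) u = true := ext_range (a := 3828) (len := 348) h11 f_11
  have h13 : ∀ u < 4524, (fun u => chkFin tab u) u = true := ext_range (a := 4176) (len := 348) h12 f_12
  have h14 : ∀ u < 4872, (fun u => chkFin tab u) u = true := ext_range (a := 4524) (len := 348) h13 f_13
  have h15 : ∀ u < 5220, (fun u => chkFin tab u) u = true := ext_range (a := 4872) (len := 348) h14 f_14
  have h16 : ∀ u < 5568, (fun u => chkFin tab u) u = true := ext_range (a := 5220) (len := 348) h15 f_15
  have h17 : ∀ u < 5916, (fun u => chkFin tab u) u = true := ext_range (a := 5568) (len := 348) h16 f_16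
  have h18 : ∀ u < 6264, (fun u => chkFin tab u) u = true := ext_range (a := 5916) (len := 348) h17 f_17
  have h19 : ∀ u < 6612, (fun u => chkFin tab u) u = true := ext_range (a := 6264) (len := 348) h18 f_18
  have h20 : ∀ u < 6960, (fun u => chkFin tab u) u = true := ext_range (a := 6612) (len := 348) h19 f_19
  have h21 : ∀ u < 7308, (fun u => chkFin tab u) u = true := ext_range (a := 6960) (len := 348) h20 f_20
  have h22 : ∀ u < 7656, (fun u => chkFin tab u) u = true := ext_range (a := 7308) (len := 348) h21 f_21
  have h23 : ∀ u < 8004, (fun u => chkFin tab u) u = true := ext_range (a := 7656) (len := 348) h22 f_22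
  have h24 : ∀ u < 8352, (fun u => chkFin tab u) u = true := ext_range (a := 8004) (len := 348) h23 f_23
  have h25 : ∀ u < 8700, (fun u => chkFin tab u) u = true := ext_range (a := 8352) (len := 348) h24 f_24
  have h26 : ∀ u < 9048, (fun u => chkFin tab u) u = true := ext_range (a := 8700) (len := 348) h25 f_25
  have h27 : ∀ u < 9396, (fun u => chkFin tab u) u = true := ext_range (a := 9048) (len := 348) h26 f_26
  have h28 : ∀ u < 9744, (fun u => chkFin tab u) u = true := ext_range (a := 9396) (len := 348) h27 f_27
  have h29 : ∀ u < 10092, (fun u => chkFin tab u) u = true := ext_range (a := 9744) (len := 348) h28 f_28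
  have h30 : ∀ u < 10440, (fun u => chkFin tab u) u = true := ext_range (a := 10092) (len := 348) h29 f_29
  have h31 : ∀ u < 10788, (fun u => chkFin tab u) u = true := ext_range (a := 10440) (len := 348) h30 f_30
  have h32 : ∀ u < 11136, (fun u => chkFin tab u) u = true := ext_range (a := 10788) (len := 348) h31 f_31
  have h33 : ∀ u < 11484, (fun u => chkFin tab u) u = true := ext_range (a := 11136) (len := 348) h32 f_32
  have h34 : ∀ u < 11832, (fun u => chkFin tab u) u = true := ext_range (a := 11484) (len := 348) h33 f_33
  have h35 : ∀ u < 12180, (fun u => chkFin tab u) u = true := ext_range (a := 11832) (len := 348) h34 f_34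
  have h36 : ∀ u < 12528, (fun u => chkFin tab u) u = true := ext_range (a := 12180) (len := 348) h35 f_35
  have h37 : ∀ u < 12876, (fun u => chkFin tab u) u = true := ext_range (a := 12528) (len := 348) h36 f_36
  have h38 : ∀ u < 13224, (fun u => chkFin tab u) u = true := ext_range (a := 12876) (len := 348) h37 f_37
  have h39 : ∀ u < 13572, (fun u => chkFin tab u) u = true := ext_range (a := 13224) (len := 348) h38 f_38
  have h40 : ∀ u < 13920, (fun u => chkFin tab u) u = true := ext_range (a := 13572) (len := 348) h39 f_39
  have h41 : ∀ u < 14268, (fun u => chkFin tab u) u = true := ext_range (a := 13920) (len := 348) h40 f_40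
  have h42 : ∀ u < 14616, (fun u => chkFin tab u) u = true := ext_range (a := 14268) (len := 348) h41 f_41
  have h43 : ∀ u < 14964, (fun u => chkFin tab u) u = true := ext_range (a := 14616) (len := 348) h42 f_42
  have h44 : ∀ u < 15312, (fun u => chkFin tab u) u = true := ext_range (a := 14964) (len := 348) h43 f_43
  have h45 : ∀ u < 15660, (fun u => chkFin tab u) u = true := ext_range (a := 15312) (len := 348) h44 f_44
  have h46 : ∀ u < 16008, (fun u => chkFin tab u) u = true := ext_range (a := 15660) (len := 348) h45 f_45
  have h47 : ∀ u < 16356, (fun u => chkFin tab u) u = true := ext_range (a := 16008) (len := 348) h46 f_46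
  have h48 : ∀ u < 16704, (fun u => chkFin tab u) u = true := ext_range (a := 16356) (len := 348) h47 f_47
  have h49 : ∀ u < 17052, (fun u => chkFin tab u) u = true := ext_range (a := 16704) (len := 348) h48 f_48
  have h50 : ∀ u < 17400, (fun u => chkFin tab u) u = true := ext_range (a := 17052) (len := 348) h49 f_49
  have h51 : ∀ u < 17748, (fun u => chkFin tab u) u = true := ext_range (a := 17400) (len := 348) h50 f_50
  have h52 : ∀ u < 18096, (fun u => chkFin tab u) u = true := ext_range (a := 17748) (len := 348) h51 f_51
  have h53 : ∀ u < 18444, (fun u => chkFin tab u) u = true := ext_range (a := 18096) (len := 348) h52 f_52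
  have h54 : ∀ u < 18792, (fun u => chkFin tab u) u = true := ext_range (a := 18444) (len := 348) h53 f_53
  have h55 : ∀ u < 19140, (fun u => chkFin tab u) u = true := ext_range (a := 18792) (len := 348) h54 f_54
  have h56 : ∀ u < 19488, (fun u => chkFin tab u) u = true := ext_range (a := 19140) (len := 348) h55 f_55
  have h57 : ∀ u < 19836, (fun u => chkFin tab u) u = true := ext_range (a := 19488) (len := 348) h56 f_56
  have h58 : ∀ u < 20184, (fun u => chkFin tab u) u = true := ext_range (a := 19836) (len := 348) h57 f_57
  have h59 : ∀ u < 20532, (fun u => chkFin tab u) u = true := ext_range (a := 20184) (len := 348) h58 f_58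
  have h60 : ∀ u < 20880, (fun u => chkFin tab u) u = true := ext_range (a := 20532) (len := 348) h59 f_59
  have h61 : ∀ u < 21228, (fun u => chkFin tab u) u = true := ext_range (a := 20880) (len := 348) h60 f_60
  have h62 : ∀ u < 21576, (fun u => chkFin tab u) u = true := ext_range (a := 21228) (len := 348) h61 f_61
  have h63 : ∀ u < 21924, (fun u => chkFin tab u) u = true := ext_range (a := 21576) (len := 348) h62 f_62
  have h64 : ∀ u < 22272, (fun u => chkFin tab u) u = true := ext_range (a := 21924) (len := 348) h63 f_63
  have h65 : ∀ u < 22620, (fun u => chkFin tab u) u = true := ext_range (a := 22272) (len := 348) h64 f_64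
  have h66 : ∀ u < 22968, (fun u => chkFin tab u) u = true := ext_range (a := 22620) (len := 348) h65 f_65
  have h67 : ∀ u < 23316, (fun u => chkFin tab u) u = true := ext_range (a := 22968) (len := 348) h66 f_66
  have h68 : ∀ u < 23664, (fun u => chkFin tab u) u = true := ext_range (a := 23316) (len := 348) h67 f_67
  have h69 : ∀ u < 24012, (fun u => chkFin tab u) u = true := ext_range (a := 23664) (len := 348) h68 f_68
  have h70 : ∀ u < 24360, (fun u => chkFin tab u) u = true := ext_range (a := 24012) (len := 348) h69 f_69
  have h71 : ∀ u < 24708, (fun u => chkFin tab u) u = true := ext_range (a := 24360) (len := 348) h70 f_70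
  have h72 : ∀ u < 25056, (fun u => chkFin tab u) u = true := ext_range (a := 24708) (len := 348) h71 f_71
  have h73 : ∀ u < 25404, (fun u => chkFin tab u) u = true := ext_range (a := 25056) (len := 348) h72 f_72
  have h74 : ∀ u < 25752, (fun u => chkFin tab u) u = true := ext_range (a := 25404) (len := 348) h73 f_73
  have h75 : ∀ u < 26100, (fun u => chkFin tab u) u = true := ext_range (a := 25752) (len := 348) h74 f_74
  have h76 : ∀ u < 26448, (fun u => chkFin tab u) u = true := ext_range (a := 26100) (len := 348) h75 f_75
  have h77 : ∀ u < 26796, (fun u => chkFin tab u) u = true := ext_range (a := 26448) (len := 348) h76 f_76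
  have h78 : ∀ u < 27144, (fun u => chkFin tab u) u = true := ext_range (a := 26796) (len := 348) h77 f_77
  have h79 : ∀ u < 27492, (fun u => chkFin tab u) u = true := ext_range (a := 27144) (len := 348) h78 f_78
  have h80 : ∀ u < 27840, (fun u => chkFin tab u) u = true := ext_range (a := 27492) (len := 348) h79 f_79
  have h81 : ∀ u < 28188, (fun u => chkFin tab u) u = true := ext_range (a := 27840) (len := 348) h80 f_80
  have h82 : ∀ u < 28536, (fun u => chkFin tab u) u = true := ext_range (a := 28188) (len := 348) h81 f_81
  have h83 : ∀ u < 28884, (fun u => chkFin tab u) u = true := ext_range (a := 28536) (len := 348) h82 f_82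
  have h84 : ∀ u < 29232, (fun u => chkFin tab u) u = true := ext_range (a := 28884) (len := 348) h83 f_83
  have h85 : ∀ u < 29580, (fun u => chkFin tab u) u = true := ext_range (a := 29232) (len := 348) h84 f_84
  have h86 : ∀ u < 29928, (fun u => chkFin tab u) u = true := ext_range (a := 29580) (len := 348) h85 f_85
  have h87 : ∀ u < 30276, (fun u => chkFin tab u) u = true := ext_range (a := 29928) (len := 348) h86 f_86
  have h88 : ∀ u < 30624, (fun u => chkFin tab u) u = true := ext_range (a := 30276) (len := 348) h87 f_87
  have h89 : ∀ u < 30972, (fun u => chkFin tab u) u = true := ext_range (a := 30624) (len := 348) h88 f_88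
  have h90 : ∀ u < 31320, (fun u => chkFin tab u) u = true := ext_range (a := 30972) (len := 348) h89 f_89
  have h91 : ∀ u < 31668, (fun u => chkFin tab u) u = true := ext_range (a := 31320) (len := 348) h90 f_90
  have h92 : ∀ u < 32016, (fun u => chkFin tab u) u = true := ext_range (a := 31668) (len := 348) h91 f_91
  have h93 : ∀ u < 32364, (fun u => chkFin tab u) u = true := ext_range (a := 32016) (len := 348) h92 f_92
  have h94 : ∀ u < 32712, (fun u => chkFin tab u) u = true := ext_range (a := 32364) (len := 348) h93 f_93
  have h95 : ∀ u < 33060, (fun u => chkFin tab u) u = true := ext_range (a := 32712) (len := 348) h94 f_94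
  have h96 : ∀ u < 33408, (fun u => chkFin tab u) u = true := ext_range (a := 33060) (len := 348) h95 f_95
  have h97 : ∀ u < 33756, (fun u => chkFin tab u) u = true := ext_range (a := 33408) (len := 348) h96 f_96
  have h98 : ∀ u < 34104, (fun u => chkFin tab u) u = true := ext_range (a := 33756) (len := 348) h97 f_97
  have h99 : ∀ u < 34452, (fun u => chkFin tab u) u = true := ext_range (a := 34104) (len := 348) h98 f_98
  have h100 : ∀ u < 34800, (fun u => chkFin tab u) u = true := ext_range (a := 34452) (len := 348) h99 f_99
  have h101 : ∀ u < 35148, (fun u => chkFin tab u) u = true := ext_range (a := 34800) (len := 348) h100 f_100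
  have h102 : ∀ u < 35496, (fun u => chkFin tab u) u = true := ext_range (a := 35148) (len := 348) h101 f_101
  have h103 : ∀ u < 35844, (fun u => chkFin tab u) u = true := ext_range (a := 35496) (len := 348) h102 f_102
  have h104 : ∀ u < 36192, (fun u => chkFin tab u) u = true := ext_range (a := 35844) (len := 348) h103 f_103
  have h105 : ∀ u < 36540, (fun u => chkFin tab u) u = true := ext_range (a := 36192) (len := 348) h104 f_104
  have h106 : ∀ u < 36888, (fun u => chkFin tab u) u = true := ext_range (a := 36540) (len := 348) h105 f_105
  have h107 : ∀ u < 37236, (fun u => chkFin tab u) u = true := ext_range (a := 36888) (len := 348) h106 f_106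
  have h108 : ∀ u < 37584, (fun u => chkFin tab u) u = true := ext_range (a := 37236) (len := 348) h107 f_107
  have h109 : ∀ u < 37932, (fun u => chkFin tab u) u = true := ext_range (a := 37584) (len := 348) h108 f_108
  have h110 : ∀ u < 38280, (fun u => chkFin tab u) u = true := ext_range (a := 37932) (len := 348) h109 f_109
  have h111 : ∀ u < 38628, (fun u => chkFin tab u) u = true := ext_range (a := 38280) (len := 348) h110 f_110
  have h112 : ∀ u < 38976, (fun u => chkFin tab u) u = true := ext_range (a := 38628) (len := 348) h111 f_111
  have h113 : ∀ u < 39324, (fun u => chkFin tab u) u = true := ext_range (a := 38976) (len := 348) h112 f_112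
  have h114 : ∀ u < 39672, (fun u => chkFin tab u) u = true := ext_range (a := 39324) (len := 348) h113 f_113
  have h115 : ∀ u < 40020, (fun u => chkFin tab u) u = true := ext_range (a := 39672) (len := 348) h114 f_114
  have h116 : ∀ u < 40368, (fun u => chkFin tab u) u = true := ext_range (a := 40020) (len := 348) h115 f_115
  have h117 : ∀ u < 40716, (fun u => chkFin tab u) u = true := ext_range (a := 40368) (len := 348) h116 f_116
  have h118 : ∀ u < 41064, (fun u => chkFin tab u) u = true := ext_range (a := 40716) (len := 348) h117 f_117
  have h119 : ∀ u < 41412, (fun u => chkFin tab u) u = true := ext_range (a := 41064) (len := 348) h118 f_118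
  have h120 : ∀ u < 41760, (fun u => chkFin tab u) u = true := ext_range (a := 41412) (len := 348) h119 f_119
  have h121 : ∀ u < 42108, (fun u => chkFin tab u) u = true := ext_range (a := 41760) (len := 348) h120 f_120
  have h122 : ∀ u < 42456, (fun u => chkFin tab u) u = true := ext_range (a := 42108) (len := 348) h121 f_121
  have h123 : ∀ u < 42804, (fun u => chkFin tab u) u = true := ext_range (a := 42456) (len := 348) h122 f_122
  have h124 : ∀ u < 43152, (fun u => chkFin tab u) u = true := ext_range (a := 42804) (len := 348) h123 f_123
  have h125 : ∀ u < 43500, (fun u => chkFin tab u) u = true := ext_range (a := 43152) (len := 348) h124 f_124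
  have h126 : ∀ u < 43848, (fun u => chkFin tab u) u = true := ext_range (a := 43500) (len := 348) h125 f_125
  have h127 : ∀ u < 44196, (fun u => chkFin tab u) u = true := ext_range (a := 43848) (len := 348) h126 f_126
  have h128 : ∀ u < 44544, (fun u => chkFin tab u) u = true := ext_range (a := 44196) (len := 348) h127 f_127
  have h129 : ∀ u < 44892, (fun u => chkFin tab u) u = true := ext_range (a := 44544) (len := 348) h128 f_128
  have h130 : ∀ u < 45240, (fun u => chkFin tab u) u = true := ext_range (a := 44892) (len := 348) h129 f_129
  have h131 : ∀ u < 45588, (fun u => chkFin tab u) u = true := ext_range (a := 45240) (len := 348) h130 f_130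
  have h132 : ∀ u < 45936, (fun u => chkFin tab u) u = true := ext_range (a := 45588) (len := 348) h131 f_131
  have h133 : ∀ u < 46284, (fun u => chkFin tab u) u = true := ext_range (a := 45936) (len := 348) h132 f_132
  have h134 : ∀ u < 46632, (fun u => chkFin tab u) u = true := ext_range (a := 46284) (len := 348) h133 f_133
  have h135 : ∀ u < 46980, (fun u => chkFin tab u) u = true := ext_range (a := 46632) (len := 348) h134 f_134
  have h136 : ∀ u < 47328, (fun u => chkFin tab u) u = true := ext_range (a := 46980) (len := 348) h135 f_135
  have h137 : ∀ u < 47676, (fun u => chkFin tab u) u = true := ext_range (a := 47328) (len := 348) h136 f_136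
  have h138 : ∀ u < 48024, (fun u => chkFin tab u) u = true := ext_range (a := 47676) (len := 348) h137 f_137
  have h139 : ∀ u < 48372, (fun u => chkFin tab u) u = true := ext_range (a := 48024) (len := 348) h138 f_138
  have h140 : ∀ u < 48720, (fun u => chkFin tab u) u = true := ext_range (a := 48372) (len := 348) h139 f_139
  have h141 : ∀ u < 49068, (fun u => chkFin tab u) u = true := ext_range (a := 48720) (len := 348) h140 f_140
  have h142 : ∀ u < 49416, (fun u => chkFin tab u) u = true := ext_range (a := 49068) (len := 348) h141 f_141
  have h143 : ∀ u < 49764, (fun u => chkFin tab u) u = true := ext_range (a := 49416) (len := 348) h142 f_142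
  have h144 : ∀ u < 50112, (fun u => chkFin tab u) u = true := ext_range (a := 49764) (len := 348) h143 f_143
  have h145 : ∀ u < 50460, (fun u => chkFin tab u) u = true := ext_range (a := 50112) (len := 348) h144 f_144
  have h146 : ∀ u < 50808, (fun u => chkFin tab u) u = true := ext_range (a := 50460) (len := 348) h145 f_145
  have h147 : ∀ u < 51156, (fun u => chkFin tab u) u = true := ext_range (a := 50808) (len := 348) h146 f_146
  have h148 : ∀ u < 51504, (fun u => chkFin tab u) u = true := ext_range (a := 51156) (len := 348) h147 f_147
  have h149 : ∀ u < 51852, (fun u => chkFin tab u) u = true := ext_range (a := 51504) (len := 348) h148 f_148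
  have h150 : ∀ u < 52200, (fun u => chkFin tab u) u = true := ext_range (a := 51852) (len := 348) h149 f_149
  have h151 : ∀ u < 52548, (fun u => chkFin tab u) u = true := ext_range (a := 52200) (len := 348) h150 f_150
  have h152 : ∀ u < 52896, (fun u => chkFin tab u) u = true := ext_range (a := 52548) (len := 348) h151 f_151
  have h153 : ∀ u < 53244, (fun u => chkFin tab u) u = true := ext_range (a := 52896) (len := 348) h152 f_152
  have h154 : ∀ u < 53592, (fun u => chkFin tab u) u = true := ext_range (a := 53244) (len := 348) h153 f_153
  have h155 : ∀ u < 53940, (fun u => chkFin tab u) u = true := ext_range (a := 53592) (len := 348) h154 f_154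
  have h156 : ∀ u < 54288, (fun u => chkFin tab u) u = true := ext_range (a := 53940) (len := 348) h155 f_155
  have h157 : ∀ u < 54636, (fun u => chkFin tab u) u = true := ext_range (a := 54288) (len := 348) h156 f_156
  have h158 : ∀ u < 54984, (fun u => chkFin tab u) u = true := ext_range (a := 54636) (len := 348) h157 f_157
  have h159 : ∀ u < 55332, (fun u => chkFin tab u) u = true := ext_range (a := 54984) (len := 348) h158 f_158
  have h160 : ∀ u < 55680, (fun u => chkFin tab u) u = true := ext_range (a := 55332) (len := 348) h159 f_159
  have h161 : ∀ u < 56028, (fun u => chkFin tab u) u = true := ext_range (a := 55680) (len := 348) h160 f_160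
  have h162 : ∀ u < 56376, (fun u => chkFin tab u) u = true := ext_range (a := 56028) (len := 348) h161 f_161
  have h163 : ∀ u < 56724, (fun u => chkFin tab u) u = true := ext_range (a := 56376) (len := 348) h162 f_162
  have h164 : ∀ u < 57072, (fun u => chkFin tab u) u = true := ext_range (a := 56724) (len := 348) h163 f_163
  have h165 : ∀ u < 57420, (fun u => chkFin tab u) u = true := ext_range (a := 57072) (len := 348) h164 f_164
  have h166 : ∀ u < 57768, (fun u => chkFin tab u) u = true := ext_range (a := 57420) (len := 348) h165 f_165
  have h167 : ∀ u < 58116, (fun u => chkFin tab u) u = true := ext_range (a := 57768) (len := 348) h166 f_166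
  have h168 : ∀ u < 58464, (fun u => chkFin tab u) u = true := ext_range (a := 58116) (len := 348) h167 f_167
  have h169 : ∀ u < 58812, (fun u => chkFin tab u) u = true := ext_range (a := 58464) (len := 348) h168 f_168
  have h170 : ∀ u < 59160, (fun u => chkFin tab u) u = true := ext_range (a := 58812) (len := 348) h169 f_169
  have h171 : ∀ u < 59508, (fun u => chkFin tab u) u = true := ext_range (a := 59160) (len := 348) h170 f_170
  have h172 : ∀ u < 59856, (fun u => chkFin tab u) u = true := ext_range (a := 59508) (len := 348) h171 f_171
  have h173 : ∀ u < 60204, (fun u => chkFin tab u) u = true := ext_range (a := 59856) (len := 348) h172 f_172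
  have h174 : ∀ u < 60552, (fun u => chkFin tab u) u = true := ext_range (a := 60204) (len := 348) h173 f_173
  have h175 : ∀ u < 60900, (fun u => chkFin tab u) u = true := ext_range (a := 60552) (len := 348) h174 f_174
  have h176 : ∀ u < 61248, (fun u => chkFin tab u) u = true := ext_range (a := 60900) (len := 348) h175 f_175
  have h177 : ∀ u < 61596, (fun u => chkFin tab u) u = true := ext_range (a := 61248) (len := 348) h176 f_176
  have h178 : ∀ u < 61944, (fun u => chkFin tab u) u = true := ext_range (a := 61596) (len := 348) h177 f_177
  have h179 : ∀ u < 62292, (fun u => chkFin tab u) u = true := ext_range (a := 61944) (len := 348) h178 f_178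
  have h180 : ∀ u < 62640, (fun u => chkFin tab u) u = true := ext_range (a := 62292) (len := 348) h179 f_179
  have h181 : ∀ u < 62988, (fun u => chkFin tab u) u = true := ext_range (a := 62640) (len := 348) h180 f_180
  have h182 : ∀ u < 63336, (fun u => chkFin tab u) u = true := ext_range (a := 62988) (len := 348) h181 f_181
  have h183 : ∀ u < 63684, (fun u => chkFin tab u) u = true := ext_range (a := 63336) (len := 348) h182 f_182
  have h184 : ∀ u < 64032, (fun u => chkFin tab u) u = true := ext_range (a := 63684) (len := 348) h183 f_183
  have h185 : ∀ u < 64380, (fun u => chkFin tab u) u = true := ext_range (a := 64032) (len := 348) h184 f_184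
  have h186 : ∀ u < 64728, (fun u => chkFin tab u) u = true := ext_range (a := 64380) (len := 348) h185 f_185
  have h187 : ∀ u < 65076, (fun u => chkFin tab u) u = true := ext_range (a := 64728) (len := 348) h186 f_186
  have h188 : ∀ u < 65424, (fun u => chkFin tab u) u = true := ext_range (a := 65076) (len := 348) h187 f_187
  have h189 : ∀ u < 65772, (fun u => chkFin tab u) u = true := ext_range (a := 65424) (len := 348) h188 f_188
  have h190 : ∀ u < 66120, (fun u => chkFin tab u) u = true := ext_range (a := 65772) (len := 348) h189 f_189
  have h191 : ∀ u < 66468, (fun u => chkFin tab u) u = true := ext_range (a := 66120) (len := 348) h190 f_190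
  have h192 : ∀ u < 66816, (fun u => chkFin tab u) u = true := ext_range (a := 66468) (len := 348) h191 f_191
  have h193 : ∀ u < 67164, (fun u => chkFin tab u) u = true := ext_range (a := 66816) (len := 348) h192 f_192
  have h194 : ∀ u < 67512, (fun u => chkFin tab u) u = true := ext_range (a := 67164) (len := 348) h193 f_193
  have h195 : ∀ u < 67860, (fun u => chkFin tab u) u = true := ext_range (a := 67512) (len := 348) h194 f_194
  have h196 : ∀ u < 68208, (fun u => chkFin tab u) u = true := ext_range (a := 67860) (len := 348) h195 f_195
  have h197 : ∀ u < 68556, (fun u => chkFin tab u) u = true := ext_range (a := 68208) (len := 348) h196 f_196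
  have h198 : ∀ u < 68904, (fun u => chkFin tab u) u = true := ext_range (a := 68556) (len := 348) h197 f_197
  have h199 : ∀ u < 69252, (fun u => chkFin tab u) u = true := ext_range (a := 68904) (len := 348) h198 f_198
  have h200 : ∀ u < 69600, (fun u => chkFin tab u) u = true := ext_range (a := 69252) (len := 348) h199 f_199
  have h201 : ∀ u < 69948, (fun u => chkFin tab u) u = true := ext_range (a := 69600) (len := 348) h200 f_200
  have h202 : ∀ u < 70296, (fun u => chkFin tab u) u = true := ext_range (a := 69948) (len := 348) h201 f_201
  have h203 : ∀ u < 70644, (fun u => chkFin tab u) u = true := ext_range (a := 70296) (len := 348) h202 f_202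
  have h204 : ∀ u < 70992, (fun u => chkFin tab u) u = true := ext_range (a := 70644) (len := 348) h203 f_203
  have h205 : ∀ u < 71340, (fun u => chkFin tab u) u = true := ext_range (a := 70992) (len := 348) h204 f_204
  have h206 : ∀ u < 71688, (fun u => chkFin tab u) u = true := ext_range (a := 71340) (len := 348) h205 f_205
  have h207 : ∀ u < 72036, (fun u => chkFin tab u) u = true := ext_range (a := 71688) (len := 348) h206 f_206
  have h208 : ∀ u < 72384, (fun u => chkFin tab u) u = true := ext_range (a := 72036) (len := 348) h207 f_207
  have h209 : ∀ u < 72732, (fun u => chkFin tab u) u = true := ext_range (a := 72384) (len := 348) h208 f_208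
  have h210 : ∀ u < 73080, (fun u => chkFin tab u) u = true := ext_range (a := 72732) (len := 348) h209 f_209
  have h211 : ∀ u < 73428, (fun u => chkFin tab u) u = true := ext_range (a := 73080) (len := 348) h210 f_210
  have h212 : ∀ u < 73776, (fun u => chkFin tab u) u = true := ext_range (a := 73428) (len := 348) h211 f_211
  have h213 : ∀ u < 74124, (fun u => chkFin tab u) u = true := ext_range (a := 73776) (len := 348) h212 f_212
  have h214 : ∀ u < 74472, (fun u => chkFin tab u) u = true := ext_range (a := 74124) (len := 348) h213 f_213
  have h215 : ∀ u < 74820, (fun u => chkFin tab u) u = true := ext_range (a := 74472) (len := 348) h214 f_214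
  have h216 : ∀ u < 75168, (fun u => chkFin tab u) u = true := ext_range (a := 74820) (len := 348) h215 f_215
  have h217 : ∀ u < 75516, (fun u => chkFin tab u) u = true := ext_range (a := 75168) (len := 348) h216 f_216
  have h218 : ∀ u < 75864, (fun u => chkFin tab u) u = true := ext_range (a := 75516) (len := 348) h217 f_217
  have h219 : ∀ u < 76212, (fun u => chkFin tab u) u = true := ext_range (a := 75864) (len := 348) h218 f_218
  have h220 : ∀ u < 76560, (fun u => chkFin tab u) u = true := ext_range (a := 76212) (len := 348) h219 f_219
  have h221 : ∀ u < 76908, (fun u => chkFin tab u) u = true := ext_range (a := 76560) (len := 348) h220 f_220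
  have h222 : ∀ u < 77256, (fun u => chkFin tab u) u = true := ext_range (a := 76908) (len := 348) h221 f_221
  have h223 : ∀ u < 77604, (fun u => chkFin tab u) u = true := ext_range (a := 77256) (len := 348) h222 f_222
  have h224 : ∀ u < 77952, (fun u => chkFin tab u) u = true := ext_range (a := 77604) (len := 348) h223 f_223
  have h225 : ∀ u < 78300, (fun u => chkFin tab u) u = true := ext_range (a := 77952) (len := 348) h224 f_224
  have h226 : ∀ u < 78648, (fun u => chkFin tab u) u = true := ext_range (a := 78300) (len := 348) h225 f_225
  have h227 : ∀ u < 78996, (fun u => chkFin tab u) u = true := ext_range (a := 78648) (len := 348) h226 f_226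
  have h228 : ∀ u < 79344, (fun u => chkFin tab u) u = true := ext_range (a := 78996) (len := 348) h227 f_227
  have h229 : ∀ u < 79692, (fun u => chkFin tab u) u = true := ext_range (a := 79344) (len := 348) h228 f_228
  have h230 : ∀ u < 80040, (fun u => chkFin tab u) u = true := ext_range (a := 79692) (len := 348) h229 f_229
  have h231 : ∀ u < 80388, (fun u => chkFin tab u) u = true := ext_range (a := 80040) (len := 348) h230 f_230
  have h232 : ∀ u < 80736, (fun u => chkFin tab u) u = true := ext_range (a := 80388) (len := 348) h231 f_231
  have h233 : ∀ u < 81084, (fun u => chkFin tab u) u = true := ext_range (a := 80736) (len := 348) h232 f_232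
  have h234 : ∀ u < 81432, (fun u => chkFin tab u) u = true := ext_range (a := 81084) (len := 348) h233 f_233
  have h235 : ∀ u < 81780, (fun u => chkFin tab u) u = true := ext_range (a := 81432) (len := 348) h234 f_234
  have h236 : ∀ u < 82128, (fun u => chkFin tab u) u = true := ext_range (a := 81780) (len := 348) h235 f_235
  have h237 : ∀ u < 82476, (fun u => chkFin tab u) u = true := ext_range (a := 82128) (len := 348) h236 f_236
  have h238 : ∀ u < 82824, (fun u => chkFin tab u) u = true := ext_range (a := 82476) (len := 348) h237 f_237
  have h239 : ∀ u < 83172, (fun u => chkFin tab u) u = true := ext_range (a := 82824) (len := 348) h238 f_238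
  have h240 : ∀ u < 83520, (fun u => chkFin tab u) u = true := ext_range (a := 83172) (len := 348) h239 f_239
  have h241 : ∀ u < 83868, (fun u => chkFin tab u) u = true := ext_range (a := 83520) (len := 348) h240 f_240
  have h242 : ∀ u < 84216, (fun u => chkFin tab u) u = true := ext_range (a := 83868) (len := 348) h241 f_241
  have h243 : ∀ u < 84564, (fun u => chkFin tab u) u = true := ext_range (a := 84216) (len := 348) h242 f_242
  have h244 : ∀ u < 84912, (fun u => chkFin tab u) u = true := ext_range (a := 84564) (len := 348) h243 f_243
  have h245 : ∀ u < 85260, (fun u => chkFin tab u) u = true := ext_range (a := 84912) (len := 348) h244 f_244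
  have h246 : ∀ u < 85608, (fun u => chkFin tab u) u = true := ext_range (a := 85260) (len := 348) h245 f_245
  have h247 : ∀ u < 85956, (fun u => chkFin tab u) u = true := ext_range (a := 85608) (len := 348) h246 f_246
  have h248 : ∀ u < 86304, (fun u => chkFin tab u) u = true := ext_range (a := 85956) (len := 348) h247 f_247
  have h249 : ∀ u < 86652, (fun u => chkFin tab u) u = true := ext_range (a := 86304) (len := 348) h248 f_248
  have h250 : ∀ u < 87000, (fun u => chkFin tab u) u = true := ext_range (a := 86652) (len := 348) h249 f_249
  have h251 : ∀ u < 87348, (fun u => chkFin tab u) u = true := ext_range (a := 87000) (len := 348) h250 f_250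
  have h252 : ∀ u < 87696, (fun u => chkFin tab u) u = true := ext_range (a := 87348) (len := 348) h251 f_251
  have h253 : ∀ u < 88044, (fun u => chkFin tab u) u = true := ext_range (a := 87696) (len := 348) h252 f_252
  have h254 : ∀ u < 88392, (fun u => chkFin tab u) u = true := ext_range (a := 88044) (len := 348) h253 f_253
  have h255 : ∀ u < 88740, (fun u => chkFin tab u) u = true := ext_range (a := 88392) (len := 348) h254 f_254
  have h256 : ∀ u < 89088, (fun u => chkFin tab u) u = true := ext_range (a := 88740) (len := 348) h255 f_255
  have h257 : ∀ u < 89436, (fun u => chkFin tab u) u = true := ext_range (a := 89088) (len := 348) h256 f_256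
  have h258 : ∀ u < 89784, (fun u => chkFin tab u) u = true := ext_range (a := 89436) (len := 348) h257 f_257
  have h259 : ∀ u < 90132, (fun u => chkFin tab u) u = true := ext_range (a := 89784) (len := 348) h258 f_258
  have h260 : ∀ u < 90480, (fun u => chkFin tab u) u = true := ext_range (a := 90132) (len := 348) h259 f_259
  have h261 : ∀ u < 90828, (fun u => chkFin tab u) u = true := ext_range (a := 90480) (len := 348) h260 f_260
  have h262 : ∀ u < 91176, (fun u => chkFin tab u) u = true := ext_range (a := 90828) (len := 348) h261 f_261
  have h263 : ∀ u < 91524, (fun u => chkFin tab u) u = true := ext_range (a := 91176) (len := 348) h262 f_262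
  have h264 : ∀ u < 91872, (fun u => chkFin tab u) u = true := ext_range (a := 91524) (len := 348) h263 f_263
  have h265 : ∀ u < 92220, (fun u => chkFin tab u) u = true := ext_range (a := 91872) (len := 348) h264 f_264
  have h266 : ∀ u < 92568, (fun u => chkFin tab u) u = true := ext_range (a := 92220) (len := 348) h265 f_265
  have h267 : ∀ u < 92916, (fun u => chkFin tab u) u = true := ext_range (a := 92568) (len := 348) h266 f_266
  have h268 : ∀ u < 93264, (fun u => chkFin tab u) u = true := ext_range (a := 92916) (len := 348) h267 f_267
  have h269 : ∀ u < 93612, (fun u => chkFin tab u) u = true := ext_range (a := 93264) (len := 348) h268 f_268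
  have h270 : ∀ u < 93960, (fun u => chkFin tab u) u = true := ext_range (a := 93612) (len := 348) h269 f_269
  have h271 : ∀ u < 94308, (fun u => chkFin tab u) u = true := ext_range (a := 93960) (len := 348) h270 f_270
  have h272 : ∀ u < 94656, (fun u => chkFin tab u) u = true := ext_range (a := 94308) (len := 348) h271 f_271
  have h273 : ∀ u < 95004, (fun u => chkFin tab u) u = true := ext_range (a := 94656) (len := 348) h272 f_272
  have h274 : ∀ u < 95352, (fun u => chkFin tab u) u = true := ext_range (a := 95004) (len := 348) h273 f_273
  have h275 : ∀ u < 95700, (fun u => chkFin tab u) u = true := ext_range (a := 95352) (len := 348) h274 f_274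
  have h276 : ∀ u < 96048, (fun u => chkFin tab u) u = true := ext_range (a := 95700) (len := 348) h275 f_275
  have h277 : ∀ u < 96396, (fun u => chkFin tab u) u = true := ext_range (a := 96048) (len := 348) h276 f_276
  have h278 : ∀ u < 96744, (fun u => chkFin tab u) u = true := ext_range (a := 96396) (len := 348) h277 f_277
  have h279 : ∀ u < 97092, (fun u => chkFin tab u) u = true := ext_range (a := 96744) (len := 348) h278 f_278
  have h280 : ∀ u < 97440, (fun u => chkFin tab u) u = true := ext_range (a := 97092) (len := 348) h279 f_279
  have h281 : ∀ u < 97788, (fun u => chkFin tab u) u = true := ext_range (a := 97440) (len := 348) h280 f_280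
  have h282 : ∀ u < 98136, (fun u => chkFin tab u) u = true := ext_range (a := 97788) (len := 348) h281 f_281
  have h283 : ∀ u < 98484, (fun u => chkFin tab u) u = true := ext_range (a := 98136) (len := 348) h282 f_282
  have h284 : ∀ u < 98832, (fun u => chkFin tab u) u = true := ext_range (a := 98484) (len := 348) h283 f_283
  have h285 : ∀ u < 99180, (fun u => chkFin tab u) u = true := ext_range (a := 98832) (len := 348) h284 f_284
  have h286 : ∀ u < 99528, (fun u => chkFin tab u) u = true := ext_range (a := 99180) (len := 348) h285 f_285
  have h287 : ∀ u < 99876, (fun u => chkFin tab u) u = true := ext_range (a := 99528) (len := 348) h286 f_286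
  have h288 : ∀ u < 100224, (fun u => chkFin tab u) u = true := ext_range (a := 99876) (len := 348) h287 f_287
  have h289 : ∀ u < 100572, (fun u => chkFin tab u) u = true := ext_range (a := 100224) (len := 348) h288 f_288
  have h290 : ∀ u < 100920, (fun u => chkFin tab u) u = true := ext_range (a := 100572) (len := 348) h289 f_289
  have h291 : ∀ u < 101268, (fun u => chkFin tab u) u = true := ext_range (a := 100920) (len := 348) h290 f_290
  have h292 : ∀ u < 101616, (fun u => chkFin tab u) u = true := ext_range (a := 101268) (len := 348) h291 f_291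
  have h293 : ∀ u < 101964, (fun u => chkFin tab u) u = true := ext_range (a := 101616) (len := 348) h292 f_292
  have h294 : ∀ u < 102312, (fun u => chkFin tab u) u = true := ext_range (a := 101964) (len := 348) h293 f_293
  have h295 : ∀ u < 102660, (fun u => chkFin tab u) u = true := ext_range (a := 102312) (len := 348) h294 f_294
  have h296 : ∀ u < 103008, (fun u => chkFin tab u) u = true := ext_range (a := 102660) (len := 348) h295 f_295
  have h297 : ∀ u < 103356, (fun u => chkFin tab u) u = true := ext_range (a := 103008) (len := 348) h296 f_296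
  have h298 : ∀ u < 103704, (fun u => chkFin tab u) u = true := ext_range (a := 103356) (len := 348) h297 f_297
  have h299 : ∀ u < 104052, (fun u => chkFin tab u) u = true := ext_range (a := 103704) (len := 348) h298 f_298
  have h300 : ∀ u < 104400, (fun u => chkFin tab u) u = true := ext_range (a := 104052) (len := 348) h299 f_299
  have h301 : ∀ u < 104748, (fun u => chkFin tab u) u = true := ext_range (a := 104400) (len := 348) h300 f_300
  have h302 : ∀ u < 105096, (fun u => chkFin tab u) u = true := ext_range (a := 104748) (len := 348) h301 f_301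
  have h303 : ∀ u < 105444, (fun u => chkFin tab u) u = true := ext_range (a := 105096) (len := 348) h302 f_302
  have h304 : ∀ u < 105792, (fun u => chkFin tab u) u = true := ext_range (a := 105444) (len := 348) h303 f_303
  have h305 : ∀ u < 106140, (fun u => chkFin tab u) u = true := ext_range (a := 105792) (len := 348) h304 f_304
  have h306 : ∀ u < 106488, (fun u => chkFin tab u) u = true := ext_range (a := 106140) (len := 348) h305 f_305
  have h307 : ∀ u < 106836, (fun u => chkFin tab u) u = true := ext_range (a := 106488) (len := 348) h306 f_306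
  have h308 : ∀ u < 107184, (fun u => chkFin tab u) u = true := ext_range (a := 106836) (len := 348) h307 f_307
  have h309 : ∀ u < 107532, (fun u => chkFin tab u) u = true := ext_range (a := 107184) (len := 348) h308 f_308
  have h310 : ∀ u < 107880, (fun u => chkFin tab u) u = true := ext_range (a := 107532) (len := 348) h309 f_309
  have h311 : ∀ u < 108228, (fun u => chkFin tab u) u = true := ext_range (a := 107880) (len := 348) h310 f_310
  have h312 : ∀ u < 108576, (fun u => chkFin tab u) u = true := ext_range (a := 108228) (len := 348) h311 f_311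
  have h313 : ∀ u < 108924, (fun u => chkFin tab u) u = true := ext_range (a := 108576) (len := 348) h312 f_312
  have h314 : ∀ u < 109272, (fun u => chkFin tab u) u = true := ext_range (a := 108924) (len := 348) h313 f_313
  have h315 : ∀ u < 109620, (fun u => chkFin tab u) u = true := ext_range (a := 109272) (len := 348) h314 f_314
  have h316 : ∀ u < 109968, (fun u => chkFin tab u) u = true := ext_range (a := 109620) (len := 348) h315 f_315
  have h317 : ∀ u < 110316, (fun u => chkFin tab u) u = true := ext_range (a := 109968) (len := 348) h316 f_316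
  have h318 : ∀ u < 110664, (fun u => chkFin tab u) u = true := ext_range (a := 110316) (len := 348) h317 f_317
  have h319 : ∀ u < 111012, (fun u => chkFin tab u) u = true := ext_range (a := 110664) (len := 348) h318 f_318
  have h320 : ∀ u < 111360, (fun u => chkFin tab u) u = true := ext_range (a := 111012) (len := 348) h319 f_319
  have h321 : ∀ u < 111708, (fun u => chkFin tab u) u = true := ext_range (a := 111360) (len := 348) h320 f_320
  have h322 : ∀ u < 112056, (fun u => chkFin tab u) u = true := ext_range (a := 111708) (len := 348) h321 f_321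
  have h323 : ∀ u < 112404, (fun u => chkFin tab u) u = true := ext_range (a := 112056) (len := 348) h322 f_322
  have h324 : ∀ u < 112752, (fun u => chkFin tab u) u = true := ext_range (a := 112404) (len := 348) h323 f_323
  have h325 : ∀ u < 113100, (fun u => chkFin tab u) u = true := ext_range (a := 112752) (len := 348) h324 f_324
  have h326 : ∀ u < 113448, (fun u => chkFin tab u) u = true := ext_range (a := 113100) (len := 348) h325 f_325
  have h327 : ∀ u < 113796, (fun u => chkFin tab u) u = true := ext_range (a := 113448) (len := 348) h326 f_326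
  have h328 : ∀ u < 114144, (fun u => chkFin tab u) u = true := ext_range (a := 113796) (len := 348) h327 f_327
  have h329 : ∀ u < 114492, (fun u => chkFin tab u) u = true := ext_range (a := 114144) (len := 348) h328 f_328
  have h330 : ∀ u < 114840, (fun u => chkFin tab u) u = true := ext_range (a := 114492) (len := 348) h329 f_329
  have h331 : ∀ u < 115188, (fun u => chkFin tab u) u = true := ext_range (a := 114840) (len := 348) h330 f_330
  have h332 : ∀ u < 115536, (fun u => chkFin tab u) u = true := ext_range (a := 115188) (len := 348) h331 f_331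
  have h333 : ∀ u < 115884, (fun u => chkFin tab u) u = true := ext_range (a := 115536) (len := 348) h332 f_332
  have h334 : ∀ u < 116232, (fun u => chkFin tab u) u = true := ext_range (a := 115884) (len := 348) h333 f_333
  have h335 : ∀ u < 116580, (fun u => chkFin tab u) u = true := ext_range (a := 116232) (len := 348) h334 f_334
  have h336 : ∀ u < 116928, (fun u => chkFin tab u) u = true := ext_range (a := 116580) (len := 348) h335 f_335
  have h337 : ∀ u < 117276, (fun u => chkFin tab u) u = true := ext_range (a := 116928) (len := 348) h336 f_336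
  have h338 : ∀ u < 117624, (fun u => chkFin tab u) u = true := ext_range (a := 117276) (len := 348) h337 f_337
  have h339 : ∀ u < 117972, (fun u => chkFin tab u) u = true := ext_range (a := 117624) (len := 348) h338 f_338
  have h340 : ∀ u < 118320, (fun u => chkFin tab u) u = true := ext_range (a := 117972) (len := 348) h339 f_339
  have h341 : ∀ u < 118668, (fun u => chkFin tab u) u = true := ext_range (a := 118320) (len := 348) h340 f_340
  have h342 : ∀ u < 119016, (fun u => chkFin tab u) u = true := ext_range (a := 118668) (len := 348) h341 f_341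
  have h343 : ∀ u < 119364, (fun u => chkFin tab u) u = true := ext_range (a := 119016) (len := 348) h342 f_342
  have h344 : ∀ u < 119712, (fun u => chkFin tab u) u = true := ext_range (a := 119364) (len := 348) h343 f_343
  have h345 : ∀ u < 120060, (fun u => chkFin tab u) u = true := ext_range (a := 119712) (len := 348) h344 f_344
  have h346 : ∀ u < 120408, (fun u => chkFin tab u) u = true := ext_range (a := 120060) (len := 348) h345 f_345
  have h347 : ∀ u < 120756, (fun u => chkFin tab u) u = true := ext_range (a := 120408) (len := 348) h346 f_346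
  have h348 : ∀ u < 121104, (fun u => chkFin tab u) u = true := ext_range (a := 120756) (len := 348) h347 f_347
  have h349 : ∀ u < 121452, (fun u => chkFin tab u) u = true := ext_range (a := 121104) (len := 348) h348 f_348
  have h350 : ∀ u < 121800, (fun u => chkFin tab u) u = true := ext_range (a := 121452) (len := 348) h349 f_349
  have h351 : ∀ u < 122148, (fun u => chkFin tab u) u = true := ext_range (a := 121800) (len := 348) h350 f_350
  have h352 : ∀ u < 122496, (fun u => chkFin tab u) u = true := ext_range (a := 122148) (len := 348) h351 f_351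
  have h353 : ∀ u < 122844, (fun u => chkFin tab u) u = true := ext_range (a := 122496) (len := 348) h352 f_352
  have h354 : ∀ u < 123192, (fun u => chkFin tab u) u = true := ext_range (a := 122844) (len := 348) h353 f_353
  have h355 : ∀ u < 123540, (fun u => chkFin tab u) u = true := ext_range (a := 123192) (len := 348) h354 f_354
  have h356 : ∀ u < 123888, (fun u => chkFin tab u) u = true := ext_range (a := 123540) (len := 348) h355 f_355
  have h357 : ∀ u < 124236, (fun u => chkFin tab u) u = true := ext_range (a := 123888) (len := 348) h356 f_356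
  have h358 : ∀ u < 124584, (fun u => chkFin tab u) u = true := ext_range (a := 124236) (len := 348) h357 f_357
  have h359 : ∀ u < 124932, (fun u => chkFin tab u) u = true := ext_range (a := 124584) (len := 348) h358 f_358
  have h360 : ∀ u < 125280, (fun u => chkFin tab u) u = true := ext_range (a := 124932) (len := 348) h359 f_359
  have h361 : ∀ u < 125628, (fun u => chkFin tab u) u = true := ext_range (a := 125280) (len := 348) h360 f_360
  have h362 : ∀ u < 125976, (fun u => chkFin tab u) u = true := ext_range (a := 125628) (len := 348) h361 f_361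
  have h363 : ∀ u < 126324, (fun u => chkFin tab u) u = true := ext_range (a := 125976) (len := 348) h362 f_362
  have h364 : ∀ u < 126672, (fun u => chkFin tab u) u = true := ext_range (a := 126324) (len := 348) h363 f_363
  have h365 : ∀ u < 127020, (fun u => chkFin tab u) u = true := ext_range (a := 126672) (len := 348) h364 f_364
  have h366 : ∀ u < 127368, (fun u => chkFin tab u) u = true := ext_range (a := 127020) (len := 348) h365 f_365
  have h367 : ∀ u < 127716, (fun u => chkFin tab u) u = true := ext_range (a := 127368) (len := 348) h366 f_366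
  have h368 : ∀ u < 128064, (fun u => chkFin tab u) u = true := ext_range (a := 127716) (len := 348) h367 f_367
  have h369 : ∀ u < 128412, (fun u => chkFin tab u) u = true := ext_range (a := 128064) (len := 348) h368 f_368
  have h370 : ∀ u < 128760, (fun u => chkFin tab u) u = true := ext_range (a := 128412) (len := 348) h369 f_369
  have h371 : ∀ u < 129108, (fun u => chkFin tab u) u = true := ext_range (a := 128760) (len := 348) h370 f_370
  have h372 : ∀ u < 129456, (fun u => chkFin tab u) u = true := ext_range (a := 129108) (len := 348) h371 f_371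
  have h373 : ∀ u < 129804, (fun u => chkFin tab u) u = true := ext_range (a := 129456) (len := 348) h372 f_372
  have h374 : ∀ u < 130152, (fun u => chkFin tab u) u = true := ext_range (a := 129804) (len := 348) h373 f_373
  have h375 : ∀ u < 130500, (fun u => chkFin tab u) u = true := ext_range (a := 130152) (len := 348) h374 f_374
  have h376 : ∀ u < 130848, (fun u => chkFin tab u) u = true := ext_range (a := 130500) (len := 348) h375 f_375
  have h377 : ∀ u < 131196, (fun u => chkFin tab u) u = true := ext_range (a := 130848) (len := 348) h376 f_376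
  have h378 : ∀ u < 131544, (fun u => chkFin tab u) u = true := ext_range (a := 131196) (len := 348) h377 f_377
  have h379 : ∀ u < 131892, (fun u => chkFin tab u) u = true := ext_range (a := 131544) (len := 348) h378 f_378
  have h380 : ∀ u < 132240, (fun u => chkFin tab u) u = true := ext_range (a := 131892) (len := 348) h379 f_379
  have h381 : ∀ u < 132588, (fun u => chkFin tab u) u = true := ext_range (a := 132240) (len := 348) h380 f_380
  have h382 : ∀ u < 132936, (fun u => chkFin tab u) u = true := ext_range (a := 132588) (len := 348) h381 f_381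
  have h383 : ∀ u < 133284, (fun u => chkFin tab u) u = true := ext_range (a := 132936) (len := 348) h382 f_382
  have h384 : ∀ u < 133632, (fun u => chkFin tab u) u = true := ext_range (a := 133284) (len := 348) h383 f_383
  have h385 : ∀ u < 133980, (fun u => chkFin tab u) u = true := ext_range (a := 133632) (len := 348) h384 f_384
  have h386 : ∀ u < 134328, (fun u => chkFin tab u) u = true := ext_range (a := 133980) (len := 348) h385 f_385
  have h387 : ∀ u < 134676, (fun u => chkFin tab u) u = true := ext_range (a := 134328) (len := 348) h386 f_386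
  have h388 : ∀ u < 135024, (fun u => chkFin tab u) u = true := ext_range (a := 134676) (len := 348) h387 f_387
  have h389 : ∀ u < 135372, (fun u => chkFin tab u) u = true := ext_range (a := 135024) (len := 348) h388 f_388
  have h390 : ∀ u < 135720, (fun u => chkFin tab u) u = true := ext_range (a := 135372) (len := 348) h389 f_389
  have h391 : ∀ u < 136068, (fun u => chkFin tab u) u = true := ext_range (a := 135720) (len := 348) h390 f_390
  have h392 : ∀ u < 136416, (fun u => chkFin tab u) u = true := ext_range (a := 136068) (len := 348) h391 f_391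
  have h393 : ∀ u < 136764, (fun u => chkFin tab u) u = true := ext_range (a := 136416) (len := 348) h392 f_392
  have h394 : ∀ u < 137112, (fun u => chkFin tab u) u = true := ext_range (a := 136764) (len := 348) h393 f_393
  have h395 : ∀ u < 137460, (fun u => chkFin tab u) u = true := ext_range (a := 137112) (len := 348) h394 f_394
  have h396 : ∀ u < 137808, (fun u => chkFin tab u) u = true := ext_range (a := 137460) (len := 348) h395 f_395
  have h397 : ∀ u < 138156, (fun u => chkFin tab u) u = true := ext_range (a := 137808) (len := 348) h396 f_396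
  have h398 : ∀ u < 138504, (fun u => chkFin tab u) u = true := ext_range (a := 138156) (len := 348) h397 f_397
  have h399 : ∀ u < 138852, (fun u => chkFin tab u) u = true := ext_range (a := 138504) (len := 348) h398 f_398
  have h400 : ∀ u < 139200, (fun u => chkFin tab u) u = true := ext_range (a := 138852) (len := 348) h399 f_399
  have h401 : ∀ u < 139548, (fun u => chkFin tab u) u = true := ext_range (a := 139200) (len := 348) h400 f_400
  have h402 : ∀ u < 139896, (fun u => chkFin tab u) u = true := ext_range (a := 139548) (len := 348) h401 f_401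
  have h403 : ∀ u < 140244, (fun u => chkFin tab u) u = true := ext_range (a := 139896) (len := 348) h402 f_402
  have h404 : ∀ u < 140592, (fun u => chkFin tab u) u = true := ext_range (a := 140244) (len := 348) h403 f_403
  have h405 : ∀ u < 140940, (fun u => chkFin tab u) u = true := ext_range (a := 140592) (len := 348) h404 f_404
  have h406 : ∀ u < 141288, (fun u => chkFin tab u) u = true := ext_range (a := 140940) (len := 348) h405 f_405
  have h407 : ∀ u < 141636, (fun u => chkFin tab u) u = true := ext_range (a := 141288) (len := 348) h406 f_406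
  have h408 : ∀ u < 141984, (fun u => chkFin tab u) u = true := ext_range (a := 141636) (len := 348) h407 f_407
  have h409 : ∀ u < 142332, (fun u => chkFin tab u) u = true := ext_range (a := 141984) (len := 348) h408 f_408
  have h410 : ∀ u < 142680, (fun u => chkFin tab u) u = true := ext_range (a := 142332) (len := 348) h409 f_409
  have h411 : ∀ u < 143028, (fun u => chkFin tab u) u = true := ext_range (a := 142680) (len := 348) h410 f_410
  have h412 : ∀ u < 143376, (fun u => chkFin tab u) u = true := ext_range (a := 143028) (len := 348) h411 f_411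
  have h413 : ∀ u < 143724, (fun u => chkFin tab u) u = true := ext_range (a := 143376) (len := 348) h412 f_412
  have h414 : ∀ u < 144072, (fun u => chkFin tab u) u = true := ext_range (a := 143724) (len := 348) h413 f_413
  have h415 : ∀ u < 144420, (fun u => chkFin tab u) u = true := ext_range (a := 144072) (len := 348) h414 f_414
  have h416 : ∀ u < 144768, (fun u => chkFin tab u) u = true := ext_range (a := 144420) (len := 348) h415 f_415
  have h417 : ∀ u < 145116, (fun u => chkFin tab u) u = true := ext_range (a := 144768) (len := 348) h416 f_416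
  have h418 : ∀ u < 145464, (fun u => chkFin tab u) u = true := ext_range (a := 145116) (len := 348) h417 f_417
  have h419 : ∀ u < 145812, (fun u => chkFin tab u) u = true := ext_range (a := 145464) (len := 348) h418 f_418
  have h420 : ∀ u < 146160, (fun u => chkFin tab u) u = true := ext_range (a := 145812) (len := 348) h419 f_419
  have h421 : ∀ u < 146508, (fun u => chkFin tab u) u = true := ext_range (a := 146160) (len := 348) h420 f_420
  have h422 : ∀ u < 146856, (fun u => chkFin tab u) u = true := ext_range (a := 146508) (len := 348) h421 f_421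
  have h423 : ∀ u < 147204, (fun u => chkFin tab u) u = true := ext_range (a := 146856) (len := 348) h422 f_422
  have h424 : ∀ u < 147552, (fun u => chkFin tab u) u = true := ext_range (a := 147204) (len := 348) h423 f_423
  have h425 : ∀ u < 147900, (fun u => chkFin tab u) u = true := ext_range (a := 147552) (len := 348) h424 f_424
  have h426 : ∀ u < 148248, (fun u => chkFin tab u) u = true := ext_range (a := 147900) (len := 348) h425 f_425
  have h427 : ∀ u < 148596, (fun u => chkFin tab u) u = true := ext_range (a := 148248) (len := 348) h426 f_426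
  have h428 : ∀ u < 148944, (fun u => chkFin tab u) u = true := ext_range (a := 148596) (len := 348) h427 f_427
  have h429 : ∀ u < 149292, (fun u => chkFin tab u) u = true := ext_range (a := 148944) (len := 348) h428 f_428
  have h430 : ∀ u < 149640, (fun u => chkFin tab u) u = true := ext_range (a := 149292) (len := 348) h429 f_429
  have h431 : ∀ u < 149988, (fun u => chkFin tab u) u = true := ext_range (a := 149640) (len := 348) h430 f_430
  have h432 : ∀ u < 150336, (fun u => chkFin tab u) u = true := ext_range (a := 149988) (len := 348) h431 f_431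
  have h433 : ∀ u < 150684, (fun u => chkFin tab u) u = true := ext_range (a := 150336) (len := 348) h432 f_432
  have h434 : ∀ u < 151032, (fun u => chkFin tab u) u = true := ext_range (a := 150684) (len := 348) h433 f_433
  have h435 : ∀ u < 151380, (fun u => chkFin tab u) u = true := ext_range (a := 151032) (len := 348) h434 f_434
  have h436 : ∀ u < 151728, (fun u => chkFin tab u) u = true := ext_range (a := 151380) (len := 348) h435 f_435
  have h437 : ∀ u < 152076, (fun u => chkFin tab u) u = true := ext_range (a := 151728) (len := 348) h436 f_436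
  have h438 : ∀ u < 152424, (fun u => chkFin tab u) u = true := ext_range (a := 152076) (len := 348) h437 f_437
  have h439 : ∀ u < 152772, (fun u => chkFin tab u) u = true := ext_range (a := 152424) (len := 348) h438 f_438
  have h440 : ∀ u < 153120, (fun u => chkFin tab u) u = true := ext_range (a := 152772) (len := 348) h439 f_439
  have h441 : ∀ u < 153468, (fun u => chkFin tab u) u = true := ext_range (a := 153120) (len := 348) h440 f_440
  have h442 : ∀ u < 153816, (fun u => chkFin tab u) u = true := ext_range (a := 153468) (len := 348) h441 f_441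
  have h443 : ∀ u < 154164, (fun u => chkFin tab u) u = true := ext_range (a := 153816) (len := 348) h442 f_442
  have h444 : ∀ u < 154512, (fun u => chkFin tab u) u = true := ext_range (a := 154164) (len := 348) h443 f_443
  have h445 : ∀ u < 154860, (fun u => chkFin tab u) u = true := ext_range (a := 154512) (len := 348) h444 f_444
  have h446 : ∀ u < 155208, (fun u => chkFin tab u) u = true := ext_range (a := 154860) (len := 348) h445 f_445
  have h447 : ∀ u < 155556, (fun u => chkFin tab u) u = true := ext_range (a := 155208) (len := 348) h446 f_446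
  have h448 : ∀ u < 155904, (fun u => chkFin tab u) u = true := ext_range (a := 155556) (len := 348) h447 f_447
  have h449 : ∀ u < 156252, (fun u => chkFin tab u) u = true := ext_range (a := 155904) (len := 348) h448 f_448
  have h450 : ∀ u < 156600, (fun u => chkFin tab u) u = true := ext_range (a := 156252) (len := 348) h449 f_449
  have h451 : ∀ u < 156948, (fun u => chkFin tab u) u = true := ext_range (a := 156600) (len := 348) h450 f_450
  have h452 : ∀ u < 157296, (fun u => chkFin tab u) u = true := ext_range (a := 156948) (len := 348) h451 f_451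
  have h453 : ∀ u < 157644, (fun u => chkFin tab u) u = true := ext_range (a := 157296) (len := 348) h452 f_452
  have h454 : ∀ u < 157992, (fun u => chkFin tab u) u = true := ext_range (a := 157644) (len := 348) h453 f_453
  have h455 : ∀ u < 158340, (fun u => chkFin tab u) u = true := ext_range (a := 157992) (len := 348) h454 f_454
  have h456 : ∀ u < 158688, (fun u => chkFin tab u) u = true := ext_range (a := 158340) (len := 348) h455 f_455
  have h457 : ∀ u < 159036, (fun u => chkFin tab u) u = true := ext_range (a := 158688) (len := 348) h456 f_456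
  have h458 : ∀ u < 159384, (fun u => chkFin tab u) u = true := ext_range (a := 159036) (len := 348) h457 f_457
  have h459 : ∀ u < 159732, (fun u => chkFin tab u) u = true := ext_range (a := 159384) (len := 348) h458 f_458
  have h460 : ∀ u < 160080, (fun u => chkFin tab u) u = true := ext_range (a := 159732) (len := 348) h459 f_459
  have h461 : ∀ u < 160428, (fun u => chkFin tab u) u = true := ext_range (a := 160080) (len := 348) h460 f_460
  have h462 : ∀ u < 160776, (fun u => chkFin tab u) u = true := ext_range (a := 160428) (len := 348) h461 f_461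
  have h463 : ∀ u < 161124, (fun u => chkFin tab u) u = true := ext_range (a := 160776) (len := 348) h462 f_462
  have h464 : ∀ u < 161472, (fun u => chkFin tab u) u = true := ext_range (a := 161124) (len := 348) h463 f_463
  have h465 : ∀ u < 161820, (fun u => chkFin tab u) u = true := ext_range (a := 161472) (len := 348) h464 f_464
  have h466 : ∀ u < 162168, (fun u => chkFin tab u) u = true := ext_range (a := 161820) (len := 348) h465 f_465
  have h467 : ∀ u < 162516, (fun u => chkFin tab u) u = true := ext_range (a := 162168) (len := 348) h466 f_466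
  have h468 : ∀ u < 162864, (fun u => chkFin tab u) u = true := ext_range (a := 162516) (len := 348) h467 f_467
  have h469 : ∀ u < 163212, (fun u => chkFin tab u) u = true := ext_range (a := 162864) (len := 348) h468 f_468
  have h470 : ∀ u < 163560, (fun u => chkFin tab u) u = true := ext_range (a := 163212) (len := 348) h469 f_469
  have h471 : ∀ u < 163908, (fun u => chkFin tab u) u = true := ext_range (a := 163560) (len := 348) h470 f_470
  have h472 : ∀ u < 164256, (fun u => chkFin tab u) u = true := ext_range (a := 163908) (len := 348) h471 f_471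
  have h473 : ∀ u < 164604, (fun u => chkFin tab u) u = true := ext_range (a := 164256) (len := 348) h472 f_472
  have h474 : ∀ u < 164952, (fun u => chkFin tab u) u = true := ext_range (a := 164604) (len := 348) h473 f_473
  have h475 : ∀ u < 165300, (fun u => chkFin tab u) u = true := ext_range (a := 164952) (len := 348) h474 f_474
  have h476 : ∀ u < 165648, (fun u => chkFin tab u) u = true := ext_range (a := 165300) (len := 348) h475 f_475
  have h477 : ∀ u < 165996, (fun u => chkFin tab u) u = true := ext_range (a := 165648) (len := 348) h476 f_476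
  have h478 : ∀ u < 166344, (fun u => chkFin tab u) u = true := ext_range (a := 165996) (len := 348) h477 f_477
  have h479 : ∀ u < 166692, (fun u => chkFin tab u) u = true := ext_range (a := 166344) (len := 348) h478 f_478
  have h480 : ∀ u < 167040, (fun u => chkFin tab u) u = true := ext_range (a := 166692) (len := 348) h479 f_479
  have h481 : ∀ u < 167388, (fun u => chkFin tab u) u = true := ext_range (a := 167040) (len := 348) h480 f_480
  have h482 : ∀ u < 167736, (fun u => chkFin tab u) u = true := ext_range (a := 167388) (len := 348) h481 f_481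
  have h483 : ∀ u < 168084, (fun u => chkFin tab u) u = true := ext_range (a := 167736) (len := 348) h482 f_482
  have h484 : ∀ u < 168432, (fun u => chkFin tab u) u = true := ext_range (a := 168084) (len := 348) h483 f_483
  have h485 : ∀ u < 168780, (fun u => chkFin tab u) u = true := ext_range (a := 168432) (len := 348) h484 f_484
  have h486 : ∀ u < 169128, (fun u => chkFin tab u) u = true := ext_range (a := 168780) (len := 348) h485 f_485
  have h487 : ∀ u < 169476, (fun u => chkFin tab u) u = true := ext_range (a := 169128) (len := 348) h486 f_486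
  have h488 : ∀ u < 169824, (fun u => chkFin tab u) u = true := ext_range (a := 169476) (len := 348) h487 f_487
  have h489 : ∀ u < 170172, (fun u => chkFin tab u) u = true := ext_range (a := 169824) (len := 348) h488 f_488
  have h490 : ∀ u < 170520, (fun u => chkFin tab u) u = true := ext_range (a := 170172) (len := 348) h489 f_489
  have h491 : ∀ u < 170868, (fun u => chkFin tab u) u = true := ext_range (a := 170520) (len := 348) h490 f_490
  have h492 : ∀ u < 171216, (fun u => chkFin tab u) u = true := ext_range (a := 170868) (len := 348) h491 f_491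
  have h493 : ∀ u < 171564, (fun u => chkFin tab u) u = true := ext_range (a := 171216) (len := 348) h492 f_492
  have h494 : ∀ u < 171912, (fun u => chkFin tab u) u = true := ext_range (a := 171564) (len := 348) h493 f_493
  have h495 : ∀ u < 172260, (fun u => chkFin tab u) u = true := ext_range (a := 171912) (len := 348) h494 f_494
  have h496 : ∀ u < 172608, (fun u => chkFin tab u) u = true := ext_range (a := 172260) (len := 348) h495 f_495
  have h497 : ∀ u < 172956, (fun u => chkFin tab u) u = true := ext_range (a := 172608) (len := 348) h496 f_496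
  have h498 : ∀ u < 173304, (fun u => chkFin tab u) u = true := ext_range (a := 172956) (len := 348) h497 f_497
  have h499 : ∀ u < 173652, (fun u => chkFin tab u) u = true := ext_range (a := 173304) (len := 348) h498 f_498
  have h500 : ∀ u < 174000, (fun u => chkFin tab u) u = true := ext_range (a := 173652) (len := 348) h499 f_499
  have h501 : ∀ u < 174348, (fun u => chkFin tab u) u = true := ext_range (a := 174000) (len := 348) h500 f_500
  have h502 : ∀ u < 174696, (fun u => chkFin tab u) u = true := ext_range (a := 174348) (len := 348) h501 f_501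
  have h503 : ∀ u < 175044, (fun u => chkFin tab u) u = true := ext_range (a := 174696) (len := 348) h502 f_502
  have h504 : ∀ u < 175392, (fun u => chkFin tab u) u = true := ext_range (a := 175044) (len := 348) h503 f_503
  have h505 : ∀ u < 175740, (fun u => chkFin tab u) u = true := ext_range (a := 175392) (len := 348) h504 f_504
  have h506 : ∀ u < 176088, (fun u => chkFin tab u) u = true := ext_range (a := 175740) (len := 348) h505 f_505
  have h507 : ∀ u < 176436, (fun u => chkFin tab u) u = true := ext_range (a := 176088) (len := 348) h506 f_506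
  have h508 : ∀ u < 176784, (fun u => chkFin tab u) u = true := ext_range (a := 176436) (len := 348) h507 f_507
  have h509 : ∀ u < 177132, (fun u => chkFin tab u) u = true := ext_range (a := 176784) (len := 348) h508 f_508
  have h510 : ∀ u < 177480, (fun u => chkFin tab u) u = true := ext_range (a := 177132) (len := 348) h509 f_509
  have h511 : ∀ u < 177828, (fun u => chkFin tab u) u = true := ext_range (a := 177480) (len := 348) h510 f_510
  have h512 : ∀ u < 178176, (fun u => chkFin tab u) u = true := ext_range (a := 177828) (len := 348) h511 f_511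
  have h513 : ∀ u < 178524, (fun u => chkFin tab u) u = true := ext_range (a := 178176) (len := 348) h512 f_512
  have h514 : ∀ u < 178872, (fun u => chkFin tab u) u = true := ext_range (a := 178524) (len := 348) h513 f_513
  have h515 : ∀ u < 179220, (fun u => chkFin tab u) u = true := ext_range (a := 178872) (len := 348) h514 f_514
  have h516 : ∀ u < 179568, (fun u => chkFin tab u) u = true := ext_range (a := 179220) (len := 348) h515 f_515
  have h517 : ∀ u < 179916, (fun u => chkFin tab u) u = true := ext_range (a := 179568) (len := 348) h516 f_516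
  have h518 : ∀ u < 180264, (fun u => chkFin tab u) u = true := ext_range (a := 179916) (len := 348) h517 f_517
  have h519 : ∀ u < 180612, (fun u => chkFin tab u) u = true := ext_range (a := 180264) (len := 348) h518 f_518
  have h520 : ∀ u < 180960, (fun u => chkFin tab u) u = true := ext_range (a := 180612) (len := 348) h519 f_519
  have h521 : ∀ u < 181308, (fun u => chkFin tab u) u = true := ext_range (a := 180960) (len := 348) h520 f_520
  have h522 : ∀ u < 181656, (fun u => chkFin tab u) u = true := ext_range (a := 181308) (len := 348) h521 f_521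
  have h523 : ∀ u < 182004, (fun u => chkFin tab u) u = true := ext_range (a := 181656) (len := 348) h522 f_522
  have h524 : ∀ u < 182352, (fun u => chkFin tab u) u = true := ext_range (a := 182004) (len := 348) h523 f_523
  have h525 : ∀ u < 182700, (fun u => chkFin tab u) u = true := ext_range (a := 182352) (len := 348) h524 f_524
  have h526 : ∀ u < 183048, (fun u => chkFin tab u) u = true := ext_range (a := 182700) (len := 348) h525 f_525
  have h527 : ∀ u < 183396, (fun u => chkFin tab u) u = true := ext_range (a := 183048) (len := 348) h526 f_526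
  have h528 : ∀ u < 183744, (fun u => chkFin tab u) u = true := ext_range (a := 183396) (len := 348) h527 f_527
  have h529 : ∀ u < 184092, (fun u => chkFin tab u) u = true := ext_range (a := 183744) (len := 348) h528 f_528
  have h530 : ∀ u < 184440, (fun u => chkFin tab u) u = true := ext_range (a := 184092) (len := 348) h529 f_529
  have h531 : ∀ u < 184788, (fun u => chkFin tab u) u = true := ext_range (a := 184440) (len := 348) h530 f_530
  have h532 : ∀ u < 185136, (fun u => chkFin tab u) u = true := ext_range (a := 184788) (len := 348) h531 f_531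
  have h533 : ∀ u < 185484, (fun u => chkFin tab u) u = true := ext_range (a := 185136) (len := 348) h532 f_532
  have h534 : ∀ u < 185832, (fun u => chkFin tab u) u = true := ext_range (a := 185484) (len := 348) h533 f_533
  have h535 : ∀ u < 186180, (fun u => chkFin tab u) u = true := ext_range (a := 185832) (len := 348) h534 f_534
  have h536 : ∀ u < 186528, (fun u => chkFin tab u) u = true := ext_range (a := 186180) (len := 348) h535 f_535
  have h537 : ∀ u < 186876, (fun u => chkFin tab u) u = true := ext_range (a := 186528) (len := 348) h536 f_536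
  have h538 : ∀ u < 187224, (fun u => chkFin tab u) u = true := ext_range (a := 186876) (len := 348) h537 f_537
  have h539 : ∀ u < 187572, (fun u => chkFin tab u) u = true := ext_range (a := 187224) (len := 348) h538 f_538
  have h540 : ∀ u < 187920, (fun u => chkFin tab u) u = true := ext_range (a := 187572) (len := 348) h539 f_539
  have h541 : ∀ u < 188268, (fun u => chkFin tab u) u = true := ext_range (a := 187920) (len := 348) h540 f_540
  have h542 : ∀ u < 188616, (fun u => chkFin tab u) u = true := ext_range (a := 188268) (len := 348) h541 f_541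
  have h543 : ∀ u < 188964, (fun u => chkFin tab u) u = true := ext_range (a := 188616) (len := 348) h542 f_542
  have h544 : ∀ u < 189312, (fun u => chkFin tab u) u = true := ext_range (a := 188964) (len := 348) h543 f_543
  have h545 : ∀ u < 189660, (fun u => chkFin tab u) u = true := ext_range (a := 189312) (len := 348) h544 f_544
  have h546 : ∀ u < 190008, (fun u => chkFin tab u) u = true := ext_range (a := 189660) (len := 348) h545 f_545
  have h547 : ∀ u < 190356, (fun u => chkFin tab u) u = true := ext_range (a := 190008) (len := 348) h546 f_546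
  have h548 : ∀ u < 190704, (fun u => chkFin tab u) u = true := ext_range (a := 190356) (len := 348) h547 f_547
  have h549 : ∀ u < 191052, (fun u => chkFin tab u) u = true := ext_range (a := 190704) (len := 348) h548 f_548
  have h550 : ∀ u < 191400, (fun u => chkFin tab u) u = true := ext_range (a := 191052) (len := 348) h549 f_549
  have h551 : ∀ u < 191748, (fun u => chkFin tab u) u = true := ext_range (a := 191400) (len := 348) h550 f_550
  have h552 : ∀ u < 192096, (fun u => chkFin tab u) u = true := ext_range (a := 191748) (len := 348) h551 f_551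
  have h553 : ∀ u < 192444, (fun u => chkFin tab u) u = true := ext_range (a := 192096) (len := 348) h552 f_552
  have h554 : ∀ u < 192792, (fun u => chkFin tab u) u = true := ext_range (a := 192444) (len := 348) h553 f_553
  have h555 : ∀ u < 193140, (fun u => chkFin tab u) u = true := ext_range (a := 192792) (len := 348) h554 f_554
  have h556 : ∀ u < 193488, (fun u => chkFin tab u) u = true := ext_range (a := 193140) (len := 348) h555 f_555
  have h557 : ∀ u < 193836, (fun u => chkFin tab u) u = true := ext_range (a := 193488) (len := 348) h556 f_556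
  have h558 : ∀ u < 194184, (fun u => chkFin tab u) u = true := ext_range (a := 193836) (len := 348) h557 f_557
  have h559 : ∀ u < 194532, (fun u => chkFin tab u) u = true := ext_range (a := 194184) (len := 348) h558 f_558
  have h560 : ∀ u < 194880, (fun u => chkFin tab u) u = true := ext_range (a := 194532) (len := 348) h559 f_559
  have h561 : ∀ u < 195228, (fun u => chkFin tab u) u = true := ext_range (a := 194880) (len := 348) h560 f_560
  have h562 : ∀ u < 195576, (fun u => chkFin tab u) u = true := ext_range (a := 195228) (len := 348) h561 f_561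
  have h563 : ∀ u < 195924, (fun u => chkFin tab u) u = true := ext_range (a := 195576) (len := 348) h562 f_562
  have h564 : ∀ u < 196272, (fun u => chkFin tab u) u = true := ext_range (a := 195924) (len := 348) h563 f_563
  have h565 : ∀ u < 196620, (fun u => chkFin tab u) u = true := ext_range (a := 196272) (len := 348) h564 f_564
  have h566 : ∀ u < 196968, (fun u => chkFin tab u) u = true := ext_range (a := 196620) (len := 348) h565 f_565
  have h567 : ∀ u < 197316, (fun u => chkFin tab u) u = true := ext_range (a := 196968) (len := 348) h566 f_566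
  have h568 : ∀ u < 197664, (fun u => chkFin tab u) u = true := ext_range (a := 197316) (len := 348) h567 f_567
  have h569 : ∀ u < 198012, (fun u => chkFin tab u) u = true := ext_range (a := 197664) (len := 348) h568 f_568
  have h570 : ∀ u < 198360, (fun u => chkFin tab u) u = true := ext_range (a := 198012) (len := 348) h569 f_569
  have h571 : ∀ u < 198708, (fun u => chkFin tab u) u = true := ext_range (a := 198360) (len := 348) h570 f_570
  have h572 : ∀ u < 199056, (fun u => chkFin tab u) u = true := ext_range (a := 198708) (len := 348) h571 f_571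
  have h573 : ∀ u < 199404, (fun u => chkFin tab u) u = true := ext_range (a := 199056) (len := 348) h572 f_572
  have h574 : ∀ u < 199752, (fun u => chkFin tab u) u = true := ext_range (a := 199404) (len := 348) h573 f_573
  have h575 : ∀ u < 200100, (fun u => chkFin tab u) u = true := ext_range (a := 199752) (len := 348) h574 f_574
  have h576 : ∀ u < 200448, (fun u => chkFin tab u) u = true := ext_range (a := 200100) (len := 348) h575 f_575
  have h577 : ∀ u < 200796, (fun u => chkFin tab u) u = true := ext_range (a := 200448) (len := 348) h576 f_576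
  have h578 : ∀ u < 201144, (fun u => chkFin tab u) u = true := ext_range (a := 200796) (len := 348) h577 f_577
  have h579 : ∀ u < 201492, (fun u => chkFin tab u) u = true := ext_range (a := 201144) (len := 348) h578 f_578
  have h580 : ∀ u < 201840, (fun u => chkFin tab u) u = true := ext_range (a := 201492) (len := 348) h579 f_579
  have h581 : ∀ u < 202188, (fun u => chkFin tab u) u = true := ext_range (a := 201840) (len := 348) h580 f_580
  have h582 : ∀ u < 202536, (fun u => chkFin tab u) u = true := ext_range (a := 202188) (len := 348) h581 f_581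
  have h583 : ∀ u < 202884, (fun u => chkFin tab u) u = true := ext_range (a := 202536) (len := 348) h582 f_582
  have h584 : ∀ u < 203232, (fun u => chkFin tab u) u = true := ext_range (a := 202884) (len := 348) h583 f_583
  have h585 : ∀ u < 203580, (fun u => chkFin tab u) u = true := ext_range (a := 203232) (len := 348) h584 f_584
  have h586 : ∀ u < 203928, (fun u => chkFin tab u) u = true := ext_range (a := 203580) (len := 348) h585 f_585
  have h587 : ∀ u < 204276, (fun u => chkFin tab u) u = true := ext_range (a := 203928) (len := 348) h586 f_586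
  have h588 : ∀ u < 204624, (fun u => chkFin tab u) u = true := ext_range (a := 204276) (len := 348) h587 f_587
  have h589 : ∀ u < 204972, (fun u => chkFin tab u) u = true := ext_range (a := 204624) (len := 348) h588 f_588
  have h590 : ∀ u < 205320, (fun u => chkFin tab u) u = true := ext_range (a := 204972) (len := 348) h589 f_589
  have h591 : ∀ u < 205668, (fun u => chkFin tab u) u = true := ext_range (a := 205320) (len := 348) h590 f_590
  have h592 : ∀ u < 206016, (fun u => chkFin tab u) u = true := ext_range (a := 205668) (len := 348) h591 f_591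
  have h593 : ∀ u < 206364, (fun u => chkFin tab u) u = true := ext_range (a := 206016) (len := 348) h592 f_592
  have h594 : ∀ u < 206712, (fun u => chkFin tab u) u = true := ext_range (a := 206364) (len := 348) h593 f_593
  have h595 : ∀ u < 207060, (fun u => chkFin tab u) u = true := ext_range (a := 206712) (len := 348) h594 f_594
  have h596 : ∀ u < 207408, (fun u => chkFin tab u) u = true := ext_range (a := 207060) (len := 348) h595 f_595
  have h597 : ∀ u < 207756, (fun u => chkFin tab u) u = true := ext_range (a := 207408) (len := 348) h596 f_596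
  have h598 : ∀ u < 208104, (fun u => chkFin tab u) u = true := ext_range (a := 207756) (len := 348) h597 f_597
  have h599 : ∀ u < 208452, (fun u => chkFin tab u) u = true := ext_range (a := 208104) (len := 348) h598 f_598
  have h600 : ∀ u < 208800, (fun u => chkFin tab u) u = true := ext_range (a := 208452) (len := 348) h599 f_599
  have h601 : ∀ u < 209148, (fun u => chkFin tab u) u = true := ext_range (a := 208800) (len := 348) h600 f_600
  have h602 : ∀ u < 209496, (fun u => chkFin tab u) u = true := ext_range (a := 209148) (len := 348) h601 f_601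
  have h603 : ∀ u < 209844, (fun u => chkFin tab u) u = true := ext_range (a := 209496) (len := 348) h602 f_602
  have h604 : ∀ u < 210192, (fun u => chkFin tab u) u = true := ext_range (a := 209844) (len := 348) h603 f_603
  have h605 : ∀ u < 210540, (fun u => chkFin tab u) u = true := ext_range (a := 210192) (len := 348) h604 f_604
  have h606 : ∀ u < 210888, (fun u => chkFin tab u) u = true := ext_range (a := 210540) (len := 348) h605 f_605
  have h607 : ∀ u < 211236, (fun u => chkFin tab u) u = true := ext_range (a := 210888) (len := 348) h606 f_606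
  have h608 : ∀ u < 211584, (fun u => chkFin tab u) u = true := ext_range (a := 211236) (len := 348) h607 f_607
  have h609 : ∀ u < 211932, (fun u => chkFin tab u) u = true := ext_range (a := 211584) (len := 348) h608 f_608
  have h610 : ∀ u < 212280, (fun u => chkFin tab u) u = true := ext_range (a := 211932) (len := 348) h609 f_609
  have h611 : ∀ u < 212628, (fun u => chkFin tab u) u = true := ext_range (a := 212280) (len := 348) h610 f_610
  have h612 : ∀ u < 212976, (fun u => chkFin tab u) u = true := ext_range (a := 212628) (len := 348) h611 f_611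
  have h613 : ∀ u < 213324, (fun u => chkFin tab u) u = true := ext_range (a := 212976) (len := 348) h612 f_612
  have h614 : ∀ u < 213672, (fun u => chkFin tab u) u = true := ext_range (a := 213324) (len := 348) h613 f_613
  have h615 : ∀ u < 214020, (fun u => chkFin tab u) u = true := ext_range (a := 213672) (len := 348) h614 f_614
  have h616 : ∀ u < 214368, (fun u => chkFin tab u) u = true := ext_range (a := 214020) (len := 348) h615 f_615
  have h617 : ∀ u < 214716, (fun u => chkFin tab u) u = true := ext_range (a := 214368) (len := 348) h616 f_616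
  have h618 : ∀ u < 215064, (fun u => chkFin tab u) u = true := ext_range (a := 214716) (len := 348) h617 f_617
  have h619 : ∀ u < 215412, (fun u => chkFin tab u) u = true := ext_range (a := 215064) (len := 348) h618 f_618
  have h620 : ∀ u < 215760, (fun u => chkFin tab u) u = true := ext_range (a := 215412) (len := 348) h619 f_619
  have h621 : ∀ u < 216108, (fun u => chkFin tab u) u = true := ext_range (a := 215760) (len := 348) h620 f_620
  have h622 : ∀ u < 216456, (fun u => chkFin tab u) u = true := ext_range (a := 216108) (len := 348) h621 f_621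
  have h623 : ∀ u < 216804, (fun u => chkFin tab u) u = true := ext_range (a := 216456) (len := 348) h622 f_622
  have h624 : ∀ u < 217152, (fun u => chkFin tab u) u = true := ext_range (a := 216804) (len := 348) h623 f_623
  have h625 : ∀ u < 217500, (fun u => chkFin tab u) u = true := ext_range (a := 217152) (len := 348) h624 f_624
  have h626 : ∀ u < 217848, (fun u => chkFin tab u) u = true := ext_range (a := 217500) (len := 348) h625 f_625
  have h627 : ∀ u < 218196, (fun u => chkFin tab u) u = true := ext_range (a := 217848) (len := 348) h626 f_626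
  have h628 : ∀ u < 218544, (fun u => chkFin tab u) u = true := ext_range (a := 218196) (len := 348) h627 f_627
  have h629 : ∀ u < 218892, (fun u => chkFin tab u) u = true := ext_range (a := 218544) (len := 348) h628 f_628
  have h630 : ∀ u < 219240, (fun u => chkFin tab u) u = true := ext_range (a := 218892) (len := 348) h629 f_629
  have h631 : ∀ u < 219588, (fun u => chkFin tab u) u = true := ext_range (a := 219240) (len := 348) h630 f_630
  have h632 : ∀ u < 219936, (fun u => chkFin tab u) u = true := ext_range (a := 219588) (len := 348) h631 f_631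
  have h633 : ∀ u < 220284, (fun u => chkFin tab u) u = true := ext_range (a := 219936) (len := 348) h632 f_632
  have h634 : ∀ u < 220632, (fun u => chkFin tab u) u = true := ext_range (a := 220284) (len := 348) h633 f_633
  have h635 : ∀ u < 220980, (fun u => chkFin tab u) u = true := ext_range (a := 220632) (len := 348) h634 f_634
  have h636 : ∀ u < 221328, (fun u => chkFin tab u) u = true := ext_range (a := 220980) (len := 348) h635 f_635
  have h637 : ∀ u < 221676, (fun u => chkFin tab u) u = true := ext_range (a := 221328) (len := 348) h636 f_636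
  have h638 : ∀ u < 222024, (fun u => chkFin tab u) u = true := ext_range (a := 221676) (len := 348) h637 f_637
  have h639 : ∀ u < 222372, (fun u => chkFin tab u) u = true := ext_range (a := 222024) (len := 348) h638 f_638
  have h640 : ∀ u < 222720, (fun u => chkFin tab u) u = true := ext_range (a := 222372) (len := 348) h639 f_639
  have h641 : ∀ u < 223068, (fun u => chkFin tab u) u = true := ext_range (a := 222720) (len := 348) h640 f_640
  have h642 : ∀ u < 223416, (fun u => chkFin tab u) u = true := ext_range (a := 223068) (len := 348) h641 f_641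
  have h643 : ∀ u < 223764, (fun u => chkFin tab u) u = true := ext_range (a := 223416) (len := 348) h642 f_642
  have h644 : ∀ u < 224112, (fun u => chkFin tab u) u = true := ext_range (a := 223764) (len := 348) h643 f_643
  have h645 : ∀ u < 224460, (fun u => chkFin tab u) u = true := ext_range (a := 224112) (len := 348) h644 f_644
  have h646 : ∀ u < 224808, (fun u => chkFin tab u) u = true := ext_range (a := 224460) (len := 348) h645 f_645
  have h647 : ∀ u < 225156, (fun u => chkFin tab u) u = true := ext_range (a := 224808) (len := 348) h646 f_646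
  have h648 : ∀ u < 225504, (fun u => chkFin tab u) u = true := ext_range (a := 225156) (len := 348) h647 f_647
  have h649 : ∀ u < 225852, (fun u => chkFin tab u) u = true := ext_range (a := 225504) (len := 348) h648 f_648
  have h650 : ∀ u < 226200, (fun u => chkFin tab u) u = true := ext_range (a := 225852) (len := 348) h649 f_649
  have h651 : ∀ u < 226548, (fun u => chkFin tab u) u = true := ext_range (a := 226200) (len := 348) h650 f_650
  have h652 : ∀ u < 226896, (fun u => chkFin tab u) u = true := ext_range (a := 226548) (len := 348) h651 f_651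
  have h653 : ∀ u < 227244, (fun u => chkFin tab u) u = true := ext_range (a := 226896) (len := 348) h652 f_652
  have h654 : ∀ u < 227592, (fun u => chkFin tab u) u = true := ext_range (a := 227244) (len := 348) h653 f_653
  have h655 : ∀ u < 227940, (fun u => chkFin tab u) u = true := ext_range (a := 227592) (len := 348) h654 f_654
  have h656 : ∀ u < 228288, (fun u => chkFin tab u) u = true := ext_range (a := 227940) (len := 348) h655 f_655
  have h657 : ∀ u < 228636, (fun u => chkFin tab u) u = true := ext_range (a := 228288) (len := 348) h656 f_656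
  have h658 : ∀ u < 228984, (fun u => chkFin tab u) u = true := ext_range (a := 228636) (len := 348) h657 f_657
  have h659 : ∀ u < 229332, (fun u => chkFin tab u) u = true := ext_range (a := 228984) (len := 348) h658 f_658
  have h660 : ∀ u < 229680, (fun u => chkFin tab u) u = true := ext_range (a := 229332) (len := 348) h659 f_659
  have h661 : ∀ u < 230028, (fun u => chkFin tab u) u = true := ext_range (a := 229680) (len := 348) h660 f_660
  have h662 : ∀ u < 230376, (fun u => chkFin tab u) u = true := ext_range (a := 230028) (len := 348) h661 f_661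
  have h663 : ∀ u < 230724, (fun u => chkFin tab u) u = true := ext_range (a := 230376) (len := 348) h662 f_662
  have h664 : ∀ u < 231072, (fun u => chkFin tab u) u = true := ext_range (a := 230724) (len := 348) h663 f_663
  have h665 : ∀ u < 231420, (fun u => chkFin tab u) u = true := ext_range (a := 231072) (len := 348) h664 f_664
  have h666 : ∀ u < 231768, (fun u => chkFin tab u) u = true := ext_range (a := 231420) (len := 348) h665 f_665
  have h667 : ∀ u < 232116, (fun u => chkFin tab u) u = true := ext_range (a := 231768) (len := 348) h666 f_666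
  have h668 : ∀ u < 232464, (fun u => chkFin tab u) u = true := ext_range (a := 232116) (len := 348) h667 f_667
  have h669 : ∀ u < 232812, (fun u => chkFin tab u) u = true := ext_range (a := 232464) (len := 348) h668 f_668
  have h670 : ∀ u < 233160, (fun u => chkFin tab u) u = true := ext_range (a := 232812) (len := 348) h669 f_669
  have h671 : ∀ u < 233508, (fun u => chkFin tab u) u = true := ext_range (a := 233160) (len := 348) h670 f_670
  have h672 : ∀ u < 233856, (fun u => chkFin tab u) u = true := ext_range (a := 233508) (len := 348) h671 f_671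
  have h673 : ∀ u < 234204, (fun u => chkFin tab u) u = true := ext_range (a := 233856) (len := 348) h672 f_672
  have h674 : ∀ u < 234552, (fun u => chkFin tab u) u = true := ext_range (a := 234204) (len := 348) h673 f_673
  have h675 : ∀ u < 234900, (fun u => chkFin tab u) u = true := ext_range (a := 234552) (len := 348) h674 f_674
  have h676 : ∀ u < 235248, (fun u => chkFin tab u) u = true := ext_range (a := 234900) (len := 348) h675 f_675
  have h677 : ∀ u < 235596, (fun u => chkFin tab u) u = true := ext_range (a := 235248) (len := 348) h676 f_676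
  have h678 : ∀ u < 235944, (fun u => chkFin tab u) u = true := ext_range (a := 235596) (len := 348) h677 f_677
  have h679 : ∀ u < 236292, (fun u => chkFin tab u) u = true := ext_range (a := 235944) (len := 348) h678 f_678
  have h680 : ∀ u < 236640, (fun u => chkFin tab u) u = true := ext_range (a := 236292) (len := 348) h679 f_679
  have h681 : ∀ u < 236988, (fun u => chkFin tab u) u = true := ext_range (a := 236640) (len := 348) h680 f_680
  have h682 : ∀ u < 237336, (fun u => chkFin tab u) u = true := ext_range (a := 236988) (len := 348) h681 f_681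
  have h683 : ∀ u < 237684, (fun u => chkFin tab u) u = true := ext_range (a := 237336) (len := 348) h682 f_682
  have h684 : ∀ u < 238032, (fun u => chkFin tab u) u = true := ext_range (a := 237684) (len := 348) h683 f_683
  have h685 : ∀ u < 238380, (fun u => chkFin tab u) u = true := ext_range (a := 238032) (len := 348) h684 f_684
  have h686 : ∀ u < 238728, (fun u => chkFin tab u) u = true := ext_range (a := 238380) (len := 348) h685 f_685
  have h687 : ∀ u < 239076, (fun u => chkFin tab u) u = true := ext_range (a := 238728) (len := 348) h686 f_686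
  have h688 : ∀ u < 239424, (fun u => chkFin tab u) u = true := ext_range (a := 239076) (len := 348) h687 f_687
  have h689 : ∀ u < 239772, (fun u => chkFin tab u) u = true := ext_range (a := 239424) (len := 348) h688 f_688
  have h690 : ∀ u < 240120, (fun u => chkFin tab u) u = true := ext_range (a := 239772) (len := 348) h689 f_689
  have h691 : ∀ u < 240468, (fun u => chkFin tab u) u = true := ext_range (a := 240120) (len := 348) h690 f_690
  have h692 : ∀ u < 240816, (fun u => chkFin tab u) u = true := ext_range (a := 240468) (len := 348) h691 f_691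
  have h693 : ∀ u < 241164, (fun u => chkFin tab u) u = true := ext_range (a := 240816) (len := 348) h692 f_692
  have h694 : ∀ u < 241512, (fun u => chkFin tab u) u = true := ext_range (a := 241164) (len := 348) h693 f_693
  have h695 : ∀ u < 241860, (fun u => chkFin tab u) u = true := ext_range (a := 241512) (len := 348) h694 f_694
  have h696 : ∀ u < 242208, (fun u => chkFin tab u) u = true := ext_range (a := 241860) (len := 348) h695 f_695
  have h697 : ∀ u < 242556, (fun u => chkFin tab u) u = true := ext_range (a := 242208) (len := 348) h696 f_696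
  have h698 : ∀ u < 242904, (fun u => chkFin tab u) u = true := ext_range (a := 242556) (len := 348) h697 f_697
  have h699 : ∀ u < 243252, (fun u => chkFin tab u) u = true := ext_range (a := 242904) (len := 348) h698 f_698
  have h700 : ∀ u < 243600, (fun u => chkFin tab u) u = true := ext_range (a := 243252) (len := 348) h699 f_699
  have h701 : ∀ u < 243948, (fun u => chkFin tab u) u = true := ext_range (a := 243600) (len := 348) h700 f_700
  have h702 : ∀ u < 244296, (fun u => chkFin tab u) u = true := ext_range (a := 243948) (len := 348) h701 f_701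
  have h703 : ∀ u < 244644, (fun u => chkFin tab u) u = true := ext_range (a := 244296) (len := 348) h702 f_702
  have h704 : ∀ u < 244992, (fun u => chkFin tab u) u = true := ext_range (a := 244644) (len := 348) h703 f_703
  have h705 : ∀ u < 245340, (fun u => chkFin tab u) u = true := ext_range (a := 244992) (len := 348) h704 f_704
  have h706 : ∀ u < 245688, (fun u => chkFin tab u) u = true := ext_range (a := 245340) (len := 348) h705 f_705
  have h707 : ∀ u < 246036, (fun u => chkFin tab u) u = true := ext_range (a := 245688) (len := 348) h706 f_706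
  have h708 : ∀ u < 246384, (fun u => chkFin tab u) u = true := ext_range (a := 246036) (len := 348) h707 f_707
  have h709 : ∀ u < 246732, (fun u => chkFin tab u) u = true := ext_range (a := 246384) (len := 348) h708 f_708
  have h710 : ∀ u < 247080, (fun u => chkFin tab u) u = true := ext_range (a := 246732) (len := 348) h709 f_709
  have h711 : ∀ u < 247428, (fun u => chkFin tab u) u = true := ext_range (a := 247080) (len := 348) h710 f_710
  have h712 : ∀ u < 247776, (fun u => chkFin tab u) u = true := ext_range (a := 247428) (len := 348) h711 f_711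
  have h713 : ∀ u < 248124, (fun u => chkFin tab u) u = true := ext_range (a := 247776) (len := 348) h712 f_712
  have h714 : ∀ u < 248472, (fun u => chkFin tab u) u = true := ext_range (a := 248124) (len := 348) h713 f_713
  have h715 : ∀ u < 248820, (fun u => chkFin tab u) u = true := ext_range (a := 248472) (len := 348) h714 f_714
  have h716 : ∀ u < 249168, (fun u => chkFin tab u) u = true := ext_range (a := 248820) (len := 348) h715 f_715
  have h717 : ∀ u < 249516, (fun u => chkFin tab u) u = true := ext_range (a := 249168) (len := 348) h716 f_716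
  have h718 : ∀ u < 249864, (fun u => chkFin tab u) u = true := ext_range (a := 249516) (len := 348) h717 f_717
  have h719 : ∀ u < 250212, (fun u => chkFin tab u) u = true := ext_range (a := 249864) (len := 348) h718 f_718
  have h720 : ∀ u < 250560, (fun u => chkFin tab u) u = true := ext_range (a := 250212) (len := 348) h719 f_719
  have h721 : ∀ u < 250908, (fun u => chkFin tab u) u = true := ext_range (a := 250560) (len := 348) h720 f_720
  have h722 : ∀ u < 251256, (fun u => chkFin tab u) u = true := ext_range (a := 250908) (len := 348) h721 f_721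
  have h723 : ∀ u < 251604, (fun u => chkFin tab u) u = true := ext_range (a := 251256) (len := 348) h722 f_722
  have h724 : ∀ u < 251952, (fun u => chkFin tab u) u = true := ext_range (a := 251604) (len := 348) h723 f_723
  have h725 : ∀ u < 252300, (fun u => chkFin tab u) u = true := ext_range (a := 251952) (len := 348) h724 f_724
  have h726 : ∀ u < 252648, (fun u => chkFin tab u) u = true := ext_range (a := 252300) (len := 348) h725 f_725
  have h727 : ∀ u < 252996, (fun u => chkFin tab u) u = true := ext_range (a := 252648) (len := 348) h726 f_726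
  have h728 : ∀ u < 253344, (fun u => chkFin tab u) u = true := ext_range (a := 252996) (len := 348) h727 f_727
  have h729 : ∀ u < 253692, (fun u => chkFin tab u) u = true := ext_range (a := 253344) (len := 348) h728 f_728
  have h730 : ∀ u < 254040, (fun u => chkFin tab u) u = true := ext_range (a := 253692) (len := 348) h729 f_729
  have h731 : ∀ u < 254388, (fun u => chkFin tab u) u = true := ext_range (a := 254040) (len := 348) h730 f_730
  have h732 : ∀ u < 254736, (fun u => chkFin tab u) u = true := ext_range (a := 254388) (len := 348) h731 f_731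
  have h733 : ∀ u < 255084, (fun u => chkFin tab u) u = true := ext_range (a := 254736) (len := 348) h732 f_732
  have h734 : ∀ u < 255432, (fun u => chkFin tab u) u = true := ext_range (a := 255084) (len := 348) h733 f_733
  have h735 : ∀ u < 255780, (fun u => chkFin tab u) u = true := ext_range (a := 255432) (len := 348) h734 f_734
  have h736 : ∀ u < 256128, (fun u => chkFin tab u) u = true := ext_range (a := 255780) (len := 348) h735 f_735
  have h737 : ∀ u < 256476, (fun u => chkFin tab u) u = true := ext_range (a := 256128) (len := 348) h736 f_736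
  have h738 : ∀ u < 256824, (fun u => chkFin tab u) u = true := ext_range (a := 256476) (len := 348) h737 f_737
  have h739 : ∀ u < 257172, (fun u => chkFin tab u) u = true := ext_range (a := 256824) (len := 348) h738 f_738
  have h740 : ∀ u < 257520, (fun u => chkFin tab u) u = true := ext_range (a := 257172) (len := 348) h739 f_739
  have h741 : ∀ u < 257868, (fun u => chkFin tab u) u = true := ext_range (a := 257520) (len := 348) h740 f_740
  have h742 : ∀ u < 258216, (fun u => chkFin tab u) u = true := ext_range (a := 257868) (len := 348) h741 f_741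
  have h743 : ∀ u < 258564, (fun u => chkFin tab u) u = true := ext_range (a := 258216) (len := 348) h742 f_742
  have h744 : ∀ u < 258912, (fun u => chkFin tab u) u = true := ext_range (a := 258564) (len := 348) h743 f_743
  have h745 : ∀ u < 259260, (fun u => chkFin tab u) u = true := ext_range (a := 258912) (len := 348) h744 f_744
  have h746 : ∀ u < 259608, (fun u => chkFin tab u) u = true := ext_range (a := 259260) (len := 348) h745 f_745
  have h747 : ∀ u < 259956, (fun u => chkFin tab u) u = true := ext_range (a := 259608) (len := 348) h746 f_746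
  have h748 : ∀ u < 260304, (fun u => chkFin tab u) u = true := ext_range (a := 259956) (len := 348) h747 f_747
  have h749 : ∀ u < 260652, (fun u => chkFin tab u) u = true := ext_range (a := 260304) (len := 348) h748 f_748
  have h750 : ∀ u < 261000, (fun u => chkFin tab u) u = true := ext_range (a := 260652) (len := 348) h749 f_749
  have h751 : ∀ u < 261348, (fun u => chkFin tab u) u = true := ext_range (a := 261000) (len := 348) h750 f_750
  have h752 : ∀ u < 261696, (fun u => chkFin tab u) u = true := ext_range (a := 261348) (len := 348) h751 f_751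
  have h753 : ∀ u < 262044, (fun u => chkFin tab u) u = true := ext_range (a := 261696) (len := 348) h752 f_752
  have h754 : ∀ u < 262392, (fun u => chkFin tab u) u = true := ext_range (a := 262044) (len := 348) h753 f_753
  have h755 : ∀ u < 262740, (fun u => chkFin tab u) u = true := ext_range (a := 262392) (len := 348) h754 f_754
  have h756 : ∀ u < 263088, (fun u => chkFin tab u) u = true := ext_range (a := 262740) (len := 348) h755 f_755
  have h757 : ∀ u < 263436, (fun u => chkFin tab u) u = true := ext_range (a := 263088) (len := 348) h756 f_756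
  have h758 : ∀ u < 263784, (fun u => chkFin tab u) u = true := ext_range (a := 263436) (len := 348) h757 f_757
  have h759 : ∀ u < 264132, (fun u => chkFin tab u) u = true := ext_range (a := 263784) (len := 348) h758 f_758
  have h760 : ∀ u < 264480, (fun u => chkFin tab u) u = true := ext_range (a := 264132) (len := 348) h759 f_759
  have h761 : ∀ u < 264828, (fun u => chkFin tab u) u = true := ext_range (a := 264480) (len := 348) h760 f_760
  have h762 : ∀ u < 265176, (fun u => chkFin tab u) u = true := ext_range (a := 264828) (len := 348) h761 f_761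
  have h763 : ∀ u < 265524, (fun u => chkFin tab u) u = true := ext_range (a := 265176) (len := 348) h762 f_762
  have h764 : ∀ u < 265872, (fun u => chkFin tab u) u = true := ext_range (a := 265524) (len := 348) h763 f_763
  have h765 : ∀ u < 266220, (fun u => chkFin tab u) u = true := ext_range (a := 265872) (len := 348) h764 f_764
  have h766 : ∀ u < 266560, (fun u => chkFin tab u) u = true := ext_range (a := 266220) (len := 340) h765 f_765
  exact h766

theorem hC : ∀ u < 269227, chkCls tab u = true := by
  have h0 : ∀ u < 0, (fun u => chkCls tab u) u = true := range_zero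
  have h1 : ∀ u < 2667, (fun u => chkCls tab u) u = true := ext_range (a := 0) (len := 2667) h0 c_0
  have h2 : ∀ u < 5334, (fun u => chkCls tab u) u = true := ext_range (a := 2667) (len := 2667) h1 c_1
  have h3 : ∀ u < 8001, (fun u => chkCls tab u) u = true := ext_range (a := 5334) (len := 2667) h2 c_2
  have h4 : ∀ u < 10668, (fun u => chkCls tab u) u = true := ext_range (a := 8001) (len := 2667) h3 c_3
  have h5 : ∀ u < 13335, (fun u => chkCls tab u) u = true := ext_range (a := 10668) (len := 2667) h4 c_4
  have h6 : ∀ u < 16002, (fun u => chkCls tab u) u = true := ext_range (a := 13335) (len := 2667) h5 c_5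
  have h7 : ∀ u < 18669, (fun u => chkCls tab u) u = true := ext_range (a := 16002) (len := 2667) h6 c_6
  have h8 : ∀ u < 21336, (fun u => chkCls tab u) u = true := ext_range (a := 18669) (len := 2667) h7 c_7
  have h9 : ∀ u < 24003, (fun u => chkCls tab u) u = true := ext_range (a := 21336) (len := 2667) h8 c_8
  have h10 : ∀ u < 26670, (fun u => chkCls tab u) u = true := ext_range (a := 24003) (len := 2667) h9 c_9
  have h11 : ∀ u < 29337, (fun u => chkCls tab u) u = true := ext_range (a := 26670) (len := 2667) h10 c_10
  have h12 : ∀ u < 32004, (fun u => chkCls tab u) u = true := ext_range (a := 29337) (len := 2667) h11 c_11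
  have h13 : ∀ u < 34671, (fun u => chkCls tab u) u = true := ext_range (a := 32004) (len := 2667) h12 c_12
  have h14 : ∀ u < 37338, (fun u => chkCls tab u) u = true := ext_range (a := 34671) (len := 2667) h13 c_13
  have h15 : ∀ u < 40005, (fun u => chkCls tab u) u = true := ext_range (a := 37338) (len := 2667) h14 c_14
  have h16 : ∀ u < 42672, (fun u => chkCls tab u) u = true := ext_range (a := 40005) (len := 2667) h15 c_15
  have h17 : ∀ u < 45339, (fun u => chkCls tab u) u = true := ext_range (a := 42672) (len := 2667) h16 c_16
  have h18 : ∀ u < 48006, (fun u => chkCls tab u) u = true := ext_range (a := 45339) (len := 2667) h17 c_17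
  have h19 : ∀ u < 50673, (fun u => chkCls tab u) u = true := ext_range (a := 48006) (len := 2667) h18 c_18
  have h20 : ∀ u < 53340, (fun u => chkCls tab u) u = true := ext_range (a := 50673) (len := 2667) h19 c_19
  have h21 : ∀ u < 56007, (fun u => chkCls tab u) u = true := ext_range (a := 53340) (len := 2667) h20 c_20
  have h22 : ∀ u < 58674, (fun u => chkCls tab u) u = true := ext_range (a := 56007) (len := 2667) h21 c_21
  have h23 : ∀ u < 61341, (fun u => chkCls tab u) u = true := ext_range (a := 58674) (len := 2667) h22 c_22
  have h24 : ∀ u < 64008, (fun u => chkCls tab u) u = true := ext_range (a := 61341) (len := 2667) h23 c_23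
  have h25 : ∀ u < 66675, (fun u => chkCls tab u) u = true := ext_range (a := 64008) (len := 2667) h24 c_24
  have h26 : ∀ u < 69342, (fun u => chkCls tab u) u = true := ext_range (a := 66675) (len := 2667) h25 c_25
  have h27 : ∀ u < 72009, (fun u => chkCls tab u) u = true := ext_range (a := 69342) (len := 2667) h26 c_26
  have h28 : ∀ u < 74676, (fun u => chkCls tab u) u = true := ext_range (a := 72009) (len := 2667) h27 c_27
  have h29 : ∀ u < 77343, (fun u => chkCls tab u) u = true := ext_range (a := 74676) (len := 2667) h28 c_28
  have h30 : ∀ u < 80010, (fun u => chkCls tab u) u = true := ext_range (a := 77343) (len := 2667) h29 c_29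
  have h31 : ∀ u < 82677, (fun u => chkCls tab u) u = true := ext_range (a := 80010) (len := 2667) h30 c_30
  have h32 : ∀ u < 85344, (fun u => chkCls tab u) u = true := ext_range (a := 82677) (len := 2667) h31 c_31
  have h33 : ∀ u < 88011, (fun u => chkCls tab u) u = true := ext_range (a := 85344) (len := 2667) h32 c_32
  have h34 : ∀ u < 90678, (fun u => chkCls tab u) u = true := ext_range (a := 88011) (len := 2667) h33 c_33
  have h35 : ∀ u < 93345, (fun u => chkCls tab u) u = true := ext_range (a := 90678) (len := 2667) h34 c_34
  have h36 : ∀ u < 96012, (fun u => chkCls tab u) u = true := ext_range (a := 93345) (len := 2667) h35 c_35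
  have h37 : ∀ u < 98679, (fun u => chkCls tab u) u = true := ext_range (a := 96012) (len := 2667) h36 c_36
  have h38 : ∀ u < 101346, (fun u => chkCls tab u) u = true := ext_range (a := 98679) (len := 2667) h37 c_37
  have h39 : ∀ u < 104013, (fun u => chkCls tab u) u = true := ext_range (a := 101346) (len := 2667) h38 c_38
  have h40 : ∀ u < 106680, (fun u => chkCls tab u) u = true := ext_range (a := 104013) (len := 2667) h39 c_39
  have h41 : ∀ u < 109347, (fun u => chkCls tab u) u = true := ext_range (a := 106680) (len := 2667) h40 c_40
  have h42 : ∀ u < 112014, (fun u => chkCls tab u) u = true := ext_range (a := 109347) (len := 2667) h41 c_41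
  have h43 : ∀ u < 114681, (fun u => chkCls tab u) u = true := ext_range (a := 112014) (len := 2667) h42 c_42
  have h44 : ∀ u < 117348, (fun u => chkCls tab u) u = true := ext_range (a := 114681) (len := 2667) h43 c_43
  have h45 : ∀ u < 120015, (fun u => chkCls tab u) u = true := ext_range (a := 117348) (len := 2667) h44 c_44
  have h46 : ∀ u < 122682, (fun u => chkCls tab u) u = true := ext_range (a := 120015) (len := 2667) h45 c_45
  have h47 : ∀ u < 125349, (fun u => chkCls tab u) u = true := ext_range (a := 122682) (len := 2667) h46 c_46
  have h48 : ∀ u < 128016, (fun u => chkCls tab u) u = true := ext_range (a := 125349) (len := 2667) h47 c_47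
  have h49 : ∀ u < 130683, (fun u => chkCls tab u) u = true := ext_range (a := 128016) (len := 2667) h48 c_48
  have h50 : ∀ u < 133350, (fun u => chkCls tab u) u = true := ext_range (a := 130683) (len := 2667) h49 c_49
  have h51 : ∀ u < 136017, (fun u => chkCls tab u) u = true := ext_range (a := 133350) (len := 2667) h50 c_50
  have h52 : ∀ u < 138684, (fun u => chkCls tab u) u = true := ext_range (a := 136017) (len := 2667) h51 c_51
  have h53 : ∀ u < 141351, (fun u => chkCls tab u) u = true := ext_range (a := 138684) (len := 2667) h52 c_52
  have h54 : ∀ u < 144018, (fun u => chkCls tab u) u = true := ext_range (a := 141351) (len := 2667) h53 c_53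
  have h55 : ∀ u < 146685, (fun u => chkCls tab u) u = true := ext_range (a := 144018) (len := 2667) h54 c_54
  have h56 : ∀ u < 149352, (fun u => chkCls tab u) u = true := ext_range (a := 146685) (len := 2667) h55 c_55
  have h57 : ∀ u < 152019, (fun u => chkCls tab u) u = true := ext_range (a := 149352) (len := 2667) h56 c_56
  have h58 : ∀ u < 154686, (fun u => chkCls tab u) u = true := ext_range (a := 152019) (len := 2667) h57 c_57
  have h59 : ∀ u < 157353, (fun u => chkCls tab u) u = true := ext_range (a := 154686) (len := 2667) h58 c_58
  have h60 : ∀ u < 160020, (fun u => chkCls tab u) u = true := ext_range (a := 157353) (len := 2667) h59 c_59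
  have h61 : ∀ u < 162687, (fun u => chkCls tab u) u = true := ext_range (a := 160020) (len := 2667) h60 c_60
  have h62 : ∀ u < 165354, (fun u => chkCls tab u) u = true := ext_range (a := 162687) (len := 2667) h61 c_61
  have h63 : ∀ u < 168021, (fun u => chkCls tab u) u = true := ext_range (a := 165354) (len := 2667) h62 c_62
  have h64 : ∀ u < 170688, (fun u => chkCls tab u) u = true := ext_range (a := 168021) (len := 2667) h63 c_63
  have h65 : ∀ u < 173355, (fun u => chkCls tab u) u = true := ext_range (a := 170688) (len := 2667) h64 c_64
  have h66 : ∀ u < 176022, (fun u => chkCls tab u) u = true := ext_range (a := 173355) (len := 2667) h65 c_65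
  have h67 : ∀ u < 178689, (fun u => chkCls tab u) u = true := ext_range (a := 176022) (len := 2667) h66 c_66
  have h68 : ∀ u < 181356, (fun u => chkCls tab u) u = true := ext_range (a := 178689) (len := 2667) h67 c_67
  have h69 : ∀ u < 184023, (fun u => chkCls tab u) u = true := ext_range (a := 181356) (len := 2667) h68 c_68
  have h70 : ∀ u < 186690, (fun u => chkCls tab u) u = true := ext_range (a := 184023) (len := 2667) h69 c_69
  have h71 : ∀ u < 189357, (fun u => chkCls tab u) u = true := ext_range (a := 186690) (len := 2667) h70 c_70
  have h72 : ∀ u < 192024, (fun u => chkCls tab u) u = true := ext_range (a := 189357) (len := 2667) h71 c_71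
  have h73 : ∀ u < 194691, (fun u => chkCls tab u) u = true := ext_range (a := 192024) (len := 2667) h72 c_72
  have h74 : ∀ u < 197358, (fun u => chkCls tab u) u = true := ext_range (a := 194691) (len := 2667) h73 c_73
  have h75 : ∀ u < 200025, (fun u => chkCls tab u) u = true := ext_range (a := 197358) (len := 2667) h74 c_74
  have h76 : ∀ u < 202692, (fun u => chkCls tab u) u = true := ext_range (a := 200025) (len := 2667) h75 c_75
  have h77 : ∀ u < 205359, (fun u => chkCls tab u) u = true := ext_range (a := 202692) (len := 2667) h76 c_76
  have h78 : ∀ u < 208026, (fun u => chkCls tab u) u = true := ext_range (a := 205359) (len := 2667) h77 c_77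
  have h79 : ∀ u < 210693, (fun u => chkCls tab u) u = true := ext_range (a := 208026) (len := 2667) h78 c_78
  have h80 : ∀ u < 213360, (fun u => chkCls tab u) u = true := ext_range (a := 210693) (len := 2667) h79 c_79
  have h81 : ∀ u < 216027, (fun u => chkCls tab u) u = true := ext_range (a := 213360) (len := 2667) h80 c_80
  have h82 : ∀ u < 218694, (fun u => chkCls tab u) u = true := ext_range (a := 216027) (len := 2667) h81 c_81
  have h83 : ∀ u < 221361, (fun u => chkCls tab u) u = true := ext_range (a := 218694) (len := 2667) h82 c_82
  have h84 : ∀ u < 224028, (fun u => chkCls tab u) u = true := ext_range (a := 221361) (len := 2667) h83 c_83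
  have h85 : ∀ u < 226695, (fun u => chkCls tab u) u = true := ext_range (a := 224028) (len := 2667) h84 c_84
  have h86 : ∀ u < 229362, (fun u => chkCls tab u) u = true := ext_range (a := 226695) (len := 2667) h85 c_85
  have h87 : ∀ u < 232029, (fun u => chkCls tab u) u = true := ext_range (a := 229362) (len := 2667) h86 c_86
  have h88 : ∀ u < 234696, (fun u => chkCls tab u) u = true := ext_range (a := 232029) (len := 2667) h87 c_87
  have h89 : ∀ u < 237363, (fun u => chkCls tab u) u = true := ext_range (a := 234696) (len := 2667) h88 c_88
  have h90 : ∀ u < 240030, (fun u => chkCls tab u) u = true := ext_range (a := 237363) (len := 2667) h89 c_89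
  have h91 : ∀ u < 242697, (fun u => chkCls tab u) u = true := ext_range (a := 240030) (len := 2667) h90 c_90
  have h92 : ∀ u < 245364, (fun u => chkCls tab u) u = true := ext_range (a := 242697) (len := 2667) h91 c_91
  have h93 : ∀ u < 248031, (fun u => chkCls tab u) u = true := ext_range (a := 245364) (len := 2667) h92 c_92
  have h94 : ∀ u < 250698, (fun u => chkCls tab u) u = true := ext_range (a := 248031) (len := 2667) h93 c_93
  have h95 : ∀ u < 253365, (fun u => chkCls tab u) u = true := ext_range (a := 250698) (len := 2667) h94 c_94
  have h96 : ∀ u < 256032, (fun u => chkCls tab u) u = true := ext_range (a := 253365) (len := 2667) h95 c_95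
  have h97 : ∀ u < 258699, (fun u => chkCls tab u) u = true := ext_range (a := 256032) (len := 2667) h96 c_96
  have h98 : ∀ u < 261366, (fun u => chkCls tab u) u = true := ext_range (a := 258699) (len := 2667) h97 c_97
  have h99 : ∀ u < 264033, (fun u => chkCls tab u) u = true := ext_range (a := 261366) (len := 2667) h98 c_98
  have h100 : ∀ u < 266700, (fun u => chkCls tab u) u = true := ext_range (a := 264033) (len := 2667) h99 c_99
  have h101 : ∀ u < 269227, (fun u => chkCls tab u) u = true := ext_range (a := 266700) (len := 2527) h100 c_100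
  exact h101

theorem hM1 : ∀ u < 266560, chkM1 tab u = true := by
  have h0 : ∀ u < 0, (fun u => chkM1 tab u) u = true := range_zero
  have h1 : ∀ u < 899, (fun u => chkM1 tab u) u = true := ext_range (a := 0) (len := 899) h0 m1_0
  have h2 : ∀ u < 1798, (fun u => chkM1 tab u) u = true := ext_range (a := 899) (len := 899) h1 m1_1
  have h3 : ∀ u < 2697, (fun u => chkM1 tab u) u = true := ext_range (a := 1798) (len := 899) h2 m1_2
  have h4 : ∀ u < 3596, (fun u => chkM1 tab u) u = true := ext_range (a := 2697) (len := 899) h3 m1_3
  have h5 : ∀ u < 4495, (fun u => chkM1 tab u) u = true := ext_range (a := 3596) (len := 899) h4 m1_4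
  have h6 : ∀ u < 5394, (fun u => chkM1 tab u) u = true := ext_range (a := 4495) (len := 899) h5 m1_5
  have h7 : ∀ u < 6293, (fun u => chkM1 tab u) u = true := ext_range (a := 5394) (len := 899) h6 m1_6
  have h8 : ∀ u < 7192, (fun u => chkM1 tab u) u = true := ext_range (a := 6293) (len := 899) h7 m1_7
  have h9 : ∀ u < 8091, (fun u => chkM1 tab u) u = true := ext_range (a := 7192) (len := 899) h8 m1_8
  have h10 : ∀ u < 8990, (fun u => chkM1 tab u) u = true := ext_range (a := 8091) (len := 899) h9 m1_9
  have h11 : ∀ u < 9889, (fun u => chkM1 tab u) u = true := ext_range (a := 8990) (len := 899) h10 m1_10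
  have h12 : ∀ u < 10788, (fun u => chkM1 tab u) u = true := ext_range (a := 9889) (len := 899) h11 m1_11
  have h13 : ∀ u < 11687, (fun u => chkM1 tab u) u = true := ext_range (a := 10788) (len := 899) h12 m1_12
  have h14 : ∀ u < 12586, (fun u => chkM1 tab u) u = true := ext_range (a := 11687) (len := 899) h13 m1_13
  have h15 : ∀ u < 13485, (fun u => chkM1 tab u) u = true := ext_range (a := 12586) (len := 899) h14 m1_14
  have h16 : ∀ u < 14384, (fun u => chkM1 tab u) u = true := ext_range (a := 13485) (len := 899) h15 m1_15
  have h17 : ∀ u < 15283, (fun u => chkM1 tab u) u = true := ext_range (a := 14384) (len := 899) h16 m1_16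
  have h18 : ∀ u < 16182, (fun u => chkM1 tab u) u = true := ext_range (a := 15283) (len := 899) h17 m1_17
  have h19 : ∀ u < 17081, (fun u => chkM1 tab u) u = true := ext_range (a := 16182) (len := 899) h18 m1_18
  have h20 : ∀ u < 17980, (fun u => chkM1 tab u) u = true := ext_range (a := 17081) (len := 899) h19 m1_19
  have h21 : ∀ u < 18879, (fun u => chkM1 tab u) u = true := ext_range (a := 17980) (len := 899) h20 m1_20
  have h22 : ∀ u < 19778, (fun u => chkM1 tab u) u = true := ext_range (a := 18879) (len := 899) h21 m1_21
  have h23 : ∀ u < 20677, (fun u => chkM1 tab u) u = true := ext_range (a := 19778) (len := 899) h22 m1_22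
  have h24 : ∀ u < 21576, (fun u => chkM1 tab u) u = true := ext_range (a := 20677) (len := 899) h23 m1_23
  have h25 : ∀ u < 22475, (fun u => chkM1 tab u) u = true := ext_range (a := 21576) (len := 899) h24 m1_24
  have h26 : ∀ u < 23374, (fun u => chkM1 tab u) u = true := ext_range (a := 22475) (len := 899) h25 m1_25
  have h27 : ∀ u < 24273, (fun u => chkM1 tab u) u = true := ext_range (a := 23374) (len := 899) h26 m1_26
  have h28 : ∀ u < 25172, (fun u => chkM1 tab u) u = true := ext_range (a := 24273) (len := 899) h27 m1_27
  have h29 : ∀ u < 26071, (fun u => chkM1 tab u) u = true := ext_range (a := 25172) (len := 899) h28 m1_28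
  have h30 : ∀ u < 26970, (fun u => chkM1 tab u) u = true := ext_range (a := 26071) (len := 899) h29 m1_29
  have h31 : ∀ u < 27869, (fun u => chkM1 tab u) u = true := ext_range (a := 26970) (len := 899) h30 m1_30
  have h32 : ∀ u < 28768, (fun u => chkM1 tab u) u = true := ext_range (a := 27869) (len := 899) h31 m1_31
  have h33 : ∀ u < 29667, (fun u => chkM1 tab u) u = true := ext_range (a := 28768) (len := 899) h32 m1_32
  have h34 : ∀ u < 30566, (fun u => chkM1 tab u) u = true := ext_range (a := 29667) (len := 899) h33 m1_33
  have h35 : ∀ u < 31465, (fun u => chkM1 tab u) u = true := ext_range (a := 30566) (len := 899) h34 m1_34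
  have h36 : ∀ u < 32364, (fun u => chkM1 tab u) u = true := ext_range (a := 31465) (len := 899) h35 m1_35
  have h37 : ∀ u < 33263, (fun u => chkM1 tab u) u = true := ext_range (a := 32364) (len := 899) h36 m1_36
  have h38 : ∀ u < 34162, (fun u => chkM1 tab u) u = true := ext_range (a := 33263) (len := 899) h37 m1_37
  have h39 : ∀ u < 35061, (fun u => chkM1 tab u) u = true := ext_range (a := 34162) (len := 899) h38 m1_38
  have h40 : ∀ u < 35960, (fun u => chkM1 tab u) u = true := ext_range (a := 35061) (len := 899) h39 m1_39
  have h41 : ∀ u < 36859, (fun u => chkM1 tab u) u = true := ext_range (a := 35960) (len := 899) h40 m1_40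
  have h42 : ∀ u < 37758, (fun u => chkM1 tab u) u = true := ext_range (a := 36859) (len := 899) h41 m1_41
  have h43 : ∀ u < 38657, (fun u => chkM1 tab u) u = true := ext_range (a := 37758) (len := 899) h42 m1_42
  have h44 : ∀ u < 39556, (fun u => chkM1 tab u) u = true := ext_range (a := 38657) (len := 899) h43 m1_43
  have h45 : ∀ u < 40455, (fun u => chkM1 tab u) u = true := ext_range (a := 39556) (len := 899) h44 m1_44
  have h46 : ∀ u < 41354, (fun u => chkM1 tab u) u = true := ext_range (a := 40455) (len := 899) h45 m1_45
  have h47 : ∀ u < 42253, (fun u => chkM1 tab u) u = true := ext_range (a := 41354) (len := 899) h46 m1_46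
  have h48 : ∀ u < 43152, (fun u => chkM1 tab u) u = true := ext_range (a := 42253) (len := 899) h47 m1_47
  have h49 : ∀ u < 44051, (fun u => chkM1 tab u) u = true := ext_range (a := 43152) (len := 899) h48 m1_48
  have h50 : ∀ u < 44950, (fun u => chkM1 tab u) u = true := ext_range (a := 44051) (len := 899) h49 m1_49
  have h51 : ∀ u < 45849, (fun u => chkM1 tab u) u = true := ext_range (a := 44950) (len := 899) h50 m1_50
  have h52 : ∀ u < 46748, (fun u => chkM1 tab u) u = true := ext_range (a := 45849) (len := 899) h51 m1_51
  have h53 : ∀ u < 47647, (fun u => chkM1 tab u) u = true := ext_range (a := 46748) (len := 899) h52 m1_52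
  have h54 : ∀ u < 48546, (fun u => chkM1 tab u) u = true := ext_range (a := 47647) (len := 899) h53 m1_53
  have h55 : ∀ u < 49445, (fun u => chkM1 tab u) u = true := ext_range (a := 48546) (len := 899) h54 m1_54
  have h56 : ∀ u < 50344, (fun u => chkM1 tab u) u = true := ext_range (a := 49445) (len := 899) h55 m1_55
  have h57 : ∀ u < 51243, (fun u => chkM1 tab u) u = true := ext_range (a := 50344) (len := 899) h56 m1_56
  have h58 : ∀ u < 52142, (fun u => chkM1 tab u) u = true := ext_range (a := 51243) (len := 899) h57 m1_57
  have h59 : ∀ u < 53041, (fun u => chkM1 tab u) u = true := ext_range (a := 52142) (len := 899) h58 m1_58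
  have h60 : ∀ u < 53940, (fun u => chkM1 tab u) u = true := ext_range (a := 53041) (len := 899) h59 m1_59
  have h61 : ∀ u < 54839, (fun u => chkM1 tab u) u = true := ext_range (a := 53940) (len := 899) h60 m1_60
  have h62 : ∀ u < 55738, (fun u => chkM1 tab u) u = true := ext_range (a := 54839) (len := 899) h61 m1_61
  have h63 : ∀ u < 56637, (fun u => chkM1 tab u) u = true := ext_range (a := 55738) (len := 899) h62 m1_62
  have h64 : ∀ u < 57536, (fun u => chkM1 tab u) u = true := ext_range (a := 56637) (len := 899) h63 m1_63
  have h65 : ∀ u < 58435, (fun u => chkM1 tab u) u = true := ext_range (a := 57536) (len := 899) h64 m1_64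
  have h66 : ∀ u < 59334, (fun u => chkM1 tab u) u = true := ext_range (a := 58435) (len := 899) h65 m1_65
  have h67 : ∀ u < 60233, (fun u => chkM1 tab u) u = true := ext_range (a := 59334) (len := 899) h66 m1_66
  have h68 : ∀ u < 61132, (fun u => chkM1 tab u) u = true := ext_range (a := 60233) (len := 899) h67 m1_67
  have h69 : ∀ u < 62031, (fun u => chkM1 tab u) u = true := ext_range (a := 61132) (len := 899) h68 m1_68
  have h70 : ∀ u < 62930, (fun u => chkM1 tab u) u = true := ext_range (a := 62031) (len := 899) h69 m1_69
  have h71 : ∀ u < 63829, (fun u => chkM1 tab u) u = true := ext_range (a := 62930) (len := 899) h70 m1_70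
  have h72 : ∀ u < 64728, (fun u => chkM1 tab u) u = true := ext_range (a := 63829) (len := 899) h71 m1_71
  have h73 : ∀ u < 65627, (fun u => chkM1 tab u) u = true := ext_range (a := 64728) (len := 899) h72 m1_72
  have h74 : ∀ u < 66526, (fun u => chkM1 tab u) u = true := ext_range (a := 65627) (len := 899) h73 m1_73
  have h75 : ∀ u < 67425, (fun u => chkM1 tab u) u = true := ext_range (a := 66526) (len := 899) h74 m1_74
  have h76 : ∀ u < 68324, (fun u => chkM1 tab u) u = true := ext_range (a := 67425) (len := 899) h75 m1_75
  have h77 : ∀ u < 69223, (fun u => chkM1 tab u) u = true := ext_range (a := 68324) (len := 899) h76 m1_76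
  have h78 : ∀ u < 70122, (fun u => chkM1 tab u) u = true := ext_range (a := 69223) (len := 899) h77 m1_77
  have h79 : ∀ u < 71021, (fun u => chkM1 tab u) u = true := ext_range (a := 70122) (len := 899) h78 m1_78
  have h80 : ∀ u < 71920, (fun u => chkM1 tab u) u = true := ext_range (a := 71021) (len := 899) h79 m1_79
  have h81 : ∀ u < 72819, (fun u => chkM1 tab u) u = true := ext_range (a := 71920) (len := 899) h80 m1_80
  have h82 : ∀ u < 73718, (fun u => chkM1 tab u) u = true := ext_range (a := 72819) (len := 899) h81 m1_81
  have h83 : ∀ u < 74617, (fun u => chkM1 tab u) u = true := ext_range (a := 73718) (len := 899) h82 m1_82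
  have h84 : ∀ u < 75516, (fun u => chkM1 tab u) u = true := ext_range (a := 74617) (len := 899) h83 m1_83
  have h85 : ∀ u < 76415, (fun u => chkM1 tab u) u = true := ext_range (a := 75516) (len := 899) h84 m1_84
  have h86 : ∀ u < 77314, (fun u => chkM1 tab u) u = true := ext_range (a := 76415) (len := 899) h85 m1_85
  have h87 : ∀ u < 78213, (fun u => chkM1 tab u) u = true := ext_range (a := 77314) (len := 899) h86 m1_86
  have h88 : ∀ u < 79112, (fun u => chkM1 tab u) u = true := ext_range (a := 78213) (len := 899) h87 m1_87
  have h89 : ∀ u < 80011, (fun u => chkM1 tab u) u = true := ext_range (a := 79112) (len := 899) h88 m1_88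
  have h90 : ∀ u < 80910, (fun u => chkM1 tab u) u = true := ext_range (a := 80011) (len := 899) h89 m1_89
  have h91 : ∀ u < 81809, (fun u => chkM1 tab u) u = true := ext_range (a := 80910) (len := 899) h90 m1_90
  have h92 : ∀ u < 82708, (fun u => chkM1 tab u) u = true := ext_range (a := 81809) (len := 899) h91 m1_91
  have h93 : ∀ u < 83607, (fun u => chkM1 tab u) u = true := ext_range (a := 82708) (len := 899) h92 m1_92
  have h94 : ∀ u < 84506, (fun u => chkM1 tab u) u = true := ext_range (a := 83607) (len := 899) h93 m1_93
  have h95 : ∀ u < 85405, (fun u => chkM1 tab u) u = true := ext_range (a := 84506) (len := 899) h94 m1_94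
  have h96 : ∀ u < 86304, (fun u => chkM1 tab u) u = true := ext_range (a := 85405) (len := 899) h95 m1_95
  have h97 : ∀ u < 87203, (fun u => chkM1 tab u) u = true := ext_range (a := 86304) (len := 899) h96 m1_96
  have h98 : ∀ u < 88102, (fun u => chkM1 tab u) u = true := ext_range (a := 87203) (len := 899) h97 m1_97
  have h99 : ∀ u < 89001, (fun u => chkM1 tab u) u = true := ext_range (a := 88102) (len := 899) h98 m1_98
  have h100 : ∀ u < 89900, (fun u => chkM1 tab u) u = true := ext_range (a := 89001) (len := 899) h99 m1_99
  have h101 : ∀ u < 90799, (fun u => chkM1 tab u) u = true := ext_range (a := 89900) (len := 899) h100 m1_100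
  have h102 : ∀ u < 91698, (fun u => chkM1 tab u) u = true := ext_range (a := 90799) (len := 899) h101 m1_101
  have h103 : ∀ u < 92597, (fun u => chkM1 tab u) u = true := ext_range (a := 91698) (len := 899) h102 m1_102
  have h104 : ∀ u < 93496, (fun u => chkM1 tab u) u = true := ext_range (a := 92597) (len := 899) h103 m1_103
  have h105 : ∀ u < 94395, (fun u => chkM1 tab u) u = true := ext_range (a := 93496) (len := 899) h104 m1_104
  have h106 : ∀ u < 95294, (fun u => chkM1 tab u) u = true := ext_range (a := 94395) (len := 899) h105 m1_105
  have h107 : ∀ u < 96193, (fun u => chkM1 tab u) u = true := ext_range (a := 95294) (len := 899) h106 m1_106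
  have h108 : ∀ u < 97092, (fun u => chkM1 tab u) u = true := ext_range (a := 96193) (len := 899) h107 m1_107
  have h109 : ∀ u < 97991, (fun u => chkM1 tab u) u = true := ext_range (a := 97092) (len := 899) h108 m1_108
  have h110 : ∀ u < 98890, (fun u => chkM1 tab u) u = true := ext_range (a := 97991) (len := 899) h109 m1_109
  have h111 : ∀ u < 99789, (fun u => chkM1 tab u) u = true := ext_range (a := 98890) (len := 899) h110 m1_110
  have h112 : ∀ u < 100688, (fun u => chkM1 tab u) u = true := ext_range (a := 99789) (len := 899) h111 m1_111
  have h113 : ∀ u < 101587, (fun u => chkM1 tab u) u = true := ext_range (a := 100688) (len := 899) h112 m1_112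
  have h114 : ∀ u < 102486, (fun u => chkM1 tab u) u = true := ext_range (a := 101587) (len := 899) h113 m1_113
  have h115 : ∀ u < 103385, (fun u => chkM1 tab u) u = true := ext_range (a := 102486) (len := 899) h114 m1_114
  have h116 : ∀ u < 104284, (fun u => chkM1 tab u) u = true := ext_range (a := 103385) (len := 899) h115 m1_115
  have h117 : ∀ u < 105183, (fun u => chkM1 tab u) u = true := ext_range (a := 104284) (len := 899) h116 m1_116
  have h118 : ∀ u < 106082, (fun u => chkM1 tab u) u = true := ext_range (a := 105183) (len := 899) h117 m1_117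
  have h119 : ∀ u < 106981, (fun u => chkM1 tab u) u = true := ext_range (a := 106082) (len := 899) h118 m1_118
  have h120 : ∀ u < 107880, (fun u => chkM1 tab u) u = true := ext_range (a := 106981) (len := 899) h119 m1_119
  have h121 : ∀ u < 108779, (fun u => chkM1 tab u) u = true := ext_range (a := 107880) (len := 899) h120 m1_120
  have h122 : ∀ u < 109678, (fun u => chkM1 tab u) u = true := ext_range (a := 108779) (len := 899) h121 m1_121
  have h123 : ∀ u < 110577, (fun u => chkM1 tab u) u = true := ext_range (a := 109678) (len := 899) h122 m1_122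
  have h124 : ∀ u < 111476, (fun u => chkM1 tab u) u = true := ext_range (a := 110577) (len := 899) h123 m1_123
  have h125 : ∀ u < 112375, (fun u => chkM1 tab u) u = true := ext_range (a := 111476) (len := 899) h124 m1_124
  have h126 : ∀ u < 113274, (fun u => chkM1 tab u) u = true := ext_range (a := 112375) (len := 899) h125 m1_125
  have h127 : ∀ u < 114173, (fun u => chkM1 tab u) u = true := ext_range (a := 113274) (len := 899) h126 m1_126
  have h128 : ∀ u < 115072, (fun u => chkM1 tab u) u = true := ext_range (a := 114173) (len := 899) h127 m1_127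
  have h129 : ∀ u < 115971, (fun u => chkM1 tab u) u = true := ext_range (a := 115072) (len := 899) h128 m1_128
  have h130 : ∀ u < 116870, (fun u => chkM1 tab u) u = true := ext_range (a := 115971) (len := 899) h129 m1_129
  have h131 : ∀ u < 117769, (fun u => chkM1 tab u) u = true := ext_range (a := 116870) (len := 899) h130 m1_130
  have h132 : ∀ u < 118668, (fun u => chkM1 tab u) u = true := ext_range (a := 117769) (len := 899) h131 m1_131
  have h133 : ∀ u < 119567, (fun u => chkM1 tab u) u = true := ext_range (a := 118668) (len := 899) h132 m1_132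
  have h134 : ∀ u < 120466, (fun u => chkM1 tab u) u = true := ext_range (a := 119567) (len := 899) h133 m1_133
  have h135 : ∀ u < 121365, (fun u => chkM1 tab u) u = true := ext_range (a := 120466) (len := 899) h134 m1_134
  have h136 : ∀ u < 122264, (fun u => chkM1 tab u) u = true := ext_range (a := 121365) (len := 899) h135 m1_135
  have h137 : ∀ u < 123163, (fun u => chkM1 tab u) u = true := ext_range (a := 122264) (len := 899) h136 m1_136
  have h138 : ∀ u < 124062, (fun u => chkM1 tab u) u = true := ext_range (a := 123163) (len := 899) h137 m1_137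
  have h139 : ∀ u < 124961, (fun u => chkM1 tab u) u = true := ext_range (a := 124062) (len := 899) h138 m1_138
  have h140 : ∀ u < 125860, (fun u => chkM1 tab u) u = true := ext_range (a := 124961) (len := 899) h139 m1_139
  have h141 : ∀ u < 126759, (fun u => chkM1 tab u) u = true := ext_range (a := 125860) (len := 899) h140 m1_140
  have h142 : ∀ u < 127658, (fun u => chkM1 tab u) u = true := ext_range (a := 126759) (len := 899) h141 m1_141
  have h143 : ∀ u < 128557, (fun u => chkM1 tab u) u = true := ext_range (a := 127658) (len := 899) h142 m1_142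
  have h144 : ∀ u < 129456, (fun u => chkM1 tab u) u = true := ext_range (a := 128557) (len := 899) h143 m1_143
  have h145 : ∀ u < 130355, (fun u => chkM1 tab u) u = true := ext_range (a := 129456) (len := 899) h144 m1_144
  have h146 : ∀ u < 131254, (fun u => chkM1 tab u) u = true := ext_range (a := 130355) (len := 899) h145 m1_145
  have h147 : ∀ u < 132153, (fun u => chkM1 tab u) u = true := ext_range (a := 131254) (len := 899) h146 m1_146
  have h148 : ∀ u < 133052, (fun u => chkM1 tab u) u = true := ext_range (a := 132153) (len := 899) h147 m1_147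
  have h149 : ∀ u < 133951, (fun u => chkM1 tab u) u = true := ext_range (a := 133052) (len := 899) h148 m1_148
  have h150 : ∀ u < 134850, (fun u => chkM1 tab u) u = true := ext_range (a := 133951) (len := 899) h149 m1_149
  have h151 : ∀ u < 135749, (fun u => chkM1 tab u) u = true := ext_range (a := 134850) (len := 899) h150 m1_150
  have h152 : ∀ u < 136648, (fun u => chkM1 tab u) u = true := ext_range (a := 135749) (len := 899) h151 m1_151
  have h153 : ∀ u < 137547, (fun u => chkM1 tab u) u = true := ext_range (a := 136648) (len := 899) h152 m1_152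
  have h154 : ∀ u < 138446, (fun u => chkM1 tab u) u = true := ext_range (a := 137547) (len := 899) h153 m1_153
  have h155 : ∀ u < 139345, (fun u => chkM1 tab u) u = true := ext_range (a := 138446) (len := 899) h154 m1_154
  have h156 : ∀ u < 140244, (fun u => chkM1 tab u) u = true := ext_range (a := 139345) (len := 899) h155 m1_155
  have h157 : ∀ u < 141143, (fun u => chkM1 tab u) u = true := ext_range (a := 140244) (len := 899) h156 m1_156
  have h158 : ∀ u < 142042, (fun u => chkM1 tab u) u = true := ext_range (a := 141143) (len := 899) h157 m1_157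
  have h159 : ∀ u < 142941, (fun u => chkM1 tab u) u = true := ext_range (a := 142042) (len := 899) h158 m1_158
  have h160 : ∀ u < 143840, (fun u => chkM1 tab u) u = true := ext_range (a := 142941) (len := 899) h159 m1_159
  have h161 : ∀ u < 144739, (fun u => chkM1 tab u) u = true := ext_range (a := 143840) (len := 899) h160 m1_160
  have h162 : ∀ u < 145638, (fun u => chkM1 tab u) u = true := ext_range (a := 144739) (len := 899) h161 m1_161
  have h163 : ∀ u < 146537, (fun u => chkM1 tab u) u = true := ext_range (a := 145638) (len := 899) h162 m1_162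
  have h164 : ∀ u < 147436, (fun u => chkM1 tab u) u = true := ext_range (a := 146537) (len := 899) h163 m1_163
  have h165 : ∀ u < 148335, (fun u => chkM1 tab u) u = true := ext_range (a := 147436) (len := 899) h164 m1_164
  have h166 : ∀ u < 149234, (fun u => chkM1 tab u) u = true := ext_range (a := 148335) (len := 899) h165 m1_165
  have h167 : ∀ u < 150133, (fun u => chkM1 tab u) u = true := ext_range (a := 149234) (len := 899) h166 m1_166
  have h168 : ∀ u < 151032, (fun u => chkM1 tab u) u = true := ext_range (a := 150133) (len := 899) h167 m1_167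
  have h169 : ∀ u < 151931, (fun u => chkM1 tab u) u = true := ext_range (a := 151032) (len := 899) h168 m1_168
  have h170 : ∀ u < 152830, (fun u => chkM1 tab u) u = true := ext_range (a := 151931) (len := 899) h169 m1_169
  have h171 : ∀ u < 153729, (fun u => chkM1 tab u) u = true := ext_range (a := 152830) (len := 899) h170 m1_170
  have h172 : ∀ u < 154628, (fun u => chkM1 tab u) u = true := ext_range (a := 153729) (len := 899) h171 m1_171
  have h173 : ∀ u < 155527, (fun u => chkM1 tab u) u = true := ext_range (a := 154628) (len := 899) h172 m1_172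
  have h174 : ∀ u < 156426, (fun u => chkM1 tab u) u = true := ext_range (a := 155527) (len := 899) h173 m1_173
  have h175 : ∀ u < 157325, (fun u => chkM1 tab u) u = true := ext_range (a := 156426) (len := 899) h174 m1_174
  have h176 : ∀ u < 158224, (fun u => chkM1 tab u) u = true := ext_range (a := 157325) (len := 899) h175 m1_175
  have h177 : ∀ u < 159123, (fun u => chkM1 tab u) u = true := ext_range (a := 158224) (len := 899) h176 m1_176
  have h178 : ∀ u < 160022, (fun u => chkM1 tab u) u = true := ext_range (a := 159123) (len := 899) h177 m1_177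
  have h179 : ∀ u < 160921, (fun u => chkM1 tab u) u = true := ext_range (a := 160022) (len := 899) h178 m1_178
  have h180 : ∀ u < 161820, (fun u => chkM1 tab u) u = true := ext_range (a := 160921) (len := 899) h179 m1_179
  have h181 : ∀ u < 162719, (fun u => chkM1 tab u) u = true := ext_range (a := 161820) (len := 899) h180 m1_180
  have h182 : ∀ u < 163618, (fun u => chkM1 tab u) u = true := ext_range (a := 162719) (len := 899) h181 m1_181
  have h183 : ∀ u < 164517, (fun u => chkM1 tab u) u = true := ext_range (a := 163618) (len := 899) h182 m1_182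
  have h184 : ∀ u < 165416, (fun u => chkM1 tab u) u = true := ext_range (a := 164517) (len := 899) h183 m1_183
  have h185 : ∀ u < 166315, (fun u => chkM1 tab u) u = true := ext_range (a := 165416) (len := 899) h184 m1_184
  have h186 : ∀ u < 167214, (fun u => chkM1 tab u) u = true := ext_range (a := 166315) (len := 899) h185 m1_185
  have h187 : ∀ u < 168113, (fun u => chkM1 tab u) u = true := ext_range (a := 167214) (len := 899) h186 m1_186
  have h188 : ∀ u < 169012, (fun u => chkM1 tab u) u = true := ext_range (a := 168113) (len := 899) h187 m1_187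
  have h189 : ∀ u < 169911, (fun u => chkM1 tab u) u = true := ext_range (a := 169012) (len := 899) h188 m1_188
  have h190 : ∀ u < 170810, (fun u => chkM1 tab u) u = true := ext_range (a := 169911) (len := 899) h189 m1_189
  have h191 : ∀ u < 171709, (fun u => chkM1 tab u) u = true := ext_range (a := 170810) (len := 899) h190 m1_190
  have h192 : ∀ u < 172608, (fun u => chkM1 tab u) u = true := ext_range (a := 171709) (len := 899) h191 m1_191
  have h193 : ∀ u < 173507, (fun u => chkM1 tab u) u = true := ext_range (a := 172608) (len := 899) h192 m1_192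
  have h194 : ∀ u < 174406, (fun u => chkM1 tab u) u = true := ext_range (a := 173507) (len := 899) h193 m1_193
  have h195 : ∀ u < 175305, (fun u => chkM1 tab u) u = true := ext_range (a := 174406) (len := 899) h194 m1_194
  have h196 : ∀ u < 176204, (fun u => chkM1 tab u) u = true := ext_range (a := 175305) (len := 899) h195 m1_195
  have h197 : ∀ u < 177103, (fun u => chkM1 tab u) u = true := ext_range (a := 176204) (len := 899) h196 m1_196
  have h198 : ∀ u < 178002, (fun u => chkM1 tab u) u = true := ext_range (a := 177103) (len := 899) h197 m1_197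
  have h199 : ∀ u < 178901, (fun u => chkM1 tab u) u = true := ext_range (a := 178002) (len := 899) h198 m1_198
  have h200 : ∀ u < 179800, (fun u => chkM1 tab u) u = true := ext_range (a := 178901) (len := 899) h199 m1_199
  have h201 : ∀ u < 180699, (fun u => chkM1 tab u) u = true := ext_range (a := 179800) (len := 899) h200 m1_200
  have h202 : ∀ u < 181598, (fun u => chkM1 tab u) u = true := ext_range (a := 180699) (len := 899) h201 m1_201
  have h203 : ∀ u < 182497, (fun u => chkM1 tab u) u = true := ext_range (a := 181598) (len := 899) h202 m1_202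
  have h204 : ∀ u < 183396, (fun u => chkM1 tab u) u = true := ext_range (a := 182497) (len := 899) h203 m1_203
  have h205 : ∀ u < 184295, (fun u => chkM1 tab u) u = true := ext_range (a := 183396) (len := 899) h204 m1_204
  have h206 : ∀ u < 185194, (fun u => chkM1 tab u) u = true := ext_range (a := 184295) (len := 899) h205 m1_205
  have h207 : ∀ u < 186093, (fun u => chkM1 tab u) u = true := ext_range (a := 185194) (len := 899) h206 m1_206
  have h208 : ∀ u < 186992, (fun u => chkM1 tab u) u = true := ext_range (a := 186093) (len := 899) h207 m1_207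
  have h209 : ∀ u < 187891, (fun u => chkM1 tab u) u = true := ext_range (a := 186992) (len := 899) h208 m1_208
  have h210 : ∀ u < 188790, (fun u => chkM1 tab u) u = true := ext_range (a := 187891) (len := 899) h209 m1_209
  have h211 : ∀ u < 189689, (fun u => chkM1 tab u) u = true := ext_range (a := 188790) (len := 899) h210 m1_210
  have h212 : ∀ u < 190588, (fun u => chkM1 tab u) u = true := ext_range (a := 189689) (len := 899) h211 m1_211
  have h213 : ∀ u < 191487, (fun u => chkM1 tab u) u = true := ext_range (a := 190588) (len := 899) h212 m1_212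
  have h214 : ∀ u < 192386, (fun u => chkM1 tab u) u = true := ext_range (a := 191487) (len := 899) h213 m1_213
  have h215 : ∀ u < 193285, (fun u => chkM1 tab u) u = true := ext_range (a := 192386) (len := 899) h214 m1_214
  have h216 : ∀ u < 194184, (fun u => chkM1 tab u) u = true := ext_range (a := 193285) (len := 899) h215 m1_215
  have h217 : ∀ u < 195083, (fun u => chkM1 tab u) u = true := ext_range (a := 194184) (len := 899) h216 m1_216
  have h218 : ∀ u < 195982, (fun u => chkM1 tab u) u = true := ext_range (a := 195083) (len := 899) h217 m1_217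
  have h219 : ∀ u < 196881, (fun u => chkM1 tab u) u = true := ext_range (a := 195982) (len := 899) h218 m1_218
  have h220 : ∀ u < 197780, (fun u => chkM1 tab u) u = true := ext_range (a := 196881) (len := 899) h219 m1_219
  have h221 : ∀ u < 198679, (fun u => chkM1 tab u) u = true := ext_range (a := 197780) (len := 899) h220 m1_220
  have h222 : ∀ u < 199578, (fun u => chkM1 tab u) u = true := ext_range (a := 198679) (len := 899) h221 m1_221
  have h223 : ∀ u < 200477, (fun u => chkM1 tab u) u = true := ext_range (a := 199578) (len := 899) h222 m1_222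
  have h224 : ∀ u < 201376, (fun u => chkM1 tab u) u = true := ext_range (a := 200477) (len := 899) h223 m1_223
  have h225 : ∀ u < 202275, (fun u => chkM1 tab u) u = true := ext_range (a := 201376) (len := 899) h224 m1_224
  have h226 : ∀ u < 203174, (fun u => chkM1 tab u) u = true := ext_range (a := 202275) (len := 899) h225 m1_225
  have h227 : ∀ u < 204073, (fun u => chkM1 tab u) u = true := ext_range (a := 203174) (len := 899) h226 m1_226
  have h228 : ∀ u < 204972, (fun u => chkM1 tab u) u = true := ext_range (a := 204073) (len := 899) h227 m1_227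
  have h229 : ∀ u < 205871, (fun u => chkM1 tab u) u = true := ext_range (a := 204972) (len := 899) h228 m1_228
  have h230 : ∀ u < 206770, (fun u => chkM1 tab u) u = true := ext_range (a := 205871) (len := 899) h229 m1_229
  have h231 : ∀ u < 207669, (fun u => chkM1 tab u) u = true := ext_range (a := 206770) (len := 899) h230 m1_230
  have h232 : ∀ u < 208568, (fun u => chkM1 tab u) u = true := ext_range (a := 207669) (len := 899) h231 m1_231
  have h233 : ∀ u < 209467, (fun u => chkM1 tab u) u = true := ext_range (a := 208568) (len := 899) h232 m1_232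
  have h234 : ∀ u < 210366, (fun u => chkM1 tab u) u = true := ext_range (a := 209467) (len := 899) h233 m1_233
  have h235 : ∀ u < 211265, (fun u => chkM1 tab u) u = true := ext_range (a := 210366) (len := 899) h234 m1_234
  have h236 : ∀ u < 212164, (fun u => chkM1 tab u) u = true := ext_range (a := 211265) (len := 899) h235 m1_235
  have h237 : ∀ u < 213063, (fun u => chkM1 tab u) u = true := ext_range (a := 212164) (len := 899) h236 m1_236
  have h238 : ∀ u < 213962, (fun u => chkM1 tab u) u = true := ext_range (a := 213063) (len := 899) h237 m1_237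
  have h239 : ∀ u < 214861, (fun u => chkM1 tab u) u = true := ext_range (a := 213962) (len := 899) h238 m1_238
  have h240 : ∀ u < 215760, (fun u => chkM1 tab u) u = true := ext_range (a := 214861) (len := 899) h239 m1_239
  have h241 : ∀ u < 216659, (fun u => chkM1 tab u) u = true := ext_range (a := 215760) (len := 899) h240 m1_240
  have h242 : ∀ u < 217558, (fun u => chkM1 tab u) u = true := ext_range (a := 216659) (len := 899) h241 m1_241
  have h243 : ∀ u < 218457, (fun u => chkM1 tab u) u = true := ext_range (a := 217558) (len := 899) h242 m1_242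
  have h244 : ∀ u < 219356, (fun u => chkM1 tab u) u = true := ext_range (a := 218457) (len := 899) h243 m1_243
  have h245 : ∀ u < 220255, (fun u => chkM1 tab u) u = true := ext_range (a := 219356) (len := 899) h244 m1_244
  have h246 : ∀ u < 221154, (fun u => chkM1 tab u) u = true := ext_range (a := 220255) (len := 899) h245 m1_245
  have h247 : ∀ u < 222053, (fun u => chkM1 tab u) u = true := ext_range (a := 221154) (len := 899) h246 m1_246
  have h248 : ∀ u < 222952, (fun u => chkM1 tab u) u = true := ext_range (a := 222053) (len := 899) h247 m1_247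
  have h249 : ∀ u < 223851, (fun u => chkM1 tab u) u = true := ext_range (a := 222952) (len := 899) h248 m1_248
  have h250 : ∀ u < 224750, (fun u => chkM1 tab u) u = true := ext_range (a := 223851) (len := 899) h249 m1_249
  have h251 : ∀ u < 225649, (fun u => chkM1 tab u) u = true := ext_range (a := 224750) (len := 899) h250 m1_250
  have h252 : ∀ u < 226548, (fun u => chkM1 tab u) u = true := ext_range (a := 225649) (len := 899) h251 m1_251
  have h253 : ∀ u < 227447, (fun u => chkM1 tab u) u = true := ext_range (a := 226548) (len := 899) h252 m1_252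
  have h254 : ∀ u < 228346, (fun u => chkM1 tab u) u = true := ext_range (a := 227447) (len := 899) h253 m1_253
  have h255 : ∀ u < 229245, (fun u => chkM1 tab u) u = true := ext_range (a := 228346) (len := 899) h254 m1_254
  have h256 : ∀ u < 230144, (fun u => chkM1 tab u) u = true := ext_range (a := 229245) (len := 899) h255 m1_255
  have h257 : ∀ u < 231043, (fun u => chkM1 tab u) u = true := ext_range (a := 230144) (len := 899) h256 m1_256
  have h258 : ∀ u < 231942, (fun u => chkM1 tab u) u = true := ext_range (a := 231043) (len := 899) h257 m1_257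
  have h259 : ∀ u < 232841, (fun u => chkM1 tab u) u = true := ext_range (a := 231942) (len := 899) h258 m1_258
  have h260 : ∀ u < 233740, (fun u => chkM1 tab u) u = true := ext_range (a := 232841) (len := 899) h259 m1_259
  have h261 : ∀ u < 234639, (fun u => chkM1 tab u) u = true := ext_range (a := 233740) (len := 899) h260 m1_260
  have h262 : ∀ u < 235538, (fun u => chkM1 tab u) u = true := ext_range (a := 234639) (len := 899) h261 m1_261
  have h263 : ∀ u < 236437, (fun u => chkM1 tab u) u = true := ext_range (a := 235538) (len := 899) h262 m1_262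
  have h264 : ∀ u < 237336, (fun u => chkM1 tab u) u = true := ext_range (a := 236437) (len := 899) h263 m1_263
  have h265 : ∀ u < 238235, (fun u => chkM1 tab u) u = true := ext_range (a := 237336) (len := 899) h264 m1_264
  have h266 : ∀ u < 239134, (fun u => chkM1 tab u) u = true := ext_range (a := 238235) (len := 899) h265 m1_265
  have h267 : ∀ u < 240033, (fun u => chkM1 tab u) u = true := ext_range (a := 239134) (len := 899) h266 m1_266
  have h268 : ∀ u < 240932, (fun u => chkM1 tab u) u = true := ext_range (a := 240033) (len := 899) h267 m1_267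
  have h269 : ∀ u < 241831, (fun u => chkM1 tab u) u = true := ext_range (a := 240932) (len := 899) h268 m1_268
  have h270 : ∀ u < 242730, (fun u => chkM1 tab u) u = true := ext_range (a := 241831) (len := 899) h269 m1_269
  have h271 : ∀ u < 243629, (fun u => chkM1 tab u) u = true := ext_range (a := 242730) (len := 899) h270 m1_270
  have h272 : ∀ u < 244528, (fun u => chkM1 tab u) u = true := ext_range (a := 243629) (len := 899) h271 m1_271
  have h273 : ∀ u < 245427, (fun u => chkM1 tab u) u = true := ext_range (a := 244528) (len := 899) h272 m1_272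
  have h274 : ∀ u < 246326, (fun u => chkM1 tab u) u = true := ext_range (a := 245427) (len := 899) h273 m1_273
  have h275 : ∀ u < 247225, (fun u => chkM1 tab u) u = true := ext_range (a := 246326) (len := 899) h274 m1_274
  have h276 : ∀ u < 248124, (fun u => chkM1 tab u) u = true := ext_range (a := 247225) (len := 899) h275 m1_275
  have h277 : ∀ u < 249023, (fun u => chkM1 tab u) u = true := ext_range (a := 248124) (len := 899) h276 m1_276
  have h278 : ∀ u < 249922, (fun u => chkM1 tab u) u = true := ext_range (a := 249023) (len := 899) h277 m1_277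
  have h279 : ∀ u < 250821, (fun u => chkM1 tab u) u = true := ext_range (a := 249922) (len := 899) h278 m1_278
  have h280 : ∀ u < 251720, (fun u => chkM1 tab u) u = true := ext_range (a := 250821) (len := 899) h279 m1_279
  have h281 : ∀ u < 252619, (fun u => chkM1 tab u) u = true := ext_range (a := 251720) (len := 899) h280 m1_280
  have h282 : ∀ u < 253518, (fun u => chkM1 tab u) u = true := ext_range (a := 252619) (len := 899) h281 m1_281
  have h283 : ∀ u < 254417, (fun u => chkM1 tab u) u = true := ext_range (a := 253518) (len := 899) h282 m1_282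
  have h284 : ∀ u < 255316, (fun u => chkM1 tab u) u = true := ext_range (a := 254417) (len := 899) h283 m1_283
  have h285 : ∀ u < 256215, (fun u => chkM1 tab u) u = true := ext_range (a := 255316) (len := 899) h284 m1_284
  have h286 : ∀ u < 257114, (fun u => chkM1 tab u) u = true := ext_range (a := 256215) (len := 899) h285 m1_285
  have h287 : ∀ u < 258013, (fun u => chkM1 tab u) u = true := ext_range (a := 257114) (len := 899) h286 m1_286
  have h288 : ∀ u < 258912, (fun u => chkM1 tab u) u = true := ext_range (a := 258013) (len := 899) h287 m1_287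
  have h289 : ∀ u < 259811, (fun u => chkM1 tab u) u = true := ext_range (a := 258912) (len := 899) h288 m1_288
  have h290 : ∀ u < 260710, (fun u => chkM1 tab u) u = true := ext_range (a := 259811) (len := 899) h289 m1_289
  have h291 : ∀ u < 261609, (fun u => chkM1 tab u) u = true := ext_range (a := 260710) (len := 899) h290 m1_290
  have h292 : ∀ u < 262508, (fun u => chkM1 tab u) u = true := ext_range (a := 261609) (len := 899) h291 m1_291
  have h293 : ∀ u < 263407, (fun u => chkM1 tab u) u = true := ext_range (a := 262508) (len := 899) h292 m1_292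
  have h294 : ∀ u < 264306, (fun u => chkM1 tab u) u = true := ext_range (a := 263407) (len := 899) h293 m1_293
  have h295 : ∀ u < 265205, (fun u => chkM1 tab u) u = true := ext_range (a := 264306) (len := 899) h294 m1_294
  have h296 : ∀ u < 266104, (fun u => chkM1 tab u) u = true := ext_range (a := 265205) (len := 899) h295 m1_295
  have h297 : ∀ u < 266560, (fun u => chkM1 tab u) u = true := ext_range (a := 266104) (len := 456) h296 m1_296
  exact h297

theorem hMA : ∀ u < 266560, chkAux tab aux u = true := by
  have h0 : ∀ u < 0, (fun u => chkAux tab aux u) u = true := range_zero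
  have h1 : ∀ u < 1819, (fun u => chkAux tab aux u) u = true := ext_range (a := 0) (len := 1819) h0 ma_0
  have h2 : ∀ u < 3638, (fun u => chkAux tab aux u) u = true := ext_range (a := 1819) (len := 1819) h1 ma_1
  have h3 : ∀ u < 5457, (fun u => chkAux tab aux u) u = true := ext_range (a := 3638) (len := 1819) h2 ma_2
  have h4 : ∀ u < 7276, (fun u => chkAux tab aux u) u = true := ext_range (a := 5457) (len := 1819) h3 ma_3
  have h5 : ∀ u < 9095, (fun u => chkAux tab aux u) u = true := ext_range (a := 7276) (len := 1819) h4 ma_4
  have h6 : ∀ u < 10914, (fun u => chkAux tab aux u) u = true := ext_range (a := 9095) (len := 1819) h5 ma_5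
  have h7 : ∀ u < 12733, (fun u => chkAux tab aux u) u = true := ext_range (a := 10914) (len := 1819) h6 ma_6
  have h8 : ∀ u < 14552, (fun u => chkAux tab aux u) u = true := ext_range (a := 12733) (len := 1819) h7 ma_7
  have h9 : ∀ u < 16371, (fun u => chkAux tab aux u) u = true := ext_range (a := 14552) (len := 1819) h8 ma_8
  have h10 : ∀ u < 18190, (fun u => chkAux tab aux u) u = true := ext_range (a := 16371) (len := 1819) h9 ma_9
  have h11 : ∀ u < 20009, (fun u => chkAux tab aux u) u = true := ext_range (a := 18190) (len := 1819) h10 ma_10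
  have h12 : ∀ u < 21828, (fun u => chkAux tab aux u) u = true := ext_range (a := 20009) (len := 1819) h11 ma_11
  have h13 : ∀ u < 23647, (fun u => chkAux tab aux u) u = true := ext_range (a := 21828) (len := 1819) h12 ma_12
  have h14 : ∀ u < 25466, (fun u => chkAux tab aux u) u = true := ext_range (a := 23647) (len := 1819) h13 ma_13
  have h15 : ∀ u < 27285, (fun u => chkAux tab aux u) u = true := ext_range (a := 25466) (len := 1819) h14 ma_14
  have h16 : ∀ u < 29104, (fun u => chkAux tab aux u) u = true := ext_range (a := 27285) (len := 1819) h15 ma_15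
  have h17 : ∀ u < 30923, (fun u => chkAux tab aux u) u = true := ext_range (a := 29104) (len := 1819) h16 ma_16
  have h18 : ∀ u < 32742, (fun u => chkAux tab aux u) u = true := ext_range (a := 30923) (len := 1819) h17 ma_17
  have h19 : ∀ u < 34561, (fun u => chkAux tab aux u) u = true := ext_range (a := 32742) (len := 1819) h18 ma_18
  have h20 : ∀ u < 36380, (fun u => chkAux tab aux u) u = true := ext_range (a := 34561) (len := 1819) h19 ma_19
  have h21 : ∀ u < 38199, (fun u => chkAux tab aux u) u = true := ext_range (a := 36380) (len := 1819) h20 ma_20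
  have h22 : ∀ u < 40018, (fun u => chkAux tab aux u) u = true := ext_range (a := 38199) (len := 1819) h21 ma_21
  have h23 : ∀ u < 41837, (fun u => chkAux tab aux u) u = true := ext_range (a := 40018) (len := 1819) h22 ma_22
  have h24 : ∀ u < 43656, (fun u => chkAux tab aux u) u = true := ext_range (a := 41837) (len := 1819) h23 ma_23
  have h25 : ∀ u < 45475, (fun u => chkAux tab aux u) u = true := ext_range (a := 43656) (len := 1819) h24 ma_24
  have h26 : ∀ u < 47294, (fun u => chkAux tab aux u) u = true := ext_range (a := 45475) (len := 1819) h25 ma_25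
  have h27 : ∀ u < 49113, (fun u => chkAux tab aux u) u = true := ext_range (a := 47294) (len := 1819) h26 ma_26
  have h28 : ∀ u < 50932, (fun u => chkAux tab aux u) u = true := ext_range (a := 49113) (len := 1819) h27 ma_27
  have h29 : ∀ u < 52751, (fun u => chkAux tab aux u) u = true := ext_range (a := 50932) (len := 1819) h28 ma_28
  have h30 : ∀ u < 54570, (fun u => chkAux tab aux u) u = true := ext_range (a := 52751) (len := 1819) h29 ma_29
  have h31 : ∀ u < 56389, (fun u => chkAux tab aux u) u = true := ext_range (a := 54570) (len := 1819) h30 ma_30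
  have h32 : ∀ u < 58208, (fun u => chkAux tab aux u) u = true := ext_range (a := 56389) (len := 1819) h31 ma_31
  have h33 : ∀ u < 60027, (fun u => chkAux tab aux u) u = true := ext_range (a := 58208) (len := 1819) h32 ma_32
  have h34 : ∀ u < 61846, (fun u => chkAux tab aux u) u = true := ext_range (a := 60027) (len := 1819) h33 ma_33
  have h35 : ∀ u < 63665, (fun u => chkAux tab aux u) u = true := ext_range (a := 61846) (len := 1819) h34 ma_34
  have h36 : ∀ u < 65484, (fun u => chkAux tab aux u) u = true := ext_range (a := 63665) (len := 1819) h35 ma_35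
  have h37 : ∀ u < 67303, (fun u => chkAux tab aux u) u = true := ext_range (a := 65484) (len := 1819) h36 ma_36
  have h38 : ∀ u < 69122, (fun u => chkAux tab aux u) u = true := ext_range (a := 67303) (len := 1819) h37 ma_37
  have h39 : ∀ u < 70941, (fun u => chkAux tab aux u) u = true := ext_range (a := 69122) (len := 1819) h38 ma_38
  have h40 : ∀ u < 72760, (fun u => chkAux tab aux u) u = true := ext_range (a := 70941) (len := 1819) h39 ma_39
  have h41 : ∀ u < 74579, (fun u => chkAux tab aux u) u = true := ext_range (a := 72760) (len := 1819) h40 ma_40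
  have h42 : ∀ u < 76398, (fun u => chkAux tab aux u) u = true := ext_range (a := 74579) (len := 1819) h41 ma_41
  have h43 : ∀ u < 78217, (fun u => chkAux tab aux u) u = true := ext_range (a := 76398) (len := 1819) h42 ma_42
  have h44 : ∀ u < 80036, (fun u => chkAux tab aux u) u = true := ext_range (a := 78217) (len := 1819) h43 ma_43
  have h45 : ∀ u < 81855, (fun u => chkAux tab aux u) u = true := ext_range (a := 80036) (len := 1819) h44 ma_44
  have h46 : ∀ u < 83674, (fun u => chkAux tab aux u) u = true := ext_range (a := 81855) (len := 1819) h45 ma_45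
  have h47 : ∀ u < 85493, (fun u => chkAux tab aux u) u = true := ext_range (a := 83674) (len := 1819) h46 ma_46
  have h48 : ∀ u < 87312, (fun u => chkAux tab aux u) u = true := ext_range (a := 85493) (len := 1819) h47 ma_47
  have h49 : ∀ u < 89131, (fun u => chkAux tab aux u) u = true := ext_range (a := 87312) (len := 1819) h48 ma_48
  have h50 : ∀ u < 90950, (fun u => chkAux tab aux u) u = true := ext_range (a := 89131) (len := 1819) h49 ma_49
  have h51 : ∀ u < 92769, (fun u => chkAux tab aux u) u = true := ext_range (a := 90950) (len := 1819) h50 ma_50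
  have h52 : ∀ u < 94588, (fun u => chkAux tab aux u) u = true := ext_range (a := 92769) (len := 1819) h51 ma_51
  have h53 : ∀ u < 96407, (fun u => chkAux tab aux u) u = true := ext_range (a := 94588) (len := 1819) h52 ma_52
  have h54 : ∀ u < 98226, (fun u => chkAux tab aux u) u = true := ext_range (a := 96407) (len := 1819) h53 ma_53
  have h55 : ∀ u < 100045, (fun u => chkAux tab aux u) u = true := ext_range (a := 98226) (len := 1819) h54 ma_54
  have h56 : ∀ u < 101864, (fun u => chkAux tab aux u) u = true := ext_range (a := 100045) (len := 1819) h55 ma_55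
  have h57 : ∀ u < 103683, (fun u => chkAux tab aux u) u = true := ext_range (a := 101864) (len := 1819) h56 ma_56
  have h58 : ∀ u < 105502, (fun u => chkAux tab aux u) u = true := ext_range (a := 103683) (len := 1819) h57 ma_57
  have h59 : ∀ u < 107321, (fun u => chkAux tab aux u) u = true := ext_range (a := 105502) (len := 1819) h58 ma_58
  have h60 : ∀ u < 109140, (fun u => chkAux tab aux u) u = true := ext_range (a := 107321) (len := 1819) h59 ma_59
  have h61 : ∀ u < 110959, (fun u => chkAux tab aux u) u = true := ext_range (a := 109140) (len := 1819) h60 ma_60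
  have h62 : ∀ u < 112778, (fun u => chkAux tab aux u) u = true := ext_range (a := 110959) (len := 1819) h61 ma_61
  have h63 : ∀ u < 114597, (fun u => chkAux tab aux u) u = true := ext_range (a := 112778) (len := 1819) h62 ma_62
  have h64 : ∀ u < 116416, (fun u => chkAux tab aux u) u = true := ext_range (a := 114597) (len := 1819) h63 ma_63
  have h65 : ∀ u < 118235, (fun u => chkAux tab aux u) u = true := ext_range (a := 116416) (len := 1819) h64 ma_64
  have h66 : ∀ u < 120054, (fun u => chkAux tab aux u) u = true := ext_range (a := 118235) (len := 1819) h65 ma_65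
  have h67 : ∀ u < 121873, (fun u => chkAux tab aux u) u = true := ext_range (a := 120054) (len := 1819) h66 ma_66
  have h68 : ∀ u < 123692, (fun u => chkAux tab aux u) u = true := ext_range (a := 121873) (len := 1819) h67 ma_67
  have h69 : ∀ u < 125511, (fun u => chkAux tab aux u) u = true := ext_range (a := 123692) (len := 1819) h68 ma_68
  have h70 : ∀ u < 127330, (fun u => chkAux tab aux u) u = true := ext_range (a := 125511) (len := 1819) h69 ma_69
  have h71 : ∀ u < 129149, (fun u => chkAux tab aux u) u = true := ext_range (a := 127330) (len := 1819) h70 ma_70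
  have h72 : ∀ u < 130968, (fun u => chkAux tab aux u) u = true := ext_range (a := 129149) (len := 1819) h71 ma_71
  have h73 : ∀ u < 132787, (fun u => chkAux tab aux u) u = true := ext_range (a := 130968) (len := 1819) h72 ma_72
  have h74 : ∀ u < 134606, (fun u => chkAux tab aux u) u = true := ext_range (a := 132787) (len := 1819) h73 ma_73
  have h75 : ∀ u < 136425, (fun u => chkAux tab aux u) u = true := ext_range (a := 134606) (len := 1819) h74 ma_74
  have h76 : ∀ u < 138244, (fun u => chkAux tab aux u) u = true := ext_range (a := 136425) (len := 1819) h75 ma_75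
  have h77 : ∀ u < 140063, (fun u => chkAux tab aux u) u = true := ext_range (a := 138244) (len := 1819) h76 ma_76
  have h78 : ∀ u < 141882, (fun u => chkAux tab aux u) u = true := ext_range (a := 140063) (len := 1819) h77 ma_77
  have h79 : ∀ u < 143701, (fun u => chkAux tab aux u) u = true := ext_range (a := 141882) (len := 1819) h78 ma_78
  have h80 : ∀ u < 145520, (fun u => chkAux tab aux u) u = true := ext_range (a := 143701) (len := 1819) h79 ma_79
  have h81 : ∀ u < 147339, (fun u => chkAux tab aux u) u = true := ext_range (a := 145520) (len := 1819) h80 ma_80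
  have h82 : ∀ u < 149158, (fun u => chkAux tab aux u) u = true := ext_range (a := 147339) (len := 1819) h81 ma_81
  have h83 : ∀ u < 150977, (fun u => chkAux tab aux u) u = true := ext_range (a := 149158) (len := 1819) h82 ma_82
  have h84 : ∀ u < 152796, (fun u => chkAux tab aux u) u = true := ext_range (a := 150977) (len := 1819) h83 ma_83
  have h85 : ∀ u < 154615, (fun u => chkAux tab aux u) u = true := ext_range (a := 152796) (len := 1819) h84 ma_84
  have h86 : ∀ u < 156434, (fun u => chkAux tab aux u) u = true := ext_range (a := 154615) (len := 1819) h85 ma_85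
  have h87 : ∀ u < 158253, (fun u => chkAux tab aux u) u = true := ext_range (a := 156434) (len := 1819) h86 ma_86
  have h88 : ∀ u < 160072, (fun u => chkAux tab aux u) u = true := ext_range (a := 158253) (len := 1819) h87 ma_87
  have h89 : ∀ u < 161891, (fun u => chkAux tab aux u) u = true := ext_range (a := 160072) (len := 1819) h88 ma_88
  have h90 : ∀ u < 163710, (fun u => chkAux tab aux u) u = true := ext_range (a := 161891) (len := 1819) h89 ma_89
  have h91 : ∀ u < 165529, (fun u => chkAux tab aux u) u = true := ext_range (a := 163710) (len := 1819) h90 ma_90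
  have h92 : ∀ u < 167348, (fun u => chkAux tab aux u) u = true := ext_range (a := 165529) (len := 1819) h91 ma_91
  have h93 : ∀ u < 169167, (fun u => chkAux tab aux u) u = true := ext_range (a := 167348) (len := 1819) h92 ma_92
  have h94 : ∀ u < 170986, (fun u => chkAux tab aux u) u = true := ext_range (a := 169167) (len := 1819) h93 ma_93
  have h95 : ∀ u < 172805, (fun u => chkAux tab aux u) u = true := ext_range (a := 170986) (len := 1819) h94 ma_94
  have h96 : ∀ u < 174624, (fun u => chkAux tab aux u) u = true := ext_range (a := 172805) (len := 1819) h95 ma_95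
  have h97 : ∀ u < 176443, (fun u => chkAux tab aux u) u = true := ext_range (a := 174624) (len := 1819) h96 ma_96
  have h98 : ∀ u < 178262, (fun u => chkAux tab aux u) u = true := ext_range (a := 176443) (len := 1819) h97 ma_97
  have h99 : ∀ u < 180081, (fun u => chkAux tab aux u) u = true := ext_range (a := 178262) (len := 1819) h98 ma_98
  have h100 : ∀ u < 181900, (fun u => chkAux tab aux u) u = true := ext_range (a := 180081) (len := 1819) h99 ma_99
  have h101 : ∀ u < 183719, (fun u => chkAux tab aux u) u = true := ext_range (a := 181900) (len := 1819) h100 ma_100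
  have h102 : ∀ u < 185538, (fun u => chkAux tab aux u) u = true := ext_range (a := 183719) (len := 1819) h101 ma_101
  have h103 : ∀ u < 187357, (fun u => chkAux tab aux u) u = true := ext_range (a := 185538) (len := 1819) h102 ma_102
  have h104 : ∀ u < 189176, (fun u => chkAux tab aux u) u = true := ext_range (a := 187357) (len := 1819) h103 ma_103
  have h105 : ∀ u < 190995, (fun u => chkAux tab aux u) u = true := ext_range (a := 189176) (len := 1819) h104 ma_104
  have h106 : ∀ u < 192814, (fun u => chkAux tab aux u) u = true := ext_range (a := 190995) (len := 1819) h105 ma_105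
  have h107 : ∀ u < 194633, (fun u => chkAux tab aux u) u = true := ext_range (a := 192814) (len := 1819) h106 ma_106
  have h108 : ∀ u < 196452, (fun u => chkAux tab aux u) u = true := ext_range (a := 194633) (len := 1819) h107 ma_107
  have h109 : ∀ u < 198271, (fun u => chkAux tab aux u) u = true := ext_range (a := 196452) (len := 1819) h108 ma_108
  have h110 : ∀ u < 200090, (fun u => chkAux tab aux u) u = true := ext_range (a := 198271) (len := 1819) h109 ma_109
  have h111 : ∀ u < 201909, (fun u => chkAux tab aux u) u = true := ext_range (a := 200090) (len := 1819) h110 ma_110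
  have h112 : ∀ u < 203728, (fun u => chkAux tab aux u) u = true := ext_range (a := 201909) (len := 1819) h111 ma_111
  have h113 : ∀ u < 205547, (fun u => chkAux tab aux u) u = true := ext_range (a := 203728) (len := 1819) h112 ma_112
  have h114 : ∀ u < 207366, (fun u => chkAux tab aux u) u = true := ext_range (a := 205547) (len := 1819) h113 ma_113
  have h115 : ∀ u < 209185, (fun u => chkAux tab aux u) u = true := ext_range (a := 207366) (len := 1819) h114 ma_114
  have h116 : ∀ u < 211004, (fun u => chkAux tab aux u) u = true := ext_range (a := 209185) (len := 1819) h115 ma_115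
  have h117 : ∀ u < 212823, (fun u => chkAux tab aux u) u = true := ext_range (a := 211004) (len := 1819) h116 ma_116
  have h118 : ∀ u < 214642, (fun u => chkAux tab aux u) u = true := ext_range (a := 212823) (len := 1819) h117 ma_117
  have h119 : ∀ u < 216461, (fun u => chkAux tab aux u) u = true := ext_range (a := 214642) (len := 1819) h118 ma_118
  have h120 : ∀ u < 218280, (fun u => chkAux tab aux u) u = true := ext_range (a := 216461) (len := 1819) h119 ma_119
  have h121 : ∀ u < 220099, (fun u => chkAux tab aux u) u = true := ext_range (a := 218280) (len := 1819) h120 ma_120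
  have h122 : ∀ u < 221918, (fun u => chkAux tab aux u) u = true := ext_range (a := 220099) (len := 1819) h121 ma_121
  have h123 : ∀ u < 223737, (fun u => chkAux tab aux u) u = true := ext_range (a := 221918) (len := 1819) h122 ma_122
  have h124 : ∀ u < 225556, (fun u => chkAux tab aux u) u = true := ext_range (a := 223737) (len := 1819) h123 ma_123
  have h125 : ∀ u < 227375, (fun u => chkAux tab aux u) u = true := ext_range (a := 225556) (len := 1819) h124 ma_124
  have h126 : ∀ u < 229194, (fun u => chkAux tab aux u) u = true := ext_range (a := 227375) (len := 1819) h125 ma_125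
  have h127 : ∀ u < 231013, (fun u => chkAux tab aux u) u = true := ext_range (a := 229194) (len := 1819) h126 ma_126
  have h128 : ∀ u < 232832, (fun u => chkAux tab aux u) u = true := ext_range (a := 231013) (len := 1819) h127 ma_127
  have h129 : ∀ u < 234651, (fun u => chkAux tab aux u) u = true := ext_range (a := 232832) (len := 1819) h128 ma_128
  have h130 : ∀ u < 236470, (fun u => chkAux tab aux u) u = true := ext_range (a := 234651) (len := 1819) h129 ma_129
  have h131 : ∀ u < 238289, (fun u => chkAux tab aux u) u = true := ext_range (a := 236470) (len := 1819) h130 ma_130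
  have h132 : ∀ u < 240108, (fun u => chkAux tab aux u) u = true := ext_range (a := 238289) (len := 1819) h131 ma_131
  have h133 : ∀ u < 241927, (fun u => chkAux tab aux u) u = true := ext_range (a := 240108) (len := 1819) h132 ma_132
  have h134 : ∀ u < 243746, (fun u => chkAux tab aux u) u = true := ext_range (a := 241927) (len := 1819) h133 ma_133
  have h135 : ∀ u < 245565, (fun u => chkAux tab aux u) u = true := ext_range (a := 243746) (len := 1819) h134 ma_134
  have h136 : ∀ u < 247384, (fun u => chkAux tab aux u) u = true := ext_range (a := 245565) (len := 1819) h135 ma_135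
  have h137 : ∀ u < 249203, (fun u => chkAux tab aux u) u = true := ext_range (a := 247384) (len := 1819) h136 ma_136
  have h138 : ∀ u < 251022, (fun u => chkAux tab aux u) u = true := ext_range (a := 249203) (len := 1819) h137 ma_137
  have h139 : ∀ u < 252841, (fun u => chkAux tab aux u) u = true := ext_range (a := 251022) (len := 1819) h138 ma_138
  have h140 : ∀ u < 254660, (fun u => chkAux tab aux u) u = true := ext_range (a := 252841) (len := 1819) h139 ma_139
  have h141 : ∀ u < 256479, (fun u => chkAux tab aux u) u = true := ext_range (a := 254660) (len := 1819) h140 ma_140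
  have h142 : ∀ u < 258298, (fun u => chkAux tab aux u) u = true := ext_range (a := 256479) (len := 1819) h141 ma_141
  have h143 : ∀ u < 260117, (fun u => chkAux tab aux u) u = true := ext_range (a := 258298) (len := 1819) h142 ma_142
  have h144 : ∀ u < 261936, (fun u => chkAux tab aux u) u = true := ext_range (a := 260117) (len := 1819) h143 ma_143
  have h145 : ∀ u < 263755, (fun u => chkAux tab aux u) u = true := ext_range (a := 261936) (len := 1819) h144 ma_144
  have h146 : ∀ u < 265574, (fun u => chkAux tab aux u) u = true := ext_range (a := 263755) (len := 1819) h145 ma_145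
  have h147 : ∀ u < 266560, (fun u => chkAux tab aux u) u = true := ext_range (a := 265574) (len := 986) h146 ma_146
  exact h147

theorem hM2A : ∀ u < 266560, chkFix tab mwordsA u = true := by
  have h0 : ∀ u < 0, (fun u => chkFix tab mwordsA u) u = true := range_zero
  have h1 : ∀ u < 94, (fun u => chkFix tab mwordsA u) u = true := ext_range (a := 0) (len := 94) h0 m2_0
  have h2 : ∀ u < 188, (fun u => chkFix tab mwordsA u) u = true := ext_range (a := 94) (len := 94) h1 m2_1
  have h3 : ∀ u < 282, (fun u => chkFix tab mwordsA u) u = true := ext_range (a := 188) (len := 94) h2 m2_2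
  have h4 : ∀ u < 376, (fun u => chkFix tab mwordsA u) u = true := ext_range (a := 282) (len := 94) h3 m2_3
  have h5 : ∀ u < 470, (fun u => chkFix tab mwordsA u) u = true := ext_range (a := 376) (len := 94) h4 m2_4
  have h6 : ∀ u < 564, (fun u => chkFix tab mwordsA u) u = true := ext_range (a := 470) (len := 94) h5 m2_5
  have h7 : ∀ u < 658, (fun u => chkFix tab mwordsA u) u = true := ext_range (a := 564) (len := 94) h6 m2_6
  have h8 : ∀ u < 752, (fun u => chkFix tab mwordsA u) u = true := ext_range (a := 658) (len := 94) h7 m2_7
  have h9 : ∀ u < 846, (fun u => chkFix tab mwordsA u) u = true := ext_range (a := 752) (len := 94) h8 m2_8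
  have h10 : ∀ u < 940, (fun u => chkFix tab mwordsA u) u = true := ext_range (a := 846) (len := 94) h9 m2_9
  have h11 : ∀ u < 1034, (fun u => chkFix tab mwordsA u) u = true := ext_range (a := 940) (len := 94) h10 m2_10
  have h12 : ∀ u < 1128, (fun u => chkFix tab mwordsA u) u = true := ext_range (a := 1034) (len := 94) h11 m2_11
  have h13 : ∀ u < 1222, (fun u => chkFix tab mwordsA u) u = true := ext_range (a := 1128) (len := 94) h12 m2_12
  have h14 : ∀ u < 1316, (fun u => chkFix tab mwordsA u) u = true := ext_range (a := 1222) (len := 94) h13 m2_13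
  have h15 : ∀ u < 1410, (fun u => chkFix tab mwordsA u) u = true := ext_range (a := 1316) (len := 94) h14 m2_14
  have h16 : ∀ u < 1504, (fun u => chkFix tab mwordsA u) u = true := ext_range (a := 1410) (len := 94) h15 m2_15
  have h17 : ∀ u < 1598, (fun u => chkFix tab mwordsA u) u = true := ext_range (a := 1504) (len := 94) h16 m2_16
  have h18 : ∀ u < 1692, (fun u => chkFix tab mwordsA u) u = true := ext_range (a := 1598) (len := 94) h17 m2_17
  have h19 : ∀ u < 1786, (fun u => chkFix tab mwordsA u) u = true := ext_range (a := 1692) (len := 94) h18 m2_18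
  have h20 : ∀ u < 1880, (fun u => chkFix tab mwordsA u) u = true := ext_range (a := 1786) (len := 94) h19 m2_19
  have h21 : ∀ u < 1974, (fun u => chkFix tab mwordsA u) u = true := ext_range (a := 1880) (len := 94) h20 m2_20
  have h22 : ∀ u < 2068, (fun u => chkFix tab mwordsA u) u = true := ext_range (a := 1974) (len := 94) h21 m2_21
  have h23 : ∀ u < 2162, (fun u => chkFix tab mwordsA u) u = true := ext_range (a := 2068) (len := 94) h22 m2_22
  have h24 : ∀ u < 2256, (fun u => chkFix tab mwordsA u) u = true := ext_range (a := 2162) (len := 94) h23 m2_23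
  have h25 : ∀ u < 2350, (fun u => chkFix tab mwordsA u) u = true := ext_range (a := 2256) (len := 94) h24 m2_24
  have h26 : ∀ u < 2444, (fun u => chkFix tab mwordsA u) u = true := ext_range (a := 2350) (len := 94) h25 m2_25
  have h27 : ∀ u < 2538, (fun u => chkFix tab mwordsA u) u = true := ext_range (a := 2444) (len := 94) h26 m2_26
  have h28 : ∀ u < 2632, (fun u => chkFix tab mwordsA u) u = true := ext_range (a := 2538) (len := 94) h27 m2_27
  have h29 : ∀ u < 2726, (fun u => chkFix tab mwordsA u) u = true := ext_range (a := 2632) (len := 94) h28 m2_28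
  have h30 : ∀ u < 2820, (fun u => chkFix tab mwordsA u) u = true := ext_range (a := 2726) (len := 94) h29 m2_29
  have h31 : ∀ u < 2914, (fun u => chkFix tab mwordsA u) u = true := ext_range (a := 2820) (len := 94) h30 m2_30
  have h32 : ∀ u < 3008, (fun u => chkFix tab mwordsA u) u = true := ext_range (a := 2914) (len := 94) h31 m2_31
  have h33 : ∀ u < 3102, (fun u => chkFix tab mwordsA u) u = true := ext_range (a := 3008) (len := 94) h32 m2_32
  have h34 : ∀ u < 3196, (fun u => chkFix tab mwordsA u) u = true := ext_range (a := 3102) (len := 94) h33 m2_33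
  have h35 : ∀ u < 3290, (fun u => chkFix tab mwordsA u) u = true := ext_range (a := 3196) (len := 94) h34 m2_34
  have h36 : ∀ u < 3384, (fun u => chkFix tab mwordsA u) u = true := ext_range (a := 3290) (len := 94) h35 m2_35
  have h37 : ∀ u < 3478, (fun u => chkFix tab mwordsA u) u = true := ext_range (a := 3384) (len := 94) h36 m2_36
  have h38 : ∀ u < 3572, (fun u => chkFix tab mwordsA u) u = true := ext_range (a := 3478) (len := 94) h37 m2_37
  have h39 : ∀ u < 3666, (fun u => chkFix tab mwordsA u) u = true := ext_range (a := 3572) (len := 94) h38 m2_38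
  have h40 : ∀ u < 3760, (fun u => chkFix tab mwordsA u) u = true := ext_range (a := 3666) (len := 94) h39 m2_39
  have h41 : ∀ u < 3854, (fun u => chkFix tab mwordsA u) u = true := ext_range (a := 3760) (len := 94) h40 m2_40
  have h42 : ∀ u < 3948, (fun u => chkFix tab mwordsA u) u = true := ext_range (a := 3854) (len := 94) h41 m2_41
  have h43 : ∀ u < 4042, (fun u => chkFix tab mwordsA u) u = true := ext_range (a := 3948) (len := 94) h42 m2_42
  have h44 : ∀ u < 4136, (fun u => chkFix tab mwordsA u) u = true := ext_range (a := 4042) (len := 94) h43 m2_43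
  have h45 : ∀ u < 4230, (fun u => chkFix tab mwordsA u) u = true := ext_range (a := 4136) (len := 94) h44 m2_44
  have h46 : ∀ u < 4324, (fun u => chkFix tab mwordsA u) u = true := ext_range (a := 4230) (len := 94) h45 m2_45
  have h47 : ∀ u < 4418, (fun u => chkFix tab mwordsA u) u = true := ext_range (a := 4324) (len := 94) h46 m2_46
  have h48 : ∀ u < 4512, (fun u => chkFix tab mwordsA u) u = true := ext_range (a := 4418) (len := 94) h47 m2_47
  have h49 : ∀ u < 4606, (fun u => chkFix tab mwordsA u) u = true := ext_range (a := 4512) (len := 94) h48 m2_48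
  have h50 : ∀ u < 4700, (fun u => chkFix tab mwordsA u) u = true := ext_range (a := 4606) (len := 94) h49 m2_49
  have h51 : ∀ u < 4794, (fun u => chkFix tab mwordsA u) u = true := ext_range (a := 4700) (len := 94) h50 m2_50
  have h52 : ∀ u < 4888, (fun u => chkFix tab mwordsA u) u = true := ext_range (a := 4794) (len := 94) h51 m2_51
  have h53 : ∀ u < 4982, (fun u => chkFix tab mwordsA u) u = true := ext_range (a := 4888) (len := 94) h52 m2_52
  have h54 : ∀ u < 5076, (fun u => chkFix tab mwordsA u) u = true := ext_range (a := 4982) (len := 94) h53 m2_53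
  have h55 : ∀ u < 5170, (fun u => chkFix tab mwordsA u) u = true := ext_range (a := 5076) (len := 94) h54 m2_54
  have h56 : ∀ u < 5264, (fun u => chkFix tab mwordsA u) u = true := ext_range (a := 5170) (len := 94) h55 m2_55
  have h57 : ∀ u < 5358, (fun u => chkFix tab mwordsA u) u = true := ext_range (a := 5264) (len := 94) h56 m2_56
  have h58 : ∀ u < 5452, (fun u => chkFix tab mwordsA u) u = true := ext_range (a := 5358) (len := 94) h57 m2_57
  have h59 : ∀ u < 5546, (fun u => chkFix tab mwordsA u) u = true := ext_range (a := 5452) (len := 94) h58 m2_58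
  have h60 : ∀ u < 5640, (fun u => chkFix tab mwordsA u) u = true := ext_range (a := 5546) (len := 94) h59 m2_59
  have h61 : ∀ u < 5734, (fun u => chkFix tab mwordsA u) u = true := ext_range (a := 5640) (len := 94) h60 m2_60
  have h62 : ∀ u < 5828, (fun u => chkFix tab mwordsA u) u = true := ext_range (a := 5734) (len := 94) h61 m2_61
  have h63 : ∀ u < 5922, (fun u => chkFix tab mwordsA u) u = true := ext_range (a := 5828) (len := 94) h62 m2_62
  have h64 : ∀ u < 6016, (fun u => chkFix tab mwordsA u) u = true := ext_range (a := 5922) (len := 94) h63 m2_63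
  have h65 : ∀ u < 6110, (fun u => chkFix tab mwordsA u) u = true := ext_range (a := 6016) (len := 94) h64 m2_64
  have h66 : ∀ u < 6204, (fun u => chkFix tab mwordsA u) u = true := ext_range (a := 6110) (len := 94) h65 m2_65
  have h67 : ∀ u < 6298, (fun u => chkFix tab mwordsA u) u = true := ext_range (a := 6204) (len := 94) h66 m2_66
  have h68 : ∀ u < 6392, (fun u => chkFix tab mwordsA u) u = true := ext_range (a := 6298) (len := 94) h67 m2_67
  have h69 : ∀ u < 6486, (fun u => chkFix tab mwordsA u) u = true := ext_range (a := 6392) (len := 94) h68 m2_68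
  have h70 : ∀ u < 6580, (fun u => chkFix tab mwordsA u) u = true := ext_range (a := 6486) (len := 94) h69 m2_69
  have h71 : ∀ u < 6674, (fun u => chkFix tab mwordsA u) u = true := ext_range (a := 6580) (len := 94) h70 m2_70
  have h72 : ∀ u < 6768, (fun u => chkFix tab mwordsA u) u = true := ext_range (a := 6674) (len := 94) h71 m2_71
  have h73 : ∀ u < 6862, (fun u => chkFix tab mwordsA u) u = true := ext_range (a := 6768) (len := 94) h72 m2_72
  have h74 : ∀ u < 6956, (fun u => chkFix tab mwordsA u) u = true := ext_range (a := 6862) (len := 94) h73 m2_73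
  have h75 : ∀ u < 7050, (fun u => chkFix tab mwordsA u) u = true := ext_range (a := 6956) (len := 94) h74 m2_74
  have h76 : ∀ u < 7144, (fun u => chkFix tab mwordsA u) u = true := ext_range (a := 7050) (len := 94) h75 m2_75
  have h77 : ∀ u < 7238, (fun u => chkFix tab mwordsA u) u = true := ext_range (a := 7144) (len := 94) h76 m2_76
  have h78 : ∀ u < 7332, (fun u => chkFix tab mwordsA u) u = true := ext_range (a := 7238) (len := 94) h77 m2_77
  have h79 : ∀ u < 7426, (fun u => chkFix tab mwordsA u) u = true := ext_range (a := 7332) (len := 94) h78 m2_78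
  have h80 : ∀ u < 7520, (fun u => chkFix tab mwordsA u) u = true := ext_range (a := 7426) (len := 94) h79 m2_79
  have h81 : ∀ u < 7614, (fun u => chkFix tab mwordsA u) u = true := ext_range (a := 7520) (len := 94) h80 m2_80
  have h82 : ∀ u < 7708, (fun u => chkFix tab mwordsA u) u = true := ext_range (a := 7614) (len := 94) h81 m2_81
  have h83 : ∀ u < 7802, (fun u => chkFix tab mwordsA u) u = true := ext_range (a := 7708) (len := 94) h82 m2_82
  have h84 : ∀ u < 7896, (fun u => chkFix tab mwordsA u) u = true := ext_range (a := 7802) (len := 94) h83 m2_83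
  have h85 : ∀ u < 7990, (fun u => chkFix tab mwordsA u) u = true := ext_range (a := 7896) (len := 94) h84 m2_84
  have h86 : ∀ u < 8084, (fun u => chkFix tab mwordsA u) u = true := ext_range (a := 7990) (len := 94) h85 m2_85
  have h87 : ∀ u < 8178, (fun u => chkFix tab mwordsA u) u = true := ext_range (a := 8084) (len := 94) h86 m2_86
  have h88 : ∀ u < 8272, (fun u => chkFix tab mwordsA u) u = true := ext_range (a := 8178) (len := 94) h87 m2_87
  have h89 : ∀ u < 8366, (fun u => chkFix tab mwordsA u) u = true := ext_range (a := 8272) (len := 94) h88 m2_88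
  have h90 : ∀ u < 8460, (fun u => chkFix tab mwordsA u) u = true := ext_range (a := 8366) (len := 94) h89 m2_89
  have h91 : ∀ u < 8554, (fun u => chkFix tab mwordsA u) u = true := ext_range (a := 8460) (len := 94) h90 m2_90
  have h92 : ∀ u < 8648, (fun u => chkFix tab mwordsA u) u = true := ext_range (a := 8554) (len := 94) h91 m2_91
  have h93 : ∀ u < 8742, (fun u => chkFix tab mwordsA u) u = true := ext_range (a := 8648) (len := 94) h92 m2_92
  have h94 : ∀ u < 8836, (fun u => chkFix tab mwordsA u) u = true := ext_range (a := 8742) (len := 94) h93 m2_93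
  have h95 : ∀ u < 8930, (fun u => chkFix tab mwordsA u) u = true := ext_range (a := 8836) (len := 94) h94 m2_94
  have h96 : ∀ u < 9024, (fun u => chkFix tab mwordsA u) u = true := ext_range (a := 8930) (len := 94) h95 m2_95
  have h97 : ∀ u < 9118, (fun u => chkFix tab mwordsA u) u = true := ext_range (a := 9024) (len := 94) h96 m2_96
  have h98 : ∀ u < 9212, (fun u => chkFix tab mwordsA u) u = true := ext_range (a := 9118) (len := 94) h97 m2_97
  have h99 : ∀ u < 9306, (fun u => chkFix tab mwordsA u) u = true := ext_range (a := 9212) (len := 94) h98 m2_98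
  have h100 : ∀ u < 9400, (fun u => chkFix tab mwordsA u) u = true := ext_range (a := 9306) (len := 94) h99 m2_99
  have h101 : ∀ u < 9494, (fun u => chkFix tab mwordsA u) u = true := ext_range (a := 9400) (len := 94) h100 m2_100
  have h102 : ∀ u < 9588, (fun u => chkFix tab mwordsA u) u = true := ext_range (a := 9494) (len := 94) h101 m2_101
  have h103 : ∀ u < 9682, (fun u => chkFix tab mwordsA u) u = true := ext_range (a := 9588) (len := 94) h102 m2_102
  have h104 : ∀ u < 9776, (fun u => chkFix tab mwordsA u) u = true := ext_range (a := 9682) (len := 94) h103 m2_103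
  have h105 : ∀ u < 9870, (fun u => chkFix tab mwordsA u) u = true := ext_range (a := 9776) (len := 94) h104 m2_104
  have h106 : ∀ u < 9964, (fun u => chkFix tab mwordsA u) u = true := ext_range (a := 9870) (len := 94) h105 m2_105
  have h107 : ∀ u < 10058, (fun u => chkFix tab mwordsA u) u = true := ext_range (a := 9964) (len := 94) h106 m2_106
  have h108 : ∀ u < 10152, (fun u => chkFix tab mwordsA u) u = true := ext_range (a := 10058) (len := 94) h107 m2_107
  have h109 : ∀ u < 10246, (fun u => chkFix tab mwordsA u) u = true := ext_range (a := 10152) (len := 94) h108 m2_108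
  have h110 : ∀ u < 10340, (fun u => chkFix tab mwordsA u) u = true := ext_range (a := 10246) (len := 94) h109 m2_109
  have h111 : ∀ u < 10434, (fun u => chkFix tab mwordsA u) u = true := ext_range (a := 10340) (len := 94) h110 m2_110
  have h112 : ∀ u < 10528, (fun u => chkFix tab mwordsA u) u = true := ext_range (a := 10434) (len := 94) h111 m2_111
  have h113 : ∀ u < 10622, (fun u => chkFix tab mwordsA u) u = true := ext_range (a := 10528) (len := 94) h112 m2_112
  have h114 : ∀ u < 10716, (fun u => chkFix tab mwordsA u) u = true := ext_range (a := 10622) (len := 94) h113 m2_113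
  have h115 : ∀ u < 10810, (fun u => chkFix tab mwordsA u) u = true := ext_range (a := 10716) (len := 94) h114 m2_114
  have h116 : ∀ u < 10904, (fun u => chkFix tab mwordsA u) u = true := ext_range (a := 10810) (len := 94) h115 m2_115
  have h117 : ∀ u < 10998, (fun u => chkFix tab mwordsA u) u = true := ext_range (a := 10904) (len := 94) h116 m2_116
  have h118 : ∀ u < 11092, (fun u => chkFix tab mwordsA u) u = true := ext_range (a := 10998) (len := 94) h117 m2_117
  have h119 : ∀ u < 11186, (fun u => chkFix tab mwordsA u) u = true := ext_range (a := 11092) (len := 94) h118 m2_118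
  have h120 : ∀ u < 11280, (fun u => chkFix tab mwordsA u) u = true := ext_range (a := 11186) (len := 94) h119 m2_119
  have h121 : ∀ u < 11374, (fun u => chkFix tab mwordsA u) u = true := ext_range (a := 11280) (len := 94) h120 m2_120
  have h122 : ∀ u < 11468, (fun u => chkFix tab mwordsA u) u = true := ext_range (a := 11374) (len := 94) h121 m2_121
  have h123 : ∀ u < 11562, (fun u => chkFix tab mwordsA u) u = true := ext_range (a := 11468) (len := 94) h122 m2_122
  have h124 : ∀ u < 11656, (fun u => chkFix tab mwordsA u) u = true := ext_range (a := 11562) (len := 94) h123 m2_123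
  have h125 : ∀ u < 11750, (fun u => chkFix tab mwordsA u) u = true := ext_range (a := 11656) (len := 94) h124 m2_124
  have h126 : ∀ u < 11844, (fun u => chkFix tab mwordsA u) u = true := ext_range (a := 11750) (len := 94) h125 m2_125
  have h127 : ∀ u < 11938, (fun u => chkFix tab mwordsA u) u = true := ext_range (a := 11844) (len := 94) h126 m2_126
  have h128 : ∀ u < 12032, (fun u => chkFix tab mwordsA u) u = true := ext_range (a := 11938) (len := 94) h127 m2_127
  have h129 : ∀ u < 12126, (fun u => chkFix tab mwordsA u) u = true := ext_range (a := 12032) (len := 94) h128 m2_128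
  have h130 : ∀ u < 12220, (fun u => chkFix tab mwordsA u) u = true := ext_range (a := 12126) (len := 94) h129 m2_129
  have h131 : ∀ u < 12314, (fun u => chkFix tab mwordsA u) u = true := ext_range (a := 12220) (len := 94) h130 m2_130
  have h132 : ∀ u < 12408, (fun u => chkFix tab mwordsA u) u = true := ext_range (a := 12314) (len := 94) h131 m2_131
  have h133 : ∀ u < 12502, (fun u => chkFix tab mwordsA u) u = true := ext_range (a := 12408) (len := 94) h132 m2_132
  have h134 : ∀ u < 12596, (fun u => chkFix tab mwordsA u) u = true := ext_range (a := 12502) (len := 94) h133 m2_133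
  have h135 : ∀ u < 12690, (fun u => chkFix tab mwordsA u) u = true := ext_range (a := 12596) (len := 94) h134 m2_134
  have h136 : ∀ u < 12784, (fun u => chkFix tab mwordsA u) u = true := ext_range (a := 12690) (len := 94) h135 m2_135
  have h137 : ∀ u < 12878, (fun u => chkFix tab mwordsA u) u = true := ext_range (a := 12784) (len := 94) h136 m2_136
  have h138 : ∀ u < 12972, (fun u => chkFix tab mwordsA u) u = true := ext_range (a := 12878) (len := 94) h137 m2_137
  have h139 : ∀ u < 13066, (fun u => chkFix tab mwordsA u) u = true := ext_range (a := 12972) (len := 94) h138 m2_138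
  have h140 : ∀ u < 13160, (fun u => chkFix tab mwordsA u) u = true := ext_range (a := 13066) (len := 94) h139 m2_139
  have h141 : ∀ u < 13254, (fun u => chkFix tab mwordsA u) u = true := ext_range (a := 13160) (len := 94) h140 m2_140
  have h142 : ∀ u < 13348, (fun u => chkFix tab mwordsA u) u = true := ext_range (a := 13254) (len := 94) h141 m2_141
  have h143 : ∀ u < 13442, (fun u => chkFix tab mwordsA u) u = true := ext_range (a := 13348) (len := 94) h142 m2_142
  have h144 : ∀ u < 13536, (fun u => chkFix tab mwordsA u) u = true := ext_range (a := 13442) (len := 94) h143 m2_143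
  have h145 : ∀ u < 13630, (fun u => chkFix tab mwordsA u) u = true := ext_range (a := 13536) (len := 94) h144 m2_144
  have h146 : ∀ u < 13724, (fun u => chkFix tab mwordsA u) u = true := ext_range (a := 13630) (len := 94) h145 m2_145
  have h147 : ∀ u < 13818, (fun u => chkFix tab mwordsA u) u = true := ext_range (a := 13724) (len := 94) h146 m2_146
  have h148 : ∀ u < 13912, (fun u => chkFix tab mwordsA u) u = true := ext_range (a := 13818) (len := 94) h147 m2_147
  have h149 : ∀ u < 14006, (fun u => chkFix tab mwordsA u) u = true := ext_range (a := 13912) (len := 94) h148 m2_148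
  have h150 : ∀ u < 14100, (fun u => chkFix tab mwordsA u) u = true := ext_range (a := 14006) (len := 94) h149 m2_149
  have h151 : ∀ u < 14194, (fun u => chkFix tab mwordsA u) u = true := ext_range (a := 14100) (len := 94) h150 m2_150
  have h152 : ∀ u < 14288, (fun u => chkFix tab mwordsA u) u = true := ext_range (a := 14194) (len := 94) h151 m2_151
  have h153 : ∀ u < 14382, (fun u => chkFix tab mwordsA u) u = true := ext_range (a := 14288) (len := 94) h152 m2_152
  have h154 : ∀ u < 14476, (fun u => chkFix tab mwordsA u) u = true := ext_range (a := 14382) (len := 94) h153 m2_153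
  have h155 : ∀ u < 14570, (fun u => chkFix tab mwordsA u) u = true := ext_range (a := 14476) (len := 94) h154 m2_154
  have h156 : ∀ u < 14664, (fun u => chkFix tab mwordsA u) u = true := ext_range (a := 14570) (len := 94) h155 m2_155
  have h157 : ∀ u < 14758, (fun u => chkFix tab mwordsA u) u = true := ext_range (a := 14664) (len := 94) h156 m2_156
  have h158 : ∀ u < 14852, (fun u => chkFix tab mwordsA u) u = true := ext_range (a := 14758) (len := 94) h157 m2_157
  have h159 : ∀ u < 14946, (fun u => chkFix tab mwordsA u) u = true := ext_range (a := 14852) (len := 94) h158 m2_158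
  have h160 : ∀ u < 15040, (fun u => chkFix tab mwordsA u) u = true := ext_range (a := 14946) (len := 94) h159 m2_159
  have h161 : ∀ u < 15134, (fun u => chkFix tab mwordsA u) u = true := ext_range (a := 15040) (len := 94) h160 m2_160
  have h162 : ∀ u < 15228, (fun u => chkFix tab mwordsA u) u = true := ext_range (a := 15134) (len := 94) h161 m2_161
  have h163 : ∀ u < 15322, (fun u => chkFix tab mwordsA u) u = true := ext_range (a := 15228) (len := 94) h162 m2_162
  have h164 : ∀ u < 15416, (fun u => chkFix tab mwordsA u) u = true := ext_range (a := 15322) (len := 94) h163 m2_163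
  have h165 : ∀ u < 15510, (fun u => chkFix tab mwordsA u) u = true := ext_range (a := 15416) (len := 94) h164 m2_164
  have h166 : ∀ u < 15604, (fun u => chkFix tab mwordsA u) u = true := ext_range (a := 15510) (len := 94) h165 m2_165
  have h167 : ∀ u < 15698, (fun u => chkFix tab mwordsA u) u = true := ext_range (a := 15604) (len := 94) h166 m2_166
  have h168 : ∀ u < 15792, (fun u => chkFix tab mwordsA u) u = true := ext_range (a := 15698) (len := 94) h167 m2_167
  have h169 : ∀ u < 15886, (fun u => chkFix tab mwordsA u) u = true := ext_range (a := 15792) (len := 94) h168 m2_168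
  have h170 : ∀ u < 15980, (fun u => chkFix tab mwordsA u) u = true := ext_range (a := 15886) (len := 94) h169 m2_169
  have h171 : ∀ u < 16074, (fun u => chkFix tab mwordsA u) u = true := ext_range (a := 15980) (len := 94) h170 m2_170
  have h172 : ∀ u < 16168, (fun u => chkFix tab mwordsA u) u = true := ext_range (a := 16074) (len := 94) h171 m2_171
  have h173 : ∀ u < 16262, (fun u => chkFix tab mwordsA u) u = true := ext_range (a := 16168) (len := 94) h172 m2_172
  have h174 : ∀ u < 16356, (fun u => chkFix tab mwordsA u) u = true := ext_range (a := 16262) (len := 94) h173 m2_173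
  have h175 : ∀ u < 16450, (fun u => chkFix tab mwordsA u) u = true := ext_range (a := 16356) (len := 94) h174 m2_174
  have h176 : ∀ u < 16544, (fun u => chkFix tab mwordsA u) u = true := ext_range (a := 16450) (len := 94) h175 m2_175
  have h177 : ∀ u < 16638, (fun u => chkFix tab mwordsA u) u = true := ext_range (a := 16544) (len := 94) h176 m2_176
  have h178 : ∀ u < 16732, (fun u => chkFix tab mwordsA u) u = true := ext_range (a := 16638) (len := 94) h177 m2_177
  have h179 : ∀ u < 16826, (fun u => chkFix tab mwordsA u) u = true := ext_range (a := 16732) (len := 94) h178 m2_178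
  have h180 : ∀ u < 16920, (fun u => chkFix tab mwordsA u) u = true := ext_range (a := 16826) (len := 94) h179 m2_179
  have h181 : ∀ u < 17014, (fun u => chkFix tab mwordsA u) u = true := ext_range (a := 16920) (len := 94) h180 m2_180
  have h182 : ∀ u < 17108, (fun u => chkFix tab mwordsA u) u = true := ext_range (a := 17014) (len := 94) h181 m2_181
  have h183 : ∀ u < 17202, (fun u => chkFix tab mwordsA u) u = true := ext_range (a := 17108) (len := 94) h182 m2_182
  have h184 : ∀ u < 17296, (fun u => chkFix tab mwordsA u) u = true := ext_range (a := 17202) (len := 94) h183 m2_183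
  have h185 : ∀ u < 17390, (fun u => chkFix tab mwordsA u) u = true := ext_range (a := 17296) (len := 94) h184 m2_184
  have h186 : ∀ u < 17484, (fun u => chkFix tab mwordsA u) u = true := ext_range (a := 17390) (len := 94) h185 m2_185
  have h187 : ∀ u < 17578, (fun u => chkFix tab mwordsA u) u = true := ext_range (a := 17484) (len := 94) h186 m2_186
  have h188 : ∀ u < 17672, (fun u => chkFix tab mwordsA u) u = true := ext_range (a := 17578) (len := 94) h187 m2_187
  have h189 : ∀ u < 17766, (fun u => chkFix tab mwordsA u) u = true := ext_range (a := 17672) (len := 94) h188 m2_188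
  have h190 : ∀ u < 17860, (fun u => chkFix tab mwordsA u) u = true := ext_range (a := 17766) (len := 94) h189 m2_189
  have h191 : ∀ u < 17954, (fun u => chkFix tab mwordsA u) u = true := ext_range (a := 17860) (len := 94) h190 m2_190
  have h192 : ∀ u < 18048, (fun u => chkFix tab mwordsA u) u = true := ext_range (a := 17954) (len := 94) h191 m2_191
  have h193 : ∀ u < 18142, (fun u => chkFix tab mwordsA u) u = true := ext_range (a := 18048) (len := 94) h192 m2_192
  have h194 : ∀ u < 18236, (fun u => chkFix tab mwordsA u) u = true := ext_range (a := 18142) (len := 94) h193 m2_193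
  have h195 : ∀ u < 18330, (fun u => chkFix tab mwordsA u) u = true := ext_range (a := 18236) (len := 94) h194 m2_194
  have h196 : ∀ u < 18424, (fun u => chkFix tab mwordsA u) u = true := ext_range (a := 18330) (len := 94) h195 m2_195
  have h197 : ∀ u < 18518, (fun u => chkFix tab mwordsA u) u = true := ext_range (a := 18424) (len := 94) h196 m2_196
  have h198 : ∀ u < 18612, (fun u => chkFix tab mwordsA u) u = true := ext_range (a := 18518) (len := 94) h197 m2_197
  have h199 : ∀ u < 18706, (fun u => chkFix tab mwordsA u) u = true := ext_range (a := 18612) (len := 94) h198 m2_198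
  have h200 : ∀ u < 18800, (fun u => chkFix tab mwordsA u) u = true := ext_range (a := 18706) (len := 94) h199 m2_199
  have h201 : ∀ u < 18894, (fun u => chkFix tab mwordsA u) u = true := ext_range (a := 18800) (len := 94) h200 m2_200
  have h202 : ∀ u < 18988, (fun u => chkFix tab mwordsA u) u = true := ext_range (a := 18894) (len := 94) h201 m2_201
  have h203 : ∀ u < 19082, (fun u => chkFix tab mwordsA u) u = true := ext_range (a := 18988) (len := 94) h202 m2_202
  have h204 : ∀ u < 19176, (fun u => chkFix tab mwordsA u) u = true := ext_range (a := 19082) (len := 94) h203 m2_203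
  have h205 : ∀ u < 19270, (fun u => chkFix tab mwordsA u) u = true := ext_range (a := 19176) (len := 94) h204 m2_204
  have h206 : ∀ u < 19364, (fun u => chkFix tab mwordsA u) u = true := ext_range (a := 19270) (len := 94) h205 m2_205
  have h207 : ∀ u < 19458, (fun u => chkFix tab mwordsA u) u = true := ext_range (a := 19364) (len := 94) h206 m2_206
  have h208 : ∀ u < 19552, (fun u => chkFix tab mwordsA u) u = true := ext_range (a := 19458) (len := 94) h207 m2_207
  have h209 : ∀ u < 19646, (fun u => chkFix tab mwordsA u) u = true := ext_range (a := 19552) (len := 94) h208 m2_208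
  have h210 : ∀ u < 19740, (fun u => chkFix tab mwordsA u) u = true := ext_range (a := 19646) (len := 94) h209 m2_209
  have h211 : ∀ u < 19834, (fun u => chkFix tab mwordsA u) u = true := ext_range (a := 19740) (len := 94) h210 m2_210
  have h212 : ∀ u < 19928, (fun u => chkFix tab mwordsA u) u = true := ext_range (a := 19834) (len := 94) h211 m2_211
  have h213 : ∀ u < 20022, (fun u => chkFix tab mwordsA u) u = true := ext_range (a := 19928) (len := 94) h212 m2_212
  have h214 : ∀ u < 20116, (fun u => chkFix tab mwordsA u) u = true := ext_range (a := 20022) (len := 94) h213 m2_213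
  have h215 : ∀ u < 20210, (fun u => chkFix tab mwordsA u) u = true := ext_range (a := 20116) (len := 94) h214 m2_214
  have h216 : ∀ u < 20304, (fun u => chkFix tab mwordsA u) u = true := ext_range (a := 20210) (len := 94) h215 m2_215
  have h217 : ∀ u < 20398, (fun u => chkFix tab mwordsA u) u = true := ext_range (a := 20304) (len := 94) h216 m2_216
  have h218 : ∀ u < 20492, (fun u => chkFix tab mwordsA u) u = true := ext_range (a := 20398) (len := 94) h217 m2_217
  have h219 : ∀ u < 20586, (fun u => chkFix tab mwordsA u) u = true := ext_range (a := 20492) (len := 94) h218 m2_218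
  have h220 : ∀ u < 20680, (fun u => chkFix tab mwordsA u) u = true := ext_range (a := 20586) (len := 94) h219 m2_219
  have h221 : ∀ u < 20774, (fun u => chkFix tab mwordsA u) u = true := ext_range (a := 20680) (len := 94) h220 m2_220
  have h222 : ∀ u < 20868, (fun u => chkFix tab mwordsA u) u = true := ext_range (a := 20774) (len := 94) h221 m2_221
  have h223 : ∀ u < 20962, (fun u => chkFix tab mwordsA u) u = true := ext_range (a := 20868) (len := 94) h222 m2_222
  have h224 : ∀ u < 21056, (fun u => chkFix tab mwordsA u) u = true := ext_range (a := 20962) (len := 94) h223 m2_223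
  have h225 : ∀ u < 21150, (fun u => chkFix tab mwordsA u) u = true := ext_range (a := 21056) (len := 94) h224 m2_224
  have h226 : ∀ u < 21244, (fun u => chkFix tab mwordsA u) u = true := ext_range (a := 21150) (len := 94) h225 m2_225
  have h227 : ∀ u < 21338, (fun u => chkFix tab mwordsA u) u = true := ext_range (a := 21244) (len := 94) h226 m2_226
  have h228 : ∀ u < 21432, (fun u => chkFix tab mwordsA u) u = true := ext_range (a := 21338) (len := 94) h227 m2_227
  have h229 : ∀ u < 21526, (fun u => chkFix tab mwordsA u) u = true := ext_range (a := 21432) (len := 94) h228 m2_228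
  have h230 : ∀ u < 21620, (fun u => chkFix tab mwordsA u) u = true := ext_range (a := 21526) (len := 94) h229 m2_229
  have h231 : ∀ u < 21714, (fun u => chkFix tab mwordsA u) u = true := ext_range (a := 21620) (len := 94) h230 m2_230
  have h232 : ∀ u < 21808, (fun u => chkFix tab mwordsA u) u = true := ext_range (a := 21714) (len := 94) h231 m2_231
  have h233 : ∀ u < 21902, (fun u => chkFix tab mwordsA u) u = true := ext_range (a := 21808) (len := 94) h232 m2_232
  have h234 : ∀ u < 21996, (fun u => chkFix tab mwordsA u) u = true := ext_range (a := 21902) (len := 94) h233 m2_233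
  have h235 : ∀ u < 22090, (fun u => chkFix tab mwordsA u) u = true := ext_range (a := 21996) (len := 94) h234 m2_234
  have h236 : ∀ u < 22184, (fun u => chkFix tab mwordsA u) u = true := ext_range (a := 22090) (len := 94) h235 m2_235
  have h237 : ∀ u < 22278, (fun u => chkFix tab mwordsA u) u = true := ext_range (a := 22184) (len := 94) h236 m2_236
  have h238 : ∀ u < 22372, (fun u => chkFix tab mwordsA u) u = true := ext_range (a := 22278) (len := 94) h237 m2_237
  have h239 : ∀ u < 22466, (fun u => chkFix tab mwordsA u) u = true := ext_range (a := 22372) (len := 94) h238 m2_238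
  have h240 : ∀ u < 22560, (fun u => chkFix tab mwordsA u) u = true := ext_range (a := 22466) (len := 94) h239 m2_239
  have h241 : ∀ u < 22654, (fun u => chkFix tab mwordsA u) u = true := ext_range (a := 22560) (len := 94) h240 m2_240
  have h242 : ∀ u < 22748, (fun u => chkFix tab mwordsA u) u = true := ext_range (a := 22654) (len := 94) h241 m2_241
  have h243 : ∀ u < 22842, (fun u => chkFix tab mwordsA u) u = true := ext_range (a := 22748) (len := 94) h242 m2_242
  have h244 : ∀ u < 22936, (fun u => chkFix tab mwordsA u) u = true := ext_range (a := 22842) (len := 94) h243 m2_243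
  have h245 : ∀ u < 23030, (fun u => chkFix tab mwordsA u) u = true := ext_range (a := 22936) (len := 94) h244 m2_244
  have h246 : ∀ u < 23124, (fun u => chkFix tab mwordsA u) u = true := ext_range (a := 23030) (len := 94) h245 m2_245
  have h247 : ∀ u < 23218, (fun u => chkFix tab mwordsA u) u = true := ext_range (a := 23124) (len := 94) h246 m2_246
  have h248 : ∀ u < 23312, (fun u => chkFix tab mwordsA u) u = true := ext_range (a := 23218) (len := 94) h247 m2_247
  have h249 : ∀ u < 23406, (fun u => chkFix tab mwordsA u) u = true := ext_range (a := 23312) (len := 94) h248 m2_248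
  have h250 : ∀ u < 23500, (fun u => chkFix tab mwordsA u) u = true := ext_range (a := 23406) (len := 94) h249 m2_249
  have h251 : ∀ u < 23594, (fun u => chkFix tab mwordsA u) u = true := ext_range (a := 23500) (len := 94) h250 m2_250
  have h252 : ∀ u < 23688, (fun u => chkFix tab mwordsA u) u = true := ext_range (a := 23594) (len := 94) h251 m2_251
  have h253 : ∀ u < 23782, (fun u => chkFix tab mwordsA u) u = true := ext_range (a := 23688) (len := 94) h252 m2_252
  have h254 : ∀ u < 23876, (fun u => chkFix tab mwordsA u) u = true := ext_range (a := 23782) (len := 94) h253 m2_253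
  have h255 : ∀ u < 23970, (fun u => chkFix tab mwordsA u) u = true := ext_range (a := 23876) (len := 94) h254 m2_254
  have h256 : ∀ u < 24064, (fun u => chkFix tab mwordsA u) u = true := ext_range (a := 23970) (len := 94) h255 m2_255
  have h257 : ∀ u < 24158, (fun u => chkFix tab mwordsA u) u = true := ext_range (a := 24064) (len := 94) h256 m2_256
  have h258 : ∀ u < 24252, (fun u => chkFix tab mwordsA u) u = true := ext_range (a := 24158) (len := 94) h257 m2_257
  have h259 : ∀ u < 24346, (fun u => chkFix tab mwordsA u) u = true := ext_range (a := 24252) (len := 94) h258 m2_258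
  have h260 : ∀ u < 24440, (fun u => chkFix tab mwordsA u) u = true := ext_range (a := 24346) (len := 94) h259 m2_259
  have h261 : ∀ u < 24534, (fun u => chkFix tab mwordsA u) u = true := ext_range (a := 24440) (len := 94) h260 m2_260
  have h262 : ∀ u < 24628, (fun u => chkFix tab mwordsA u) u = true := ext_range (a := 24534) (len := 94) h261 m2_261
  have h263 : ∀ u < 24722, (fun u => chkFix tab mwordsA u) u = true := ext_range (a := 24628) (len := 94) h262 m2_262
  have h264 : ∀ u < 24816, (fun u => chkFix tab mwordsA u) u = true := ext_range (a := 24722) (len := 94) h263 m2_263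
  have h265 : ∀ u < 24910, (fun u => chkFix tab mwordsA u) u = true := ext_range (a := 24816) (len := 94) h264 m2_264
  have h266 : ∀ u < 25004, (fun u => chkFix tab mwordsA u) u = true := ext_range (a := 24910) (len := 94) h265 m2_265
  have h267 : ∀ u < 25098, (fun u => chkFix tab mwordsA u) u = true := ext_range (a := 25004) (len := 94) h266 m2_266
  have h268 : ∀ u < 25192, (fun u => chkFix tab mwordsA u) u = true := ext_range (a := 25098) (len := 94) h267 m2_267
  have h269 : ∀ u < 25286, (fun u => chkFix tab mwordsA u) u = true := ext_range (a := 25192) (len := 94) h268 m2_268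
  have h270 : ∀ u < 25380, (fun u => chkFix tab mwordsA u) u = true := ext_range (a := 25286) (len := 94) h269 m2_269
  have h271 : ∀ u < 25474, (fun u => chkFix tab mwordsA u) u = true := ext_range (a := 25380) (len := 94) h270 m2_270
  have h272 : ∀ u < 25568, (fun u => chkFix tab mwordsA u) u = true := ext_range (a := 25474) (len := 94) h271 m2_271
  have h273 : ∀ u < 25662, (fun u => chkFix tab mwordsA u) u = true := ext_range (a := 25568) (len := 94) h272 m2_272
  have h274 : ∀ u < 25756, (fun u => chkFix tab mwordsA u) u = true := ext_range (a := 25662) (len := 94) h273 m2_273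
  have h275 : ∀ u < 25850, (fun u => chkFix tab mwordsA u) u = true := ext_range (a := 25756) (len := 94) h274 m2_274
  have h276 : ∀ u < 25944, (fun u => chkFix tab mwordsA u) u = true := ext_range (a := 25850) (len := 94) h275 m2_275
  have h277 : ∀ u < 26038, (fun u => chkFix tab mwordsA u) u = true := ext_range (a := 25944) (len := 94) h276 m2_276
  have h278 : ∀ u < 26132, (fun u => chkFix tab mwordsA u) u = true := ext_range (a := 26038) (len := 94) h277 m2_277
  have h279 : ∀ u < 26226, (fun u => chkFix tab mwordsA u) u = true := ext_range (a := 26132) (len := 94) h278 m2_278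
  have h280 : ∀ u < 26320, (fun u => chkFix tab mwordsA u) u = true := ext_range (a := 26226) (len := 94) h279 m2_279
  have h281 : ∀ u < 26414, (fun u => chkFix tab mwordsA u) u = true := ext_range (a := 26320) (len := 94) h280 m2_280
  have h282 : ∀ u < 26508, (fun u => chkFix tab mwordsA u) u = true := ext_range (a := 26414) (len := 94) h281 m2_281
  have h283 : ∀ u < 26602, (fun u => chkFix tab mwordsA u) u = true := ext_range (a := 26508) (len := 94) h282 m2_282
  have h284 : ∀ u < 26696, (fun u => chkFix tab mwordsA u) u = true := ext_range (a := 26602) (len := 94) h283 m2_283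
  have h285 : ∀ u < 26790, (fun u => chkFix tab mwordsA u) u = true := ext_range (a := 26696) (len := 94) h284 m2_284
  have h286 : ∀ u < 26884, (fun u => chkFix tab mwordsA u) u = true := ext_range (a := 26790) (len := 94) h285 m2_285
  have h287 : ∀ u < 26978, (fun u => chkFix tab mwordsA u) u = true := ext_range (a := 26884) (len := 94) h286 m2_286
  have h288 : ∀ u < 27072, (fun u => chkFix tab mwordsA u) u = true := ext_range (a := 26978) (len := 94) h287 m2_287
  have h289 : ∀ u < 27166, (fun u => chkFix tab mwordsA u) u = true := ext_range (a := 27072) (len := 94) h288 m2_288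
  have h290 : ∀ u < 27260, (fun u => chkFix tab mwordsA u) u = true := ext_range (a := 27166) (len := 94) h289 m2_289
  have h291 : ∀ u < 27354, (fun u => chkFix tab mwordsA u) u = true := ext_range (a := 27260) (len := 94) h290 m2_290
  have h292 : ∀ u < 27448, (fun u => chkFix tab mwordsA u) u = true := ext_range (a := 27354) (len := 94) h291 m2_291
  have h293 : ∀ u < 27542, (fun u => chkFix tab mwordsA u) u = true := ext_range (a := 27448) (len := 94) h292 m2_292
  have h294 : ∀ u < 27636, (fun u => chkFix tab mwordsA u) u = true := ext_range (a := 27542) (len := 94) h293 m2_293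
  have h295 : ∀ u < 27730, (fun u => chkFix tab mwordsA u) u = true := ext_range (a := 27636) (len := 94) h294 m2_294
  have h296 : ∀ u < 27824, (fun u => chkFix tab mwordsA u) u = true := ext_range (a := 27730) (len := 94) h295 m2_295
  have h297 : ∀ u < 27918, (fun u => chkFix tab mwordsA u) u = true := ext_range (a := 27824) (len := 94) h296 m2_296
  have h298 : ∀ u < 28012, (fun u => chkFix tab mwordsA u) u = true := ext_range (a := 27918) (len := 94) h297 m2_297
  have h299 : ∀ u < 28106, (fun u => chkFix tab mwordsA u) u = true := ext_range (a := 28012) (len := 94) h298 m2_298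
  have h300 : ∀ u < 28200, (fun u => chkFix tab mwordsA u) u = true := ext_range (a := 28106) (len := 94) h299 m2_299
  have h301 : ∀ u < 28294, (fun u => chkFix tab mwordsA u) u = true := ext_range (a := 28200) (len := 94) h300 m2_300
  have h302 : ∀ u < 28388, (fun u => chkFix tab mwordsA u) u = true := ext_range (a := 28294) (len := 94) h301 m2_301
  have h303 : ∀ u < 28482, (fun u => chkFix tab mwordsA u) u = true := ext_range (a := 28388) (len := 94) h302 m2_302
  have h304 : ∀ u < 28576, (fun u => chkFix tab mwordsA u) u = true := ext_range (a := 28482) (len := 94) h303 m2_303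
  have h305 : ∀ u < 28670, (fun u => chkFix tab mwordsA u) u = true := ext_range (a := 28576) (len := 94) h304 m2_304
  have h306 : ∀ u < 28764, (fun u => chkFix tab mwordsA u) u = true := ext_range (a := 28670) (len := 94) h305 m2_305
  have h307 : ∀ u < 28858, (fun u => chkFix tab mwordsA u) u = true := ext_range (a := 28764) (len := 94) h306 m2_306
  have h308 : ∀ u < 28952, (fun u => chkFix tab mwordsA u) u = true := ext_range (a := 28858) (len := 94) h307 m2_307
  have h309 : ∀ u < 29046, (fun u => chkFix tab mwordsA u) u = true := ext_range (a := 28952) (len := 94) h308 m2_308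
  have h310 : ∀ u < 29140, (fun u => chkFix tab mwordsA u) u = true := ext_range (a := 29046) (len := 94) h309 m2_309
  have h311 : ∀ u < 29234, (fun u => chkFix tab mwordsA u) u = true := ext_range (a := 29140) (len := 94) h310 m2_310
  have h312 : ∀ u < 29328, (fun u => chkFix tab mwordsA u) u = true := ext_range (a := 29234) (len := 94) h311 m2_311
  have h313 : ∀ u < 29422, (fun u => chkFix tab mwordsA u) u = true := ext_range (a := 29328) (len := 94) h312 m2_312
  have h314 : ∀ u < 29516, (fun u => chkFix tab mwordsA u) u = true := ext_range (a := 29422) (len := 94) h313 m2_313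
  have h315 : ∀ u < 29610, (fun u => chkFix tab mwordsA u) u = true := ext_range (a := 29516) (len := 94) h314 m2_314
  have h316 : ∀ u < 29704, (fun u => chkFix tab mwordsA u) u = true := ext_range (a := 29610) (len := 94) h315 m2_315
  have h317 : ∀ u < 29798, (fun u => chkFix tab mwordsA u) u = true := ext_range (a := 29704) (len := 94) h316 m2_316
  have h318 : ∀ u < 29892, (fun u => chkFix tab mwordsA u) u = true := ext_range (a := 29798) (len := 94) h317 m2_317
  have h319 : ∀ u < 29986, (fun u => chkFix tab mwordsA u) u = true := ext_range (a := 29892) (len := 94) h318 m2_318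
  have h320 : ∀ u < 30080, (fun u => chkFix tab mwordsA u) u = true := ext_range (a := 29986) (len := 94) h319 m2_319
  have h321 : ∀ u < 30174, (fun u => chkFix tab mwordsA u) u = true := ext_range (a := 30080) (len := 94) h320 m2_320
  have h322 : ∀ u < 30268, (fun u => chkFix tab mwordsA u) u = true := ext_range (a := 30174) (len := 94) h321 m2_321
  have h323 : ∀ u < 30362, (fun u => chkFix tab mwordsA u) u = true := ext_range (a := 30268) (len := 94) h322 m2_322
  have h324 : ∀ u < 30456, (fun u => chkFix tab mwordsA u) u = true := ext_range (a := 30362) (len := 94) h323 m2_323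
  have h325 : ∀ u < 30550, (fun u => chkFix tab mwordsA u) u = true := ext_range (a := 30456) (len := 94) h324 m2_324
  have h326 : ∀ u < 30644, (fun u => chkFix tab mwordsA u) u = true := ext_range (a := 30550) (len := 94) h325 m2_325
  have h327 : ∀ u < 30738, (fun u => chkFix tab mwordsA u) u = true := ext_range (a := 30644) (len := 94) h326 m2_326
  have h328 : ∀ u < 30832, (fun u => chkFix tab mwordsA u) u = true := ext_range (a := 30738) (len := 94) h327 m2_327
  have h329 : ∀ u < 30926, (fun u => chkFix tab mwordsA u) u = true := ext_range (a := 30832) (len := 94) h328 m2_328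
  have h330 : ∀ u < 31020, (fun u => chkFix tab mwordsA u) u = true := ext_range (a := 30926) (len := 94) h329 m2_329
  have h331 : ∀ u < 31114, (fun u => chkFix tab mwordsA u) u = true := ext_range (a := 31020) (len := 94) h330 m2_330
  have h332 : ∀ u < 31208, (fun u => chkFix tab mwordsA u) u = true := ext_range (a := 31114) (len := 94) h331 m2_331
  have h333 : ∀ u < 31302, (fun u => chkFix tab mwordsA u) u = true := ext_range (a := 31208) (len := 94) h332 m2_332
  have h334 : ∀ u < 31396, (fun u => chkFix tab mwordsA u) u = true := ext_range (a := 31302) (len := 94) h333 m2_333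
  have h335 : ∀ u < 31490, (fun u => chkFix tab mwordsA u) u = true := ext_range (a := 31396) (len := 94) h334 m2_334
  have h336 : ∀ u < 31584, (fun u => chkFix tab mwordsA u) u = true := ext_range (a := 31490) (len := 94) h335 m2_335
  have h337 : ∀ u < 31678, (fun u => chkFix tab mwordsA u) u = true := ext_range (a := 31584) (len := 94) h336 m2_336
  have h338 : ∀ u < 31772, (fun u => chkFix tab mwordsA u) u = true := ext_range (a := 31678) (len := 94) h337 m2_337
  have h339 : ∀ u < 31866, (fun u => chkFix tab mwordsA u) u = true := ext_range (a := 31772) (len := 94) h338 m2_338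
  have h340 : ∀ u < 31960, (fun u => chkFix tab mwordsA u) u = true := ext_range (a := 31866) (len := 94) h339 m2_339
  have h341 : ∀ u < 32054, (fun u => chkFix tab mwordsA u) u = true := ext_range (a := 31960) (len := 94) h340 m2_340
  have h342 : ∀ u < 32148, (fun u => chkFix tab mwordsA u) u = true := ext_range (a := 32054) (len := 94) h341 m2_341
  have h343 : ∀ u < 32242, (fun u => chkFix tab mwordsA u) u = true := ext_range (a := 32148) (len := 94) h342 m2_342
  have h344 : ∀ u < 32336, (fun u => chkFix tab mwordsA u) u = true := ext_range (a := 32242) (len := 94) h343 m2_343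
  have h345 : ∀ u < 32430, (fun u => chkFix tab mwordsA u) u = true := ext_range (a := 32336) (len := 94) h344 m2_344
  have h346 : ∀ u < 32524, (fun u => chkFix tab mwordsA u) u = true := ext_range (a := 32430) (len := 94) h345 m2_345
  have h347 : ∀ u < 32618, (fun u => chkFix tab mwordsA u) u = true := ext_range (a := 32524) (len := 94) h346 m2_346
  have h348 : ∀ u < 32712, (fun u => chkFix tab mwordsA u) u = true := ext_range (a := 32618) (len := 94) h347 m2_347
  have h349 : ∀ u < 32806, (fun u => chkFix tab mwordsA u) u = true := ext_range (a := 32712) (len := 94) h348 m2_348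
  have h350 : ∀ u < 32900, (fun u => chkFix tab mwordsA u) u = true := ext_range (a := 32806) (len := 94) h349 m2_349
  have h351 : ∀ u < 32994, (fun u => chkFix tab mwordsA u) u = true := ext_range (a := 32900) (len := 94) h350 m2_350
  have h352 : ∀ u < 33088, (fun u => chkFix tab mwordsA u) u = true := ext_range (a := 32994) (len := 94) h351 m2_351
  have h353 : ∀ u < 33182, (fun u => chkFix tab mwordsA u) u = true := ext_range (a := 33088) (len := 94) h352 m2_352
  have h354 : ∀ u < 33276, (fun u => chkFix tab mwordsA u) u = true := ext_range (a := 33182) (len := 94) h353 m2_353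
  have h355 : ∀ u < 33370, (fun u => chkFix tab mwordsA u) u = true := ext_range (a := 33276) (len := 94) h354 m2_354
  have h356 : ∀ u < 33464, (fun u => chkFix tab mwordsA u) u = true := ext_range (a := 33370) (len := 94) h355 m2_355
  have h357 : ∀ u < 33558, (fun u => chkFix tab mwordsA u) u = true := ext_range (a := 33464) (len := 94) h356 m2_356
  have h358 : ∀ u < 33652, (fun u => chkFix tab mwordsA u) u = true := ext_range (a := 33558) (len := 94) h357 m2_357
  have h359 : ∀ u < 33746, (fun u => chkFix tab mwordsA u) u = true := ext_range (a := 33652) (len := 94) h358 m2_358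
  have h360 : ∀ u < 33840, (fun u => chkFix tab mwordsA u) u = true := ext_range (a := 33746) (len := 94) h359 m2_359
  have h361 : ∀ u < 33934, (fun u => chkFix tab mwordsA u) u = true := ext_range (a := 33840) (len := 94) h360 m2_360
  have h362 : ∀ u < 34028, (fun u => chkFix tab mwordsA u) u = true := ext_range (a := 33934) (len := 94) h361 m2_361
  have h363 : ∀ u < 34122, (fun u => chkFix tab mwordsA u) u = true := ext_range (a := 34028) (len := 94) h362 m2_362
  have h364 : ∀ u < 34216, (fun u => chkFix tab mwordsA u) u = true := ext_range (a := 34122) (len := 94) h363 m2_363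
  have h365 : ∀ u < 34310, (fun u => chkFix tab mwordsA u) u = true := ext_range (a := 34216) (len := 94) h364 m2_364
  have h366 : ∀ u < 34404, (fun u => chkFix tab mwordsA u) u = true := ext_range (a := 34310) (len := 94) h365 m2_365
  have h367 : ∀ u < 34498, (fun u => chkFix tab mwordsA u) u = true := ext_range (a := 34404) (len := 94) h366 m2_366
  have h368 : ∀ u < 34592, (fun u => chkFix tab mwordsA u) u = true := ext_range (a := 34498) (len := 94) h367 m2_367
  have h369 : ∀ u < 34686, (fun u => chkFix tab mwordsA u) u = true := ext_range (a := 34592) (len := 94) h368 m2_368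
  have h370 : ∀ u < 34780, (fun u => chkFix tab mwordsA u) u = true := ext_range (a := 34686) (len := 94) h369 m2_369
  have h371 : ∀ u < 34874, (fun u => chkFix tab mwordsA u) u = true := ext_range (a := 34780) (len := 94) h370 m2_370
  have h372 : ∀ u < 34968, (fun u => chkFix tab mwordsA u) u = true := ext_range (a := 34874) (len := 94) h371 m2_371
  have h373 : ∀ u < 35062, (fun u => chkFix tab mwordsA u) u = true := ext_range (a := 34968) (len := 94) h372 m2_372
  have h374 : ∀ u < 35156, (fun u => chkFix tab mwordsA u) u = true := ext_range (a := 35062) (len := 94) h373 m2_373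
  have h375 : ∀ u < 35250, (fun u => chkFix tab mwordsA u) u = true := ext_range (a := 35156) (len := 94) h374 m2_374
  have h376 : ∀ u < 35344, (fun u => chkFix tab mwordsA u) u = true := ext_range (a := 35250) (len := 94) h375 m2_375
  have h377 : ∀ u < 35438, (fun u => chkFix tab mwordsA u) u = true := ext_range (a := 35344) (len := 94) h376 m2_376
  have h378 : ∀ u < 35532, (fun u => chkFix tab mwordsA u) u = true := ext_range (a := 35438) (len := 94) h377 m2_377
  have h379 : ∀ u < 35626, (fun u => chkFix tab mwordsA u) u = true := ext_range (a := 35532) (len := 94) h378 m2_378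
  have h380 : ∀ u < 35720, (fun u => chkFix tab mwordsA u) u = true := ext_range (a := 35626) (len := 94) h379 m2_379
  have h381 : ∀ u < 35814, (fun u => chkFix tab mwordsA u) u = true := ext_range (a := 35720) (len := 94) h380 m2_380
  have h382 : ∀ u < 35908, (fun u => chkFix tab mwordsA u) u = true := ext_range (a := 35814) (len := 94) h381 m2_381
  have h383 : ∀ u < 36002, (fun u => chkFix tab mwordsA u) u = true := ext_range (a := 35908) (len := 94) h382 m2_382
  have h384 : ∀ u < 36096, (fun u => chkFix tab mwordsA u) u = true := ext_range (a := 36002) (len := 94) h383 m2_383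
  have h385 : ∀ u < 36190, (fun u => chkFix tab mwordsA u) u = true := ext_range (a := 36096) (len := 94) h384 m2_384
  have h386 : ∀ u < 36284, (fun u => chkFix tab mwordsA u) u = true := ext_range (a := 36190) (len := 94) h385 m2_385
  have h387 : ∀ u < 36378, (fun u => chkFix tab mwordsA u) u = true := ext_range (a := 36284) (len := 94) h386 m2_386
  have h388 : ∀ u < 36472, (fun u => chkFix tab mwordsA u) u = true := ext_range (a := 36378) (len := 94) h387 m2_387
  have h389 : ∀ u < 36566, (fun u => chkFix tab mwordsA u) u = true := ext_range (a := 36472) (len := 94) h388 m2_388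
  have h390 : ∀ u < 36660, (fun u => chkFix tab mwordsA u) u = true := ext_range (a := 36566) (len := 94) h389 m2_389
  have h391 : ∀ u < 36754, (fun u => chkFix tab mwordsA u) u = true := ext_range (a := 36660) (len := 94) h390 m2_390
  have h392 : ∀ u < 36848, (fun u => chkFix tab mwordsA u) u = true := ext_range (a := 36754) (len := 94) h391 m2_391
  have h393 : ∀ u < 36942, (fun u => chkFix tab mwordsA u) u = true := ext_range (a := 36848) (len := 94) h392 m2_392
  have h394 : ∀ u < 37036, (fun u => chkFix tab mwordsA u) u = true := ext_range (a := 36942) (len := 94) h393 m2_393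
  have h395 : ∀ u < 37130, (fun u => chkFix tab mwordsA u) u = true := ext_range (a := 37036) (len := 94) h394 m2_394
  have h396 : ∀ u < 37224, (fun u => chkFix tab mwordsA u) u = true := ext_range (a := 37130) (len := 94) h395 m2_395
  have h397 : ∀ u < 37318, (fun u => chkFix tab mwordsA u) u = true := ext_range (a := 37224) (len := 94) h396 m2_396
  have h398 : ∀ u < 37412, (fun u => chkFix tab mwordsA u) u = true := ext_range (a := 37318) (len := 94) h397 m2_397
  have h399 : ∀ u < 37506, (fun u => chkFix tab mwordsA u) u = true := ext_range (a := 37412) (len := 94) h398 m2_398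
  have h400 : ∀ u < 37600, (fun u => chkFix tab mwordsA u) u = true := ext_range (a := 37506) (len := 94) h399 m2_399
  have h401 : ∀ u < 37694, (fun u => chkFix tab mwordsA u) u = true := ext_range (a := 37600) (len := 94) h400 m2_400
  have h402 : ∀ u < 37788, (fun u => chkFix tab mwordsA u) u = true := ext_range (a := 37694) (len := 94) h401 m2_401
  have h403 : ∀ u < 37882, (fun u => chkFix tab mwordsA u) u = true := ext_range (a := 37788) (len := 94) h402 m2_402
  have h404 : ∀ u < 37976, (fun u => chkFix tab mwordsA u) u = true := ext_range (a := 37882) (len := 94) h403 m2_403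
  have h405 : ∀ u < 38070, (fun u => chkFix tab mwordsA u) u = true := ext_range (a := 37976) (len := 94) h404 m2_404
  have h406 : ∀ u < 38164, (fun u => chkFix tab mwordsA u) u = true := ext_range (a := 38070) (len := 94) h405 m2_405
  have h407 : ∀ u < 38258, (fun u => chkFix tab mwordsA u) u = true := ext_range (a := 38164) (len := 94) h406 m2_406
  have h408 : ∀ u < 38352, (fun u => chkFix tab mwordsA u) u = true := ext_range (a := 38258) (len := 94) h407 m2_407
  have h409 : ∀ u < 38446, (fun u => chkFix tab mwordsA u) u = true := ext_range (a := 38352) (len := 94) h408 m2_408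
  have h410 : ∀ u < 38540, (fun u => chkFix tab mwordsA u) u = true := ext_range (a := 38446) (len := 94) h409 m2_409
  have h411 : ∀ u < 38634, (fun u => chkFix tab mwordsA u) u = true := ext_range (a := 38540) (len := 94) h410 m2_410
  have h412 : ∀ u < 38728, (fun u => chkFix tab mwordsA u) u = true := ext_range (a := 38634) (len := 94) h411 m2_411
  have h413 : ∀ u < 38822, (fun u => chkFix tab mwordsA u) u = true := ext_range (a := 38728) (len := 94) h412 m2_412
  have h414 : ∀ u < 38916, (fun u => chkFix tab mwordsA u) u = true := ext_range (a := 38822) (len := 94) h413 m2_413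
  have h415 : ∀ u < 39010, (fun u => chkFix tab mwordsA u) u = true := ext_range (a := 38916) (len := 94) h414 m2_414
  have h416 : ∀ u < 39104, (fun u => chkFix tab mwordsA u) u = true := ext_range (a := 39010) (len := 94) h415 m2_415
  have h417 : ∀ u < 39198, (fun u => chkFix tab mwordsA u) u = true := ext_range (a := 39104) (len := 94) h416 m2_416
  have h418 : ∀ u < 39292, (fun u => chkFix tab mwordsA u) u = true := ext_range (a := 39198) (len := 94) h417 m2_417
  have h419 : ∀ u < 39386, (fun u => chkFix tab mwordsA u) u = true := ext_range (a := 39292) (len := 94) h418 m2_418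
  have h420 : ∀ u < 39480, (fun u => chkFix tab mwordsA u) u = true := ext_range (a := 39386) (len := 94) h419 m2_419
  have h421 : ∀ u < 39574, (fun u => chkFix tab mwordsA u) u = true := ext_range (a := 39480) (len := 94) h420 m2_420
  have h422 : ∀ u < 39668, (fun u => chkFix tab mwordsA u) u = true := ext_range (a := 39574) (len := 94) h421 m2_421
  have h423 : ∀ u < 39762, (fun u => chkFix tab mwordsA u) u = true := ext_range (a := 39668) (len := 94) h422 m2_422
  have h424 : ∀ u < 39856, (fun u => chkFix tab mwordsA u) u = true := ext_range (a := 39762) (len := 94) h423 m2_423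
  have h425 : ∀ u < 39950, (fun u => chkFix tab mwordsA u) u = true := ext_range (a := 39856) (len := 94) h424 m2_424
  have h426 : ∀ u < 40044, (fun u => chkFix tab mwordsA u) u = true := ext_range (a := 39950) (len := 94) h425 m2_425
  have h427 : ∀ u < 40138, (fun u => chkFix tab mwordsA u) u = true := ext_range (a := 40044) (len := 94) h426 m2_426
  have h428 : ∀ u < 40232, (fun u => chkFix tab mwordsA u) u = true := ext_range (a := 40138) (len := 94) h427 m2_427
  have h429 : ∀ u < 40326, (fun u => chkFix tab mwordsA u) u = true := ext_range (a := 40232) (len := 94) h428 m2_428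
  have h430 : ∀ u < 40420, (fun u => chkFix tab mwordsA u) u = true := ext_range (a := 40326) (len := 94) h429 m2_429
  have h431 : ∀ u < 40514, (fun u => chkFix tab mwordsA u) u = true := ext_range (a := 40420) (len := 94) h430 m2_430
  have h432 : ∀ u < 40608, (fun u => chkFix tab mwordsA u) u = true := ext_range (a := 40514) (len := 94) h431 m2_431
  have h433 : ∀ u < 40702, (fun u => chkFix tab mwordsA u) u = true := ext_range (a := 40608) (len := 94) h432 m2_432
  have h434 : ∀ u < 40796, (fun u => chkFix tab mwordsA u) u = true := ext_range (a := 40702) (len := 94) h433 m2_433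
  have h435 : ∀ u < 40890, (fun u => chkFix tab mwordsA u) u = true := ext_range (a := 40796) (len := 94) h434 m2_434
  have h436 : ∀ u < 40984, (fun u => chkFix tab mwordsA u) u = true := ext_range (a := 40890) (len := 94) h435 m2_435
  have h437 : ∀ u < 41078, (fun u => chkFix tab mwordsA u) u = true := ext_range (a := 40984) (len := 94) h436 m2_436
  have h438 : ∀ u < 41172, (fun u => chkFix tab mwordsA u) u = true := ext_range (a := 41078) (len := 94) h437 m2_437
  have h439 : ∀ u < 41266, (fun u => chkFix tab mwordsA u) u = true := ext_range (a := 41172) (len := 94) h438 m2_438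
  have h440 : ∀ u < 41360, (fun u => chkFix tab mwordsA u) u = true := ext_range (a := 41266) (len := 94) h439 m2_439
  have h441 : ∀ u < 41454, (fun u => chkFix tab mwordsA u) u = true := ext_range (a := 41360) (len := 94) h440 m2_440
  have h442 : ∀ u < 41548, (fun u => chkFix tab mwordsA u) u = true := ext_range (a := 41454) (len := 94) h441 m2_441
  have h443 : ∀ u < 41642, (fun u => chkFix tab mwordsA u) u = true := ext_range (a := 41548) (len := 94) h442 m2_442
  have h444 : ∀ u < 41736, (fun u => chkFix tab mwordsA u) u = true := ext_range (a := 41642) (len := 94) h443 m2_443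
  have h445 : ∀ u < 41830, (fun u => chkFix tab mwordsA u) u = true := ext_range (a := 41736) (len := 94) h444 m2_444
  have h446 : ∀ u < 41924, (fun u => chkFix tab mwordsA u) u = true := ext_range (a := 41830) (len := 94) h445 m2_445
  have h447 : ∀ u < 42018, (fun u => chkFix tab mwordsA u) u = true := ext_range (a := 41924) (len := 94) h446 m2_446
  have h448 : ∀ u < 42112, (fun u => chkFix tab mwordsA u) u = true := ext_range (a := 42018) (len := 94) h447 m2_447
  have h449 : ∀ u < 42206, (fun u => chkFix tab mwordsA u) u = true := ext_range (a := 42112) (len := 94) h448 m2_448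
  have h450 : ∀ u < 42300, (fun u => chkFix tab mwordsA u) u = true := ext_range (a := 42206) (len := 94) h449 m2_449
  have h451 : ∀ u < 42394, (fun u => chkFix tab mwordsA u) u = true := ext_range (a := 42300) (len := 94) h450 m2_450
  have h452 : ∀ u < 42488, (fun u => chkFix tab mwordsA u) u = true := ext_range (a := 42394) (len := 94) h451 m2_451
  have h453 : ∀ u < 42582, (fun u => chkFix tab mwordsA u) u = true := ext_range (a := 42488) (len := 94) h452 m2_452
  have h454 : ∀ u < 42676, (fun u => chkFix tab mwordsA u) u = true := ext_range (a := 42582) (len := 94) h453 m2_453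
  have h455 : ∀ u < 42770, (fun u => chkFix tab mwordsA u) u = true := ext_range (a := 42676) (len := 94) h454 m2_454
  have h456 : ∀ u < 42864, (fun u => chkFix tab mwordsA u) u = true := ext_range (a := 42770) (len := 94) h455 m2_455
  have h457 : ∀ u < 42958, (fun u => chkFix tab mwordsA u) u = true := ext_range (a := 42864) (len := 94) h456 m2_456
  have h458 : ∀ u < 43052, (fun u => chkFix tab mwordsA u) u = true := ext_range (a := 42958) (len := 94) h457 m2_457
  have h459 : ∀ u < 43146, (fun u => chkFix tab mwordsA u) u = true := ext_range (a := 43052) (len := 94) h458 m2_458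
  have h460 : ∀ u < 43240, (fun u => chkFix tab mwordsA u) u = true := ext_range (a := 43146) (len := 94) h459 m2_459
  have h461 : ∀ u < 43334, (fun u => chkFix tab mwordsA u) u = true := ext_range (a := 43240) (len := 94) h460 m2_460
  have h462 : ∀ u < 43428, (fun u => chkFix tab mwordsA u) u = true := ext_range (a := 43334) (len := 94) h461 m2_461
  have h463 : ∀ u < 43522, (fun u => chkFix tab mwordsA u) u = true := ext_range (a := 43428) (len := 94) h462 m2_462
  have h464 : ∀ u < 43616, (fun u => chkFix tab mwordsA u) u = true := ext_range (a := 43522) (len := 94) h463 m2_463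
  have h465 : ∀ u < 43710, (fun u => chkFix tab mwordsA u) u = true := ext_range (a := 43616) (len := 94) h464 m2_464
  have h466 : ∀ u < 43804, (fun u => chkFix tab mwordsA u) u = true := ext_range (a := 43710) (len := 94) h465 m2_465
  have h467 : ∀ u < 43898, (fun u => chkFix tab mwordsA u) u = true := ext_range (a := 43804) (len := 94) h466 m2_466
  have h468 : ∀ u < 43992, (fun u => chkFix tab mwordsA u) u = true := ext_range (a := 43898) (len := 94) h467 m2_467
  have h469 : ∀ u < 44086, (fun u => chkFix tab mwordsA u) u = true := ext_range (a := 43992) (len := 94) h468 m2_468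
  have h470 : ∀ u < 44180, (fun u => chkFix tab mwordsA u) u = true := ext_range (a := 44086) (len := 94) h469 m2_469
  have h471 : ∀ u < 44274, (fun u => chkFix tab mwordsA u) u = true := ext_range (a := 44180) (len := 94) h470 m2_470
  have h472 : ∀ u < 44368, (fun u => chkFix tab mwordsA u) u = true := ext_range (a := 44274) (len := 94) h471 m2_471
  have h473 : ∀ u < 44462, (fun u => chkFix tab mwordsA u) u = true := ext_range (a := 44368) (len := 94) h472 m2_472
  have h474 : ∀ u < 44556, (fun u => chkFix tab mwordsA u) u = true := ext_range (a := 44462) (len := 94) h473 m2_473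
  have h475 : ∀ u < 44650, (fun u => chkFix tab mwordsA u) u = true := ext_range (a := 44556) (len := 94) h474 m2_474
  have h476 : ∀ u < 44744, (fun u => chkFix tab mwordsA u) u = true := ext_range (a := 44650) (len := 94) h475 m2_475
  have h477 : ∀ u < 44838, (fun u => chkFix tab mwordsA u) u = true := ext_range (a := 44744) (len := 94) h476 m2_476
  have h478 : ∀ u < 44932, (fun u => chkFix tab mwordsA u) u = true := ext_range (a := 44838) (len := 94) h477 m2_477
  have h479 : ∀ u < 45026, (fun u => chkFix tab mwordsA u) u = true := ext_range (a := 44932) (len := 94) h478 m2_478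
  have h480 : ∀ u < 45120, (fun u => chkFix tab mwordsA u) u = true := ext_range (a := 45026) (len := 94) h479 m2_479
  have h481 : ∀ u < 45214, (fun u => chkFix tab mwordsA u) u = true := ext_range (a := 45120) (len := 94) h480 m2_480
  have h482 : ∀ u < 45308, (fun u => chkFix tab mwordsA u) u = true := ext_range (a := 45214) (len := 94) h481 m2_481
  have h483 : ∀ u < 45402, (fun u => chkFix tab mwordsA u) u = true := ext_range (a := 45308) (len := 94) h482 m2_482
  have h484 : ∀ u < 45496, (fun u => chkFix tab mwordsA u) u = true := ext_range (a := 45402) (len := 94) h483 m2_483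
  have h485 : ∀ u < 45590, (fun u => chkFix tab mwordsA u) u = true := ext_range (a := 45496) (len := 94) h484 m2_484
  have h486 : ∀ u < 45684, (fun u => chkFix tab mwordsA u) u = true := ext_range (a := 45590) (len := 94) h485 m2_485
  have h487 : ∀ u < 45778, (fun u => chkFix tab mwordsA u) u = true := ext_range (a := 45684) (len := 94) h486 m2_486
  have h488 : ∀ u < 45872, (fun u => chkFix tab mwordsA u) u = true := ext_range (a := 45778) (len := 94) h487 m2_487
  have h489 : ∀ u < 45966, (fun u => chkFix tab mwordsA u) u = true := ext_range (a := 45872) (len := 94) h488 m2_488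
  have h490 : ∀ u < 46060, (fun u => chkFix tab mwordsA u) u = true := ext_range (a := 45966) (len := 94) h489 m2_489
  have h491 : ∀ u < 46154, (fun u => chkFix tab mwordsA u) u = true := ext_range (a := 46060) (len := 94) h490 m2_490
  have h492 : ∀ u < 46248, (fun u => chkFix tab mwordsA u) u = true := ext_range (a := 46154) (len := 94) h491 m2_491
  have h493 : ∀ u < 46342, (fun u => chkFix tab mwordsA u) u = true := ext_range (a := 46248) (len := 94) h492 m2_492
  have h494 : ∀ u < 46436, (fun u => chkFix tab mwordsA u) u = true := ext_range (a := 46342) (len := 94) h493 m2_493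
  have h495 : ∀ u < 46530, (fun u => chkFix tab mwordsA u) u = true := ext_range (a := 46436) (len := 94) h494 m2_494
  have h496 : ∀ u < 46624, (fun u => chkFix tab mwordsA u) u = true := ext_range (a := 46530) (len := 94) h495 m2_495
  have h497 : ∀ u < 46718, (fun u => chkFix tab mwordsA u) u = true := ext_range (a := 46624) (len := 94) h496 m2_496
  have h498 : ∀ u < 46812, (fun u => chkFix tab mwordsA u) u = true := ext_range (a := 46718) (len := 94) h497 m2_497
  have h499 : ∀ u < 46906, (fun u => chkFix tab mwordsA u) u = true := ext_range (a := 46812) (len := 94) h498 m2_498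
  have h500 : ∀ u < 47000, (fun u => chkFix tab mwordsA u) u = true := ext_range (a := 46906) (len := 94) h499 m2_499
  have h501 : ∀ u < 47094, (fun u => chkFix tab mwordsA u) u = true := ext_range (a := 47000) (len := 94) h500 m2_500
  have h502 : ∀ u < 47188, (fun u => chkFix tab mwordsA u) u = true := ext_range (a := 47094) (len := 94) h501 m2_501
  have h503 : ∀ u < 47282, (fun u => chkFix tab mwordsA u) u = true := ext_range (a := 47188) (len := 94) h502 m2_502
  have h504 : ∀ u < 47376, (fun u => chkFix tab mwordsA u) u = true := ext_range (a := 47282) (len := 94) h503 m2_503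
  have h505 : ∀ u < 47470, (fun u => chkFix tab mwordsA u) u = true := ext_range (a := 47376) (len := 94) h504 m2_504
  have h506 : ∀ u < 47564, (fun u => chkFix tab mwordsA u) u = true := ext_range (a := 47470) (len := 94) h505 m2_505
  have h507 : ∀ u < 47658, (fun u => chkFix tab mwordsA u) u = true := ext_range (a := 47564) (len := 94) h506 m2_506
  have h508 : ∀ u < 47752, (fun u => chkFix tab mwordsA u) u = true := ext_range (a := 47658) (len := 94) h507 m2_507
  have h509 : ∀ u < 47846, (fun u => chkFix tab mwordsA u) u = true := ext_range (a := 47752) (len := 94) h508 m2_508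
  have h510 : ∀ u < 47940, (fun u => chkFix tab mwordsA u) u = true := ext_range (a := 47846) (len := 94) h509 m2_509
  have h511 : ∀ u < 48034, (fun u => chkFix tab mwordsA u) u = true := ext_range (a := 47940) (len := 94) h510 m2_510
  have h512 : ∀ u < 48128, (fun u => chkFix tab mwordsA u) u = true := ext_range (a := 48034) (len := 94) h511 m2_511
  have h513 : ∀ u < 48222, (fun u => chkFix tab mwordsA u) u = true := ext_range (a := 48128) (len := 94) h512 m2_512
  have h514 : ∀ u < 48316, (fun u => chkFix tab mwordsA u) u = true := ext_range (a := 48222) (len := 94) h513 m2_513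
  have h515 : ∀ u < 48410, (fun u => chkFix tab mwordsA u) u = true := ext_range (a := 48316) (len := 94) h514 m2_514
  have h516 : ∀ u < 48504, (fun u => chkFix tab mwordsA u) u = true := ext_range (a := 48410) (len := 94) h515 m2_515
  have h517 : ∀ u < 48598, (fun u => chkFix tab mwordsA u) u = true := ext_range (a := 48504) (len := 94) h516 m2_516
  have h518 : ∀ u < 48692, (fun u => chkFix tab mwordsA u) u = true := ext_range (a := 48598) (len := 94) h517 m2_517
  have h519 : ∀ u < 48786, (fun u => chkFix tab mwordsA u) u = true := ext_range (a := 48692) (len := 94) h518 m2_518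
  have h520 : ∀ u < 48880, (fun u => chkFix tab mwordsA u) u = true := ext_range (a := 48786) (len := 94) h519 m2_519
  have h521 : ∀ u < 48974, (fun u => chkFix tab mwordsA u) u = true := ext_range (a := 48880) (len := 94) h520 m2_520
  have h522 : ∀ u < 49068, (fun u => chkFix tab mwordsA u) u = true := ext_range (a := 48974) (len := 94) h521 m2_521
  have h523 : ∀ u < 49162, (fun u => chkFix tab mwordsA u) u = true := ext_range (a := 49068) (len := 94) h522 m2_522
  have h524 : ∀ u < 49256, (fun u => chkFix tab mwordsA u) u = true := ext_range (a := 49162) (len := 94) h523 m2_523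
  have h525 : ∀ u < 49350, (fun u => chkFix tab mwordsA u) u = true := ext_range (a := 49256) (len := 94) h524 m2_524
  have h526 : ∀ u < 49444, (fun u => chkFix tab mwordsA u) u = true := ext_range (a := 49350) (len := 94) h525 m2_525
  have h527 : ∀ u < 49538, (fun u => chkFix tab mwordsA u) u = true := ext_range (a := 49444) (len := 94) h526 m2_526
  have h528 : ∀ u < 49632, (fun u => chkFix tab mwordsA u) u = true := ext_range (a := 49538) (len := 94) h527 m2_527
  have h529 : ∀ u < 49726, (fun u => chkFix tab mwordsA u) u = true := ext_range (a := 49632) (len := 94) h528 m2_528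
  have h530 : ∀ u < 49820, (fun u => chkFix tab mwordsA u) u = true := ext_range (a := 49726) (len := 94) h529 m2_529
  have h531 : ∀ u < 49914, (fun u => chkFix tab mwordsA u) u = true := ext_range (a := 49820) (len := 94) h530 m2_530
  have h532 : ∀ u < 50008, (fun u => chkFix tab mwordsA u) u = true := ext_range (a := 49914) (len := 94) h531 m2_531
  have h533 : ∀ u < 50102, (fun u => chkFix tab mwordsA u) u = true := ext_range (a := 50008) (len := 94) h532 m2_532
  have h534 : ∀ u < 50196, (fun u => chkFix tab mwordsA u) u = true := ext_range (a := 50102) (len := 94) h533 m2_533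
  have h535 : ∀ u < 50290, (fun u => chkFix tab mwordsA u) u = true := ext_range (a := 50196) (len := 94) h534 m2_534
  have h536 : ∀ u < 50384, (fun u => chkFix tab mwordsA u) u = true := ext_range (a := 50290) (len := 94) h535 m2_535
  have h537 : ∀ u < 50478, (fun u => chkFix tab mwordsA u) u = true := ext_range (a := 50384) (len := 94) h536 m2_536
  have h538 : ∀ u < 50572, (fun u => chkFix tab mwordsA u) u = true := ext_range (a := 50478) (len := 94) h537 m2_537
  have h539 : ∀ u < 50666, (fun u => chkFix tab mwordsA u) u = true := ext_range (a := 50572) (len := 94) h538 m2_538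
  have h540 : ∀ u < 50760, (fun u => chkFix tab mwordsA u) u = true := ext_range (a := 50666) (len := 94) h539 m2_539
  have h541 : ∀ u < 50854, (fun u => chkFix tab mwordsA u) u = true := ext_range (a := 50760) (len := 94) h540 m2_540
  have h542 : ∀ u < 50948, (fun u => chkFix tab mwordsA u) u = true := ext_range (a := 50854) (len := 94) h541 m2_541
  have h543 : ∀ u < 51042, (fun u => chkFix tab mwordsA u) u = true := ext_range (a := 50948) (len := 94) h542 m2_542
  have h544 : ∀ u < 51136, (fun u => chkFix tab mwordsA u) u = true := ext_range (a := 51042) (len := 94) h543 m2_543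
  have h545 : ∀ u < 51230, (fun u => chkFix tab mwordsA u) u = true := ext_range (a := 51136) (len := 94) h544 m2_544
  have h546 : ∀ u < 51324, (fun u => chkFix tab mwordsA u) u = true := ext_range (a := 51230) (len := 94) h545 m2_545
  have h547 : ∀ u < 51418, (fun u => chkFix tab mwordsA u) u = true := ext_range (a := 51324) (len := 94) h546 m2_546
  have h548 : ∀ u < 51512, (fun u => chkFix tab mwordsA u) u = true := ext_range (a := 51418) (len := 94) h547 m2_547
  have h549 : ∀ u < 51606, (fun u => chkFix tab mwordsA u) u = true := ext_range (a := 51512) (len := 94) h548 m2_548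
  have h550 : ∀ u < 51700, (fun u => chkFix tab mwordsA u) u = true := ext_range (a := 51606) (len := 94) h549 m2_549
  have h551 : ∀ u < 51794, (fun u => chkFix tab mwordsA u) u = true := ext_range (a := 51700) (len := 94) h550 m2_550
  have h552 : ∀ u < 51888, (fun u => chkFix tab mwordsA u) u = true := ext_range (a := 51794) (len := 94) h551 m2_551
  have h553 : ∀ u < 51982, (fun u => chkFix tab mwordsA u) u = true := ext_range (a := 51888) (len := 94) h552 m2_552
  have h554 : ∀ u < 52076, (fun u => chkFix tab mwordsA u) u = true := ext_range (a := 51982) (len := 94) h553 m2_553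
  have h555 : ∀ u < 52170, (fun u => chkFix tab mwordsA u) u = true := ext_range (a := 52076) (len := 94) h554 m2_554
  have h556 : ∀ u < 52264, (fun u => chkFix tab mwordsA u) u = true := ext_range (a := 52170) (len := 94) h555 m2_555
  have h557 : ∀ u < 52358, (fun u => chkFix tab mwordsA u) u = true := ext_range (a := 52264) (len := 94) h556 m2_556
  have h558 : ∀ u < 52452, (fun u => chkFix tab mwordsA u) u = true := ext_range (a := 52358) (len := 94) h557 m2_557
  have h559 : ∀ u < 52546, (fun u => chkFix tab mwordsA u) u = true := ext_range (a := 52452) (len := 94) h558 m2_558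
  have h560 : ∀ u < 52640, (fun u => chkFix tab mwordsA u) u = true := ext_range (a := 52546) (len := 94) h559 m2_559
  have h561 : ∀ u < 52734, (fun u => chkFix tab mwordsA u) u = true := ext_range (a := 52640) (len := 94) h560 m2_560
  have h562 : ∀ u < 52828, (fun u => chkFix tab mwordsA u) u = true := ext_range (a := 52734) (len := 94) h561 m2_561
  have h563 : ∀ u < 52922, (fun u => chkFix tab mwordsA u) u = true := ext_range (a := 52828) (len := 94) h562 m2_562
  have h564 : ∀ u < 53016, (fun u => chkFix tab mwordsA u) u = true := ext_range (a := 52922) (len := 94) h563 m2_563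
  have h565 : ∀ u < 53110, (fun u => chkFix tab mwordsA u) u = true := ext_range (a := 53016) (len := 94) h564 m2_564
  have h566 : ∀ u < 53204, (fun u => chkFix tab mwordsA u) u = true := ext_range (a := 53110) (len := 94) h565 m2_565
  have h567 : ∀ u < 53298, (fun u => chkFix tab mwordsA u) u = true := ext_range (a := 53204) (len := 94) h566 m2_566
  have h568 : ∀ u < 53392, (fun u => chkFix tab mwordsA u) u = true := ext_range (a := 53298) (len := 94) h567 m2_567
  have h569 : ∀ u < 53486, (fun u => chkFix tab mwordsA u) u = true := ext_range (a := 53392) (len := 94) h568 m2_568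
  have h570 : ∀ u < 53580, (fun u => chkFix tab mwordsA u) u = true := ext_range (a := 53486) (len := 94) h569 m2_569
  have h571 : ∀ u < 53674, (fun u => chkFix tab mwordsA u) u = true := ext_range (a := 53580) (len := 94) h570 m2_570
  have h572 : ∀ u < 53768, (fun u => chkFix tab mwordsA u) u = true := ext_range (a := 53674) (len := 94) h571 m2_571
  have h573 : ∀ u < 53862, (fun u => chkFix tab mwordsA u) u = true := ext_range (a := 53768) (len := 94) h572 m2_572
  have h574 : ∀ u < 53956, (fun u => chkFix tab mwordsA u) u = true := ext_range (a := 53862) (len := 94) h573 m2_573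
  have h575 : ∀ u < 54050, (fun u => chkFix tab mwordsA u) u = true := ext_range (a := 53956) (len := 94) h574 m2_574
  have h576 : ∀ u < 54144, (fun u => chkFix tab mwordsA u) u = true := ext_range (a := 54050) (len := 94) h575 m2_575
  have h577 : ∀ u < 54238, (fun u => chkFix tab mwordsA u) u = true := ext_range (a := 54144) (len := 94) h576 m2_576
  have h578 : ∀ u < 54332, (fun u => chkFix tab mwordsA u) u = true := ext_range (a := 54238) (len := 94) h577 m2_577
  have h579 : ∀ u < 54426, (fun u => chkFix tab mwordsA u) u = true := ext_range (a := 54332) (len := 94) h578 m2_578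
  have h580 : ∀ u < 54520, (fun u => chkFix tab mwordsA u) u = true := ext_range (a := 54426) (len := 94) h579 m2_579
  have h581 : ∀ u < 54614, (fun u => chkFix tab mwordsA u) u = true := ext_range (a := 54520) (len := 94) h580 m2_580
  have h582 : ∀ u < 54708, (fun u => chkFix tab mwordsA u) u = true := ext_range (a := 54614) (len := 94) h581 m2_581
  have h583 : ∀ u < 54802, (fun u => chkFix tab mwordsA u) u = true := ext_range (a := 54708) (len := 94) h582 m2_582
  have h584 : ∀ u < 54896, (fun u => chkFix tab mwordsA u) u = true := ext_range (a := 54802) (len := 94) h583 m2_583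
  have h585 : ∀ u < 54990, (fun u => chkFix tab mwordsA u) u = true := ext_range (a := 54896) (len := 94) h584 m2_584
  have h586 : ∀ u < 55084, (fun u => chkFix tab mwordsA u) u = true := ext_range (a := 54990) (len := 94) h585 m2_585
  have h587 : ∀ u < 55178, (fun u => chkFix tab mwordsA u) u = true := ext_range (a := 55084) (len := 94) h586 m2_586
  have h588 : ∀ u < 55272, (fun u => chkFix tab mwordsA u) u = true := ext_range (a := 55178) (len := 94) h587 m2_587
  have h589 : ∀ u < 55366, (fun u => chkFix tab mwordsA u) u = true := ext_range (a := 55272) (len := 94) h588 m2_588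
  have h590 : ∀ u < 55460, (fun u => chkFix tab mwordsA u) u = true := ext_range (a := 55366) (len := 94) h589 m2_589
  have h591 : ∀ u < 55554, (fun u => chkFix tab mwordsA u) u = true := ext_range (a := 55460) (len := 94) h590 m2_590
  have h592 : ∀ u < 55648, (fun u => chkFix tab mwordsA u) u = true := ext_range (a := 55554) (len := 94) h591 m2_591
  have h593 : ∀ u < 55742, (fun u => chkFix tab mwordsA u) u = true := ext_range (a := 55648) (len := 94) h592 m2_592
  have h594 : ∀ u < 55836, (fun u => chkFix tab mwordsA u) u = true := ext_range (a := 55742) (len := 94) h593 m2_593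
  have h595 : ∀ u < 55930, (fun u => chkFix tab mwordsA u) u = true := ext_range (a := 55836) (len := 94) h594 m2_594
  have h596 : ∀ u < 56024, (fun u => chkFix tab mwordsA u) u = true := ext_range (a := 55930) (len := 94) h595 m2_595
  have h597 : ∀ u < 56118, (fun u => chkFix tab mwordsA u) u = true := ext_range (a := 56024) (len := 94) h596 m2_596
  have h598 : ∀ u < 56212, (fun u => chkFix tab mwordsA u) u = true := ext_range (a := 56118) (len := 94) h597 m2_597
  have h599 : ∀ u < 56306, (fun u => chkFix tab mwordsA u) u = true := ext_range (a := 56212) (len := 94) h598 m2_598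
  have h600 : ∀ u < 56400, (fun u => chkFix tab mwordsA u) u = true := ext_range (a := 56306) (len := 94) h599 m2_599
  have h601 : ∀ u < 56494, (fun u => chkFix tab mwordsA u) u = true := ext_range (a := 56400) (len := 94) h600 m2_600
  have h602 : ∀ u < 56588, (fun u => chkFix tab mwordsA u) u = true := ext_range (a := 56494) (len := 94) h601 m2_601
  have h603 : ∀ u < 56682, (fun u => chkFix tab mwordsA u) u = true := ext_range (a := 56588) (len := 94) h602 m2_602
  have h604 : ∀ u < 56776, (fun u => chkFix tab mwordsA u) u = true := ext_range (a := 56682) (len := 94) h603 m2_603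
  have h605 : ∀ u < 56870, (fun u => chkFix tab mwordsA u) u = true := ext_range (a := 56776) (len := 94) h604 m2_604
  have h606 : ∀ u < 56964, (fun u => chkFix tab mwordsA u) u = true := ext_range (a := 56870) (len := 94) h605 m2_605
  have h607 : ∀ u < 57058, (fun u => chkFix tab mwordsA u) u = true := ext_range (a := 56964) (len := 94) h606 m2_606
  have h608 : ∀ u < 57152, (fun u => chkFix tab mwordsA u) u = true := ext_range (a := 57058) (len := 94) h607 m2_607
  have h609 : ∀ u < 57246, (fun u => chkFix tab mwordsA u) u = true := ext_range (a := 57152) (len := 94) h608 m2_608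
  have h610 : ∀ u < 57340, (fun u => chkFix tab mwordsA u) u = true := ext_range (a := 57246) (len := 94) h609 m2_609
  have h611 : ∀ u < 57434, (fun u => chkFix tab mwordsA u) u = true := ext_range (a := 57340) (len := 94) h610 m2_610
  have h612 : ∀ u < 57528, (fun u => chkFix tab mwordsA u) u = true := ext_range (a := 57434) (len := 94) h611 m2_611
  have h613 : ∀ u < 57622, (fun u => chkFix tab mwordsA u) u = true := ext_range (a := 57528) (len := 94) h612 m2_612
  have h614 : ∀ u < 57716, (fun u => chkFix tab mwordsA u) u = true := ext_range (a := 57622) (len := 94) h613 m2_613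
  have h615 : ∀ u < 57810, (fun u => chkFix tab mwordsA u) u = true := ext_range (a := 57716) (len := 94) h614 m2_614
  have h616 : ∀ u < 57904, (fun u => chkFix tab mwordsA u) u = true := ext_range (a := 57810) (len := 94) h615 m2_615
  have h617 : ∀ u < 57998, (fun u => chkFix tab mwordsA u) u = true := ext_range (a := 57904) (len := 94) h616 m2_616
  have h618 : ∀ u < 58092, (fun u => chkFix tab mwordsA u) u = true := ext_range (a := 57998) (len := 94) h617 m2_617
  have h619 : ∀ u < 58186, (fun u => chkFix tab mwordsA u) u = true := ext_range (a := 58092) (len := 94) h618 m2_618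
  have h620 : ∀ u < 58280, (fun u => chkFix tab mwordsA u) u = true := ext_range (a := 58186) (len := 94) h619 m2_619
  have h621 : ∀ u < 58374, (fun u => chkFix tab mwordsA u) u = true := ext_range (a := 58280) (len := 94) h620 m2_620
  have h622 : ∀ u < 58468, (fun u => chkFix tab mwordsA u) u = true := ext_range (a := 58374) (len := 94) h621 m2_621
  have h623 : ∀ u < 58562, (fun u => chkFix tab mwordsA u) u = true := ext_range (a := 58468) (len := 94) h622 m2_622
  have h624 : ∀ u < 58656, (fun u => chkFix tab mwordsA u) u = true := ext_range (a := 58562) (len := 94) h623 m2_623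
  have h625 : ∀ u < 58750, (fun u => chkFix tab mwordsA u) u = true := ext_range (a := 58656) (len := 94) h624 m2_624
  have h626 : ∀ u < 58844, (fun u => chkFix tab mwordsA u) u = true := ext_range (a := 58750) (len := 94) h625 m2_625
  have h627 : ∀ u < 58938, (fun u => chkFix tab mwordsA u) u = true := ext_range (a := 58844) (len := 94) h626 m2_626
  have h628 : ∀ u < 59032, (fun u => chkFix tab mwordsA u) u = true := ext_range (a := 58938) (len := 94) h627 m2_627
  have h629 : ∀ u < 59126, (fun u => chkFix tab mwordsA u) u = true := ext_range (a := 59032) (len := 94) h628 m2_628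
  have h630 : ∀ u < 59220, (fun u => chkFix tab mwordsA u) u = true := ext_range (a := 59126) (len := 94) h629 m2_629
  have h631 : ∀ u < 59314, (fun u => chkFix tab mwordsA u) u = true := ext_range (a := 59220) (len := 94) h630 m2_630
  have h632 : ∀ u < 59408, (fun u => chkFix tab mwordsA u) u = true := ext_range (a := 59314) (len := 94) h631 m2_631
  have h633 : ∀ u < 59502, (fun u => chkFix tab mwordsA u) u = true := ext_range (a := 59408) (len := 94) h632 m2_632
  have h634 : ∀ u < 59596, (fun u => chkFix tab mwordsA u) u = true := ext_range (a := 59502) (len := 94) h633 m2_633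
  have h635 : ∀ u < 59690, (fun u => chkFix tab mwordsA u) u = true := ext_range (a := 59596) (len := 94) h634 m2_634
  have h636 : ∀ u < 59784, (fun u => chkFix tab mwordsA u) u = true := ext_range (a := 59690) (len := 94) h635 m2_635
  have h637 : ∀ u < 59878, (fun u => chkFix tab mwordsA u) u = true := ext_range (a := 59784) (len := 94) h636 m2_636
  have h638 : ∀ u < 59972, (fun u => chkFix tab mwordsA u) u = true := ext_range (a := 59878) (len := 94) h637 m2_637
  have h639 : ∀ u < 60066, (fun u => chkFix tab mwordsA u) u = true := ext_range (a := 59972) (len := 94) h638 m2_638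
  have h640 : ∀ u < 60160, (fun u => chkFix tab mwordsA u) u = true := ext_range (a := 60066) (len := 94) h639 m2_639
  have h641 : ∀ u < 60254, (fun u => chkFix tab mwordsA u) u = true := ext_range (a := 60160) (len := 94) h640 m2_640
  have h642 : ∀ u < 60348, (fun u => chkFix tab mwordsA u) u = true := ext_range (a := 60254) (len := 94) h641 m2_641
  have h643 : ∀ u < 60442, (fun u => chkFix tab mwordsA u) u = true := ext_range (a := 60348) (len := 94) h642 m2_642
  have h644 : ∀ u < 60536, (fun u => chkFix tab mwordsA u) u = true := ext_range (a := 60442) (len := 94) h643 m2_643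
  have h645 : ∀ u < 60630, (fun u => chkFix tab mwordsA u) u = true := ext_range (a := 60536) (len := 94) h644 m2_644
  have h646 : ∀ u < 60724, (fun u => chkFix tab mwordsA u) u = true := ext_range (a := 60630) (len := 94) h645 m2_645
  have h647 : ∀ u < 60818, (fun u => chkFix tab mwordsA u) u = true := ext_range (a := 60724) (len := 94) h646 m2_646
  have h648 : ∀ u < 60912, (fun u => chkFix tab mwordsA u) u = true := ext_range (a := 60818) (len := 94) h647 m2_647
  have h649 : ∀ u < 61006, (fun u => chkFix tab mwordsA u) u = true := ext_range (a := 60912) (len := 94) h648 m2_648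
  have h650 : ∀ u < 61100, (fun u => chkFix tab mwordsA u) u = true := ext_range (a := 61006) (len := 94) h649 m2_649
  have h651 : ∀ u < 61194, (fun u => chkFix tab mwordsA u) u = true := ext_range (a := 61100) (len := 94) h650 m2_650
  have h652 : ∀ u < 61288, (fun u => chkFix tab mwordsA u) u = true := ext_range (a := 61194) (len := 94) h651 m2_651
  have h653 : ∀ u < 61382, (fun u => chkFix tab mwordsA u) u = true := ext_range (a := 61288) (len := 94) h652 m2_652
  have h654 : ∀ u < 61476, (fun u => chkFix tab mwordsA u) u = true := ext_range (a := 61382) (len := 94) h653 m2_653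
  have h655 : ∀ u < 61570, (fun u => chkFix tab mwordsA u) u = true := ext_range (a := 61476) (len := 94) h654 m2_654
  have h656 : ∀ u < 61664, (fun u => chkFix tab mwordsA u) u = true := ext_range (a := 61570) (len := 94) h655 m2_655
  have h657 : ∀ u < 61758, (fun u => chkFix tab mwordsA u) u = true := ext_range (a := 61664) (len := 94) h656 m2_656
  have h658 : ∀ u < 61852, (fun u => chkFix tab mwordsA u) u = true := ext_range (a := 61758) (len := 94) h657 m2_657
  have h659 : ∀ u < 61946, (fun u => chkFix tab mwordsA u) u = true := ext_range (a := 61852) (len := 94) h658 m2_658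
  have h660 : ∀ u < 62040, (fun u => chkFix tab mwordsA u) u = true := ext_range (a := 61946) (len := 94) h659 m2_659
  have h661 : ∀ u < 62134, (fun u => chkFix tab mwordsA u) u = true := ext_range (a := 62040) (len := 94) h660 m2_660
  have h662 : ∀ u < 62228, (fun u => chkFix tab mwordsA u) u = true := ext_range (a := 62134) (len := 94) h661 m2_661
  have h663 : ∀ u < 62322, (fun u => chkFix tab mwordsA u) u = true := ext_range (a := 62228) (len := 94) h662 m2_662
  have h664 : ∀ u < 62416, (fun u => chkFix tab mwordsA u) u = true := ext_range (a := 62322) (len := 94) h663 m2_663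
  have h665 : ∀ u < 62510, (fun u => chkFix tab mwordsA u) u = true := ext_range (a := 62416) (len := 94) h664 m2_664
  have h666 : ∀ u < 62604, (fun u => chkFix tab mwordsA u) u = true := ext_range (a := 62510) (len := 94) h665 m2_665
  have h667 : ∀ u < 62698, (fun u => chkFix tab mwordsA u) u = true := ext_range (a := 62604) (len := 94) h666 m2_666
  have h668 : ∀ u < 62792, (fun u => chkFix tab mwordsA u) u = true := ext_range (a := 62698) (len := 94) h667 m2_667
  have h669 : ∀ u < 62886, (fun u => chkFix tab mwordsA u) u = true := ext_range (a := 62792) (len := 94) h668 m2_668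
  have h670 : ∀ u < 62980, (fun u => chkFix tab mwordsA u) u = true := ext_range (a := 62886) (len := 94) h669 m2_669
  have h671 : ∀ u < 63074, (fun u => chkFix tab mwordsA u) u = true := ext_range (a := 62980) (len := 94) h670 m2_670
  have h672 : ∀ u < 63168, (fun u => chkFix tab mwordsA u) u = true := ext_range (a := 63074) (len := 94) h671 m2_671
  have h673 : ∀ u < 63262, (fun u => chkFix tab mwordsA u) u = true := ext_range (a := 63168) (len := 94) h672 m2_672
  have h674 : ∀ u < 63356, (fun u => chkFix tab mwordsA u) u = true := ext_range (a := 63262) (len := 94) h673 m2_673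
  have h675 : ∀ u < 63450, (fun u => chkFix tab mwordsA u) u = true := ext_range (a := 63356) (len := 94) h674 m2_674
  have h676 : ∀ u < 63544, (fun u => chkFix tab mwordsA u) u = true := ext_range (a := 63450) (len := 94) h675 m2_675
  have h677 : ∀ u < 63638, (fun u => chkFix tab mwordsA u) u = true := ext_range (a := 63544) (len := 94) h676 m2_676
  have h678 : ∀ u < 63732, (fun u => chkFix tab mwordsA u) u = true := ext_range (a := 63638) (len := 94) h677 m2_677
  have h679 : ∀ u < 63826, (fun u => chkFix tab mwordsA u) u = true := ext_range (a := 63732) (len := 94) h678 m2_678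
  have h680 : ∀ u < 63920, (fun u => chkFix tab mwordsA u) u = true := ext_range (a := 63826) (len := 94) h679 m2_679
  have h681 : ∀ u < 64014, (fun u => chkFix tab mwordsA u) u = true := ext_range (a := 63920) (len := 94) h680 m2_680
  have h682 : ∀ u < 64108, (fun u => chkFix tab mwordsA u) u = true := ext_range (a := 64014) (len := 94) h681 m2_681
  have h683 : ∀ u < 64202, (fun u => chkFix tab mwordsA u) u = true := ext_range (a := 64108) (len := 94) h682 m2_682
  have h684 : ∀ u < 64296, (fun u => chkFix tab mwordsA u) u = true := ext_range (a := 64202) (len := 94) h683 m2_683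
  have h685 : ∀ u < 64390, (fun u => chkFix tab mwordsA u) u = true := ext_range (a := 64296) (len := 94) h684 m2_684
  have h686 : ∀ u < 64484, (fun u => chkFix tab mwordsA u) u = true := ext_range (a := 64390) (len := 94) h685 m2_685
  have h687 : ∀ u < 64578, (fun u => chkFix tab mwordsA u) u = true := ext_range (a := 64484) (len := 94) h686 m2_686
  have h688 : ∀ u < 64672, (fun u => chkFix tab mwordsA u) u = true := ext_range (a := 64578) (len := 94) h687 m2_687
  have h689 : ∀ u < 64766, (fun u => chkFix tab mwordsA u) u = true := ext_range (a := 64672) (len := 94) h688 m2_688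
  have h690 : ∀ u < 64860, (fun u => chkFix tab mwordsA u) u = true := ext_range (a := 64766) (len := 94) h689 m2_689
  have h691 : ∀ u < 64954, (fun u => chkFix tab mwordsA u) u = true := ext_range (a := 64860) (len := 94) h690 m2_690
  have h692 : ∀ u < 65048, (fun u => chkFix tab mwordsA u) u = true := ext_range (a := 64954) (len := 94) h691 m2_691
  have h693 : ∀ u < 65142, (fun u => chkFix tab mwordsA u) u = true := ext_range (a := 65048) (len := 94) h692 m2_692
  have h694 : ∀ u < 65236, (fun u => chkFix tab mwordsA u) u = true := ext_range (a := 65142) (len := 94) h693 m2_693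
  have h695 : ∀ u < 65330, (fun u => chkFix tab mwordsA u) u = true := ext_range (a := 65236) (len := 94) h694 m2_694
  have h696 : ∀ u < 65424, (fun u => chkFix tab mwordsA u) u = true := ext_range (a := 65330) (len := 94) h695 m2_695
  have h697 : ∀ u < 65518, (fun u => chkFix tab mwordsA u) u = true := ext_range (a := 65424) (len := 94) h696 m2_696
  have h698 : ∀ u < 65612, (fun u => chkFix tab mwordsA u) u = true := ext_range (a := 65518) (len := 94) h697 m2_697
  have h699 : ∀ u < 65706, (fun u => chkFix tab mwordsA u) u = true := ext_range (a := 65612) (len := 94) h698 m2_698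
  have h700 : ∀ u < 65800, (fun u => chkFix tab mwordsA u) u = true := ext_range (a := 65706) (len := 94) h699 m2_699
  have h701 : ∀ u < 65894, (fun u => chkFix tab mwordsA u) u = true := ext_range (a := 65800) (len := 94) h700 m2_700
  have h702 : ∀ u < 65988, (fun u => chkFix tab mwordsA u) u = true := ext_range (a := 65894) (len := 94) h701 m2_701
  have h703 : ∀ u < 66082, (fun u => chkFix tab mwordsA u) u = true := ext_range (a := 65988) (len := 94) h702 m2_702
  have h704 : ∀ u < 66176, (fun u => chkFix tab mwordsA u) u = true := ext_range (a := 66082) (len := 94) h703 m2_703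
  have h705 : ∀ u < 66270, (fun u => chkFix tab mwordsA u) u = true := ext_range (a := 66176) (len := 94) h704 m2_704
  have h706 : ∀ u < 66364, (fun u => chkFix tab mwordsA u) u = true := ext_range (a := 66270) (len := 94) h705 m2_705
  have h707 : ∀ u < 66458, (fun u => chkFix tab mwordsA u) u = true := ext_range (a := 66364) (len := 94) h706 m2_706
  have h708 : ∀ u < 66552, (fun u => chkFix tab mwordsA u) u = true := ext_range (a := 66458) (len := 94) h707 m2_707
  have h709 : ∀ u < 66646, (fun u => chkFix tab mwordsA u) u = true := ext_range (a := 66552) (len := 94) h708 m2_708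
  have h710 : ∀ u < 66740, (fun u => chkFix tab mwordsA u) u = true := ext_range (a := 66646) (len := 94) h709 m2_709
  have h711 : ∀ u < 66834, (fun u => chkFix tab mwordsA u) u = true := ext_range (a := 66740) (len := 94) h710 m2_710
  have h712 : ∀ u < 66928, (fun u => chkFix tab mwordsA u) u = true := ext_range (a := 66834) (len := 94) h711 m2_711
  have h713 : ∀ u < 67022, (fun u => chkFix tab mwordsA u) u = true := ext_range (a := 66928) (len := 94) h712 m2_712
  have h714 : ∀ u < 67116, (fun u => chkFix tab mwordsA u) u = true := ext_range (a := 67022) (len := 94) h713 m2_713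
  have h715 : ∀ u < 67210, (fun u => chkFix tab mwordsA u) u = true := ext_range (a := 67116) (len := 94) h714 m2_714
  have h716 : ∀ u < 67304, (fun u => chkFix tab mwordsA u) u = true := ext_range (a := 67210) (len := 94) h715 m2_715
  have h717 : ∀ u < 67398, (fun u => chkFix tab mwordsA u) u = true := ext_range (a := 67304) (len := 94) h716 m2_716
  have h718 : ∀ u < 67492, (fun u => chkFix tab mwordsA u) u = true := ext_range (a := 67398) (len := 94) h717 m2_717
  have h719 : ∀ u < 67586, (fun u => chkFix tab mwordsA u) u = true := ext_range (a := 67492) (len := 94) h718 m2_718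
  have h720 : ∀ u < 67680, (fun u => chkFix tab mwordsA u) u = true := ext_range (a := 67586) (len := 94) h719 m2_719
  have h721 : ∀ u < 67774, (fun u => chkFix tab mwordsA u) u = true := ext_range (a := 67680) (len := 94) h720 m2_720
  have h722 : ∀ u < 67868, (fun u => chkFix tab mwordsA u) u = true := ext_range (a := 67774) (len := 94) h721 m2_721
  have h723 : ∀ u < 67962, (fun u => chkFix tab mwordsA u) u = true := ext_range (a := 67868) (len := 94) h722 m2_722
  have h724 : ∀ u < 68056, (fun u => chkFix tab mwordsA u) u = true := ext_range (a := 67962) (len := 94) h723 m2_723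
  have h725 : ∀ u < 68150, (fun u => chkFix tab mwordsA u) u = true := ext_range (a := 68056) (len := 94) h724 m2_724
  have h726 : ∀ u < 68244, (fun u => chkFix tab mwordsA u) u = true := ext_range (a := 68150) (len := 94) h725 m2_725
  have h727 : ∀ u < 68338, (fun u => chkFix tab mwordsA u) u = true := ext_range (a := 68244) (len := 94) h726 m2_726
  have h728 : ∀ u < 68432, (fun u => chkFix tab mwordsA u) u = true := ext_range (a := 68338) (len := 94) h727 m2_727
  have h729 : ∀ u < 68526, (fun u => chkFix tab mwordsA u) u = true := ext_range (a := 68432) (len := 94) h728 m2_728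
  have h730 : ∀ u < 68620, (fun u => chkFix tab mwordsA u) u = true := ext_range (a := 68526) (len := 94) h729 m2_729
  have h731 : ∀ u < 68714, (fun u => chkFix tab mwordsA u) u = true := ext_range (a := 68620) (len := 94) h730 m2_730
  have h732 : ∀ u < 68808, (fun u => chkFix tab mwordsA u) u = true := ext_range (a := 68714) (len := 94) h731 m2_731
  have h733 : ∀ u < 68902, (fun u => chkFix tab mwordsA u) u = true := ext_range (a := 68808) (len := 94) h732 m2_732
  have h734 : ∀ u < 68996, (fun u => chkFix tab mwordsA u) u = true := ext_range (a := 68902) (len := 94) h733 m2_733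
  have h735 : ∀ u < 69090, (fun u => chkFix tab mwordsA u) u = true := ext_range (a := 68996) (len := 94) h734 m2_734
  have h736 : ∀ u < 69184, (fun u => chkFix tab mwordsA u) u = true := ext_range (a := 69090) (len := 94) h735 m2_735
  have h737 : ∀ u < 69278, (fun u => chkFix tab mwordsA u) u = true := ext_range (a := 69184) (len := 94) h736 m2_736
  have h738 : ∀ u < 69372, (fun u => chkFix tab mwordsA u) u = true := ext_range (a := 69278) (len := 94) h737 m2_737
  have h739 : ∀ u < 69466, (fun u => chkFix tab mwordsA u) u = true := ext_range (a := 69372) (len := 94) h738 m2_738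
  have h740 : ∀ u < 69560, (fun u => chkFix tab mwordsA u) u = true := ext_range (a := 69466) (len := 94) h739 m2_739
  have h741 : ∀ u < 69654, (fun u => chkFix tab mwordsA u) u = true := ext_range (a := 69560) (len := 94) h740 m2_740
  have h742 : ∀ u < 69748, (fun u => chkFix tab mwordsA u) u = true := ext_range (a := 69654) (len := 94) h741 m2_741
  have h743 : ∀ u < 69842, (fun u => chkFix tab mwordsA u) u = true := ext_range (a := 69748) (len := 94) h742 m2_742
  have h744 : ∀ u < 69936, (fun u => chkFix tab mwordsA u) u = true := ext_range (a := 69842) (len := 94) h743 m2_743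
  have h745 : ∀ u < 70030, (fun u => chkFix tab mwordsA u) u = true := ext_range (a := 69936) (len := 94) h744 m2_744
  have h746 : ∀ u < 70124, (fun u => chkFix tab mwordsA u) u = true := ext_range (a := 70030) (len := 94) h745 m2_745
  have h747 : ∀ u < 70218, (fun u => chkFix tab mwordsA u) u = true := ext_range (a := 70124) (len := 94) h746 m2_746
  have h748 : ∀ u < 70312, (fun u => chkFix tab mwordsA u) u = true := ext_range (a := 70218) (len := 94) h747 m2_747
  have h749 : ∀ u < 70406, (fun u => chkFix tab mwordsA u) u = true := ext_range (a := 70312) (len := 94) h748 m2_748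
  have h750 : ∀ u < 70500, (fun u => chkFix tab mwordsA u) u = true := ext_range (a := 70406) (len := 94) h749 m2_749
  have h751 : ∀ u < 70594, (fun u => chkFix tab mwordsA u) u = true := ext_range (a := 70500) (len := 94) h750 m2_750
  have h752 : ∀ u < 70688, (fun u => chkFix tab mwordsA u) u = true := ext_range (a := 70594) (len := 94) h751 m2_751
  have h753 : ∀ u < 70782, (fun u => chkFix tab mwordsA u) u = true := ext_range (a := 70688) (len := 94) h752 m2_752
  have h754 : ∀ u < 70876, (fun u => chkFix tab mwordsA u) u = true := ext_range (a := 70782) (len := 94) h753 m2_753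
  have h755 : ∀ u < 70970, (fun u => chkFix tab mwordsA u) u = true := ext_range (a := 70876) (len := 94) h754 m2_754
  have h756 : ∀ u < 71064, (fun u => chkFix tab mwordsA u) u = true := ext_range (a := 70970) (len := 94) h755 m2_755
  have h757 : ∀ u < 71158, (fun u => chkFix tab mwordsA u) u = true := ext_range (a := 71064) (len := 94) h756 m2_756
  have h758 : ∀ u < 71252, (fun u => chkFix tab mwordsA u) u = true := ext_range (a := 71158) (len := 94) h757 m2_757
  have h759 : ∀ u < 71346, (fun u => chkFix tab mwordsA u) u = true := ext_range (a := 71252) (len := 94) h758 m2_758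
  have h760 : ∀ u < 71440, (fun u => chkFix tab mwordsA u) u = true := ext_range (a := 71346) (len := 94) h759 m2_759
  have h761 : ∀ u < 71534, (fun u => chkFix tab mwordsA u) u = true := ext_range (a := 71440) (len := 94) h760 m2_760
  have h762 : ∀ u < 71628, (fun u => chkFix tab mwordsA u) u = true := ext_range (a := 71534) (len := 94) h761 m2_761
  have h763 : ∀ u < 71722, (fun u => chkFix tab mwordsA u) u = true := ext_range (a := 71628) (len := 94) h762 m2_762
  have h764 : ∀ u < 71816, (fun u => chkFix tab mwordsA u) u = true := ext_range (a := 71722) (len := 94) h763 m2_763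
  have h765 : ∀ u < 71910, (fun u => chkFix tab mwordsA u) u = true := ext_range (a := 71816) (len := 94) h764 m2_764
  have h766 : ∀ u < 72004, (fun u => chkFix tab mwordsA u) u = true := ext_range (a := 71910) (len := 94) h765 m2_765
  have h767 : ∀ u < 72098, (fun u => chkFix tab mwordsA u) u = true := ext_range (a := 72004) (len := 94) h766 m2_766
  have h768 : ∀ u < 72192, (fun u => chkFix tab mwordsA u) u = true := ext_range (a := 72098) (len := 94) h767 m2_767
  have h769 : ∀ u < 72286, (fun u => chkFix tab mwordsA u) u = true := ext_range (a := 72192) (len := 94) h768 m2_768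
  have h770 : ∀ u < 72380, (fun u => chkFix tab mwordsA u) u = true := ext_range (a := 72286) (len := 94) h769 m2_769
  have h771 : ∀ u < 72474, (fun u => chkFix tab mwordsA u) u = true := ext_range (a := 72380) (len := 94) h770 m2_770
  have h772 : ∀ u < 72568, (fun u => chkFix tab mwordsA u) u = true := ext_range (a := 72474) (len := 94) h771 m2_771
  have h773 : ∀ u < 72662, (fun u => chkFix tab mwordsA u) u = true := ext_range (a := 72568) (len := 94) h772 m2_772
  have h774 : ∀ u < 72756, (fun u => chkFix tab mwordsA u) u = true := ext_range (a := 72662) (len := 94) h773 m2_773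
  have h775 : ∀ u < 72850, (fun u => chkFix tab mwordsA u) u = true := ext_range (a := 72756) (len := 94) h774 m2_774
  have h776 : ∀ u < 72944, (fun u => chkFix tab mwordsA u) u = true := ext_range (a := 72850) (len := 94) h775 m2_775
  have h777 : ∀ u < 73038, (fun u => chkFix tab mwordsA u) u = true := ext_range (a := 72944) (len := 94) h776 m2_776
  have h778 : ∀ u < 73132, (fun u => chkFix tab mwordsA u) u = true := ext_range (a := 73038) (len := 94) h777 m2_777
  have h779 : ∀ u < 73226, (fun u => chkFix tab mwordsA u) u = true := ext_range (a := 73132) (len := 94) h778 m2_778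
  have h780 : ∀ u < 73320, (fun u => chkFix tab mwordsA u) u = true := ext_range (a := 73226) (len := 94) h779 m2_779
  have h781 : ∀ u < 73414, (fun u => chkFix tab mwordsA u) u = true := ext_range (a := 73320) (len := 94) h780 m2_780
  have h782 : ∀ u < 73508, (fun u => chkFix tab mwordsA u) u = true := ext_range (a := 73414) (len := 94) h781 m2_781
  have h783 : ∀ u < 73602, (fun u => chkFix tab mwordsA u) u = true := ext_range (a := 73508) (len := 94) h782 m2_782
  have h784 : ∀ u < 73696, (fun u => chkFix tab mwordsA u) u = true := ext_range (a := 73602) (len := 94) h783 m2_783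
  have h785 : ∀ u < 73790, (fun u => chkFix tab mwordsA u) u = true := ext_range (a := 73696) (len := 94) h784 m2_784
  have h786 : ∀ u < 73884, (fun u => chkFix tab mwordsA u) u = true := ext_range (a := 73790) (len := 94) h785 m2_785
  have h787 : ∀ u < 73978, (fun u => chkFix tab mwordsA u) u = true := ext_range (a := 73884) (len := 94) h786 m2_786
  have h788 : ∀ u < 74072, (fun u => chkFix tab mwordsA u) u = true := ext_range (a := 73978) (len := 94) h787 m2_787
  have h789 : ∀ u < 74166, (fun u => chkFix tab mwordsA u) u = true := ext_range (a := 74072) (len := 94) h788 m2_788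
  have h790 : ∀ u < 74260, (fun u => chkFix tab mwordsA u) u = true := ext_range (a := 74166) (len := 94) h789 m2_789
  have h791 : ∀ u < 74354, (fun u => chkFix tab mwordsA u) u = true := ext_range (a := 74260) (len := 94) h790 m2_790
  have h792 : ∀ u < 74448, (fun u => chkFix tab mwordsA u) u = true := ext_range (a := 74354) (len := 94) h791 m2_791
  have h793 : ∀ u < 74542, (fun u => chkFix tab mwordsA u) u = true := ext_range (a := 74448) (len := 94) h792 m2_792
  have h794 : ∀ u < 74636, (fun u => chkFix tab mwordsA u) u = true := ext_range (a := 74542) (len := 94) h793 m2_793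
  have h795 : ∀ u < 74730, (fun u => chkFix tab mwordsA u) u = true := ext_range (a := 74636) (len := 94) h794 m2_794
  have h796 : ∀ u < 74824, (fun u => chkFix tab mwordsA u) u = true := ext_range (a := 74730) (len := 94) h795 m2_795
  have h797 : ∀ u < 74918, (fun u => chkFix tab mwordsA u) u = true := ext_range (a := 74824) (len := 94) h796 m2_796
  have h798 : ∀ u < 75012, (fun u => chkFix tab mwordsA u) u = true := ext_range (a := 74918) (len := 94) h797 m2_797
  have h799 : ∀ u < 75106, (fun u => chkFix tab mwordsA u) u = true := ext_range (a := 75012) (len := 94) h798 m2_798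
  have h800 : ∀ u < 75200, (fun u => chkFix tab mwordsA u) u = true := ext_range (a := 75106) (len := 94) h799 m2_799
  have h801 : ∀ u < 75294, (fun u => chkFix tab mwordsA u) u = true := ext_range (a := 75200) (len := 94) h800 m2_800
  have h802 : ∀ u < 75388, (fun u => chkFix tab mwordsA u) u = true := ext_range (a := 75294) (len := 94) h801 m2_801
  have h803 : ∀ u < 75482, (fun u => chkFix tab mwordsA u) u = true := ext_range (a := 75388) (len := 94) h802 m2_802
  have h804 : ∀ u < 75576, (fun u => chkFix tab mwordsA u) u = true := ext_range (a := 75482) (len := 94) h803 m2_803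
  have h805 : ∀ u < 75670, (fun u => chkFix tab mwordsA u) u = true := ext_range (a := 75576) (len := 94) h804 m2_804
  have h806 : ∀ u < 75764, (fun u => chkFix tab mwordsA u) u = true := ext_range (a := 75670) (len := 94) h805 m2_805
  have h807 : ∀ u < 75858, (fun u => chkFix tab mwordsA u) u = true := ext_range (a := 75764) (len := 94) h806 m2_806
  have h808 : ∀ u < 75952, (fun u => chkFix tab mwordsA u) u = true := ext_range (a := 75858) (len := 94) h807 m2_807
  have h809 : ∀ u < 76046, (fun u => chkFix tab mwordsA u) u = true := ext_range (a := 75952) (len := 94) h808 m2_808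
  have h810 : ∀ u < 76140, (fun u => chkFix tab mwordsA u) u = true := ext_range (a := 76046) (len := 94) h809 m2_809
  have h811 : ∀ u < 76234, (fun u => chkFix tab mwordsA u) u = true := ext_range (a := 76140) (len := 94) h810 m2_810
  have h812 : ∀ u < 76328, (fun u => chkFix tab mwordsA u) u = true := ext_range (a := 76234) (len := 94) h811 m2_811
  have h813 : ∀ u < 76422, (fun u => chkFix tab mwordsA u) u = true := ext_range (a := 76328) (len := 94) h812 m2_812
  have h814 : ∀ u < 76516, (fun u => chkFix tab mwordsA u) u = true := ext_range (a := 76422) (len := 94) h813 m2_813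
  have h815 : ∀ u < 76610, (fun u => chkFix tab mwordsA u) u = true := ext_range (a := 76516) (len := 94) h814 m2_814
  have h816 : ∀ u < 76704, (fun u => chkFix tab mwordsA u) u = true := ext_range (a := 76610) (len := 94) h815 m2_815
  have h817 : ∀ u < 76798, (fun u => chkFix tab mwordsA u) u = true := ext_range (a := 76704) (len := 94) h816 m2_816
  have h818 : ∀ u < 76892, (fun u => chkFix tab mwordsA u) u = true := ext_range (a := 76798) (len := 94) h817 m2_817
  have h819 : ∀ u < 76986, (fun u => chkFix tab mwordsA u) u = true := ext_range (a := 76892) (len := 94) h818 m2_818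
  have h820 : ∀ u < 77080, (fun u => chkFix tab mwordsA u) u = true := ext_range (a := 76986) (len := 94) h819 m2_819
  have h821 : ∀ u < 77174, (fun u => chkFix tab mwordsA u) u = true := ext_range (a := 77080) (len := 94) h820 m2_820
  have h822 : ∀ u < 77268, (fun u => chkFix tab mwordsA u) u = true := ext_range (a := 77174) (len := 94) h821 m2_821
  have h823 : ∀ u < 77362, (fun u => chkFix tab mwordsA u) u = true := ext_range (a := 77268) (len := 94) h822 m2_822
  have h824 : ∀ u < 77456, (fun u => chkFix tab mwordsA u) u = true := ext_range (a := 77362) (len := 94) h823 m2_823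
  have h825 : ∀ u < 77550, (fun u => chkFix tab mwordsA u) u = true := ext_range (a := 77456) (len := 94) h824 m2_824
  have h826 : ∀ u < 77644, (fun u => chkFix tab mwordsA u) u = true := ext_range (a := 77550) (len := 94) h825 m2_825
  have h827 : ∀ u < 77738, (fun u => chkFix tab mwordsA u) u = true := ext_range (a := 77644) (len := 94) h826 m2_826
  have h828 : ∀ u < 77832, (fun u => chkFix tab mwordsA u) u = true := ext_range (a := 77738) (len := 94) h827 m2_827
  have h829 : ∀ u < 77926, (fun u => chkFix tab mwordsA u) u = true := ext_range (a := 77832) (len := 94) h828 m2_828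
  have h830 : ∀ u < 78020, (fun u => chkFix tab mwordsA u) u = true := ext_range (a := 77926) (len := 94) h829 m2_829
  have h831 : ∀ u < 78114, (fun u => chkFix tab mwordsA u) u = true := ext_range (a := 78020) (len := 94) h830 m2_830
  have h832 : ∀ u < 78208, (fun u => chkFix tab mwordsA u) u = true := ext_range (a := 78114) (len := 94) h831 m2_831
  have h833 : ∀ u < 78302, (fun u => chkFix tab mwordsA u) u = true := ext_range (a := 78208) (len := 94) h832 m2_832
  have h834 : ∀ u < 78396, (fun u => chkFix tab mwordsA u) u = true := ext_range (a := 78302) (len := 94) h833 m2_833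
  have h835 : ∀ u < 78490, (fun u => chkFix tab mwordsA u) u = true := ext_range (a := 78396) (len := 94) h834 m2_834
  have h836 : ∀ u < 78584, (fun u => chkFix tab mwordsA u) u = true := ext_range (a := 78490) (len := 94) h835 m2_835
  have h837 : ∀ u < 78678, (fun u => chkFix tab mwordsA u) u = true := ext_range (a := 78584) (len := 94) h836 m2_836
  have h838 : ∀ u < 78772, (fun u => chkFix tab mwordsA u) u = true := ext_range (a := 78678) (len := 94) h837 m2_837
  have h839 : ∀ u < 78866, (fun u => chkFix tab mwordsA u) u = true := ext_range (a := 78772) (len := 94) h838 m2_838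
  have h840 : ∀ u < 78960, (fun u => chkFix tab mwordsA u) u = true := ext_range (a := 78866) (len := 94) h839 m2_839
  have h841 : ∀ u < 79054, (fun u => chkFix tab mwordsA u) u = true := ext_range (a := 78960) (len := 94) h840 m2_840
  have h842 : ∀ u < 79148, (fun u => chkFix tab mwordsA u) u = true := ext_range (a := 79054) (len := 94) h841 m2_841
  have h843 : ∀ u < 79242, (fun u => chkFix tab mwordsA u) u = true := ext_range (a := 79148) (len := 94) h842 m2_842
  have h844 : ∀ u < 79336, (fun u => chkFix tab mwordsA u) u = true := ext_range (a := 79242) (len := 94) h843 m2_843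
  have h845 : ∀ u < 79430, (fun u => chkFix tab mwordsA u) u = true := ext_range (a := 79336) (len := 94) h844 m2_844
  have h846 : ∀ u < 79524, (fun u => chkFix tab mwordsA u) u = true := ext_range (a := 79430) (len := 94) h845 m2_845
  have h847 : ∀ u < 79618, (fun u => chkFix tab mwordsA u) u = true := ext_range (a := 79524) (len := 94) h846 m2_846
  have h848 : ∀ u < 79712, (fun u => chkFix tab mwordsA u) u = true := ext_range (a := 79618) (len := 94) h847 m2_847
  have h849 : ∀ u < 79806, (fun u => chkFix tab mwordsA u) u = true := ext_range (a := 79712) (len := 94) h848 m2_848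
  have h850 : ∀ u < 79900, (fun u => chkFix tab mwordsA u) u = true := ext_range (a := 79806) (len := 94) h849 m2_849
  have h851 : ∀ u < 79994, (fun u => chkFix tab mwordsA u) u = true := ext_range (a := 79900) (len := 94) h850 m2_850
  have h852 : ∀ u < 80088, (fun u => chkFix tab mwordsA u) u = true := ext_range (a := 79994) (len := 94) h851 m2_851
  have h853 : ∀ u < 80182, (fun u => chkFix tab mwordsA u) u = true := ext_range (a := 80088) (len := 94) h852 m2_852
  have h854 : ∀ u < 80276, (fun u => chkFix tab mwordsA u) u = true := ext_range (a := 80182) (len := 94) h853 m2_853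
  have h855 : ∀ u < 80370, (fun u => chkFix tab mwordsA u) u = true := ext_range (a := 80276) (len := 94) h854 m2_854
  have h856 : ∀ u < 80464, (fun u => chkFix tab mwordsA u) u = true := ext_range (a := 80370) (len := 94) h855 m2_855
  have h857 : ∀ u < 80558, (fun u => chkFix tab mwordsA u) u = true := ext_range (a := 80464) (len := 94) h856 m2_856
  have h858 : ∀ u < 80652, (fun u => chkFix tab mwordsA u) u = true := ext_range (a := 80558) (len := 94) h857 m2_857
  have h859 : ∀ u < 80746, (fun u => chkFix tab mwordsA u) u = true := ext_range (a := 80652) (len := 94) h858 m2_858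
  have h860 : ∀ u < 80840, (fun u => chkFix tab mwordsA u) u = true := ext_range (a := 80746) (len := 94) h859 m2_859
  have h861 : ∀ u < 80934, (fun u => chkFix tab mwordsA u) u = true := ext_range (a := 80840) (len := 94) h860 m2_860
  have h862 : ∀ u < 81028, (fun u => chkFix tab mwordsA u) u = true := ext_range (a := 80934) (len := 94) h861 m2_861
  have h863 : ∀ u < 81122, (fun u => chkFix tab mwordsA u) u = true := ext_range (a := 81028) (len := 94) h862 m2_862
  have h864 : ∀ u < 81216, (fun u => chkFix tab mwordsA u) u = true := ext_range (a := 81122) (len := 94) h863 m2_863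
  have h865 : ∀ u < 81310, (fun u => chkFix tab mwordsA u) u = true := ext_range (a := 81216) (len := 94) h864 m2_864
  have h866 : ∀ u < 81404, (fun u => chkFix tab mwordsA u) u = true := ext_range (a := 81310) (len := 94) h865 m2_865
  have h867 : ∀ u < 81498, (fun u => chkFix tab mwordsA u) u = true := ext_range (a := 81404) (len := 94) h866 m2_866
  have h868 : ∀ u < 81592, (fun u => chkFix tab mwordsA u) u = true := ext_range (a := 81498) (len := 94) h867 m2_867
  have h869 : ∀ u < 81686, (fun u => chkFix tab mwordsA u) u = true := ext_range (a := 81592) (len := 94) h868 m2_868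
  have h870 : ∀ u < 81780, (fun u => chkFix tab mwordsA u) u = true := ext_range (a := 81686) (len := 94) h869 m2_869
  have h871 : ∀ u < 81874, (fun u => chkFix tab mwordsA u) u = true := ext_range (a := 81780) (len := 94) h870 m2_870
  have h872 : ∀ u < 81968, (fun u => chkFix tab mwordsA u) u = true := ext_range (a := 81874) (len := 94) h871 m2_871
  have h873 : ∀ u < 82062, (fun u => chkFix tab mwordsA u) u = true := ext_range (a := 81968) (len := 94) h872 m2_872
  have h874 : ∀ u < 82156, (fun u => chkFix tab mwordsA u) u = true := ext_range (a := 82062) (len := 94) h873 m2_873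
  have h875 : ∀ u < 82250, (fun u => chkFix tab mwordsA u) u = true := ext_range (a := 82156) (len := 94) h874 m2_874
  have h876 : ∀ u < 82344, (fun u => chkFix tab mwordsA u) u = true := ext_range (a := 82250) (len := 94) h875 m2_875
  have h877 : ∀ u < 82438, (fun u => chkFix tab mwordsA u) u = true := ext_range (a := 82344) (len := 94) h876 m2_876
  have h878 : ∀ u < 82532, (fun u => chkFix tab mwordsA u) u = true := ext_range (a := 82438) (len := 94) h877 m2_877
  have h879 : ∀ u < 82626, (fun u => chkFix tab mwordsA u) u = true := ext_range (a := 82532) (len := 94) h878 m2_878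
  have h880 : ∀ u < 82720, (fun u => chkFix tab mwordsA u) u = true := ext_range (a := 82626) (len := 94) h879 m2_879
  have h881 : ∀ u < 82814, (fun u => chkFix tab mwordsA u) u = true := ext_range (a := 82720) (len := 94) h880 m2_880
  have h882 : ∀ u < 82908, (fun u => chkFix tab mwordsA u) u = true := ext_range (a := 82814) (len := 94) h881 m2_881
  have h883 : ∀ u < 83002, (fun u => chkFix tab mwordsA u) u = true := ext_range (a := 82908) (len := 94) h882 m2_882
  have h884 : ∀ u < 83096, (fun u => chkFix tab mwordsA u) u = true := ext_range (a := 83002) (len := 94) h883 m2_883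
  have h885 : ∀ u < 83190, (fun u => chkFix tab mwordsA u) u = true := ext_range (a := 83096) (len := 94) h884 m2_884
  have h886 : ∀ u < 83284, (fun u => chkFix tab mwordsA u) u = true := ext_range (a := 83190) (len := 94) h885 m2_885
  have h887 : ∀ u < 83378, (fun u => chkFix tab mwordsA u) u = true := ext_range (a := 83284) (len := 94) h886 m2_886
  have h888 : ∀ u < 83472, (fun u => chkFix tab mwordsA u) u = true := ext_range (a := 83378) (len := 94) h887 m2_887
  have h889 : ∀ u < 83566, (fun u => chkFix tab mwordsA u) u = true := ext_range (a := 83472) (len := 94) h888 m2_888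
  have h890 : ∀ u < 83660, (fun u => chkFix tab mwordsA u) u = true := ext_range (a := 83566) (len := 94) h889 m2_889
  have h891 : ∀ u < 83754, (fun u => chkFix tab mwordsA u) u = true := ext_range (a := 83660) (len := 94) h890 m2_890
  have h892 : ∀ u < 83848, (fun u => chkFix tab mwordsA u) u = true := ext_range (a := 83754) (len := 94) h891 m2_891
  have h893 : ∀ u < 83942, (fun u => chkFix tab mwordsA u) u = true := ext_range (a := 83848) (len := 94) h892 m2_892
  have h894 : ∀ u < 84036, (fun u => chkFix tab mwordsA u) u = true := ext_range (a := 83942) (len := 94) h893 m2_893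
  have h895 : ∀ u < 84130, (fun u => chkFix tab mwordsA u) u = true := ext_range (a := 84036) (len := 94) h894 m2_894
  have h896 : ∀ u < 84224, (fun u => chkFix tab mwordsA u) u = true := ext_range (a := 84130) (len := 94) h895 m2_895
  have h897 : ∀ u < 84318, (fun u => chkFix tab mwordsA u) u = true := ext_range (a := 84224) (len := 94) h896 m2_896
  have h898 : ∀ u < 84412, (fun u => chkFix tab mwordsA u) u = true := ext_range (a := 84318) (len := 94) h897 m2_897
  have h899 : ∀ u < 84506, (fun u => chkFix tab mwordsA u) u = true := ext_range (a := 84412) (len := 94) h898 m2_898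
  have h900 : ∀ u < 84600, (fun u => chkFix tab mwordsA u) u = true := ext_range (a := 84506) (len := 94) h899 m2_899
  have h901 : ∀ u < 84694, (fun u => chkFix tab mwordsA u) u = true := ext_range (a := 84600) (len := 94) h900 m2_900
  have h902 : ∀ u < 84788, (fun u => chkFix tab mwordsA u) u = true := ext_range (a := 84694) (len := 94) h901 m2_901
  have h903 : ∀ u < 84882, (fun u => chkFix tab mwordsA u) u = true := ext_range (a := 84788) (len := 94) h902 m2_902
  have h904 : ∀ u < 84976, (fun u => chkFix tab mwordsA u) u = true := ext_range (a := 84882) (len := 94) h903 m2_903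
  have h905 : ∀ u < 85070, (fun u => chkFix tab mwordsA u) u = true := ext_range (a := 84976) (len := 94) h904 m2_904
  have h906 : ∀ u < 85164, (fun u => chkFix tab mwordsA u) u = true := ext_range (a := 85070) (len := 94) h905 m2_905
  have h907 : ∀ u < 85258, (fun u => chkFix tab mwordsA u) u = true := ext_range (a := 85164) (len := 94) h906 m2_906
  have h908 : ∀ u < 85352, (fun u => chkFix tab mwordsA u) u = true := ext_range (a := 85258) (len := 94) h907 m2_907
  have h909 : ∀ u < 85446, (fun u => chkFix tab mwordsA u) u = true := ext_range (a := 85352) (len := 94) h908 m2_908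
  have h910 : ∀ u < 85540, (fun u => chkFix tab mwordsA u) u = true := ext_range (a := 85446) (len := 94) h909 m2_909
  have h911 : ∀ u < 85634, (fun u => chkFix tab mwordsA u) u = true := ext_range (a := 85540) (len := 94) h910 m2_910
  have h912 : ∀ u < 85728, (fun u => chkFix tab mwordsA u) u = true := ext_range (a := 85634) (len := 94) h911 m2_911
  have h913 : ∀ u < 85822, (fun u => chkFix tab mwordsA u) u = true := ext_range (a := 85728) (len := 94) h912 m2_912
  have h914 : ∀ u < 85916, (fun u => chkFix tab mwordsA u) u = true := ext_range (a := 85822) (len := 94) h913 m2_913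
  have h915 : ∀ u < 86010, (fun u => chkFix tab mwordsA u) u = true := ext_range (a := 85916) (len := 94) h914 m2_914
  have h916 : ∀ u < 86104, (fun u => chkFix tab mwordsA u) u = true := ext_range (a := 86010) (len := 94) h915 m2_915
  have h917 : ∀ u < 86198, (fun u => chkFix tab mwordsA u) u = true := ext_range (a := 86104) (len := 94) h916 m2_916
  have h918 : ∀ u < 86292, (fun u => chkFix tab mwordsA u) u = true := ext_range (a := 86198) (len := 94) h917 m2_917
  have h919 : ∀ u < 86386, (fun u => chkFix tab mwordsA u) u = true := ext_range (a := 86292) (len := 94) h918 m2_918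
  have h920 : ∀ u < 86480, (fun u => chkFix tab mwordsA u) u = true := ext_range (a := 86386) (len := 94) h919 m2_919
  have h921 : ∀ u < 86574, (fun u => chkFix tab mwordsA u) u = true := ext_range (a := 86480) (len := 94) h920 m2_920
  have h922 : ∀ u < 86668, (fun u => chkFix tab mwordsA u) u = true := ext_range (a := 86574) (len := 94) h921 m2_921
  have h923 : ∀ u < 86762, (fun u => chkFix tab mwordsA u) u = true := ext_range (a := 86668) (len := 94) h922 m2_922
  have h924 : ∀ u < 86856, (fun u => chkFix tab mwordsA u) u = true := ext_range (a := 86762) (len := 94) h923 m2_923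
  have h925 : ∀ u < 86950, (fun u => chkFix tab mwordsA u) u = true := ext_range (a := 86856) (len := 94) h924 m2_924
  have h926 : ∀ u < 87044, (fun u => chkFix tab mwordsA u) u = true := ext_range (a := 86950) (len := 94) h925 m2_925
  have h927 : ∀ u < 87138, (fun u => chkFix tab mwordsA u) u = true := ext_range (a := 87044) (len := 94) h926 m2_926
  have h928 : ∀ u < 87232, (fun u => chkFix tab mwordsA u) u = true := ext_range (a := 87138) (len := 94) h927 m2_927
  have h929 : ∀ u < 87326, (fun u => chkFix tab mwordsA u) u = true := ext_range (a := 87232) (len := 94) h928 m2_928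
  have h930 : ∀ u < 87420, (fun u => chkFix tab mwordsA u) u = true := ext_range (a := 87326) (len := 94) h929 m2_929
  have h931 : ∀ u < 87514, (fun u => chkFix tab mwordsA u) u = true := ext_range (a := 87420) (len := 94) h930 m2_930
  have h932 : ∀ u < 87608, (fun u => chkFix tab mwordsA u) u = true := ext_range (a := 87514) (len := 94) h931 m2_931
  have h933 : ∀ u < 87702, (fun u => chkFix tab mwordsA u) u = true := ext_range (a := 87608) (len := 94) h932 m2_932
  have h934 : ∀ u < 87796, (fun u => chkFix tab mwordsA u) u = true := ext_range (a := 87702) (len := 94) h933 m2_933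
  have h935 : ∀ u < 87890, (fun u => chkFix tab mwordsA u) u = true := ext_range (a := 87796) (len := 94) h934 m2_934
  have h936 : ∀ u < 87984, (fun u => chkFix tab mwordsA u) u = true := ext_range (a := 87890) (len := 94) h935 m2_935
  have h937 : ∀ u < 88078, (fun u => chkFix tab mwordsA u) u = true := ext_range (a := 87984) (len := 94) h936 m2_936
  have h938 : ∀ u < 88172, (fun u => chkFix tab mwordsA u) u = true := ext_range (a := 88078) (len := 94) h937 m2_937
  have h939 : ∀ u < 88266, (fun u => chkFix tab mwordsA u) u = true := ext_range (a := 88172) (len := 94) h938 m2_938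
  have h940 : ∀ u < 88360, (fun u => chkFix tab mwordsA u) u = true := ext_range (a := 88266) (len := 94) h939 m2_939
  have h941 : ∀ u < 88454, (fun u => chkFix tab mwordsA u) u = true := ext_range (a := 88360) (len := 94) h940 m2_940
  have h942 : ∀ u < 88548, (fun u => chkFix tab mwordsA u) u = true := ext_range (a := 88454) (len := 94) h941 m2_941
  have h943 : ∀ u < 88642, (fun u => chkFix tab mwordsA u) u = true := ext_range (a := 88548) (len := 94) h942 m2_942
  have h944 : ∀ u < 88736, (fun u => chkFix tab mwordsA u) u = true := ext_range (a := 88642) (len := 94) h943 m2_943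
  have h945 : ∀ u < 88830, (fun u => chkFix tab mwordsA u) u = true := ext_range (a := 88736) (len := 94) h944 m2_944
  have h946 : ∀ u < 88924, (fun u => chkFix tab mwordsA u) u = true := ext_range (a := 88830) (len := 94) h945 m2_945
  have h947 : ∀ u < 89018, (fun u => chkFix tab mwordsA u) u = true := ext_range (a := 88924) (len := 94) h946 m2_946
  have h948 : ∀ u < 89112, (fun u => chkFix tab mwordsA u) u = true := ext_range (a := 89018) (len := 94) h947 m2_947
  have h949 : ∀ u < 89206, (fun u => chkFix tab mwordsA u) u = true := ext_range (a := 89112) (len := 94) h948 m2_948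
  have h950 : ∀ u < 89300, (fun u => chkFix tab mwordsA u) u = true := ext_range (a := 89206) (len := 94) h949 m2_949
  have h951 : ∀ u < 89394, (fun u => chkFix tab mwordsA u) u = true := ext_range (a := 89300) (len := 94) h950 m2_950
  have h952 : ∀ u < 89488, (fun u => chkFix tab mwordsA u) u = true := ext_range (a := 89394) (len := 94) h951 m2_951
  have h953 : ∀ u < 89582, (fun u => chkFix tab mwordsA u) u = true := ext_range (a := 89488) (len := 94) h952 m2_952
  have h954 : ∀ u < 89676, (fun u => chkFix tab mwordsA u) u = true := ext_range (a := 89582) (len := 94) h953 m2_953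
  have h955 : ∀ u < 89770, (fun u => chkFix tab mwordsA u) u = true := ext_range (a := 89676) (len := 94) h954 m2_954
  have h956 : ∀ u < 89864, (fun u => chkFix tab mwordsA u) u = true := ext_range (a := 89770) (len := 94) h955 m2_955
  have h957 : ∀ u < 89958, (fun u => chkFix tab mwordsA u) u = true := ext_range (a := 89864) (len := 94) h956 m2_956
  have h958 : ∀ u < 90052, (fun u => chkFix tab mwordsA u) u = true := ext_range (a := 89958) (len := 94) h957 m2_957
  have h959 : ∀ u < 90146, (fun u => chkFix tab mwordsA u) u = true := ext_range (a := 90052) (len := 94) h958 m2_958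
  have h960 : ∀ u < 90240, (fun u => chkFix tab mwordsA u) u = true := ext_range (a := 90146) (len := 94) h959 m2_959
  have h961 : ∀ u < 90334, (fun u => chkFix tab mwordsA u) u = true := ext_range (a := 90240) (len := 94) h960 m2_960
  have h962 : ∀ u < 90428, (fun u => chkFix tab mwordsA u) u = true := ext_range (a := 90334) (len := 94) h961 m2_961
  have h963 : ∀ u < 90522, (fun u => chkFix tab mwordsA u) u = true := ext_range (a := 90428) (len := 94) h962 m2_962
  have h964 : ∀ u < 90616, (fun u => chkFix tab mwordsA u) u = true := ext_range (a := 90522) (len := 94) h963 m2_963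
  have h965 : ∀ u < 90710, (fun u => chkFix tab mwordsA u) u = true := ext_range (a := 90616) (len := 94) h964 m2_964
  have h966 : ∀ u < 90804, (fun u => chkFix tab mwordsA u) u = true := ext_range (a := 90710) (len := 94) h965 m2_965
  have h967 : ∀ u < 90898, (fun u => chkFix tab mwordsA u) u = true := ext_range (a := 90804) (len := 94) h966 m2_966
  have h968 : ∀ u < 90992, (fun u => chkFix tab mwordsA u) u = true := ext_range (a := 90898) (len := 94) h967 m2_967
  have h969 : ∀ u < 91086, (fun u => chkFix tab mwordsA u) u = true := ext_range (a := 90992) (len := 94) h968 m2_968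
  have h970 : ∀ u < 91180, (fun u => chkFix tab mwordsA u) u = true := ext_range (a := 91086) (len := 94) h969 m2_969
  have h971 : ∀ u < 91274, (fun u => chkFix tab mwordsA u) u = true := ext_range (a := 91180) (len := 94) h970 m2_970
  have h972 : ∀ u < 91368, (fun u => chkFix tab mwordsA u) u = true := ext_range (a := 91274) (len := 94) h971 m2_971
  have h973 : ∀ u < 91462, (fun u => chkFix tab mwordsA u) u = true := ext_range (a := 91368) (len := 94) h972 m2_972
  have h974 : ∀ u < 91556, (fun u => chkFix tab mwordsA u) u = true := ext_range (a := 91462) (len := 94) h973 m2_973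
  have h975 : ∀ u < 91650, (fun u => chkFix tab mwordsA u) u = true := ext_range (a := 91556) (len := 94) h974 m2_974
  have h976 : ∀ u < 91744, (fun u => chkFix tab mwordsA u) u = true := ext_range (a := 91650) (len := 94) h975 m2_975
  have h977 : ∀ u < 91838, (fun u => chkFix tab mwordsA u) u = true := ext_range (a := 91744) (len := 94) h976 m2_976
  have h978 : ∀ u < 91932, (fun u => chkFix tab mwordsA u) u = true := ext_range (a := 91838) (len := 94) h977 m2_977
  have h979 : ∀ u < 92026, (fun u => chkFix tab mwordsA u) u = true := ext_range (a := 91932) (len := 94) h978 m2_978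
  have h980 : ∀ u < 92120, (fun u => chkFix tab mwordsA u) u = true := ext_range (a := 92026) (len := 94) h979 m2_979
  have h981 : ∀ u < 92214, (fun u => chkFix tab mwordsA u) u = true := ext_range (a := 92120) (len := 94) h980 m2_980
  have h982 : ∀ u < 92308, (fun u => chkFix tab mwordsA u) u = true := ext_range (a := 92214) (len := 94) h981 m2_981
  have h983 : ∀ u < 92402, (fun u => chkFix tab mwordsA u) u = true := ext_range (a := 92308) (len := 94) h982 m2_982
  have h984 : ∀ u < 92496, (fun u => chkFix tab mwordsA u) u = true := ext_range (a := 92402) (len := 94) h983 m2_983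
  have h985 : ∀ u < 92590, (fun u => chkFix tab mwordsA u) u = true := ext_range (a := 92496) (len := 94) h984 m2_984
  have h986 : ∀ u < 92684, (fun u => chkFix tab mwordsA u) u = true := ext_range (a := 92590) (len := 94) h985 m2_985
  have h987 : ∀ u < 92778, (fun u => chkFix tab mwordsA u) u = true := ext_range (a := 92684) (len := 94) h986 m2_986
  have h988 : ∀ u < 92872, (fun u => chkFix tab mwordsA u) u = true := ext_range (a := 92778) (len := 94) h987 m2_987
  have h989 : ∀ u < 92966, (fun u => chkFix tab mwordsA u) u = true := ext_range (a := 92872) (len := 94) h988 m2_988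
  have h990 : ∀ u < 93060, (fun u => chkFix tab mwordsA u) u = true := ext_range (a := 92966) (len := 94) h989 m2_989
  have h991 : ∀ u < 93154, (fun u => chkFix tab mwordsA u) u = true := ext_range (a := 93060) (len := 94) h990 m2_990
  have h992 : ∀ u < 93248, (fun u => chkFix tab mwordsA u) u = true := ext_range (a := 93154) (len := 94) h991 m2_991
  have h993 : ∀ u < 93342, (fun u => chkFix tab mwordsA u) u = true := ext_range (a := 93248) (len := 94) h992 m2_992
  have h994 : ∀ u < 93436, (fun u => chkFix tab mwordsA u) u = true := ext_range (a := 93342) (len := 94) h993 m2_993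
  have h995 : ∀ u < 93530, (fun u => chkFix tab mwordsA u) u = true := ext_range (a := 93436) (len := 94) h994 m2_994
  have h996 : ∀ u < 93624, (fun u => chkFix tab mwordsA u) u = true := ext_range (a := 93530) (len := 94) h995 m2_995
  have h997 : ∀ u < 93718, (fun u => chkFix tab mwordsA u) u = true := ext_range (a := 93624) (len := 94) h996 m2_996
  have h998 : ∀ u < 93812, (fun u => chkFix tab mwordsA u) u = true := ext_range (a := 93718) (len := 94) h997 m2_997
  have h999 : ∀ u < 93906, (fun u => chkFix tab mwordsA u) u = true := ext_range (a := 93812) (len := 94) h998 m2_998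
  have h1000 : ∀ u < 94000, (fun u => chkFix tab mwordsA u) u = true := ext_range (a := 93906) (len := 94) h999 m2_999
  have h1001 : ∀ u < 94094, (fun u => chkFix tab mwordsA u) u = true := ext_range (a := 94000) (len := 94) h1000 m2_1000
  have h1002 : ∀ u < 94188, (fun u => chkFix tab mwordsA u) u = true := ext_range (a := 94094) (len := 94) h1001 m2_1001
  have h1003 : ∀ u < 94282, (fun u => chkFix tab mwordsA u) u = true := ext_range (a := 94188) (len := 94) h1002 m2_1002
  have h1004 : ∀ u < 94376, (fun u => chkFix tab mwordsA u) u = true := ext_range (a := 94282) (len := 94) h1003 m2_1003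
  have h1005 : ∀ u < 94470, (fun u => chkFix tab mwordsA u) u = true := ext_range (a := 94376) (len := 94) h1004 m2_1004
  have h1006 : ∀ u < 94564, (fun u => chkFix tab mwordsA u) u = true := ext_range (a := 94470) (len := 94) h1005 m2_1005
  have h1007 : ∀ u < 94658, (fun u => chkFix tab mwordsA u) u = true := ext_range (a := 94564) (len := 94) h1006 m2_1006
  have h1008 : ∀ u < 94752, (fun u => chkFix tab mwordsA u) u = true := ext_range (a := 94658) (len := 94) h1007 m2_1007
  have h1009 : ∀ u < 94846, (fun u => chkFix tab mwordsA u) u = true := ext_range (a := 94752) (len := 94) h1008 m2_1008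
  have h1010 : ∀ u < 94940, (fun u => chkFix tab mwordsA u) u = true := ext_range (a := 94846) (len := 94) h1009 m2_1009
  have h1011 : ∀ u < 95034, (fun u => chkFix tab mwordsA u) u = true := ext_range (a := 94940) (len := 94) h1010 m2_1010
  have h1012 : ∀ u < 95128, (fun u => chkFix tab mwordsA u) u = true := ext_range (a := 95034) (len := 94) h1011 m2_1011
  have h1013 : ∀ u < 95222, (fun u => chkFix tab mwordsA u) u = true := ext_range (a := 95128) (len := 94) h1012 m2_1012
  have h1014 : ∀ u < 95316, (fun u => chkFix tab mwordsA u) u = true := ext_range (a := 95222) (len := 94) h1013 m2_1013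
  have h1015 : ∀ u < 95410, (fun u => chkFix tab mwordsA u) u = true := ext_range (a := 95316) (len := 94) h1014 m2_1014
  have h1016 : ∀ u < 95504, (fun u => chkFix tab mwordsA u) u = true := ext_range (a := 95410) (len := 94) h1015 m2_1015
  have h1017 : ∀ u < 95598, (fun u => chkFix tab mwordsA u) u = true := ext_range (a := 95504) (len := 94) h1016 m2_1016
  have h1018 : ∀ u < 95692, (fun u => chkFix tab mwordsA u) u = true := ext_range (a := 95598) (len := 94) h1017 m2_1017
  have h1019 : ∀ u < 95786, (fun u => chkFix tab mwordsA u) u = true := ext_range (a := 95692) (len := 94) h1018 m2_1018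
  have h1020 : ∀ u < 95880, (fun u => chkFix tab mwordsA u) u = true := ext_range (a := 95786) (len := 94) h1019 m2_1019
  have h1021 : ∀ u < 95974, (fun u => chkFix tab mwordsA u) u = true := ext_range (a := 95880) (len := 94) h1020 m2_1020
  have h1022 : ∀ u < 96068, (fun u => chkFix tab mwordsA u) u = true := ext_range (a := 95974) (len := 94) h1021 m2_1021
  have h1023 : ∀ u < 96162, (fun u => chkFix tab mwordsA u) u = true := ext_range (a := 96068) (len := 94) h1022 m2_1022
  have h1024 : ∀ u < 96256, (fun u => chkFix tab mwordsA u) u = true := ext_range (a := 96162) (len := 94) h1023 m2_1023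
  have h1025 : ∀ u < 96350, (fun u => chkFix tab mwordsA u) u = true := ext_range (a := 96256) (len := 94) h1024 m2_1024
  have h1026 : ∀ u < 96444, (fun u => chkFix tab mwordsA u) u = true := ext_range (a := 96350) (len := 94) h1025 m2_1025
  have h1027 : ∀ u < 96538, (fun u => chkFix tab mwordsA u) u = true := ext_range (a := 96444) (len := 94) h1026 m2_1026
  have h1028 : ∀ u < 96632, (fun u => chkFix tab mwordsA u) u = true := ext_range (a := 96538) (len := 94) h1027 m2_1027
  have h1029 : ∀ u < 96726, (fun u => chkFix tab mwordsA u) u = true := ext_range (a := 96632) (len := 94) h1028 m2_1028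
  have h1030 : ∀ u < 96820, (fun u => chkFix tab mwordsA u) u = true := ext_range (a := 96726) (len := 94) h1029 m2_1029
  have h1031 : ∀ u < 96914, (fun u => chkFix tab mwordsA u) u = true := ext_range (a := 96820) (len := 94) h1030 m2_1030
  have h1032 : ∀ u < 97008, (fun u => chkFix tab mwordsA u) u = true := ext_range (a := 96914) (len := 94) h1031 m2_1031
  have h1033 : ∀ u < 97102, (fun u => chkFix tab mwordsA u) u = true := ext_range (a := 97008) (len := 94) h1032 m2_1032
  have h1034 : ∀ u < 97196, (fun u => chkFix tab mwordsA u) u = true := ext_range (a := 97102) (len := 94) h1033 m2_1033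
  have h1035 : ∀ u < 97290, (fun u => chkFix tab mwordsA u) u = true := ext_range (a := 97196) (len := 94) h1034 m2_1034
  have h1036 : ∀ u < 97384, (fun u => chkFix tab mwordsA u) u = true := ext_range (a := 97290) (len := 94) h1035 m2_1035
  have h1037 : ∀ u < 97478, (fun u => chkFix tab mwordsA u) u = true := ext_range (a := 97384) (len := 94) h1036 m2_1036
  have h1038 : ∀ u < 97572, (fun u => chkFix tab mwordsA u) u = true := ext_range (a := 97478) (len := 94) h1037 m2_1037
  have h1039 : ∀ u < 97666, (fun u => chkFix tab mwordsA u) u = true := ext_range (a := 97572) (len := 94) h1038 m2_1038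
  have h1040 : ∀ u < 97760, (fun u => chkFix tab mwordsA u) u = true := ext_range (a := 97666) (len := 94) h1039 m2_1039
  have h1041 : ∀ u < 97854, (fun u => chkFix tab mwordsA u) u = true := ext_range (a := 97760) (len := 94) h1040 m2_1040
  have h1042 : ∀ u < 97948, (fun u => chkFix tab mwordsA u) u = true := ext_range (a := 97854) (len := 94) h1041 m2_1041
  have h1043 : ∀ u < 98042, (fun u => chkFix tab mwordsA u) u = true := ext_range (a := 97948) (len := 94) h1042 m2_1042
  have h1044 : ∀ u < 98136, (fun u => chkFix tab mwordsA u) u = true := ext_range (a := 98042) (len := 94) h1043 m2_1043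
  have h1045 : ∀ u < 98230, (fun u => chkFix tab mwordsA u) u = true := ext_range (a := 98136) (len := 94) h1044 m2_1044
  have h1046 : ∀ u < 98324, (fun u => chkFix tab mwordsA u) u = true := ext_range (a := 98230) (len := 94) h1045 m2_1045
  have h1047 : ∀ u < 98418, (fun u => chkFix tab mwordsA u) u = true := ext_range (a := 98324) (len := 94) h1046 m2_1046
  have h1048 : ∀ u < 98512, (fun u => chkFix tab mwordsA u) u = true := ext_range (a := 98418) (len := 94) h1047 m2_1047
  have h1049 : ∀ u < 98606, (fun u => chkFix tab mwordsA u) u = true := ext_range (a := 98512) (len := 94) h1048 m2_1048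
  have h1050 : ∀ u < 98700, (fun u => chkFix tab mwordsA u) u = true := ext_range (a := 98606) (len := 94) h1049 m2_1049
  have h1051 : ∀ u < 98794, (fun u => chkFix tab mwordsA u) u = true := ext_range (a := 98700) (len := 94) h1050 m2_1050
  have h1052 : ∀ u < 98888, (fun u => chkFix tab mwordsA u) u = true := ext_range (a := 98794) (len := 94) h1051 m2_1051
  have h1053 : ∀ u < 98982, (fun u => chkFix tab mwordsA u) u = true := ext_range (a := 98888) (len := 94) h1052 m2_1052
  have h1054 : ∀ u < 99076, (fun u => chkFix tab mwordsA u) u = true := ext_range (a := 98982) (len := 94) h1053 m2_1053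
  have h1055 : ∀ u < 99170, (fun u => chkFix tab mwordsA u) u = true := ext_range (a := 99076) (len := 94) h1054 m2_1054
  have h1056 : ∀ u < 99264, (fun u => chkFix tab mwordsA u) u = true := ext_range (a := 99170) (len := 94) h1055 m2_1055
  have h1057 : ∀ u < 99358, (fun u => chkFix tab mwordsA u) u = true := ext_range (a := 99264) (len := 94) h1056 m2_1056
  have h1058 : ∀ u < 99452, (fun u => chkFix tab mwordsA u) u = true := ext_range (a := 99358) (len := 94) h1057 m2_1057
  have h1059 : ∀ u < 99546, (fun u => chkFix tab mwordsA u) u = true := ext_range (a := 99452) (len := 94) h1058 m2_1058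
  have h1060 : ∀ u < 99640, (fun u => chkFix tab mwordsA u) u = true := ext_range (a := 99546) (len := 94) h1059 m2_1059
  have h1061 : ∀ u < 99734, (fun u => chkFix tab mwordsA u) u = true := ext_range (a := 99640) (len := 94) h1060 m2_1060
  have h1062 : ∀ u < 99828, (fun u => chkFix tab mwordsA u) u = true := ext_range (a := 99734) (len := 94) h1061 m2_1061
  have h1063 : ∀ u < 99922, (fun u => chkFix tab mwordsA u) u = true := ext_range (a := 99828) (len := 94) h1062 m2_1062
  have h1064 : ∀ u < 100016, (fun u => chkFix tab mwordsA u) u = true := ext_range (a := 99922) (len := 94) h1063 m2_1063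
  have h1065 : ∀ u < 100110, (fun u => chkFix tab mwordsA u) u = true := ext_range (a := 100016) (len := 94) h1064 m2_1064
  have h1066 : ∀ u < 100204, (fun u => chkFix tab mwordsA u) u = true := ext_range (a := 100110) (len := 94) h1065 m2_1065
  have h1067 : ∀ u < 100298, (fun u => chkFix tab mwordsA u) u = true := ext_range (a := 100204) (len := 94) h1066 m2_1066
  have h1068 : ∀ u < 100392, (fun u => chkFix tab mwordsA u) u = true := ext_range (a := 100298) (len := 94) h1067 m2_1067
  have h1069 : ∀ u < 100486, (fun u => chkFix tab mwordsA u) u = true := ext_range (a := 100392) (len := 94) h1068 m2_1068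
  have h1070 : ∀ u < 100580, (fun u => chkFix tab mwordsA u) u = true := ext_range (a := 100486) (len := 94) h1069 m2_1069
  have h1071 : ∀ u < 100674, (fun u => chkFix tab mwordsA u) u = true := ext_range (a := 100580) (len := 94) h1070 m2_1070
  have h1072 : ∀ u < 100768, (fun u => chkFix tab mwordsA u) u = true := ext_range (a := 100674) (len := 94) h1071 m2_1071
  have h1073 : ∀ u < 100862, (fun u => chkFix tab mwordsA u) u = true := ext_range (a := 100768) (len := 94) h1072 m2_1072
  have h1074 : ∀ u < 100956, (fun u => chkFix tab mwordsA u) u = true := ext_range (a := 100862) (len := 94) h1073 m2_1073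
  have h1075 : ∀ u < 101050, (fun u => chkFix tab mwordsA u) u = true := ext_range (a := 100956) (len := 94) h1074 m2_1074
  have h1076 : ∀ u < 101144, (fun u => chkFix tab mwordsA u) u = true := ext_range (a := 101050) (len := 94) h1075 m2_1075
  have h1077 : ∀ u < 101238, (fun u => chkFix tab mwordsA u) u = true := ext_range (a := 101144) (len := 94) h1076 m2_1076
  have h1078 : ∀ u < 101332, (fun u => chkFix tab mwordsA u) u = true := ext_range (a := 101238) (len := 94) h1077 m2_1077
  have h1079 : ∀ u < 101426, (fun u => chkFix tab mwordsA u) u = true := ext_range (a := 101332) (len := 94) h1078 m2_1078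
  have h1080 : ∀ u < 101520, (fun u => chkFix tab mwordsA u) u = true := ext_range (a := 101426) (len := 94) h1079 m2_1079
  have h1081 : ∀ u < 101614, (fun u => chkFix tab mwordsA u) u = true := ext_range (a := 101520) (len := 94) h1080 m2_1080
  have h1082 : ∀ u < 101708, (fun u => chkFix tab mwordsA u) u = true := ext_range (a := 101614) (len := 94) h1081 m2_1081
  have h1083 : ∀ u < 101802, (fun u => chkFix tab mwordsA u) u = true := ext_range (a := 101708) (len := 94) h1082 m2_1082
  have h1084 : ∀ u < 101896, (fun u => chkFix tab mwordsA u) u = true := ext_range (a := 101802) (len := 94) h1083 m2_1083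
  have h1085 : ∀ u < 101990, (fun u => chkFix tab mwordsA u) u = true := ext_range (a := 101896) (len := 94) h1084 m2_1084
  have h1086 : ∀ u < 102084, (fun u => chkFix tab mwordsA u) u = true := ext_range (a := 101990) (len := 94) h1085 m2_1085
  have h1087 : ∀ u < 102178, (fun u => chkFix tab mwordsA u) u = true := ext_range (a := 102084) (len := 94) h1086 m2_1086
  have h1088 : ∀ u < 102272, (fun u => chkFix tab mwordsA u) u = true := ext_range (a := 102178) (len := 94) h1087 m2_1087
  have h1089 : ∀ u < 102366, (fun u => chkFix tab mwordsA u) u = true := ext_range (a := 102272) (len := 94) h1088 m2_1088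
  have h1090 : ∀ u < 102460, (fun u => chkFix tab mwordsA u) u = true := ext_range (a := 102366) (len := 94) h1089 m2_1089
  have h1091 : ∀ u < 102554, (fun u => chkFix tab mwordsA u) u = true := ext_range (a := 102460) (len := 94) h1090 m2_1090
  have h1092 : ∀ u < 102648, (fun u => chkFix tab mwordsA u) u = true := ext_range (a := 102554) (len := 94) h1091 m2_1091
  have h1093 : ∀ u < 102742, (fun u => chkFix tab mwordsA u) u = true := ext_range (a := 102648) (len := 94) h1092 m2_1092
  have h1094 : ∀ u < 102836, (fun u => chkFix tab mwordsA u) u = true := ext_range (a := 102742) (len := 94) h1093 m2_1093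
  have h1095 : ∀ u < 102930, (fun u => chkFix tab mwordsA u) u = true := ext_range (a := 102836) (len := 94) h1094 m2_1094
  have h1096 : ∀ u < 103024, (fun u => chkFix tab mwordsA u) u = true := ext_range (a := 102930) (len := 94) h1095 m2_1095
  have h1097 : ∀ u < 103118, (fun u => chkFix tab mwordsA u) u = true := ext_range (a := 103024) (len := 94) h1096 m2_1096
  have h1098 : ∀ u < 103212, (fun u => chkFix tab mwordsA u) u = true := ext_range (a := 103118) (len := 94) h1097 m2_1097
  have h1099 : ∀ u < 103306, (fun u => chkFix tab mwordsA u) u = true := ext_range (a := 103212) (len := 94) h1098 m2_1098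
  have h1100 : ∀ u < 103400, (fun u => chkFix tab mwordsA u) u = true := ext_range (a := 103306) (len := 94) h1099 m2_1099
  have h1101 : ∀ u < 103494, (fun u => chkFix tab mwordsA u) u = true := ext_range (a := 103400) (len := 94) h1100 m2_1100
  have h1102 : ∀ u < 103588, (fun u => chkFix tab mwordsA u) u = true := ext_range (a := 103494) (len := 94) h1101 m2_1101
  have h1103 : ∀ u < 103682, (fun u => chkFix tab mwordsA u) u = true := ext_range (a := 103588) (len := 94) h1102 m2_1102
  have h1104 : ∀ u < 103776, (fun u => chkFix tab mwordsA u) u = true := ext_range (a := 103682) (len := 94) h1103 m2_1103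
  have h1105 : ∀ u < 103870, (fun u => chkFix tab mwordsA u) u = true := ext_range (a := 103776) (len := 94) h1104 m2_1104
  have h1106 : ∀ u < 103964, (fun u => chkFix tab mwordsA u) u = true := ext_range (a := 103870) (len := 94) h1105 m2_1105
  have h1107 : ∀ u < 104058, (fun u => chkFix tab mwordsA u) u = true := ext_range (a := 103964) (len := 94) h1106 m2_1106
  have h1108 : ∀ u < 104152, (fun u => chkFix tab mwordsA u) u = true := ext_range (a := 104058) (len := 94) h1107 m2_1107
  have h1109 : ∀ u < 104246, (fun u => chkFix tab mwordsA u) u = true := ext_range (a := 104152) (len := 94) h1108 m2_1108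
  have h1110 : ∀ u < 104340, (fun u => chkFix tab mwordsA u) u = true := ext_range (a := 104246) (len := 94) h1109 m2_1109
  have h1111 : ∀ u < 104434, (fun u => chkFix tab mwordsA u) u = true := ext_range (a := 104340) (len := 94) h1110 m2_1110
  have h1112 : ∀ u < 104528, (fun u => chkFix tab mwordsA u) u = true := ext_range (a := 104434) (len := 94) h1111 m2_1111
  have h1113 : ∀ u < 104622, (fun u => chkFix tab mwordsA u) u = true := ext_range (a := 104528) (len := 94) h1112 m2_1112
  have h1114 : ∀ u < 104716, (fun u => chkFix tab mwordsA u) u = true := ext_range (a := 104622) (len := 94) h1113 m2_1113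
  have h1115 : ∀ u < 104810, (fun u => chkFix tab mwordsA u) u = true := ext_range (a := 104716) (len := 94) h1114 m2_1114
  have h1116 : ∀ u < 104904, (fun u => chkFix tab mwordsA u) u = true := ext_range (a := 104810) (len := 94) h1115 m2_1115
  have h1117 : ∀ u < 104998, (fun u => chkFix tab mwordsA u) u = true := ext_range (a := 104904) (len := 94) h1116 m2_1116
  have h1118 : ∀ u < 105092, (fun u => chkFix tab mwordsA u) u = true := ext_range (a := 104998) (len := 94) h1117 m2_1117
  have h1119 : ∀ u < 105186, (fun u => chkFix tab mwordsA u) u = true := ext_range (a := 105092) (len := 94) h1118 m2_1118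
  have h1120 : ∀ u < 105280, (fun u => chkFix tab mwordsA u) u = true := ext_range (a := 105186) (len := 94) h1119 m2_1119
  have h1121 : ∀ u < 105374, (fun u => chkFix tab mwordsA u) u = true := ext_range (a := 105280) (len := 94) h1120 m2_1120
  have h1122 : ∀ u < 105468, (fun u => chkFix tab mwordsA u) u = true := ext_range (a := 105374) (len := 94) h1121 m2_1121
  have h1123 : ∀ u < 105562, (fun u => chkFix tab mwordsA u) u = true := ext_range (a := 105468) (len := 94) h1122 m2_1122
  have h1124 : ∀ u < 105656, (fun u => chkFix tab mwordsA u) u = true := ext_range (a := 105562) (len := 94) h1123 m2_1123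
  have h1125 : ∀ u < 105750, (fun u => chkFix tab mwordsA u) u = true := ext_range (a := 105656) (len := 94) h1124 m2_1124
  have h1126 : ∀ u < 105844, (fun u => chkFix tab mwordsA u) u = true := ext_range (a := 105750) (len := 94) h1125 m2_1125
  have h1127 : ∀ u < 105938, (fun u => chkFix tab mwordsA u) u = true := ext_range (a := 105844) (len := 94) h1126 m2_1126
  have h1128 : ∀ u < 106032, (fun u => chkFix tab mwordsA u) u = true := ext_range (a := 105938) (len := 94) h1127 m2_1127
  have h1129 : ∀ u < 106126, (fun u => chkFix tab mwordsA u) u = true := ext_range (a := 106032) (len := 94) h1128 m2_1128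
  have h1130 : ∀ u < 106220, (fun u => chkFix tab mwordsA u) u = true := ext_range (a := 106126) (len := 94) h1129 m2_1129
  have h1131 : ∀ u < 106314, (fun u => chkFix tab mwordsA u) u = true := ext_range (a := 106220) (len := 94) h1130 m2_1130
  have h1132 : ∀ u < 106408, (fun u => chkFix tab mwordsA u) u = true := ext_range (a := 106314) (len := 94) h1131 m2_1131
  have h1133 : ∀ u < 106502, (fun u => chkFix tab mwordsA u) u = true := ext_range (a := 106408) (len := 94) h1132 m2_1132
  have h1134 : ∀ u < 106596, (fun u => chkFix tab mwordsA u) u = true := ext_range (a := 106502) (len := 94) h1133 m2_1133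
  have h1135 : ∀ u < 106690, (fun u => chkFix tab mwordsA u) u = true := ext_range (a := 106596) (len := 94) h1134 m2_1134
  have h1136 : ∀ u < 106784, (fun u => chkFix tab mwordsA u) u = true := ext_range (a := 106690) (len := 94) h1135 m2_1135
  have h1137 : ∀ u < 106878, (fun u => chkFix tab mwordsA u) u = true := ext_range (a := 106784) (len := 94) h1136 m2_1136
  have h1138 : ∀ u < 106972, (fun u => chkFix tab mwordsA u) u = true := ext_range (a := 106878) (len := 94) h1137 m2_1137
  have h1139 : ∀ u < 107066, (fun u => chkFix tab mwordsA u) u = true := ext_range (a := 106972) (len := 94) h1138 m2_1138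
  have h1140 : ∀ u < 107160, (fun u => chkFix tab mwordsA u) u = true := ext_range (a := 107066) (len := 94) h1139 m2_1139
  have h1141 : ∀ u < 107254, (fun u => chkFix tab mwordsA u) u = true := ext_range (a := 107160) (len := 94) h1140 m2_1140
  have h1142 : ∀ u < 107348, (fun u => chkFix tab mwordsA u) u = true := ext_range (a := 107254) (len := 94) h1141 m2_1141
  have h1143 : ∀ u < 107442, (fun u => chkFix tab mwordsA u) u = true := ext_range (a := 107348) (len := 94) h1142 m2_1142
  have h1144 : ∀ u < 107536, (fun u => chkFix tab mwordsA u) u = true := ext_range (a := 107442) (len := 94) h1143 m2_1143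
  have h1145 : ∀ u < 107630, (fun u => chkFix tab mwordsA u) u = true := ext_range (a := 107536) (len := 94) h1144 m2_1144
  have h1146 : ∀ u < 107724, (fun u => chkFix tab mwordsA u) u = true := ext_range (a := 107630) (len := 94) h1145 m2_1145
  have h1147 : ∀ u < 107818, (fun u => chkFix tab mwordsA u) u = true := ext_range (a := 107724) (len := 94) h1146 m2_1146
  have h1148 : ∀ u < 107912, (fun u => chkFix tab mwordsA u) u = true := ext_range (a := 107818) (len := 94) h1147 m2_1147
  have h1149 : ∀ u < 108006, (fun u => chkFix tab mwordsA u) u = true := ext_range (a := 107912) (len := 94) h1148 m2_1148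
  have h1150 : ∀ u < 108100, (fun u => chkFix tab mwordsA u) u = true := ext_range (a := 108006) (len := 94) h1149 m2_1149
  have h1151 : ∀ u < 108194, (fun u => chkFix tab mwordsA u) u = true := ext_range (a := 108100) (len := 94) h1150 m2_1150
  have h1152 : ∀ u < 108288, (fun u => chkFix tab mwordsA u) u = true := ext_range (a := 108194) (len := 94) h1151 m2_1151
  have h1153 : ∀ u < 108382, (fun u => chkFix tab mwordsA u) u = true := ext_range (a := 108288) (len := 94) h1152 m2_1152
  have h1154 : ∀ u < 108476, (fun u => chkFix tab mwordsA u) u = true := ext_range (a := 108382) (len := 94) h1153 m2_1153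
  have h1155 : ∀ u < 108570, (fun u => chkFix tab mwordsA u) u = true := ext_range (a := 108476) (len := 94) h1154 m2_1154
  have h1156 : ∀ u < 108664, (fun u => chkFix tab mwordsA u) u = true := ext_range (a := 108570) (len := 94) h1155 m2_1155
  have h1157 : ∀ u < 108758, (fun u => chkFix tab mwordsA u) u = true := ext_range (a := 108664) (len := 94) h1156 m2_1156
  have h1158 : ∀ u < 108852, (fun u => chkFix tab mwordsA u) u = true := ext_range (a := 108758) (len := 94) h1157 m2_1157
  have h1159 : ∀ u < 108946, (fun u => chkFix tab mwordsA u) u = true := ext_range (a := 108852) (len := 94) h1158 m2_1158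
  have h1160 : ∀ u < 109040, (fun u => chkFix tab mwordsA u) u = true := ext_range (a := 108946) (len := 94) h1159 m2_1159
  have h1161 : ∀ u < 109134, (fun u => chkFix tab mwordsA u) u = true := ext_range (a := 109040) (len := 94) h1160 m2_1160
  have h1162 : ∀ u < 109228, (fun u => chkFix tab mwordsA u) u = true := ext_range (a := 109134) (len := 94) h1161 m2_1161
  have h1163 : ∀ u < 109322, (fun u => chkFix tab mwordsA u) u = true := ext_range (a := 109228) (len := 94) h1162 m2_1162
  have h1164 : ∀ u < 109416, (fun u => chkFix tab mwordsA u) u = true := ext_range (a := 109322) (len := 94) h1163 m2_1163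
  have h1165 : ∀ u < 109510, (fun u => chkFix tab mwordsA u) u = true := ext_range (a := 109416) (len := 94) h1164 m2_1164
  have h1166 : ∀ u < 109604, (fun u => chkFix tab mwordsA u) u = true := ext_range (a := 109510) (len := 94) h1165 m2_1165
  have h1167 : ∀ u < 109698, (fun u => chkFix tab mwordsA u) u = true := ext_range (a := 109604) (len := 94) h1166 m2_1166
  have h1168 : ∀ u < 109792, (fun u => chkFix tab mwordsA u) u = true := ext_range (a := 109698) (len := 94) h1167 m2_1167
  have h1169 : ∀ u < 109886, (fun u => chkFix tab mwordsA u) u = true := ext_range (a := 109792) (len := 94) h1168 m2_1168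
  have h1170 : ∀ u < 109980, (fun u => chkFix tab mwordsA u) u = true := ext_range (a := 109886) (len := 94) h1169 m2_1169
  have h1171 : ∀ u < 110074, (fun u => chkFix tab mwordsA u) u = true := ext_range (a := 109980) (len := 94) h1170 m2_1170
  have h1172 : ∀ u < 110168, (fun u => chkFix tab mwordsA u) u = true := ext_range (a := 110074) (len := 94) h1171 m2_1171
  have h1173 : ∀ u < 110262, (fun u => chkFix tab mwordsA u) u = true := ext_range (a := 110168) (len := 94) h1172 m2_1172
  have h1174 : ∀ u < 110356, (fun u => chkFix tab mwordsA u) u = true := ext_range (a := 110262) (len := 94) h1173 m2_1173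
  have h1175 : ∀ u < 110450, (fun u => chkFix tab mwordsA u) u = true := ext_range (a := 110356) (len := 94) h1174 m2_1174
  have h1176 : ∀ u < 110544, (fun u => chkFix tab mwordsA u) u = true := ext_range (a := 110450) (len := 94) h1175 m2_1175
  have h1177 : ∀ u < 110638, (fun u => chkFix tab mwordsA u) u = true := ext_range (a := 110544) (len := 94) h1176 m2_1176
  have h1178 : ∀ u < 110732, (fun u => chkFix tab mwordsA u) u = true := ext_range (a := 110638) (len := 94) h1177 m2_1177
  have h1179 : ∀ u < 110826, (fun u => chkFix tab mwordsA u) u = true := ext_range (a := 110732) (len := 94) h1178 m2_1178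
  have h1180 : ∀ u < 110920, (fun u => chkFix tab mwordsA u) u = true := ext_range (a := 110826) (len := 94) h1179 m2_1179
  have h1181 : ∀ u < 111014, (fun u => chkFix tab mwordsA u) u = true := ext_range (a := 110920) (len := 94) h1180 m2_1180
  have h1182 : ∀ u < 111108, (fun u => chkFix tab mwordsA u) u = true := ext_range (a := 111014) (len := 94) h1181 m2_1181
  have h1183 : ∀ u < 111202, (fun u => chkFix tab mwordsA u) u = true := ext_range (a := 111108) (len := 94) h1182 m2_1182
  have h1184 : ∀ u < 111296, (fun u => chkFix tab mwordsA u) u = true := ext_range (a := 111202) (len := 94) h1183 m2_1183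
  have h1185 : ∀ u < 111390, (fun u => chkFix tab mwordsA u) u = true := ext_range (a := 111296) (len := 94) h1184 m2_1184
  have h1186 : ∀ u < 111484, (fun u => chkFix tab mwordsA u) u = true := ext_range (a := 111390) (len := 94) h1185 m2_1185
  have h1187 : ∀ u < 111578, (fun u => chkFix tab mwordsA u) u = true := ext_range (a := 111484) (len := 94) h1186 m2_1186
  have h1188 : ∀ u < 111672, (fun u => chkFix tab mwordsA u) u = true := ext_range (a := 111578) (len := 94) h1187 m2_1187
  have h1189 : ∀ u < 111766, (fun u => chkFix tab mwordsA u) u = true := ext_range (a := 111672) (len := 94) h1188 m2_1188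
  have h1190 : ∀ u < 111860, (fun u => chkFix tab mwordsA u) u = true := ext_range (a := 111766) (len := 94) h1189 m2_1189
  have h1191 : ∀ u < 111954, (fun u => chkFix tab mwordsA u) u = true := ext_range (a := 111860) (len := 94) h1190 m2_1190
  have h1192 : ∀ u < 112048, (fun u => chkFix tab mwordsA u) u = true := ext_range (a := 111954) (len := 94) h1191 m2_1191
  have h1193 : ∀ u < 112142, (fun u => chkFix tab mwordsA u) u = true := ext_range (a := 112048) (len := 94) h1192 m2_1192
  have h1194 : ∀ u < 112236, (fun u => chkFix tab mwordsA u) u = true := ext_range (a := 112142) (len := 94) h1193 m2_1193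
  have h1195 : ∀ u < 112330, (fun u => chkFix tab mwordsA u) u = true := ext_range (a := 112236) (len := 94) h1194 m2_1194
  have h1196 : ∀ u < 112424, (fun u => chkFix tab mwordsA u) u = true := ext_range (a := 112330) (len := 94) h1195 m2_1195
  have h1197 : ∀ u < 112518, (fun u => chkFix tab mwordsA u) u = true := ext_range (a := 112424) (len := 94) h1196 m2_1196
  have h1198 : ∀ u < 112612, (fun u => chkFix tab mwordsA u) u = true := ext_range (a := 112518) (len := 94) h1197 m2_1197
  have h1199 : ∀ u < 112706, (fun u => chkFix tab mwordsA u) u = true := ext_range (a := 112612) (len := 94) h1198 m2_1198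
  have h1200 : ∀ u < 112800, (fun u => chkFix tab mwordsA u) u = true := ext_range (a := 112706) (len := 94) h1199 m2_1199
  have h1201 : ∀ u < 112894, (fun u => chkFix tab mwordsA u) u = true := ext_range (a := 112800) (len := 94) h1200 m2_1200
  have h1202 : ∀ u < 112988, (fun u => chkFix tab mwordsA u) u = true := ext_range (a := 112894) (len := 94) h1201 m2_1201
  have h1203 : ∀ u < 113082, (fun u => chkFix tab mwordsA u) u = true := ext_range (a := 112988) (len := 94) h1202 m2_1202
  have h1204 : ∀ u < 113176, (fun u => chkFix tab mwordsA u) u = true := ext_range (a := 113082) (len := 94) h1203 m2_1203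
  have h1205 : ∀ u < 113270, (fun u => chkFix tab mwordsA u) u = true := ext_range (a := 113176) (len := 94) h1204 m2_1204
  have h1206 : ∀ u < 113364, (fun u => chkFix tab mwordsA u) u = true := ext_range (a := 113270) (len := 94) h1205 m2_1205
  have h1207 : ∀ u < 113458, (fun u => chkFix tab mwordsA u) u = true := ext_range (a := 113364) (len := 94) h1206 m2_1206
  have h1208 : ∀ u < 113552, (fun u => chkFix tab mwordsA u) u = true := ext_range (a := 113458) (len := 94) h1207 m2_1207
  have h1209 : ∀ u < 113646, (fun u => chkFix tab mwordsA u) u = true := ext_range (a := 113552) (len := 94) h1208 m2_1208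
  have h1210 : ∀ u < 113740, (fun u => chkFix tab mwordsA u) u = true := ext_range (a := 113646) (len := 94) h1209 m2_1209
  have h1211 : ∀ u < 113834, (fun u => chkFix tab mwordsA u) u = true := ext_range (a := 113740) (len := 94) h1210 m2_1210
  have h1212 : ∀ u < 113928, (fun u => chkFix tab mwordsA u) u = true := ext_range (a := 113834) (len := 94) h1211 m2_1211
  have h1213 : ∀ u < 114022, (fun u => chkFix tab mwordsA u) u = true := ext_range (a := 113928) (len := 94) h1212 m2_1212
  have h1214 : ∀ u < 114116, (fun u => chkFix tab mwordsA u) u = true := ext_range (a := 114022) (len := 94) h1213 m2_1213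
  have h1215 : ∀ u < 114210, (fun u => chkFix tab mwordsA u) u = true := ext_range (a := 114116) (len := 94) h1214 m2_1214
  have h1216 : ∀ u < 114304, (fun u => chkFix tab mwordsA u) u = true := ext_range (a := 114210) (len := 94) h1215 m2_1215
  have h1217 : ∀ u < 114398, (fun u => chkFix tab mwordsA u) u = true := ext_range (a := 114304) (len := 94) h1216 m2_1216
  have h1218 : ∀ u < 114492, (fun u => chkFix tab mwordsA u) u = true := ext_range (a := 114398) (len := 94) h1217 m2_1217
  have h1219 : ∀ u < 114586, (fun u => chkFix tab mwordsA u) u = true := ext_range (a := 114492) (len := 94) h1218 m2_1218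
  have h1220 : ∀ u < 114680, (fun u => chkFix tab mwordsA u) u = true := ext_range (a := 114586) (len := 94) h1219 m2_1219
  have h1221 : ∀ u < 114774, (fun u => chkFix tab mwordsA u) u = true := ext_range (a := 114680) (len := 94) h1220 m2_1220
  have h1222 : ∀ u < 114868, (fun u => chkFix tab mwordsA u) u = true := ext_range (a := 114774) (len := 94) h1221 m2_1221
  have h1223 : ∀ u < 114962, (fun u => chkFix tab mwordsA u) u = true := ext_range (a := 114868) (len := 94) h1222 m2_1222
  have h1224 : ∀ u < 115056, (fun u => chkFix tab mwordsA u) u = true := ext_range (a := 114962) (len := 94) h1223 m2_1223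
  have h1225 : ∀ u < 115150, (fun u => chkFix tab mwordsA u) u = true := ext_range (a := 115056) (len := 94) h1224 m2_1224
  have h1226 : ∀ u < 115244, (fun u => chkFix tab mwordsA u) u = true := ext_range (a := 115150) (len := 94) h1225 m2_1225
  have h1227 : ∀ u < 115338, (fun u => chkFix tab mwordsA u) u = true := ext_range (a := 115244) (len := 94) h1226 m2_1226
  have h1228 : ∀ u < 115432, (fun u => chkFix tab mwordsA u) u = true := ext_range (a := 115338) (len := 94) h1227 m2_1227
  have h1229 : ∀ u < 115526, (fun u => chkFix tab mwordsA u) u = true := ext_range (a := 115432) (len := 94) h1228 m2_1228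
  have h1230 : ∀ u < 115620, (fun u => chkFix tab mwordsA u) u = true := ext_range (a := 115526) (len := 94) h1229 m2_1229
  have h1231 : ∀ u < 115714, (fun u => chkFix tab mwordsA u) u = true := ext_range (a := 115620) (len := 94) h1230 m2_1230
  have h1232 : ∀ u < 115808, (fun u => chkFix tab mwordsA u) u = true := ext_range (a := 115714) (len := 94) h1231 m2_1231
  have h1233 : ∀ u < 115902, (fun u => chkFix tab mwordsA u) u = true := ext_range (a := 115808) (len := 94) h1232 m2_1232
  have h1234 : ∀ u < 115996, (fun u => chkFix tab mwordsA u) u = true := ext_range (a := 115902) (len := 94) h1233 m2_1233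
  have h1235 : ∀ u < 116090, (fun u => chkFix tab mwordsA u) u = true := ext_range (a := 115996) (len := 94) h1234 m2_1234
  have h1236 : ∀ u < 116184, (fun u => chkFix tab mwordsA u) u = true := ext_range (a := 116090) (len := 94) h1235 m2_1235
  have h1237 : ∀ u < 116278, (fun u => chkFix tab mwordsA u) u = true := ext_range (a := 116184) (len := 94) h1236 m2_1236
  have h1238 : ∀ u < 116372, (fun u => chkFix tab mwordsA u) u = true := ext_range (a := 116278) (len := 94) h1237 m2_1237
  have h1239 : ∀ u < 116466, (fun u => chkFix tab mwordsA u) u = true := ext_range (a := 116372) (len := 94) h1238 m2_1238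
  have h1240 : ∀ u < 116560, (fun u => chkFix tab mwordsA u) u = true := ext_range (a := 116466) (len := 94) h1239 m2_1239
  have h1241 : ∀ u < 116654, (fun u => chkFix tab mwordsA u) u = true := ext_range (a := 116560) (len := 94) h1240 m2_1240
  have h1242 : ∀ u < 116748, (fun u => chkFix tab mwordsA u) u = true := ext_range (a := 116654) (len := 94) h1241 m2_1241
  have h1243 : ∀ u < 116842, (fun u => chkFix tab mwordsA u) u = true := ext_range (a := 116748) (len := 94) h1242 m2_1242
  have h1244 : ∀ u < 116936, (fun u => chkFix tab mwordsA u) u = true := ext_range (a := 116842) (len := 94) h1243 m2_1243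
  have h1245 : ∀ u < 117030, (fun u => chkFix tab mwordsA u) u = true := ext_range (a := 116936) (len := 94) h1244 m2_1244
  have h1246 : ∀ u < 117124, (fun u => chkFix tab mwordsA u) u = true := ext_range (a := 117030) (len := 94) h1245 m2_1245
  have h1247 : ∀ u < 117218, (fun u => chkFix tab mwordsA u) u = true := ext_range (a := 117124) (len := 94) h1246 m2_1246
  have h1248 : ∀ u < 117312, (fun u => chkFix tab mwordsA u) u = true := ext_range (a := 117218) (len := 94) h1247 m2_1247
  have h1249 : ∀ u < 117406, (fun u => chkFix tab mwordsA u) u = true := ext_range (a := 117312) (len := 94) h1248 m2_1248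
  have h1250 : ∀ u < 117500, (fun u => chkFix tab mwordsA u) u = true := ext_range (a := 117406) (len := 94) h1249 m2_1249
  have h1251 : ∀ u < 117594, (fun u => chkFix tab mwordsA u) u = true := ext_range (a := 117500) (len := 94) h1250 m2_1250
  have h1252 : ∀ u < 117688, (fun u => chkFix tab mwordsA u) u = true := ext_range (a := 117594) (len := 94) h1251 m2_1251
  have h1253 : ∀ u < 117782, (fun u => chkFix tab mwordsA u) u = true := ext_range (a := 117688) (len := 94) h1252 m2_1252
  have h1254 : ∀ u < 117876, (fun u => chkFix tab mwordsA u) u = true := ext_range (a := 117782) (len := 94) h1253 m2_1253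
  have h1255 : ∀ u < 117970, (fun u => chkFix tab mwordsA u) u = true := ext_range (a := 117876) (len := 94) h1254 m2_1254
  have h1256 : ∀ u < 118064, (fun u => chkFix tab mwordsA u) u = true := ext_range (a := 117970) (len := 94) h1255 m2_1255
  have h1257 : ∀ u < 118158, (fun u => chkFix tab mwordsA u) u = true := ext_range (a := 118064) (len := 94) h1256 m2_1256
  have h1258 : ∀ u < 118252, (fun u => chkFix tab mwordsA u) u = true := ext_range (a := 118158) (len := 94) h1257 m2_1257
  have h1259 : ∀ u < 118346, (fun u => chkFix tab mwordsA u) u = true := ext_range (a := 118252) (len := 94) h1258 m2_1258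
  have h1260 : ∀ u < 118440, (fun u => chkFix tab mwordsA u) u = true := ext_range (a := 118346) (len := 94) h1259 m2_1259
  have h1261 : ∀ u < 118534, (fun u => chkFix tab mwordsA u) u = true := ext_range (a := 118440) (len := 94) h1260 m2_1260
  have h1262 : ∀ u < 118628, (fun u => chkFix tab mwordsA u) u = true := ext_range (a := 118534) (len := 94) h1261 m2_1261
  have h1263 : ∀ u < 118722, (fun u => chkFix tab mwordsA u) u = true := ext_range (a := 118628) (len := 94) h1262 m2_1262
  have h1264 : ∀ u < 118816, (fun u => chkFix tab mwordsA u) u = true := ext_range (a := 118722) (len := 94) h1263 m2_1263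
  have h1265 : ∀ u < 118910, (fun u => chkFix tab mwordsA u) u = true := ext_range (a := 118816) (len := 94) h1264 m2_1264
  have h1266 : ∀ u < 119004, (fun u => chkFix tab mwordsA u) u = true := ext_range (a := 118910) (len := 94) h1265 m2_1265
  have h1267 : ∀ u < 119098, (fun u => chkFix tab mwordsA u) u = true := ext_range (a := 119004) (len := 94) h1266 m2_1266
  have h1268 : ∀ u < 119192, (fun u => chkFix tab mwordsA u) u = true := ext_range (a := 119098) (len := 94) h1267 m2_1267
  have h1269 : ∀ u < 119286, (fun u => chkFix tab mwordsA u) u = true := ext_range (a := 119192) (len := 94) h1268 m2_1268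
  have h1270 : ∀ u < 119380, (fun u => chkFix tab mwordsA u) u = true := ext_range (a := 119286) (len := 94) h1269 m2_1269
  have h1271 : ∀ u < 119474, (fun u => chkFix tab mwordsA u) u = true := ext_range (a := 119380) (len := 94) h1270 m2_1270
  have h1272 : ∀ u < 119568, (fun u => chkFix tab mwordsA u) u = true := ext_range (a := 119474) (len := 94) h1271 m2_1271
  have h1273 : ∀ u < 119662, (fun u => chkFix tab mwordsA u) u = true := ext_range (a := 119568) (len := 94) h1272 m2_1272
  have h1274 : ∀ u < 119756, (fun u => chkFix tab mwordsA u) u = true := ext_range (a := 119662) (len := 94) h1273 m2_1273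
  have h1275 : ∀ u < 119850, (fun u => chkFix tab mwordsA u) u = true := ext_range (a := 119756) (len := 94) h1274 m2_1274
  have h1276 : ∀ u < 119944, (fun u => chkFix tab mwordsA u) u = true := ext_range (a := 119850) (len := 94) h1275 m2_1275
  have h1277 : ∀ u < 120038, (fun u => chkFix tab mwordsA u) u = true := ext_range (a := 119944) (len := 94) h1276 m2_1276
  have h1278 : ∀ u < 120132, (fun u => chkFix tab mwordsA u) u = true := ext_range (a := 120038) (len := 94) h1277 m2_1277
  have h1279 : ∀ u < 120226, (fun u => chkFix tab mwordsA u) u = true := ext_range (a := 120132) (len := 94) h1278 m2_1278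
  have h1280 : ∀ u < 120320, (fun u => chkFix tab mwordsA u) u = true := ext_range (a := 120226) (len := 94) h1279 m2_1279
  have h1281 : ∀ u < 120414, (fun u => chkFix tab mwordsA u) u = true := ext_range (a := 120320) (len := 94) h1280 m2_1280
  have h1282 : ∀ u < 120508, (fun u => chkFix tab mwordsA u) u = true := ext_range (a := 120414) (len := 94) h1281 m2_1281
  have h1283 : ∀ u < 120602, (fun u => chkFix tab mwordsA u) u = true := ext_range (a := 120508) (len := 94) h1282 m2_1282
  have h1284 : ∀ u < 120696, (fun u => chkFix tab mwordsA u) u = true := ext_range (a := 120602) (len := 94) h1283 m2_1283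
  have h1285 : ∀ u < 120790, (fun u => chkFix tab mwordsA u) u = true := ext_range (a := 120696) (len := 94) h1284 m2_1284
  have h1286 : ∀ u < 120884, (fun u => chkFix tab mwordsA u) u = true := ext_range (a := 120790) (len := 94) h1285 m2_1285
  have h1287 : ∀ u < 120978, (fun u => chkFix tab mwordsA u) u = true := ext_range (a := 120884) (len := 94) h1286 m2_1286
  have h1288 : ∀ u < 121072, (fun u => chkFix tab mwordsA u) u = true := ext_range (a := 120978) (len := 94) h1287 m2_1287
  have h1289 : ∀ u < 121166, (fun u => chkFix tab mwordsA u) u = true := ext_range (a := 121072) (len := 94) h1288 m2_1288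
  have h1290 : ∀ u < 121260, (fun u => chkFix tab mwordsA u) u = true := ext_range (a := 121166) (len := 94) h1289 m2_1289
  have h1291 : ∀ u < 121354, (fun u => chkFix tab mwordsA u) u = true := ext_range (a := 121260) (len := 94) h1290 m2_1290
  have h1292 : ∀ u < 121448, (fun u => chkFix tab mwordsA u) u = true := ext_range (a := 121354) (len := 94) h1291 m2_1291
  have h1293 : ∀ u < 121542, (fun u => chkFix tab mwordsA u) u = true := ext_range (a := 121448) (len := 94) h1292 m2_1292
  have h1294 : ∀ u < 121636, (fun u => chkFix tab mwordsA u) u = true := ext_range (a := 121542) (len := 94) h1293 m2_1293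
  have h1295 : ∀ u < 121730, (fun u => chkFix tab mwordsA u) u = true := ext_range (a := 121636) (len := 94) h1294 m2_1294
  have h1296 : ∀ u < 121824, (fun u => chkFix tab mwordsA u) u = true := ext_range (a := 121730) (len := 94) h1295 m2_1295
  have h1297 : ∀ u < 121918, (fun u => chkFix tab mwordsA u) u = true := ext_range (a := 121824) (len := 94) h1296 m2_1296
  have h1298 : ∀ u < 122012, (fun u => chkFix tab mwordsA u) u = true := ext_range (a := 121918) (len := 94) h1297 m2_1297
  have h1299 : ∀ u < 122106, (fun u => chkFix tab mwordsA u) u = true := ext_range (a := 122012) (len := 94) h1298 m2_1298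
  have h1300 : ∀ u < 122200, (fun u => chkFix tab mwordsA u) u = true := ext_range (a := 122106) (len := 94) h1299 m2_1299
  have h1301 : ∀ u < 122294, (fun u => chkFix tab mwordsA u) u = true := ext_range (a := 122200) (len := 94) h1300 m2_1300
  have h1302 : ∀ u < 122388, (fun u => chkFix tab mwordsA u) u = true := ext_range (a := 122294) (len := 94) h1301 m2_1301
  have h1303 : ∀ u < 122482, (fun u => chkFix tab mwordsA u) u = true := ext_range (a := 122388) (len := 94) h1302 m2_1302
  have h1304 : ∀ u < 122576, (fun u => chkFix tab mwordsA u) u = true := ext_range (a := 122482) (len := 94) h1303 m2_1303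
  have h1305 : ∀ u < 122670, (fun u => chkFix tab mwordsA u) u = true := ext_range (a := 122576) (len := 94) h1304 m2_1304
  have h1306 : ∀ u < 122764, (fun u => chkFix tab mwordsA u) u = true := ext_range (a := 122670) (len := 94) h1305 m2_1305
  have h1307 : ∀ u < 122858, (fun u => chkFix tab mwordsA u) u = true := ext_range (a := 122764) (len := 94) h1306 m2_1306
  have h1308 : ∀ u < 122952, (fun u => chkFix tab mwordsA u) u = true := ext_range (a := 122858) (len := 94) h1307 m2_1307
  have h1309 : ∀ u < 123046, (fun u => chkFix tab mwordsA u) u = true := ext_range (a := 122952) (len := 94) h1308 m2_1308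
  have h1310 : ∀ u < 123140, (fun u => chkFix tab mwordsA u) u = true := ext_range (a := 123046) (len := 94) h1309 m2_1309
  have h1311 : ∀ u < 123234, (fun u => chkFix tab mwordsA u) u = true := ext_range (a := 123140) (len := 94) h1310 m2_1310
  have h1312 : ∀ u < 123328, (fun u => chkFix tab mwordsA u) u = true := ext_range (a := 123234) (len := 94) h1311 m2_1311
  have h1313 : ∀ u < 123422, (fun u => chkFix tab mwordsA u) u = true := ext_range (a := 123328) (len := 94) h1312 m2_1312
  have h1314 : ∀ u < 123516, (fun u => chkFix tab mwordsA u) u = true := ext_range (a := 123422) (len := 94) h1313 m2_1313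
  have h1315 : ∀ u < 123610, (fun u => chkFix tab mwordsA u) u = true := ext_range (a := 123516) (len := 94) h1314 m2_1314
  have h1316 : ∀ u < 123704, (fun u => chkFix tab mwordsA u) u = true := ext_range (a := 123610) (len := 94) h1315 m2_1315
  have h1317 : ∀ u < 123798, (fun u => chkFix tab mwordsA u) u = true := ext_range (a := 123704) (len := 94) h1316 m2_1316
  have h1318 : ∀ u < 123892, (fun u => chkFix tab mwordsA u) u = true := ext_range (a := 123798) (len := 94) h1317 m2_1317
  have h1319 : ∀ u < 123986, (fun u => chkFix tab mwordsA u) u = true := ext_range (a := 123892) (len := 94) h1318 m2_1318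
  have h1320 : ∀ u < 124080, (fun u => chkFix tab mwordsA u) u = true := ext_range (a := 123986) (len := 94) h1319 m2_1319
  have h1321 : ∀ u < 124174, (fun u => chkFix tab mwordsA u) u = true := ext_range (a := 124080) (len := 94) h1320 m2_1320
  have h1322 : ∀ u < 124268, (fun u => chkFix tab mwordsA u) u = true := ext_range (a := 124174) (len := 94) h1321 m2_1321
  have h1323 : ∀ u < 124362, (fun u => chkFix tab mwordsA u) u = true := ext_range (a := 124268) (len := 94) h1322 m2_1322
  have h1324 : ∀ u < 124456, (fun u => chkFix tab mwordsA u) u = true := ext_range (a := 124362) (len := 94) h1323 m2_1323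
  have h1325 : ∀ u < 124550, (fun u => chkFix tab mwordsA u) u = true := ext_range (a := 124456) (len := 94) h1324 m2_1324
  have h1326 : ∀ u < 124644, (fun u => chkFix tab mwordsA u) u = true := ext_range (a := 124550) (len := 94) h1325 m2_1325
  have h1327 : ∀ u < 124738, (fun u => chkFix tab mwordsA u) u = true := ext_range (a := 124644) (len := 94) h1326 m2_1326
  have h1328 : ∀ u < 124832, (fun u => chkFix tab mwordsA u) u = true := ext_range (a := 124738) (len := 94) h1327 m2_1327
  have h1329 : ∀ u < 124926, (fun u => chkFix tab mwordsA u) u = true := ext_range (a := 124832) (len := 94) h1328 m2_1328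
  have h1330 : ∀ u < 125020, (fun u => chkFix tab mwordsA u) u = true := ext_range (a := 124926) (len := 94) h1329 m2_1329
  have h1331 : ∀ u < 125114, (fun u => chkFix tab mwordsA u) u = true := ext_range (a := 125020) (len := 94) h1330 m2_1330
  have h1332 : ∀ u < 125208, (fun u => chkFix tab mwordsA u) u = true := ext_range (a := 125114) (len := 94) h1331 m2_1331
  have h1333 : ∀ u < 125302, (fun u => chkFix tab mwordsA u) u = true := ext_range (a := 125208) (len := 94) h1332 m2_1332
  have h1334 : ∀ u < 125396, (fun u => chkFix tab mwordsA u) u = true := ext_range (a := 125302) (len := 94) h1333 m2_1333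
  have h1335 : ∀ u < 125490, (fun u => chkFix tab mwordsA u) u = true := ext_range (a := 125396) (len := 94) h1334 m2_1334
  have h1336 : ∀ u < 125584, (fun u => chkFix tab mwordsA u) u = true := ext_range (a := 125490) (len := 94) h1335 m2_1335
  have h1337 : ∀ u < 125678, (fun u => chkFix tab mwordsA u) u = true := ext_range (a := 125584) (len := 94) h1336 m2_1336
  have h1338 : ∀ u < 125772, (fun u => chkFix tab mwordsA u) u = true := ext_range (a := 125678) (len := 94) h1337 m2_1337
  have h1339 : ∀ u < 125866, (fun u => chkFix tab mwordsA u) u = true := ext_range (a := 125772) (len := 94) h1338 m2_1338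
  have h1340 : ∀ u < 125960, (fun u => chkFix tab mwordsA u) u = true := ext_range (a := 125866) (len := 94) h1339 m2_1339
  have h1341 : ∀ u < 126054, (fun u => chkFix tab mwordsA u) u = true := ext_range (a := 125960) (len := 94) h1340 m2_1340
  have h1342 : ∀ u < 126148, (fun u => chkFix tab mwordsA u) u = true := ext_range (a := 126054) (len := 94) h1341 m2_1341
  have h1343 : ∀ u < 126242, (fun u => chkFix tab mwordsA u) u = true := ext_range (a := 126148) (len := 94) h1342 m2_1342
  have h1344 : ∀ u < 126336, (fun u => chkFix tab mwordsA u) u = true := ext_range (a := 126242) (len := 94) h1343 m2_1343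
  have h1345 : ∀ u < 126430, (fun u => chkFix tab mwordsA u) u = true := ext_range (a := 126336) (len := 94) h1344 m2_1344
  have h1346 : ∀ u < 126524, (fun u => chkFix tab mwordsA u) u = true := ext_range (a := 126430) (len := 94) h1345 m2_1345
  have h1347 : ∀ u < 126618, (fun u => chkFix tab mwordsA u) u = true := ext_range (a := 126524) (len := 94) h1346 m2_1346
  have h1348 : ∀ u < 126712, (fun u => chkFix tab mwordsA u) u = true := ext_range (a := 126618) (len := 94) h1347 m2_1347
  have h1349 : ∀ u < 126806, (fun u => chkFix tab mwordsA u) u = true := ext_range (a := 126712) (len := 94) h1348 m2_1348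
  have h1350 : ∀ u < 126900, (fun u => chkFix tab mwordsA u) u = true := ext_range (a := 126806) (len := 94) h1349 m2_1349
  have h1351 : ∀ u < 126994, (fun u => chkFix tab mwordsA u) u = true := ext_range (a := 126900) (len := 94) h1350 m2_1350
  have h1352 : ∀ u < 127088, (fun u => chkFix tab mwordsA u) u = true := ext_range (a := 126994) (len := 94) h1351 m2_1351
  have h1353 : ∀ u < 127182, (fun u => chkFix tab mwordsA u) u = true := ext_range (a := 127088) (len := 94) h1352 m2_1352
  have h1354 : ∀ u < 127276, (fun u => chkFix tab mwordsA u) u = true := ext_range (a := 127182) (len := 94) h1353 m2_1353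
  have h1355 : ∀ u < 127370, (fun u => chkFix tab mwordsA u) u = true := ext_range (a := 127276) (len := 94) h1354 m2_1354
  have h1356 : ∀ u < 127464, (fun u => chkFix tab mwordsA u) u = true := ext_range (a := 127370) (len := 94) h1355 m2_1355
  have h1357 : ∀ u < 127558, (fun u => chkFix tab mwordsA u) u = true := ext_range (a := 127464) (len := 94) h1356 m2_1356
  have h1358 : ∀ u < 127652, (fun u => chkFix tab mwordsA u) u = true := ext_range (a := 127558) (len := 94) h1357 m2_1357
  have h1359 : ∀ u < 127746, (fun u => chkFix tab mwordsA u) u = true := ext_range (a := 127652) (len := 94) h1358 m2_1358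
  have h1360 : ∀ u < 127840, (fun u => chkFix tab mwordsA u) u = true := ext_range (a := 127746) (len := 94) h1359 m2_1359
  have h1361 : ∀ u < 127934, (fun u => chkFix tab mwordsA u) u = true := ext_range (a := 127840) (len := 94) h1360 m2_1360
  have h1362 : ∀ u < 128028, (fun u => chkFix tab mwordsA u) u = true := ext_range (a := 127934) (len := 94) h1361 m2_1361
  have h1363 : ∀ u < 128122, (fun u => chkFix tab mwordsA u) u = true := ext_range (a := 128028) (len := 94) h1362 m2_1362
  have h1364 : ∀ u < 128216, (fun u => chkFix tab mwordsA u) u = true := ext_range (a := 128122) (len := 94) h1363 m2_1363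
  have h1365 : ∀ u < 128310, (fun u => chkFix tab mwordsA u) u = true := ext_range (a := 128216) (len := 94) h1364 m2_1364
  have h1366 : ∀ u < 128404, (fun u => chkFix tab mwordsA u) u = true := ext_range (a := 128310) (len := 94) h1365 m2_1365
  have h1367 : ∀ u < 128498, (fun u => chkFix tab mwordsA u) u = true := ext_range (a := 128404) (len := 94) h1366 m2_1366
  have h1368 : ∀ u < 128592, (fun u => chkFix tab mwordsA u) u = true := ext_range (a := 128498) (len := 94) h1367 m2_1367
  have h1369 : ∀ u < 128686, (fun u => chkFix tab mwordsA u) u = true := ext_range (a := 128592) (len := 94) h1368 m2_1368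
  have h1370 : ∀ u < 128780, (fun u => chkFix tab mwordsA u) u = true := ext_range (a := 128686) (len := 94) h1369 m2_1369
  have h1371 : ∀ u < 128874, (fun u => chkFix tab mwordsA u) u = true := ext_range (a := 128780) (len := 94) h1370 m2_1370
  have h1372 : ∀ u < 128968, (fun u => chkFix tab mwordsA u) u = true := ext_range (a := 128874) (len := 94) h1371 m2_1371
  have h1373 : ∀ u < 129062, (fun u => chkFix tab mwordsA u) u = true := ext_range (a := 128968) (len := 94) h1372 m2_1372
  have h1374 : ∀ u < 129156, (fun u => chkFix tab mwordsA u) u = true := ext_range (a := 129062) (len := 94) h1373 m2_1373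
  have h1375 : ∀ u < 129250, (fun u => chkFix tab mwordsA u) u = true := ext_range (a := 129156) (len := 94) h1374 m2_1374
  have h1376 : ∀ u < 129344, (fun u => chkFix tab mwordsA u) u = true := ext_range (a := 129250) (len := 94) h1375 m2_1375
  have h1377 : ∀ u < 129438, (fun u => chkFix tab mwordsA u) u = true := ext_range (a := 129344) (len := 94) h1376 m2_1376
  have h1378 : ∀ u < 129532, (fun u => chkFix tab mwordsA u) u = true := ext_range (a := 129438) (len := 94) h1377 m2_1377
  have h1379 : ∀ u < 129626, (fun u => chkFix tab mwordsA u) u = true := ext_range (a := 129532) (len := 94) h1378 m2_1378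
  have h1380 : ∀ u < 129720, (fun u => chkFix tab mwordsA u) u = true := ext_range (a := 129626) (len := 94) h1379 m2_1379
  have h1381 : ∀ u < 129814, (fun u => chkFix tab mwordsA u) u = true := ext_range (a := 129720) (len := 94) h1380 m2_1380
  have h1382 : ∀ u < 129908, (fun u => chkFix tab mwordsA u) u = true := ext_range (a := 129814) (len := 94) h1381 m2_1381
  have h1383 : ∀ u < 130002, (fun u => chkFix tab mwordsA u) u = true := ext_range (a := 129908) (len := 94) h1382 m2_1382
  have h1384 : ∀ u < 130096, (fun u => chkFix tab mwordsA u) u = true := ext_range (a := 130002) (len := 94) h1383 m2_1383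
  have h1385 : ∀ u < 130190, (fun u => chkFix tab mwordsA u) u = true := ext_range (a := 130096) (len := 94) h1384 m2_1384
  have h1386 : ∀ u < 130284, (fun u => chkFix tab mwordsA u) u = true := ext_range (a := 130190) (len := 94) h1385 m2_1385
  have h1387 : ∀ u < 130378, (fun u => chkFix tab mwordsA u) u = true := ext_range (a := 130284) (len := 94) h1386 m2_1386
  have h1388 : ∀ u < 130472, (fun u => chkFix tab mwordsA u) u = true := ext_range (a := 130378) (len := 94) h1387 m2_1387
  have h1389 : ∀ u < 130566, (fun u => chkFix tab mwordsA u) u = true := ext_range (a := 130472) (len := 94) h1388 m2_1388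
  have h1390 : ∀ u < 130660, (fun u => chkFix tab mwordsA u) u = true := ext_range (a := 130566) (len := 94) h1389 m2_1389
  have h1391 : ∀ u < 130754, (fun u => chkFix tab mwordsA u) u = true := ext_range (a := 130660) (len := 94) h1390 m2_1390
  have h1392 : ∀ u < 130848, (fun u => chkFix tab mwordsA u) u = true := ext_range (a := 130754) (len := 94) h1391 m2_1391
  have h1393 : ∀ u < 130942, (fun u => chkFix tab mwordsA u) u = true := ext_range (a := 130848) (len := 94) h1392 m2_1392
  have h1394 : ∀ u < 131036, (fun u => chkFix tab mwordsA u) u = true := ext_range (a := 130942) (len := 94) h1393 m2_1393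
  have h1395 : ∀ u < 131130, (fun u => chkFix tab mwordsA u) u = true := ext_range (a := 131036) (len := 94) h1394 m2_1394
  have h1396 : ∀ u < 131224, (fun u => chkFix tab mwordsA u) u = true := ext_range (a := 131130) (len := 94) h1395 m2_1395
  have h1397 : ∀ u < 131318, (fun u => chkFix tab mwordsA u) u = true := ext_range (a := 131224) (len := 94) h1396 m2_1396
  have h1398 : ∀ u < 131412, (fun u => chkFix tab mwordsA u) u = true := ext_range (a := 131318) (len := 94) h1397 m2_1397
  have h1399 : ∀ u < 131506, (fun u => chkFix tab mwordsA u) u = true := ext_range (a := 131412) (len := 94) h1398 m2_1398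
  have h1400 : ∀ u < 131600, (fun u => chkFix tab mwordsA u) u = true := ext_range (a := 131506) (len := 94) h1399 m2_1399
  have h1401 : ∀ u < 131694, (fun u => chkFix tab mwordsA u) u = true := ext_range (a := 131600) (len := 94) h1400 m2_1400
  have h1402 : ∀ u < 131788, (fun u => chkFix tab mwordsA u) u = true := ext_range (a := 131694) (len := 94) h1401 m2_1401
  have h1403 : ∀ u < 131882, (fun u => chkFix tab mwordsA u) u = true := ext_range (a := 131788) (len := 94) h1402 m2_1402
  have h1404 : ∀ u < 131976, (fun u => chkFix tab mwordsA u) u = true := ext_range (a := 131882) (len := 94) h1403 m2_1403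
  have h1405 : ∀ u < 132070, (fun u => chkFix tab mwordsA u) u = true := ext_range (a := 131976) (len := 94) h1404 m2_1404
  have h1406 : ∀ u < 132164, (fun u => chkFix tab mwordsA u) u = true := ext_range (a := 132070) (len := 94) h1405 m2_1405
  have h1407 : ∀ u < 132258, (fun u => chkFix tab mwordsA u) u = true := ext_range (a := 132164) (len := 94) h1406 m2_1406
  have h1408 : ∀ u < 132352, (fun u => chkFix tab mwordsA u) u = true := ext_range (a := 132258) (len := 94) h1407 m2_1407
  have h1409 : ∀ u < 132446, (fun u => chkFix tab mwordsA u) u = true := ext_range (a := 132352) (len := 94) h1408 m2_1408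
  have h1410 : ∀ u < 132540, (fun u => chkFix tab mwordsA u) u = true := ext_range (a := 132446) (len := 94) h1409 m2_1409
  have h1411 : ∀ u < 132634, (fun u => chkFix tab mwordsA u) u = true := ext_range (a := 132540) (len := 94) h1410 m2_1410
  have h1412 : ∀ u < 132728, (fun u => chkFix tab mwordsA u) u = true := ext_range (a := 132634) (len := 94) h1411 m2_1411
  have h1413 : ∀ u < 132822, (fun u => chkFix tab mwordsA u) u = true := ext_range (a := 132728) (len := 94) h1412 m2_1412
  have h1414 : ∀ u < 132916, (fun u => chkFix tab mwordsA u) u = true := ext_range (a := 132822) (len := 94) h1413 m2_1413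
  have h1415 : ∀ u < 133010, (fun u => chkFix tab mwordsA u) u = true := ext_range (a := 132916) (len := 94) h1414 m2_1414
  have h1416 : ∀ u < 133104, (fun u => chkFix tab mwordsA u) u = true := ext_range (a := 133010) (len := 94) h1415 m2_1415
  have h1417 : ∀ u < 133198, (fun u => chkFix tab mwordsA u) u = true := ext_range (a := 133104) (len := 94) h1416 m2_1416
  have h1418 : ∀ u < 133292, (fun u => chkFix tab mwordsA u) u = true := ext_range (a := 133198) (len := 94) h1417 m2_1417
  have h1419 : ∀ u < 133386, (fun u => chkFix tab mwordsA u) u = true := ext_range (a := 133292) (len := 94) h1418 m2_1418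
  have h1420 : ∀ u < 133480, (fun u => chkFix tab mwordsA u) u = true := ext_range (a := 133386) (len := 94) h1419 m2_1419
  have h1421 : ∀ u < 133574, (fun u => chkFix tab mwordsA u) u = true := ext_range (a := 133480) (len := 94) h1420 m2_1420
  have h1422 : ∀ u < 133668, (fun u => chkFix tab mwordsA u) u = true := ext_range (a := 133574) (len := 94) h1421 m2_1421
  have h1423 : ∀ u < 133762, (fun u => chkFix tab mwordsA u) u = true := ext_range (a := 133668) (len := 94) h1422 m2_1422
  have h1424 : ∀ u < 133856, (fun u => chkFix tab mwordsA u) u = true := ext_range (a := 133762) (len := 94) h1423 m2_1423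
  have h1425 : ∀ u < 133950, (fun u => chkFix tab mwordsA u) u = true := ext_range (a := 133856) (len := 94) h1424 m2_1424
  have h1426 : ∀ u < 134044, (fun u => chkFix tab mwordsA u) u = true := ext_range (a := 133950) (len := 94) h1425 m2_1425
  have h1427 : ∀ u < 134138, (fun u => chkFix tab mwordsA u) u = true := ext_range (a := 134044) (len := 94) h1426 m2_1426
  have h1428 : ∀ u < 134232, (fun u => chkFix tab mwordsA u) u = true := ext_range (a := 134138) (len := 94) h1427 m2_1427
  have h1429 : ∀ u < 134326, (fun u => chkFix tab mwordsA u) u = true := ext_range (a := 134232) (len := 94) h1428 m2_1428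
  have h1430 : ∀ u < 134420, (fun u => chkFix tab mwordsA u) u = true := ext_range (a := 134326) (len := 94) h1429 m2_1429
  have h1431 : ∀ u < 134514, (fun u => chkFix tab mwordsA u) u = true := ext_range (a := 134420) (len := 94) h1430 m2_1430
  have h1432 : ∀ u < 134608, (fun u => chkFix tab mwordsA u) u = true := ext_range (a := 134514) (len := 94) h1431 m2_1431
  have h1433 : ∀ u < 134702, (fun u => chkFix tab mwordsA u) u = true := ext_range (a := 134608) (len := 94) h1432 m2_1432
  have h1434 : ∀ u < 134796, (fun u => chkFix tab mwordsA u) u = true := ext_range (a := 134702) (len := 94) h1433 m2_1433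
  have h1435 : ∀ u < 134890, (fun u => chkFix tab mwordsA u) u = true := ext_range (a := 134796) (len := 94) h1434 m2_1434
  have h1436 : ∀ u < 134984, (fun u => chkFix tab mwordsA u) u = true := ext_range (a := 134890) (len := 94) h1435 m2_1435
  have h1437 : ∀ u < 135078, (fun u => chkFix tab mwordsA u) u = true := ext_range (a := 134984) (len := 94) h1436 m2_1436
  have h1438 : ∀ u < 135172, (fun u => chkFix tab mwordsA u) u = true := ext_range (a := 135078) (len := 94) h1437 m2_1437
  have h1439 : ∀ u < 135266, (fun u => chkFix tab mwordsA u) u = true := ext_range (a := 135172) (len := 94) h1438 m2_1438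
  have h1440 : ∀ u < 135360, (fun u => chkFix tab mwordsA u) u = true := ext_range (a := 135266) (len := 94) h1439 m2_1439
  have h1441 : ∀ u < 135454, (fun u => chkFix tab mwordsA u) u = true := ext_range (a := 135360) (len := 94) h1440 m2_1440
  have h1442 : ∀ u < 135548, (fun u => chkFix tab mwordsA u) u = true := ext_range (a := 135454) (len := 94) h1441 m2_1441
  have h1443 : ∀ u < 135642, (fun u => chkFix tab mwordsA u) u = true := ext_range (a := 135548) (len := 94) h1442 m2_1442
  have h1444 : ∀ u < 135736, (fun u => chkFix tab mwordsA u) u = true := ext_range (a := 135642) (len := 94) h1443 m2_1443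
  have h1445 : ∀ u < 135830, (fun u => chkFix tab mwordsA u) u = true := ext_range (a := 135736) (len := 94) h1444 m2_1444
  have h1446 : ∀ u < 135924, (fun u => chkFix tab mwordsA u) u = true := ext_range (a := 135830) (len := 94) h1445 m2_1445
  have h1447 : ∀ u < 136018, (fun u => chkFix tab mwordsA u) u = true := ext_range (a := 135924) (len := 94) h1446 m2_1446
  have h1448 : ∀ u < 136112, (fun u => chkFix tab mwordsA u) u = true := ext_range (a := 136018) (len := 94) h1447 m2_1447
  have h1449 : ∀ u < 136206, (fun u => chkFix tab mwordsA u) u = true := ext_range (a := 136112) (len := 94) h1448 m2_1448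
  have h1450 : ∀ u < 136300, (fun u => chkFix tab mwordsA u) u = true := ext_range (a := 136206) (len := 94) h1449 m2_1449
  have h1451 : ∀ u < 136394, (fun u => chkFix tab mwordsA u) u = true := ext_range (a := 136300) (len := 94) h1450 m2_1450
  have h1452 : ∀ u < 136488, (fun u => chkFix tab mwordsA u) u = true := ext_range (a := 136394) (len := 94) h1451 m2_1451
  have h1453 : ∀ u < 136582, (fun u => chkFix tab mwordsA u) u = true := ext_range (a := 136488) (len := 94) h1452 m2_1452
  have h1454 : ∀ u < 136676, (fun u => chkFix tab mwordsA u) u = true := ext_range (a := 136582) (len := 94) h1453 m2_1453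
  have h1455 : ∀ u < 136770, (fun u => chkFix tab mwordsA u) u = true := ext_range (a := 136676) (len := 94) h1454 m2_1454
  have h1456 : ∀ u < 136864, (fun u => chkFix tab mwordsA u) u = true := ext_range (a := 136770) (len := 94) h1455 m2_1455
  have h1457 : ∀ u < 136958, (fun u => chkFix tab mwordsA u) u = true := ext_range (a := 136864) (len := 94) h1456 m2_1456
  have h1458 : ∀ u < 137052, (fun u => chkFix tab mwordsA u) u = true := ext_range (a := 136958) (len := 94) h1457 m2_1457
  have h1459 : ∀ u < 137146, (fun u => chkFix tab mwordsA u) u = true := ext_range (a := 137052) (len := 94) h1458 m2_1458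
  have h1460 : ∀ u < 137240, (fun u => chkFix tab mwordsA u) u = true := ext_range (a := 137146) (len := 94) h1459 m2_1459
  have h1461 : ∀ u < 137334, (fun u => chkFix tab mwordsA u) u = true := ext_range (a := 137240) (len := 94) h1460 m2_1460
  have h1462 : ∀ u < 137428, (fun u => chkFix tab mwordsA u) u = true := ext_range (a := 137334) (len := 94) h1461 m2_1461
  have h1463 : ∀ u < 137522, (fun u => chkFix tab mwordsA u) u = true := ext_range (a := 137428) (len := 94) h1462 m2_1462
  have h1464 : ∀ u < 137616, (fun u => chkFix tab mwordsA u) u = true := ext_range (a := 137522) (len := 94) h1463 m2_1463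
  have h1465 : ∀ u < 137710, (fun u => chkFix tab mwordsA u) u = true := ext_range (a := 137616) (len := 94) h1464 m2_1464
  have h1466 : ∀ u < 137804, (fun u => chkFix tab mwordsA u) u = true := ext_range (a := 137710) (len := 94) h1465 m2_1465
  have h1467 : ∀ u < 137898, (fun u => chkFix tab mwordsA u) u = true := ext_range (a := 137804) (len := 94) h1466 m2_1466
  have h1468 : ∀ u < 137992, (fun u => chkFix tab mwordsA u) u = true := ext_range (a := 137898) (len := 94) h1467 m2_1467
  have h1469 : ∀ u < 138086, (fun u => chkFix tab mwordsA u) u = true := ext_range (a := 137992) (len := 94) h1468 m2_1468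
  have h1470 : ∀ u < 138180, (fun u => chkFix tab mwordsA u) u = true := ext_range (a := 138086) (len := 94) h1469 m2_1469
  have h1471 : ∀ u < 138274, (fun u => chkFix tab mwordsA u) u = true := ext_range (a := 138180) (len := 94) h1470 m2_1470
  have h1472 : ∀ u < 138368, (fun u => chkFix tab mwordsA u) u = true := ext_range (a := 138274) (len := 94) h1471 m2_1471
  have h1473 : ∀ u < 138462, (fun u => chkFix tab mwordsA u) u = true := ext_range (a := 138368) (len := 94) h1472 m2_1472
  have h1474 : ∀ u < 138556, (fun u => chkFix tab mwordsA u) u = true := ext_range (a := 138462) (len := 94) h1473 m2_1473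
  have h1475 : ∀ u < 138650, (fun u => chkFix tab mwordsA u) u = true := ext_range (a := 138556) (len := 94) h1474 m2_1474
  have h1476 : ∀ u < 138744, (fun u => chkFix tab mwordsA u) u = true := ext_range (a := 138650) (len := 94) h1475 m2_1475
  have h1477 : ∀ u < 138838, (fun u => chkFix tab mwordsA u) u = true := ext_range (a := 138744) (len := 94) h1476 m2_1476
  have h1478 : ∀ u < 138932, (fun u => chkFix tab mwordsA u) u = true := ext_range (a := 138838) (len := 94) h1477 m2_1477
  have h1479 : ∀ u < 139026, (fun u => chkFix tab mwordsA u) u = true := ext_range (a := 138932) (len := 94) h1478 m2_1478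
  have h1480 : ∀ u < 139120, (fun u => chkFix tab mwordsA u) u = true := ext_range (a := 139026) (len := 94) h1479 m2_1479
  have h1481 : ∀ u < 139214, (fun u => chkFix tab mwordsA u) u = true := ext_range (a := 139120) (len := 94) h1480 m2_1480
  have h1482 : ∀ u < 139308, (fun u => chkFix tab mwordsA u) u = true := ext_range (a := 139214) (len := 94) h1481 m2_1481
  have h1483 : ∀ u < 139402, (fun u => chkFix tab mwordsA u) u = true := ext_range (a := 139308) (len := 94) h1482 m2_1482
  have h1484 : ∀ u < 139496, (fun u => chkFix tab mwordsA u) u = true := ext_range (a := 139402) (len := 94) h1483 m2_1483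
  have h1485 : ∀ u < 139590, (fun u => chkFix tab mwordsA u) u = true := ext_range (a := 139496) (len := 94) h1484 m2_1484
  have h1486 : ∀ u < 139684, (fun u => chkFix tab mwordsA u) u = true := ext_range (a := 139590) (len := 94) h1485 m2_1485
  have h1487 : ∀ u < 139778, (fun u => chkFix tab mwordsA u) u = true := ext_range (a := 139684) (len := 94) h1486 m2_1486
  have h1488 : ∀ u < 139872, (fun u => chkFix tab mwordsA u) u = true := ext_range (a := 139778) (len := 94) h1487 m2_1487
  have h1489 : ∀ u < 139966, (fun u => chkFix tab mwordsA u) u = true := ext_range (a := 139872) (len := 94) h1488 m2_1488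
  have h1490 : ∀ u < 140060, (fun u => chkFix tab mwordsA u) u = true := ext_range (a := 139966) (len := 94) h1489 m2_1489
  have h1491 : ∀ u < 140154, (fun u => chkFix tab mwordsA u) u = true := ext_range (a := 140060) (len := 94) h1490 m2_1490
  have h1492 : ∀ u < 140248, (fun u => chkFix tab mwordsA u) u = true := ext_range (a := 140154) (len := 94) h1491 m2_1491
  have h1493 : ∀ u < 140342, (fun u => chkFix tab mwordsA u) u = true := ext_range (a := 140248) (len := 94) h1492 m2_1492
  have h1494 : ∀ u < 140436, (fun u => chkFix tab mwordsA u) u = true := ext_range (a := 140342) (len := 94) h1493 m2_1493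
  have h1495 : ∀ u < 140530, (fun u => chkFix tab mwordsA u) u = true := ext_range (a := 140436) (len := 94) h1494 m2_1494
  have h1496 : ∀ u < 140624, (fun u => chkFix tab mwordsA u) u = true := ext_range (a := 140530) (len := 94) h1495 m2_1495
  have h1497 : ∀ u < 140718, (fun u => chkFix tab mwordsA u) u = true := ext_range (a := 140624) (len := 94) h1496 m2_1496
  have h1498 : ∀ u < 140812, (fun u => chkFix tab mwordsA u) u = true := ext_range (a := 140718) (len := 94) h1497 m2_1497
  have h1499 : ∀ u < 140906, (fun u => chkFix tab mwordsA u) u = true := ext_range (a := 140812) (len := 94) h1498 m2_1498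
  have h1500 : ∀ u < 141000, (fun u => chkFix tab mwordsA u) u = true := ext_range (a := 140906) (len := 94) h1499 m2_1499
  have h1501 : ∀ u < 141094, (fun u => chkFix tab mwordsA u) u = true := ext_range (a := 141000) (len := 94) h1500 m2_1500
  have h1502 : ∀ u < 141188, (fun u => chkFix tab mwordsA u) u = true := ext_range (a := 141094) (len := 94) h1501 m2_1501
  have h1503 : ∀ u < 141282, (fun u => chkFix tab mwordsA u) u = true := ext_range (a := 141188) (len := 94) h1502 m2_1502
  have h1504 : ∀ u < 141376, (fun u => chkFix tab mwordsA u) u = true := ext_range (a := 141282) (len := 94) h1503 m2_1503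
  have h1505 : ∀ u < 141470, (fun u => chkFix tab mwordsA u) u = true := ext_range (a := 141376) (len := 94) h1504 m2_1504
  have h1506 : ∀ u < 141564, (fun u => chkFix tab mwordsA u) u = true := ext_range (a := 141470) (len := 94) h1505 m2_1505
  have h1507 : ∀ u < 141658, (fun u => chkFix tab mwordsA u) u = true := ext_range (a := 141564) (len := 94) h1506 m2_1506
  have h1508 : ∀ u < 141752, (fun u => chkFix tab mwordsA u) u = true := ext_range (a := 141658) (len := 94) h1507 m2_1507
  have h1509 : ∀ u < 141846, (fun u => chkFix tab mwordsA u) u = true := ext_range (a := 141752) (len := 94) h1508 m2_1508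
  have h1510 : ∀ u < 141940, (fun u => chkFix tab mwordsA u) u = true := ext_range (a := 141846) (len := 94) h1509 m2_1509
  have h1511 : ∀ u < 142034, (fun u => chkFix tab mwordsA u) u = true := ext_range (a := 141940) (len := 94) h1510 m2_1510
  have h1512 : ∀ u < 142128, (fun u => chkFix tab mwordsA u) u = true := ext_range (a := 142034) (len := 94) h1511 m2_1511
  have h1513 : ∀ u < 142222, (fun u => chkFix tab mwordsA u) u = true := ext_range (a := 142128) (len := 94) h1512 m2_1512
  have h1514 : ∀ u < 142316, (fun u => chkFix tab mwordsA u) u = true := ext_range (a := 142222) (len := 94) h1513 m2_1513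
  have h1515 : ∀ u < 142410, (fun u => chkFix tab mwordsA u) u = true := ext_range (a := 142316) (len := 94) h1514 m2_1514
  have h1516 : ∀ u < 142504, (fun u => chkFix tab mwordsA u) u = true := ext_range (a := 142410) (len := 94) h1515 m2_1515
  have h1517 : ∀ u < 142598, (fun u => chkFix tab mwordsA u) u = true := ext_range (a := 142504) (len := 94) h1516 m2_1516
  have h1518 : ∀ u < 142692, (fun u => chkFix tab mwordsA u) u = true := ext_range (a := 142598) (len := 94) h1517 m2_1517
  have h1519 : ∀ u < 142786, (fun u => chkFix tab mwordsA u) u = true := ext_range (a := 142692) (len := 94) h1518 m2_1518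
  have h1520 : ∀ u < 142880, (fun u => chkFix tab mwordsA u) u = true := ext_range (a := 142786) (len := 94) h1519 m2_1519
  have h1521 : ∀ u < 142974, (fun u => chkFix tab mwordsA u) u = true := ext_range (a := 142880) (len := 94) h1520 m2_1520
  have h1522 : ∀ u < 143068, (fun u => chkFix tab mwordsA u) u = true := ext_range (a := 142974) (len := 94) h1521 m2_1521
  have h1523 : ∀ u < 143162, (fun u => chkFix tab mwordsA u) u = true := ext_range (a := 143068) (len := 94) h1522 m2_1522
  have h1524 : ∀ u < 143256, (fun u => chkFix tab mwordsA u) u = true := ext_range (a := 143162) (len := 94) h1523 m2_1523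
  have h1525 : ∀ u < 143350, (fun u => chkFix tab mwordsA u) u = true := ext_range (a := 143256) (len := 94) h1524 m2_1524
  have h1526 : ∀ u < 143444, (fun u => chkFix tab mwordsA u) u = true := ext_range (a := 143350) (len := 94) h1525 m2_1525
  have h1527 : ∀ u < 143538, (fun u => chkFix tab mwordsA u) u = true := ext_range (a := 143444) (len := 94) h1526 m2_1526
  have h1528 : ∀ u < 143632, (fun u => chkFix tab mwordsA u) u = true := ext_range (a := 143538) (len := 94) h1527 m2_1527
  have h1529 : ∀ u < 143726, (fun u => chkFix tab mwordsA u) u = true := ext_range (a := 143632) (len := 94) h1528 m2_1528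
  have h1530 : ∀ u < 143820, (fun u => chkFix tab mwordsA u) u = true := ext_range (a := 143726) (len := 94) h1529 m2_1529
  have h1531 : ∀ u < 143914, (fun u => chkFix tab mwordsA u) u = true := ext_range (a := 143820) (len := 94) h1530 m2_1530
  have h1532 : ∀ u < 144008, (fun u => chkFix tab mwordsA u) u = true := ext_range (a := 143914) (len := 94) h1531 m2_1531
  have h1533 : ∀ u < 144102, (fun u => chkFix tab mwordsA u) u = true := ext_range (a := 144008) (len := 94) h1532 m2_1532
  have h1534 : ∀ u < 144196, (fun u => chkFix tab mwordsA u) u = true := ext_range (a := 144102) (len := 94) h1533 m2_1533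
  have h1535 : ∀ u < 144290, (fun u => chkFix tab mwordsA u) u = true := ext_range (a := 144196) (len := 94) h1534 m2_1534
  have h1536 : ∀ u < 144384, (fun u => chkFix tab mwordsA u) u = true := ext_range (a := 144290) (len := 94) h1535 m2_1535
  have h1537 : ∀ u < 144478, (fun u => chkFix tab mwordsA u) u = true := ext_range (a := 144384) (len := 94) h1536 m2_1536
  have h1538 : ∀ u < 144572, (fun u => chkFix tab mwordsA u) u = true := ext_range (a := 144478) (len := 94) h1537 m2_1537
  have h1539 : ∀ u < 144666, (fun u => chkFix tab mwordsA u) u = true := ext_range (a := 144572) (len := 94) h1538 m2_1538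
  have h1540 : ∀ u < 144760, (fun u => chkFix tab mwordsA u) u = true := ext_range (a := 144666) (len := 94) h1539 m2_1539
  have h1541 : ∀ u < 144854, (fun u => chkFix tab mwordsA u) u = true := ext_range (a := 144760) (len := 94) h1540 m2_1540
  have h1542 : ∀ u < 144948, (fun u => chkFix tab mwordsA u) u = true := ext_range (a := 144854) (len := 94) h1541 m2_1541
  have h1543 : ∀ u < 145042, (fun u => chkFix tab mwordsA u) u = true := ext_range (a := 144948) (len := 94) h1542 m2_1542
  have h1544 : ∀ u < 145136, (fun u => chkFix tab mwordsA u) u = true := ext_range (a := 145042) (len := 94) h1543 m2_1543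
  have h1545 : ∀ u < 145230, (fun u => chkFix tab mwordsA u) u = true := ext_range (a := 145136) (len := 94) h1544 m2_1544
  have h1546 : ∀ u < 145324, (fun u => chkFix tab mwordsA u) u = true := ext_range (a := 145230) (len := 94) h1545 m2_1545
  have h1547 : ∀ u < 145418, (fun u => chkFix tab mwordsA u) u = true := ext_range (a := 145324) (len := 94) h1546 m2_1546
  have h1548 : ∀ u < 145512, (fun u => chkFix tab mwordsA u) u = true := ext_range (a := 145418) (len := 94) h1547 m2_1547
  have h1549 : ∀ u < 145606, (fun u => chkFix tab mwordsA u) u = true := ext_range (a := 145512) (len := 94) h1548 m2_1548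
  have h1550 : ∀ u < 145700, (fun u => chkFix tab mwordsA u) u = true := ext_range (a := 145606) (len := 94) h1549 m2_1549
  have h1551 : ∀ u < 145794, (fun u => chkFix tab mwordsA u) u = true := ext_range (a := 145700) (len := 94) h1550 m2_1550
  have h1552 : ∀ u < 145888, (fun u => chkFix tab mwordsA u) u = true := ext_range (a := 145794) (len := 94) h1551 m2_1551
  have h1553 : ∀ u < 145982, (fun u => chkFix tab mwordsA u) u = true := ext_range (a := 145888) (len := 94) h1552 m2_1552
  have h1554 : ∀ u < 146076, (fun u => chkFix tab mwordsA u) u = true := ext_range (a := 145982) (len := 94) h1553 m2_1553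
  have h1555 : ∀ u < 146170, (fun u => chkFix tab mwordsA u) u = true := ext_range (a := 146076) (len := 94) h1554 m2_1554
  have h1556 : ∀ u < 146264, (fun u => chkFix tab mwordsA u) u = true := ext_range (a := 146170) (len := 94) h1555 m2_1555
  have h1557 : ∀ u < 146358, (fun u => chkFix tab mwordsA u) u = true := ext_range (a := 146264) (len := 94) h1556 m2_1556
  have h1558 : ∀ u < 146452, (fun u => chkFix tab mwordsA u) u = true := ext_range (a := 146358) (len := 94) h1557 m2_1557
  have h1559 : ∀ u < 146546, (fun u => chkFix tab mwordsA u) u = true := ext_range (a := 146452) (len := 94) h1558 m2_1558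
  have h1560 : ∀ u < 146640, (fun u => chkFix tab mwordsA u) u = true := ext_range (a := 146546) (len := 94) h1559 m2_1559
  have h1561 : ∀ u < 146734, (fun u => chkFix tab mwordsA u) u = true := ext_range (a := 146640) (len := 94) h1560 m2_1560
  have h1562 : ∀ u < 146828, (fun u => chkFix tab mwordsA u) u = true := ext_range (a := 146734) (len := 94) h1561 m2_1561
  have h1563 : ∀ u < 146922, (fun u => chkFix tab mwordsA u) u = true := ext_range (a := 146828) (len := 94) h1562 m2_1562
  have h1564 : ∀ u < 147016, (fun u => chkFix tab mwordsA u) u = true := ext_range (a := 146922) (len := 94) h1563 m2_1563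
  have h1565 : ∀ u < 147110, (fun u => chkFix tab mwordsA u) u = true := ext_range (a := 147016) (len := 94) h1564 m2_1564
  have h1566 : ∀ u < 147204, (fun u => chkFix tab mwordsA u) u = true := ext_range (a := 147110) (len := 94) h1565 m2_1565
  have h1567 : ∀ u < 147298, (fun u => chkFix tab mwordsA u) u = true := ext_range (a := 147204) (len := 94) h1566 m2_1566
  have h1568 : ∀ u < 147392, (fun u => chkFix tab mwordsA u) u = true := ext_range (a := 147298) (len := 94) h1567 m2_1567
  have h1569 : ∀ u < 147486, (fun u => chkFix tab mwordsA u) u = true := ext_range (a := 147392) (len := 94) h1568 m2_1568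
  have h1570 : ∀ u < 147580, (fun u => chkFix tab mwordsA u) u = true := ext_range (a := 147486) (len := 94) h1569 m2_1569
  have h1571 : ∀ u < 147674, (fun u => chkFix tab mwordsA u) u = true := ext_range (a := 147580) (len := 94) h1570 m2_1570
  have h1572 : ∀ u < 147768, (fun u => chkFix tab mwordsA u) u = true := ext_range (a := 147674) (len := 94) h1571 m2_1571
  have h1573 : ∀ u < 147862, (fun u => chkFix tab mwordsA u) u = true := ext_range (a := 147768) (len := 94) h1572 m2_1572
  have h1574 : ∀ u < 147956, (fun u => chkFix tab mwordsA u) u = true := ext_range (a := 147862) (len := 94) h1573 m2_1573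
  have h1575 : ∀ u < 148050, (fun u => chkFix tab mwordsA u) u = true := ext_range (a := 147956) (len := 94) h1574 m2_1574
  have h1576 : ∀ u < 148144, (fun u => chkFix tab mwordsA u) u = true := ext_range (a := 148050) (len := 94) h1575 m2_1575
  have h1577 : ∀ u < 148238, (fun u => chkFix tab mwordsA u) u = true := ext_range (a := 148144) (len := 94) h1576 m2_1576
  have h1578 : ∀ u < 148332, (fun u => chkFix tab mwordsA u) u = true := ext_range (a := 148238) (len := 94) h1577 m2_1577
  have h1579 : ∀ u < 148426, (fun u => chkFix tab mwordsA u) u = true := ext_range (a := 148332) (len := 94) h1578 m2_1578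
  have h1580 : ∀ u < 148520, (fun u => chkFix tab mwordsA u) u = true := ext_range (a := 148426) (len := 94) h1579 m2_1579
  have h1581 : ∀ u < 148614, (fun u => chkFix tab mwordsA u) u = true := ext_range (a := 148520) (len := 94) h1580 m2_1580
  have h1582 : ∀ u < 148708, (fun u => chkFix tab mwordsA u) u = true := ext_range (a := 148614) (len := 94) h1581 m2_1581
  have h1583 : ∀ u < 148802, (fun u => chkFix tab mwordsA u) u = true := ext_range (a := 148708) (len := 94) h1582 m2_1582
  have h1584 : ∀ u < 148896, (fun u => chkFix tab mwordsA u) u = true := ext_range (a := 148802) (len := 94) h1583 m2_1583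
  have h1585 : ∀ u < 148990, (fun u => chkFix tab mwordsA u) u = true := ext_range (a := 148896) (len := 94) h1584 m2_1584
  have h1586 : ∀ u < 149084, (fun u => chkFix tab mwordsA u) u = true := ext_range (a := 148990) (len := 94) h1585 m2_1585
  have h1587 : ∀ u < 149178, (fun u => chkFix tab mwordsA u) u = true := ext_range (a := 149084) (len := 94) h1586 m2_1586
  have h1588 : ∀ u < 149272, (fun u => chkFix tab mwordsA u) u = true := ext_range (a := 149178) (len := 94) h1587 m2_1587
  have h1589 : ∀ u < 149366, (fun u => chkFix tab mwordsA u) u = true := ext_range (a := 149272) (len := 94) h1588 m2_1588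
  have h1590 : ∀ u < 149460, (fun u => chkFix tab mwordsA u) u = true := ext_range (a := 149366) (len := 94) h1589 m2_1589
  have h1591 : ∀ u < 149554, (fun u => chkFix tab mwordsA u) u = true := ext_range (a := 149460) (len := 94) h1590 m2_1590
  have h1592 : ∀ u < 149648, (fun u => chkFix tab mwordsA u) u = true := ext_range (a := 149554) (len := 94) h1591 m2_1591
  have h1593 : ∀ u < 149742, (fun u => chkFix tab mwordsA u) u = true := ext_range (a := 149648) (len := 94) h1592 m2_1592
  have h1594 : ∀ u < 149836, (fun u => chkFix tab mwordsA u) u = true := ext_range (a := 149742) (len := 94) h1593 m2_1593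
  have h1595 : ∀ u < 149930, (fun u => chkFix tab mwordsA u) u = true := ext_range (a := 149836) (len := 94) h1594 m2_1594
  have h1596 : ∀ u < 150024, (fun u => chkFix tab mwordsA u) u = true := ext_range (a := 149930) (len := 94) h1595 m2_1595
  have h1597 : ∀ u < 150118, (fun u => chkFix tab mwordsA u) u = true := ext_range (a := 150024) (len := 94) h1596 m2_1596
  have h1598 : ∀ u < 150212, (fun u => chkFix tab mwordsA u) u = true := ext_range (a := 150118) (len := 94) h1597 m2_1597
  have h1599 : ∀ u < 150306, (fun u => chkFix tab mwordsA u) u = true := ext_range (a := 150212) (len := 94) h1598 m2_1598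
  have h1600 : ∀ u < 150400, (fun u => chkFix tab mwordsA u) u = true := ext_range (a := 150306) (len := 94) h1599 m2_1599
  have h1601 : ∀ u < 150494, (fun u => chkFix tab mwordsA u) u = true := ext_range (a := 150400) (len := 94) h1600 m2_1600
  have h1602 : ∀ u < 150588, (fun u => chkFix tab mwordsA u) u = true := ext_range (a := 150494) (len := 94) h1601 m2_1601
  have h1603 : ∀ u < 150682, (fun u => chkFix tab mwordsA u) u = true := ext_range (a := 150588) (len := 94) h1602 m2_1602
  have h1604 : ∀ u < 150776, (fun u => chkFix tab mwordsA u) u = true := ext_range (a := 150682) (len := 94) h1603 m2_1603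
  have h1605 : ∀ u < 150870, (fun u => chkFix tab mwordsA u) u = true := ext_range (a := 150776) (len := 94) h1604 m2_1604
  have h1606 : ∀ u < 150964, (fun u => chkFix tab mwordsA u) u = true := ext_range (a := 150870) (len := 94) h1605 m2_1605
  have h1607 : ∀ u < 151058, (fun u => chkFix tab mwordsA u) u = true := ext_range (a := 150964) (len := 94) h1606 m2_1606
  have h1608 : ∀ u < 151152, (fun u => chkFix tab mwordsA u) u = true := ext_range (a := 151058) (len := 94) h1607 m2_1607
  have h1609 : ∀ u < 151246, (fun u => chkFix tab mwordsA u) u = true := ext_range (a := 151152) (len := 94) h1608 m2_1608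
  have h1610 : ∀ u < 151340, (fun u => chkFix tab mwordsA u) u = true := ext_range (a := 151246) (len := 94) h1609 m2_1609
  have h1611 : ∀ u < 151434, (fun u => chkFix tab mwordsA u) u = true := ext_range (a := 151340) (len := 94) h1610 m2_1610
  have h1612 : ∀ u < 151528, (fun u => chkFix tab mwordsA u) u = true := ext_range (a := 151434) (len := 94) h1611 m2_1611
  have h1613 : ∀ u < 151622, (fun u => chkFix tab mwordsA u) u = true := ext_range (a := 151528) (len := 94) h1612 m2_1612
  have h1614 : ∀ u < 151716, (fun u => chkFix tab mwordsA u) u = true := ext_range (a := 151622) (len := 94) h1613 m2_1613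
  have h1615 : ∀ u < 151810, (fun u => chkFix tab mwordsA u) u = true := ext_range (a := 151716) (len := 94) h1614 m2_1614
  have h1616 : ∀ u < 151904, (fun u => chkFix tab mwordsA u) u = true := ext_range (a := 151810) (len := 94) h1615 m2_1615
  have h1617 : ∀ u < 151998, (fun u => chkFix tab mwordsA u) u = true := ext_range (a := 151904) (len := 94) h1616 m2_1616
  have h1618 : ∀ u < 152092, (fun u => chkFix tab mwordsA u) u = true := ext_range (a := 151998) (len := 94) h1617 m2_1617
  have h1619 : ∀ u < 152186, (fun u => chkFix tab mwordsA u) u = true := ext_range (a := 152092) (len := 94) h1618 m2_1618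
  have h1620 : ∀ u < 152280, (fun u => chkFix tab mwordsA u) u = true := ext_range (a := 152186) (len := 94) h1619 m2_1619
  have h1621 : ∀ u < 152374, (fun u => chkFix tab mwordsA u) u = true := ext_range (a := 152280) (len := 94) h1620 m2_1620
  have h1622 : ∀ u < 152468, (fun u => chkFix tab mwordsA u) u = true := ext_range (a := 152374) (len := 94) h1621 m2_1621
  have h1623 : ∀ u < 152562, (fun u => chkFix tab mwordsA u) u = true := ext_range (a := 152468) (len := 94) h1622 m2_1622
  have h1624 : ∀ u < 152656, (fun u => chkFix tab mwordsA u) u = true := ext_range (a := 152562) (len := 94) h1623 m2_1623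
  have h1625 : ∀ u < 152750, (fun u => chkFix tab mwordsA u) u = true := ext_range (a := 152656) (len := 94) h1624 m2_1624
  have h1626 : ∀ u < 152844, (fun u => chkFix tab mwordsA u) u = true := ext_range (a := 152750) (len := 94) h1625 m2_1625
  have h1627 : ∀ u < 152938, (fun u => chkFix tab mwordsA u) u = true := ext_range (a := 152844) (len := 94) h1626 m2_1626
  have h1628 : ∀ u < 153032, (fun u => chkFix tab mwordsA u) u = true := ext_range (a := 152938) (len := 94) h1627 m2_1627
  have h1629 : ∀ u < 153126, (fun u => chkFix tab mwordsA u) u = true := ext_range (a := 153032) (len := 94) h1628 m2_1628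
  have h1630 : ∀ u < 153220, (fun u => chkFix tab mwordsA u) u = true := ext_range (a := 153126) (len := 94) h1629 m2_1629
  have h1631 : ∀ u < 153314, (fun u => chkFix tab mwordsA u) u = true := ext_range (a := 153220) (len := 94) h1630 m2_1630
  have h1632 : ∀ u < 153408, (fun u => chkFix tab mwordsA u) u = true := ext_range (a := 153314) (len := 94) h1631 m2_1631
  have h1633 : ∀ u < 153502, (fun u => chkFix tab mwordsA u) u = true := ext_range (a := 153408) (len := 94) h1632 m2_1632
  have h1634 : ∀ u < 153596, (fun u => chkFix tab mwordsA u) u = true := ext_range (a := 153502) (len := 94) h1633 m2_1633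
  have h1635 : ∀ u < 153690, (fun u => chkFix tab mwordsA u) u = true := ext_range (a := 153596) (len := 94) h1634 m2_1634
  have h1636 : ∀ u < 153784, (fun u => chkFix tab mwordsA u) u = true := ext_range (a := 153690) (len := 94) h1635 m2_1635
  have h1637 : ∀ u < 153878, (fun u => chkFix tab mwordsA u) u = true := ext_range (a := 153784) (len := 94) h1636 m2_1636
  have h1638 : ∀ u < 153972, (fun u => chkFix tab mwordsA u) u = true := ext_range (a := 153878) (len := 94) h1637 m2_1637
  have h1639 : ∀ u < 154066, (fun u => chkFix tab mwordsA u) u = true := ext_range (a := 153972) (len := 94) h1638 m2_1638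
  have h1640 : ∀ u < 154160, (fun u => chkFix tab mwordsA u) u = true := ext_range (a := 154066) (len := 94) h1639 m2_1639
  have h1641 : ∀ u < 154254, (fun u => chkFix tab mwordsA u) u = true := ext_range (a := 154160) (len := 94) h1640 m2_1640
  have h1642 : ∀ u < 154348, (fun u => chkFix tab mwordsA u) u = true := ext_range (a := 154254) (len := 94) h1641 m2_1641
  have h1643 : ∀ u < 154442, (fun u => chkFix tab mwordsA u) u = true := ext_range (a := 154348) (len := 94) h1642 m2_1642
  have h1644 : ∀ u < 154536, (fun u => chkFix tab mwordsA u) u = true := ext_range (a := 154442) (len := 94) h1643 m2_1643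
  have h1645 : ∀ u < 154630, (fun u => chkFix tab mwordsA u) u = true := ext_range (a := 154536) (len := 94) h1644 m2_1644
  have h1646 : ∀ u < 154724, (fun u => chkFix tab mwordsA u) u = true := ext_range (a := 154630) (len := 94) h1645 m2_1645
  have h1647 : ∀ u < 154818, (fun u => chkFix tab mwordsA u) u = true := ext_range (a := 154724) (len := 94) h1646 m2_1646
  have h1648 : ∀ u < 154912, (fun u => chkFix tab mwordsA u) u = true := ext_range (a := 154818) (len := 94) h1647 m2_1647
  have h1649 : ∀ u < 155006, (fun u => chkFix tab mwordsA u) u = true := ext_range (a := 154912) (len := 94) h1648 m2_1648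
  have h1650 : ∀ u < 155100, (fun u => chkFix tab mwordsA u) u = true := ext_range (a := 155006) (len := 94) h1649 m2_1649
  have h1651 : ∀ u < 155194, (fun u => chkFix tab mwordsA u) u = true := ext_range (a := 155100) (len := 94) h1650 m2_1650
  have h1652 : ∀ u < 155288, (fun u => chkFix tab mwordsA u) u = true := ext_range (a := 155194) (len := 94) h1651 m2_1651
  have h1653 : ∀ u < 155382, (fun u => chkFix tab mwordsA u) u = true := ext_range (a := 155288) (len := 94) h1652 m2_1652
  have h1654 : ∀ u < 155476, (fun u => chkFix tab mwordsA u) u = true := ext_range (a := 155382) (len := 94) h1653 m2_1653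
  have h1655 : ∀ u < 155570, (fun u => chkFix tab mwordsA u) u = true := ext_range (a := 155476) (len := 94) h1654 m2_1654
  have h1656 : ∀ u < 155664, (fun u => chkFix tab mwordsA u) u = true := ext_range (a := 155570) (len := 94) h1655 m2_1655
  have h1657 : ∀ u < 155758, (fun u => chkFix tab mwordsA u) u = true := ext_range (a := 155664) (len := 94) h1656 m2_1656
  have h1658 : ∀ u < 155852, (fun u => chkFix tab mwordsA u) u = true := ext_range (a := 155758) (len := 94) h1657 m2_1657
  have h1659 : ∀ u < 155946, (fun u => chkFix tab mwordsA u) u = true := ext_range (a := 155852) (len := 94) h1658 m2_1658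
  have h1660 : ∀ u < 156040, (fun u => chkFix tab mwordsA u) u = true := ext_range (a := 155946) (len := 94) h1659 m2_1659
  have h1661 : ∀ u < 156134, (fun u => chkFix tab mwordsA u) u = true := ext_range (a := 156040) (len := 94) h1660 m2_1660
  have h1662 : ∀ u < 156228, (fun u => chkFix tab mwordsA u) u = true := ext_range (a := 156134) (len := 94) h1661 m2_1661
  have h1663 : ∀ u < 156322, (fun u => chkFix tab mwordsA u) u = true := ext_range (a := 156228) (len := 94) h1662 m2_1662
  have h1664 : ∀ u < 156416, (fun u => chkFix tab mwordsA u) u = true := ext_range (a := 156322) (len := 94) h1663 m2_1663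
  have h1665 : ∀ u < 156510, (fun u => chkFix tab mwordsA u) u = true := ext_range (a := 156416) (len := 94) h1664 m2_1664
  have h1666 : ∀ u < 156604, (fun u => chkFix tab mwordsA u) u = true := ext_range (a := 156510) (len := 94) h1665 m2_1665
  have h1667 : ∀ u < 156698, (fun u => chkFix tab mwordsA u) u = true := ext_range (a := 156604) (len := 94) h1666 m2_1666
  have h1668 : ∀ u < 156792, (fun u => chkFix tab mwordsA u) u = true := ext_range (a := 156698) (len := 94) h1667 m2_1667
  have h1669 : ∀ u < 156886, (fun u => chkFix tab mwordsA u) u = true := ext_range (a := 156792) (len := 94) h1668 m2_1668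
  have h1670 : ∀ u < 156980, (fun u => chkFix tab mwordsA u) u = true := ext_range (a := 156886) (len := 94) h1669 m2_1669
  have h1671 : ∀ u < 157074, (fun u => chkFix tab mwordsA u) u = true := ext_range (a := 156980) (len := 94) h1670 m2_1670
  have h1672 : ∀ u < 157168, (fun u => chkFix tab mwordsA u) u = true := ext_range (a := 157074) (len := 94) h1671 m2_1671
  have h1673 : ∀ u < 157262, (fun u => chkFix tab mwordsA u) u = true := ext_range (a := 157168) (len := 94) h1672 m2_1672
  have h1674 : ∀ u < 157356, (fun u => chkFix tab mwordsA u) u = true := ext_range (a := 157262) (len := 94) h1673 m2_1673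
  have h1675 : ∀ u < 157450, (fun u => chkFix tab mwordsA u) u = true := ext_range (a := 157356) (len := 94) h1674 m2_1674
  have h1676 : ∀ u < 157544, (fun u => chkFix tab mwordsA u) u = true := ext_range (a := 157450) (len := 94) h1675 m2_1675
  have h1677 : ∀ u < 157638, (fun u => chkFix tab mwordsA u) u = true := ext_range (a := 157544) (len := 94) h1676 m2_1676
  have h1678 : ∀ u < 157732, (fun u => chkFix tab mwordsA u) u = true := ext_range (a := 157638) (len := 94) h1677 m2_1677
  have h1679 : ∀ u < 157826, (fun u => chkFix tab mwordsA u) u = true := ext_range (a := 157732) (len := 94) h1678 m2_1678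
  have h1680 : ∀ u < 157920, (fun u => chkFix tab mwordsA u) u = true := ext_range (a := 157826) (len := 94) h1679 m2_1679
  have h1681 : ∀ u < 158014, (fun u => chkFix tab mwordsA u) u = true := ext_range (a := 157920) (len := 94) h1680 m2_1680
  have h1682 : ∀ u < 158108, (fun u => chkFix tab mwordsA u) u = true := ext_range (a := 158014) (len := 94) h1681 m2_1681
  have h1683 : ∀ u < 158202, (fun u => chkFix tab mwordsA u) u = true := ext_range (a := 158108) (len := 94) h1682 m2_1682
  have h1684 : ∀ u < 158296, (fun u => chkFix tab mwordsA u) u = true := ext_range (a := 158202) (len := 94) h1683 m2_1683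
  have h1685 : ∀ u < 158390, (fun u => chkFix tab mwordsA u) u = true := ext_range (a := 158296) (len := 94) h1684 m2_1684
  have h1686 : ∀ u < 158484, (fun u => chkFix tab mwordsA u) u = true := ext_range (a := 158390) (len := 94) h1685 m2_1685
  have h1687 : ∀ u < 158578, (fun u => chkFix tab mwordsA u) u = true := ext_range (a := 158484) (len := 94) h1686 m2_1686
  have h1688 : ∀ u < 158672, (fun u => chkFix tab mwordsA u) u = true := ext_range (a := 158578) (len := 94) h1687 m2_1687
  have h1689 : ∀ u < 158766, (fun u => chkFix tab mwordsA u) u = true := ext_range (a := 158672) (len := 94) h1688 m2_1688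
  have h1690 : ∀ u < 158860, (fun u => chkFix tab mwordsA u) u = true := ext_range (a := 158766) (len := 94) h1689 m2_1689
  have h1691 : ∀ u < 158954, (fun u => chkFix tab mwordsA u) u = true := ext_range (a := 158860) (len := 94) h1690 m2_1690
  have h1692 : ∀ u < 159048, (fun u => chkFix tab mwordsA u) u = true := ext_range (a := 158954) (len := 94) h1691 m2_1691
  have h1693 : ∀ u < 159142, (fun u => chkFix tab mwordsA u) u = true := ext_range (a := 159048) (len := 94) h1692 m2_1692
  have h1694 : ∀ u < 159236, (fun u => chkFix tab mwordsA u) u = true := ext_range (a := 159142) (len := 94) h1693 m2_1693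
  have h1695 : ∀ u < 159330, (fun u => chkFix tab mwordsA u) u = true := ext_range (a := 159236) (len := 94) h1694 m2_1694
  have h1696 : ∀ u < 159424, (fun u => chkFix tab mwordsA u) u = true := ext_range (a := 159330) (len := 94) h1695 m2_1695
  have h1697 : ∀ u < 159518, (fun u => chkFix tab mwordsA u) u = true := ext_range (a := 159424) (len := 94) h1696 m2_1696
  have h1698 : ∀ u < 159612, (fun u => chkFix tab mwordsA u) u = true := ext_range (a := 159518) (len := 94) h1697 m2_1697
  have h1699 : ∀ u < 159706, (fun u => chkFix tab mwordsA u) u = true := ext_range (a := 159612) (len := 94) h1698 m2_1698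
  have h1700 : ∀ u < 159800, (fun u => chkFix tab mwordsA u) u = true := ext_range (a := 159706) (len := 94) h1699 m2_1699
  have h1701 : ∀ u < 159894, (fun u => chkFix tab mwordsA u) u = true := ext_range (a := 159800) (len := 94) h1700 m2_1700
  have h1702 : ∀ u < 159988, (fun u => chkFix tab mwordsA u) u = true := ext_range (a := 159894) (len := 94) h1701 m2_1701
  have h1703 : ∀ u < 160082, (fun u => chkFix tab mwordsA u) u = true := ext_range (a := 159988) (len := 94) h1702 m2_1702
  have h1704 : ∀ u < 160176, (fun u => chkFix tab mwordsA u) u = true := ext_range (a := 160082) (len := 94) h1703 m2_1703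
  have h1705 : ∀ u < 160270, (fun u => chkFix tab mwordsA u) u = true := ext_range (a := 160176) (len := 94) h1704 m2_1704
  have h1706 : ∀ u < 160364, (fun u => chkFix tab mwordsA u) u = true := ext_range (a := 160270) (len := 94) h1705 m2_1705
  have h1707 : ∀ u < 160458, (fun u => chkFix tab mwordsA u) u = true := ext_range (a := 160364) (len := 94) h1706 m2_1706
  have h1708 : ∀ u < 160552, (fun u => chkFix tab mwordsA u) u = true := ext_range (a := 160458) (len := 94) h1707 m2_1707
  have h1709 : ∀ u < 160646, (fun u => chkFix tab mwordsA u) u = true := ext_range (a := 160552) (len := 94) h1708 m2_1708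
  have h1710 : ∀ u < 160740, (fun u => chkFix tab mwordsA u) u = true := ext_range (a := 160646) (len := 94) h1709 m2_1709
  have h1711 : ∀ u < 160834, (fun u => chkFix tab mwordsA u) u = true := ext_range (a := 160740) (len := 94) h1710 m2_1710
  have h1712 : ∀ u < 160928, (fun u => chkFix tab mwordsA u) u = true := ext_range (a := 160834) (len := 94) h1711 m2_1711
  have h1713 : ∀ u < 161022, (fun u => chkFix tab mwordsA u) u = true := ext_range (a := 160928) (len := 94) h1712 m2_1712
  have h1714 : ∀ u < 161116, (fun u => chkFix tab mwordsA u) u = true := ext_range (a := 161022) (len := 94) h1713 m2_1713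
  have h1715 : ∀ u < 161210, (fun u => chkFix tab mwordsA u) u = true := ext_range (a := 161116) (len := 94) h1714 m2_1714
  have h1716 : ∀ u < 161304, (fun u => chkFix tab mwordsA u) u = true := ext_range (a := 161210) (len := 94) h1715 m2_1715
  have h1717 : ∀ u < 161398, (fun u => chkFix tab mwordsA u) u = true := ext_range (a := 161304) (len := 94) h1716 m2_1716
  have h1718 : ∀ u < 161492, (fun u => chkFix tab mwordsA u) u = true := ext_range (a := 161398) (len := 94) h1717 m2_1717
  have h1719 : ∀ u < 161586, (fun u => chkFix tab mwordsA u) u = true := ext_range (a := 161492) (len := 94) h1718 m2_1718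
  have h1720 : ∀ u < 161680, (fun u => chkFix tab mwordsA u) u = true := ext_range (a := 161586) (len := 94) h1719 m2_1719
  have h1721 : ∀ u < 161774, (fun u => chkFix tab mwordsA u) u = true := ext_range (a := 161680) (len := 94) h1720 m2_1720
  have h1722 : ∀ u < 161868, (fun u => chkFix tab mwordsA u) u = true := ext_range (a := 161774) (len := 94) h1721 m2_1721
  have h1723 : ∀ u < 161962, (fun u => chkFix tab mwordsA u) u = true := ext_range (a := 161868) (len := 94) h1722 m2_1722
  have h1724 : ∀ u < 162056, (fun u => chkFix tab mwordsA u) u = true := ext_range (a := 161962) (len := 94) h1723 m2_1723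
  have h1725 : ∀ u < 162150, (fun u => chkFix tab mwordsA u) u = true := ext_range (a := 162056) (len := 94) h1724 m2_1724
  have h1726 : ∀ u < 162244, (fun u => chkFix tab mwordsA u) u = true := ext_range (a := 162150) (len := 94) h1725 m2_1725
  have h1727 : ∀ u < 162338, (fun u => chkFix tab mwordsA u) u = true := ext_range (a := 162244) (len := 94) h1726 m2_1726
  have h1728 : ∀ u < 162432, (fun u => chkFix tab mwordsA u) u = true := ext_range (a := 162338) (len := 94) h1727 m2_1727
  have h1729 : ∀ u < 162526, (fun u => chkFix tab mwordsA u) u = true := ext_range (a := 162432) (len := 94) h1728 m2_1728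
  have h1730 : ∀ u < 162620, (fun u => chkFix tab mwordsA u) u = true := ext_range (a := 162526) (len := 94) h1729 m2_1729
  have h1731 : ∀ u < 162714, (fun u => chkFix tab mwordsA u) u = true := ext_range (a := 162620) (len := 94) h1730 m2_1730
  have h1732 : ∀ u < 162808, (fun u => chkFix tab mwordsA u) u = true := ext_range (a := 162714) (len := 94) h1731 m2_1731
  have h1733 : ∀ u < 162902, (fun u => chkFix tab mwordsA u) u = true := ext_range (a := 162808) (len := 94) h1732 m2_1732
  have h1734 : ∀ u < 162996, (fun u => chkFix tab mwordsA u) u = true := ext_range (a := 162902) (len := 94) h1733 m2_1733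
  have h1735 : ∀ u < 163090, (fun u => chkFix tab mwordsA u) u = true := ext_range (a := 162996) (len := 94) h1734 m2_1734
  have h1736 : ∀ u < 163184, (fun u => chkFix tab mwordsA u) u = true := ext_range (a := 163090) (len := 94) h1735 m2_1735
  have h1737 : ∀ u < 163278, (fun u => chkFix tab mwordsA u) u = true := ext_range (a := 163184) (len := 94) h1736 m2_1736
  have h1738 : ∀ u < 163372, (fun u => chkFix tab mwordsA u) u = true := ext_range (a := 163278) (len := 94) h1737 m2_1737
  have h1739 : ∀ u < 163466, (fun u => chkFix tab mwordsA u) u = true := ext_range (a := 163372) (len := 94) h1738 m2_1738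
  have h1740 : ∀ u < 163560, (fun u => chkFix tab mwordsA u) u = true := ext_range (a := 163466) (len := 94) h1739 m2_1739
  have h1741 : ∀ u < 163654, (fun u => chkFix tab mwordsA u) u = true := ext_range (a := 163560) (len := 94) h1740 m2_1740
  have h1742 : ∀ u < 163748, (fun u => chkFix tab mwordsA u) u = true := ext_range (a := 163654) (len := 94) h1741 m2_1741
  have h1743 : ∀ u < 163842, (fun u => chkFix tab mwordsA u) u = true := ext_range (a := 163748) (len := 94) h1742 m2_1742
  have h1744 : ∀ u < 163936, (fun u => chkFix tab mwordsA u) u = true := ext_range (a := 163842) (len := 94) h1743 m2_1743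
  have h1745 : ∀ u < 164030, (fun u => chkFix tab mwordsA u) u = true := ext_range (a := 163936) (len := 94) h1744 m2_1744
  have h1746 : ∀ u < 164124, (fun u => chkFix tab mwordsA u) u = true := ext_range (a := 164030) (len := 94) h1745 m2_1745
  have h1747 : ∀ u < 164218, (fun u => chkFix tab mwordsA u) u = true := ext_range (a := 164124) (len := 94) h1746 m2_1746
  have h1748 : ∀ u < 164312, (fun u => chkFix tab mwordsA u) u = true := ext_range (a := 164218) (len := 94) h1747 m2_1747
  have h1749 : ∀ u < 164406, (fun u => chkFix tab mwordsA u) u = true := ext_range (a := 164312) (len := 94) h1748 m2_1748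
  have h1750 : ∀ u < 164500, (fun u => chkFix tab mwordsA u) u = true := ext_range (a := 164406) (len := 94) h1749 m2_1749
  have h1751 : ∀ u < 164594, (fun u => chkFix tab mwordsA u) u = true := ext_range (a := 164500) (len := 94) h1750 m2_1750
  have h1752 : ∀ u < 164688, (fun u => chkFix tab mwordsA u) u = true := ext_range (a := 164594) (len := 94) h1751 m2_1751
  have h1753 : ∀ u < 164782, (fun u => chkFix tab mwordsA u) u = true := ext_range (a := 164688) (len := 94) h1752 m2_1752
  have h1754 : ∀ u < 164876, (fun u => chkFix tab mwordsA u) u = true := ext_range (a := 164782) (len := 94) h1753 m2_1753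
  have h1755 : ∀ u < 164970, (fun u => chkFix tab mwordsA u) u = true := ext_range (a := 164876) (len := 94) h1754 m2_1754
  have h1756 : ∀ u < 165064, (fun u => chkFix tab mwordsA u) u = true := ext_range (a := 164970) (len := 94) h1755 m2_1755
  have h1757 : ∀ u < 165158, (fun u => chkFix tab mwordsA u) u = true := ext_range (a := 165064) (len := 94) h1756 m2_1756
  have h1758 : ∀ u < 165252, (fun u => chkFix tab mwordsA u) u = true := ext_range (a := 165158) (len := 94) h1757 m2_1757
  have h1759 : ∀ u < 165346, (fun u => chkFix tab mwordsA u) u = true := ext_range (a := 165252) (len := 94) h1758 m2_1758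
  have h1760 : ∀ u < 165440, (fun u => chkFix tab mwordsA u) u = true := ext_range (a := 165346) (len := 94) h1759 m2_1759
  have h1761 : ∀ u < 165534, (fun u => chkFix tab mwordsA u) u = true := ext_range (a := 165440) (len := 94) h1760 m2_1760
  have h1762 : ∀ u < 165628, (fun u => chkFix tab mwordsA u) u = true := ext_range (a := 165534) (len := 94) h1761 m2_1761
  have h1763 : ∀ u < 165722, (fun u => chkFix tab mwordsA u) u = true := ext_range (a := 165628) (len := 94) h1762 m2_1762
  have h1764 : ∀ u < 165816, (fun u => chkFix tab mwordsA u) u = true := ext_range (a := 165722) (len := 94) h1763 m2_1763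
  have h1765 : ∀ u < 165910, (fun u => chkFix tab mwordsA u) u = true := ext_range (a := 165816) (len := 94) h1764 m2_1764
  have h1766 : ∀ u < 166004, (fun u => chkFix tab mwordsA u) u = true := ext_range (a := 165910) (len := 94) h1765 m2_1765
  have h1767 : ∀ u < 166098, (fun u => chkFix tab mwordsA u) u = true := ext_range (a := 166004) (len := 94) h1766 m2_1766
  have h1768 : ∀ u < 166192, (fun u => chkFix tab mwordsA u) u = true := ext_range (a := 166098) (len := 94) h1767 m2_1767
  have h1769 : ∀ u < 166286, (fun u => chkFix tab mwordsA u) u = true := ext_range (a := 166192) (len := 94) h1768 m2_1768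
  have h1770 : ∀ u < 166380, (fun u => chkFix tab mwordsA u) u = true := ext_range (a := 166286) (len := 94) h1769 m2_1769
  have h1771 : ∀ u < 166474, (fun u => chkFix tab mwordsA u) u = true := ext_range (a := 166380) (len := 94) h1770 m2_1770
  have h1772 : ∀ u < 166568, (fun u => chkFix tab mwordsA u) u = true := ext_range (a := 166474) (len := 94) h1771 m2_1771
  have h1773 : ∀ u < 166662, (fun u => chkFix tab mwordsA u) u = true := ext_range (a := 166568) (len := 94) h1772 m2_1772
  have h1774 : ∀ u < 166756, (fun u => chkFix tab mwordsA u) u = true := ext_range (a := 166662) (len := 94) h1773 m2_1773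
  have h1775 : ∀ u < 166850, (fun u => chkFix tab mwordsA u) u = true := ext_range (a := 166756) (len := 94) h1774 m2_1774
  have h1776 : ∀ u < 166944, (fun u => chkFix tab mwordsA u) u = true := ext_range (a := 166850) (len := 94) h1775 m2_1775
  have h1777 : ∀ u < 167038, (fun u => chkFix tab mwordsA u) u = true := ext_range (a := 166944) (len := 94) h1776 m2_1776
  have h1778 : ∀ u < 167132, (fun u => chkFix tab mwordsA u) u = true := ext_range (a := 167038) (len := 94) h1777 m2_1777
  have h1779 : ∀ u < 167226, (fun u => chkFix tab mwordsA u) u = true := ext_range (a := 167132) (len := 94) h1778 m2_1778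
  have h1780 : ∀ u < 167320, (fun u => chkFix tab mwordsA u) u = true := ext_range (a := 167226) (len := 94) h1779 m2_1779
  have h1781 : ∀ u < 167414, (fun u => chkFix tab mwordsA u) u = true := ext_range (a := 167320) (len := 94) h1780 m2_1780
  have h1782 : ∀ u < 167508, (fun u => chkFix tab mwordsA u) u = true := ext_range (a := 167414) (len := 94) h1781 m2_1781
  have h1783 : ∀ u < 167602, (fun u => chkFix tab mwordsA u) u = true := ext_range (a := 167508) (len := 94) h1782 m2_1782
  have h1784 : ∀ u < 167696, (fun u => chkFix tab mwordsA u) u = true := ext_range (a := 167602) (len := 94) h1783 m2_1783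
  have h1785 : ∀ u < 167790, (fun u => chkFix tab mwordsA u) u = true := ext_range (a := 167696) (len := 94) h1784 m2_1784
  have h1786 : ∀ u < 167884, (fun u => chkFix tab mwordsA u) u = true := ext_range (a := 167790) (len := 94) h1785 m2_1785
  have h1787 : ∀ u < 167978, (fun u => chkFix tab mwordsA u) u = true := ext_range (a := 167884) (len := 94) h1786 m2_1786
  have h1788 : ∀ u < 168072, (fun u => chkFix tab mwordsA u) u = true := ext_range (a := 167978) (len := 94) h1787 m2_1787
  have h1789 : ∀ u < 168166, (fun u => chkFix tab mwordsA u) u = true := ext_range (a := 168072) (len := 94) h1788 m2_1788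
  have h1790 : ∀ u < 168260, (fun u => chkFix tab mwordsA u) u = true := ext_range (a := 168166) (len := 94) h1789 m2_1789
  have h1791 : ∀ u < 168354, (fun u => chkFix tab mwordsA u) u = true := ext_range (a := 168260) (len := 94) h1790 m2_1790
  have h1792 : ∀ u < 168448, (fun u => chkFix tab mwordsA u) u = true := ext_range (a := 168354) (len := 94) h1791 m2_1791
  have h1793 : ∀ u < 168542, (fun u => chkFix tab mwordsA u) u = true := ext_range (a := 168448) (len := 94) h1792 m2_1792
  have h1794 : ∀ u < 168636, (fun u => chkFix tab mwordsA u) u = true := ext_range (a := 168542) (len := 94) h1793 m2_1793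
  have h1795 : ∀ u < 168730, (fun u => chkFix tab mwordsA u) u = true := ext_range (a := 168636) (len := 94) h1794 m2_1794
  have h1796 : ∀ u < 168824, (fun u => chkFix tab mwordsA u) u = true := ext_range (a := 168730) (len := 94) h1795 m2_1795
  have h1797 : ∀ u < 168918, (fun u => chkFix tab mwordsA u) u = true := ext_range (a := 168824) (len := 94) h1796 m2_1796
  have h1798 : ∀ u < 169012, (fun u => chkFix tab mwordsA u) u = true := ext_range (a := 168918) (len := 94) h1797 m2_1797
  have h1799 : ∀ u < 169106, (fun u => chkFix tab mwordsA u) u = true := ext_range (a := 169012) (len := 94) h1798 m2_1798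
  have h1800 : ∀ u < 169200, (fun u => chkFix tab mwordsA u) u = true := ext_range (a := 169106) (len := 94) h1799 m2_1799
  have h1801 : ∀ u < 169294, (fun u => chkFix tab mwordsA u) u = true := ext_range (a := 169200) (len := 94) h1800 m2_1800
  have h1802 : ∀ u < 169388, (fun u => chkFix tab mwordsA u) u = true := ext_range (a := 169294) (len := 94) h1801 m2_1801
  have h1803 : ∀ u < 169482, (fun u => chkFix tab mwordsA u) u = true := ext_range (a := 169388) (len := 94) h1802 m2_1802
  have h1804 : ∀ u < 169576, (fun u => chkFix tab mwordsA u) u = true := ext_range (a := 169482) (len := 94) h1803 m2_1803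
  have h1805 : ∀ u < 169670, (fun u => chkFix tab mwordsA u) u = true := ext_range (a := 169576) (len := 94) h1804 m2_1804
  have h1806 : ∀ u < 169764, (fun u => chkFix tab mwordsA u) u = true := ext_range (a := 169670) (len := 94) h1805 m2_1805
  have h1807 : ∀ u < 169858, (fun u => chkFix tab mwordsA u) u = true := ext_range (a := 169764) (len := 94) h1806 m2_1806
  have h1808 : ∀ u < 169952, (fun u => chkFix tab mwordsA u) u = true := ext_range (a := 169858) (len := 94) h1807 m2_1807
  have h1809 : ∀ u < 170046, (fun u => chkFix tab mwordsA u) u = true := ext_range (a := 169952) (len := 94) h1808 m2_1808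
  have h1810 : ∀ u < 170140, (fun u => chkFix tab mwordsA u) u = true := ext_range (a := 170046) (len := 94) h1809 m2_1809
  have h1811 : ∀ u < 170234, (fun u => chkFix tab mwordsA u) u = true := ext_range (a := 170140) (len := 94) h1810 m2_1810
  have h1812 : ∀ u < 170328, (fun u => chkFix tab mwordsA u) u = true := ext_range (a := 170234) (len := 94) h1811 m2_1811
  have h1813 : ∀ u < 170422, (fun u => chkFix tab mwordsA u) u = true := ext_range (a := 170328) (len := 94) h1812 m2_1812
  have h1814 : ∀ u < 170516, (fun u => chkFix tab mwordsA u) u = true := ext_range (a := 170422) (len := 94) h1813 m2_1813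
  have h1815 : ∀ u < 170610, (fun u => chkFix tab mwordsA u) u = true := ext_range (a := 170516) (len := 94) h1814 m2_1814
  have h1816 : ∀ u < 170704, (fun u => chkFix tab mwordsA u) u = true := ext_range (a := 170610) (len := 94) h1815 m2_1815
  have h1817 : ∀ u < 170798, (fun u => chkFix tab mwordsA u) u = true := ext_range (a := 170704) (len := 94) h1816 m2_1816
  have h1818 : ∀ u < 170892, (fun u => chkFix tab mwordsA u) u = true := ext_range (a := 170798) (len := 94) h1817 m2_1817
  have h1819 : ∀ u < 170986, (fun u => chkFix tab mwordsA u) u = true := ext_range (a := 170892) (len := 94) h1818 m2_1818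
  have h1820 : ∀ u < 171080, (fun u => chkFix tab mwordsA u) u = true := ext_range (a := 170986) (len := 94) h1819 m2_1819
  have h1821 : ∀ u < 171174, (fun u => chkFix tab mwordsA u) u = true := ext_range (a := 171080) (len := 94) h1820 m2_1820
  have h1822 : ∀ u < 171268, (fun u => chkFix tab mwordsA u) u = true := ext_range (a := 171174) (len := 94) h1821 m2_1821
  have h1823 : ∀ u < 171362, (fun u => chkFix tab mwordsA u) u = true := ext_range (a := 171268) (len := 94) h1822 m2_1822
  have h1824 : ∀ u < 171456, (fun u => chkFix tab mwordsA u) u = true := ext_range (a := 171362) (len := 94) h1823 m2_1823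
  have h1825 : ∀ u < 171550, (fun u => chkFix tab mwordsA u) u = true := ext_range (a := 171456) (len := 94) h1824 m2_1824
  have h1826 : ∀ u < 171644, (fun u => chkFix tab mwordsA u) u = true := ext_range (a := 171550) (len := 94) h1825 m2_1825
  have h1827 : ∀ u < 171738, (fun u => chkFix tab mwordsA u) u = true := ext_range (a := 171644) (len := 94) h1826 m2_1826
  have h1828 : ∀ u < 171832, (fun u => chkFix tab mwordsA u) u = true := ext_range (a := 171738) (len := 94) h1827 m2_1827
  have h1829 : ∀ u < 171926, (fun u => chkFix tab mwordsA u) u = true := ext_range (a := 171832) (len := 94) h1828 m2_1828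
  have h1830 : ∀ u < 172020, (fun u => chkFix tab mwordsA u) u = true := ext_range (a := 171926) (len := 94) h1829 m2_1829
  have h1831 : ∀ u < 172114, (fun u => chkFix tab mwordsA u) u = true := ext_range (a := 172020) (len := 94) h1830 m2_1830
  have h1832 : ∀ u < 172208, (fun u => chkFix tab mwordsA u) u = true := ext_range (a := 172114) (len := 94) h1831 m2_1831
  have h1833 : ∀ u < 172302, (fun u => chkFix tab mwordsA u) u = true := ext_range (a := 172208) (len := 94) h1832 m2_1832
  have h1834 : ∀ u < 172396, (fun u => chkFix tab mwordsA u) u = true := ext_range (a := 172302) (len := 94) h1833 m2_1833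
  have h1835 : ∀ u < 172490, (fun u => chkFix tab mwordsA u) u = true := ext_range (a := 172396) (len := 94) h1834 m2_1834
  have h1836 : ∀ u < 172584, (fun u => chkFix tab mwordsA u) u = true := ext_range (a := 172490) (len := 94) h1835 m2_1835
  have h1837 : ∀ u < 172678, (fun u => chkFix tab mwordsA u) u = true := ext_range (a := 172584) (len := 94) h1836 m2_1836
  have h1838 : ∀ u < 172772, (fun u => chkFix tab mwordsA u) u = true := ext_range (a := 172678) (len := 94) h1837 m2_1837
  have h1839 : ∀ u < 172866, (fun u => chkFix tab mwordsA u) u = true := ext_range (a := 172772) (len := 94) h1838 m2_1838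
  have h1840 : ∀ u < 172960, (fun u => chkFix tab mwordsA u) u = true := ext_range (a := 172866) (len := 94) h1839 m2_1839
  have h1841 : ∀ u < 173054, (fun u => chkFix tab mwordsA u) u = true := ext_range (a := 172960) (len := 94) h1840 m2_1840
  have h1842 : ∀ u < 173148, (fun u => chkFix tab mwordsA u) u = true := ext_range (a := 173054) (len := 94) h1841 m2_1841
  have h1843 : ∀ u < 173242, (fun u => chkFix tab mwordsA u) u = true := ext_range (a := 173148) (len := 94) h1842 m2_1842
  have h1844 : ∀ u < 173336, (fun u => chkFix tab mwordsA u) u = true := ext_range (a := 173242) (len := 94) h1843 m2_1843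
  have h1845 : ∀ u < 173430, (fun u => chkFix tab mwordsA u) u = true := ext_range (a := 173336) (len := 94) h1844 m2_1844
  have h1846 : ∀ u < 173524, (fun u => chkFix tab mwordsA u) u = true := ext_range (a := 173430) (len := 94) h1845 m2_1845
  have h1847 : ∀ u < 173618, (fun u => chkFix tab mwordsA u) u = true := ext_range (a := 173524) (len := 94) h1846 m2_1846
  have h1848 : ∀ u < 173712, (fun u => chkFix tab mwordsA u) u = true := ext_range (a := 173618) (len := 94) h1847 m2_1847
  have h1849 : ∀ u < 173806, (fun u => chkFix tab mwordsA u) u = true := ext_range (a := 173712) (len := 94) h1848 m2_1848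
  have h1850 : ∀ u < 173900, (fun u => chkFix tab mwordsA u) u = true := ext_range (a := 173806) (len := 94) h1849 m2_1849
  have h1851 : ∀ u < 173994, (fun u => chkFix tab mwordsA u) u = true := ext_range (a := 173900) (len := 94) h1850 m2_1850
  have h1852 : ∀ u < 174088, (fun u => chkFix tab mwordsA u) u = true := ext_range (a := 173994) (len := 94) h1851 m2_1851
  have h1853 : ∀ u < 174182, (fun u => chkFix tab mwordsA u) u = true := ext_range (a := 174088) (len := 94) h1852 m2_1852
  have h1854 : ∀ u < 174276, (fun u => chkFix tab mwordsA u) u = true := ext_range (a := 174182) (len := 94) h1853 m2_1853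
  have h1855 : ∀ u < 174370, (fun u => chkFix tab mwordsA u) u = true := ext_range (a := 174276) (len := 94) h1854 m2_1854
  have h1856 : ∀ u < 174464, (fun u => chkFix tab mwordsA u) u = true := ext_range (a := 174370) (len := 94) h1855 m2_1855
  have h1857 : ∀ u < 174558, (fun u => chkFix tab mwordsA u) u = true := ext_range (a := 174464) (len := 94) h1856 m2_1856
  have h1858 : ∀ u < 174652, (fun u => chkFix tab mwordsA u) u = true := ext_range (a := 174558) (len := 94) h1857 m2_1857
  have h1859 : ∀ u < 174746, (fun u => chkFix tab mwordsA u) u = true := ext_range (a := 174652) (len := 94) h1858 m2_1858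
  have h1860 : ∀ u < 174840, (fun u => chkFix tab mwordsA u) u = true := ext_range (a := 174746) (len := 94) h1859 m2_1859
  have h1861 : ∀ u < 174934, (fun u => chkFix tab mwordsA u) u = true := ext_range (a := 174840) (len := 94) h1860 m2_1860
  have h1862 : ∀ u < 175028, (fun u => chkFix tab mwordsA u) u = true := ext_range (a := 174934) (len := 94) h1861 m2_1861
  have h1863 : ∀ u < 175122, (fun u => chkFix tab mwordsA u) u = true := ext_range (a := 175028) (len := 94) h1862 m2_1862
  have h1864 : ∀ u < 175216, (fun u => chkFix tab mwordsA u) u = true := ext_range (a := 175122) (len := 94) h1863 m2_1863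
  have h1865 : ∀ u < 175310, (fun u => chkFix tab mwordsA u) u = true := ext_range (a := 175216) (len := 94) h1864 m2_1864
  have h1866 : ∀ u < 175404, (fun u => chkFix tab mwordsA u) u = true := ext_range (a := 175310) (len := 94) h1865 m2_1865
  have h1867 : ∀ u < 175498, (fun u => chkFix tab mwordsA u) u = true := ext_range (a := 175404) (len := 94) h1866 m2_1866
  have h1868 : ∀ u < 175592, (fun u => chkFix tab mwordsA u) u = true := ext_range (a := 175498) (len := 94) h1867 m2_1867
  have h1869 : ∀ u < 175686, (fun u => chkFix tab mwordsA u) u = true := ext_range (a := 175592) (len := 94) h1868 m2_1868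
  have h1870 : ∀ u < 175780, (fun u => chkFix tab mwordsA u) u = true := ext_range (a := 175686) (len := 94) h1869 m2_1869
  have h1871 : ∀ u < 175874, (fun u => chkFix tab mwordsA u) u = true := ext_range (a := 175780) (len := 94) h1870 m2_1870
  have h1872 : ∀ u < 175968, (fun u => chkFix tab mwordsA u) u = true := ext_range (a := 175874) (len := 94) h1871 m2_1871
  have h1873 : ∀ u < 176062, (fun u => chkFix tab mwordsA u) u = true := ext_range (a := 175968) (len := 94) h1872 m2_1872
  have h1874 : ∀ u < 176156, (fun u => chkFix tab mwordsA u) u = true := ext_range (a := 176062) (len := 94) h1873 m2_1873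
  have h1875 : ∀ u < 176250, (fun u => chkFix tab mwordsA u) u = true := ext_range (a := 176156) (len := 94) h1874 m2_1874
  have h1876 : ∀ u < 176344, (fun u => chkFix tab mwordsA u) u = true := ext_range (a := 176250) (len := 94) h1875 m2_1875
  have h1877 : ∀ u < 176438, (fun u => chkFix tab mwordsA u) u = true := ext_range (a := 176344) (len := 94) h1876 m2_1876
  have h1878 : ∀ u < 176532, (fun u => chkFix tab mwordsA u) u = true := ext_range (a := 176438) (len := 94) h1877 m2_1877
  have h1879 : ∀ u < 176626, (fun u => chkFix tab mwordsA u) u = true := ext_range (a := 176532) (len := 94) h1878 m2_1878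
  have h1880 : ∀ u < 176720, (fun u => chkFix tab mwordsA u) u = true := ext_range (a := 176626) (len := 94) h1879 m2_1879
  have h1881 : ∀ u < 176814, (fun u => chkFix tab mwordsA u) u = true := ext_range (a := 176720) (len := 94) h1880 m2_1880
  have h1882 : ∀ u < 176908, (fun u => chkFix tab mwordsA u) u = true := ext_range (a := 176814) (len := 94) h1881 m2_1881
  have h1883 : ∀ u < 177002, (fun u => chkFix tab mwordsA u) u = true := ext_range (a := 176908) (len := 94) h1882 m2_1882
  have h1884 : ∀ u < 177096, (fun u => chkFix tab mwordsA u) u = true := ext_range (a := 177002) (len := 94) h1883 m2_1883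
  have h1885 : ∀ u < 177190, (fun u => chkFix tab mwordsA u) u = true := ext_range (a := 177096) (len := 94) h1884 m2_1884
  have h1886 : ∀ u < 177284, (fun u => chkFix tab mwordsA u) u = true := ext_range (a := 177190) (len := 94) h1885 m2_1885
  have h1887 : ∀ u < 177378, (fun u => chkFix tab mwordsA u) u = true := ext_range (a := 177284) (len := 94) h1886 m2_1886
  have h1888 : ∀ u < 177472, (fun u => chkFix tab mwordsA u) u = true := ext_range (a := 177378) (len := 94) h1887 m2_1887
  have h1889 : ∀ u < 177566, (fun u => chkFix tab mwordsA u) u = true := ext_range (a := 177472) (len := 94) h1888 m2_1888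
  have h1890 : ∀ u < 177660, (fun u => chkFix tab mwordsA u) u = true := ext_range (a := 177566) (len := 94) h1889 m2_1889
  have h1891 : ∀ u < 177754, (fun u => chkFix tab mwordsA u) u = true := ext_range (a := 177660) (len := 94) h1890 m2_1890
  have h1892 : ∀ u < 177848, (fun u => chkFix tab mwordsA u) u = true := ext_range (a := 177754) (len := 94) h1891 m2_1891
  have h1893 : ∀ u < 177942, (fun u => chkFix tab mwordsA u) u = true := ext_range (a := 177848) (len := 94) h1892 m2_1892
  have h1894 : ∀ u < 178036, (fun u => chkFix tab mwordsA u) u = true := ext_range (a := 177942) (len := 94) h1893 m2_1893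
  have h1895 : ∀ u < 178130, (fun u => chkFix tab mwordsA u) u = true := ext_range (a := 178036) (len := 94) h1894 m2_1894
  have h1896 : ∀ u < 178224, (fun u => chkFix tab mwordsA u) u = true := ext_range (a := 178130) (len := 94) h1895 m2_1895
  have h1897 : ∀ u < 178318, (fun u => chkFix tab mwordsA u) u = true := ext_range (a := 178224) (len := 94) h1896 m2_1896
  have h1898 : ∀ u < 178412, (fun u => chkFix tab mwordsA u) u = true := ext_range (a := 178318) (len := 94) h1897 m2_1897
  have h1899 : ∀ u < 178506, (fun u => chkFix tab mwordsA u) u = true := ext_range (a := 178412) (len := 94) h1898 m2_1898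
  have h1900 : ∀ u < 178600, (fun u => chkFix tab mwordsA u) u = true := ext_range (a := 178506) (len := 94) h1899 m2_1899
  have h1901 : ∀ u < 178694, (fun u => chkFix tab mwordsA u) u = true := ext_range (a := 178600) (len := 94) h1900 m2_1900
  have h1902 : ∀ u < 178788, (fun u => chkFix tab mwordsA u) u = true := ext_range (a := 178694) (len := 94) h1901 m2_1901
  have h1903 : ∀ u < 178882, (fun u => chkFix tab mwordsA u) u = true := ext_range (a := 178788) (len := 94) h1902 m2_1902
  have h1904 : ∀ u < 178976, (fun u => chkFix tab mwordsA u) u = true := ext_range (a := 178882) (len := 94) h1903 m2_1903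
  have h1905 : ∀ u < 179070, (fun u => chkFix tab mwordsA u) u = true := ext_range (a := 178976) (len := 94) h1904 m2_1904
  have h1906 : ∀ u < 179164, (fun u => chkFix tab mwordsA u) u = true := ext_range (a := 179070) (len := 94) h1905 m2_1905
  have h1907 : ∀ u < 179258, (fun u => chkFix tab mwordsA u) u = true := ext_range (a := 179164) (len := 94) h1906 m2_1906
  have h1908 : ∀ u < 179352, (fun u => chkFix tab mwordsA u) u = true := ext_range (a := 179258) (len := 94) h1907 m2_1907
  have h1909 : ∀ u < 179446, (fun u => chkFix tab mwordsA u) u = true := ext_range (a := 179352) (len := 94) h1908 m2_1908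
  have h1910 : ∀ u < 179540, (fun u => chkFix tab mwordsA u) u = true := ext_range (a := 179446) (len := 94) h1909 m2_1909
  have h1911 : ∀ u < 179634, (fun u => chkFix tab mwordsA u) u = true := ext_range (a := 179540) (len := 94) h1910 m2_1910
  have h1912 : ∀ u < 179728, (fun u => chkFix tab mwordsA u) u = true := ext_range (a := 179634) (len := 94) h1911 m2_1911
  have h1913 : ∀ u < 179822, (fun u => chkFix tab mwordsA u) u = true := ext_range (a := 179728) (len := 94) h1912 m2_1912
  have h1914 : ∀ u < 179916, (fun u => chkFix tab mwordsA u) u = true := ext_range (a := 179822) (len := 94) h1913 m2_1913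
  have h1915 : ∀ u < 180010, (fun u => chkFix tab mwordsA u) u = true := ext_range (a := 179916) (len := 94) h1914 m2_1914
  have h1916 : ∀ u < 180104, (fun u => chkFix tab mwordsA u) u = true := ext_range (a := 180010) (len := 94) h1915 m2_1915
  have h1917 : ∀ u < 180198, (fun u => chkFix tab mwordsA u) u = true := ext_range (a := 180104) (len := 94) h1916 m2_1916
  have h1918 : ∀ u < 180292, (fun u => chkFix tab mwordsA u) u = true := ext_range (a := 180198) (len := 94) h1917 m2_1917
  have h1919 : ∀ u < 180386, (fun u => chkFix tab mwordsA u) u = true := ext_range (a := 180292) (len := 94) h1918 m2_1918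
  have h1920 : ∀ u < 180480, (fun u => chkFix tab mwordsA u) u = true := ext_range (a := 180386) (len := 94) h1919 m2_1919
  have h1921 : ∀ u < 180574, (fun u => chkFix tab mwordsA u) u = true := ext_range (a := 180480) (len := 94) h1920 m2_1920
  have h1922 : ∀ u < 180668, (fun u => chkFix tab mwordsA u) u = true := ext_range (a := 180574) (len := 94) h1921 m2_1921
  have h1923 : ∀ u < 180762, (fun u => chkFix tab mwordsA u) u = true := ext_range (a := 180668) (len := 94) h1922 m2_1922
  have h1924 : ∀ u < 180856, (fun u => chkFix tab mwordsA u) u = true := ext_range (a := 180762) (len := 94) h1923 m2_1923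
  have h1925 : ∀ u < 180950, (fun u => chkFix tab mwordsA u) u = true := ext_range (a := 180856) (len := 94) h1924 m2_1924
  have h1926 : ∀ u < 181044, (fun u => chkFix tab mwordsA u) u = true := ext_range (a := 180950) (len := 94) h1925 m2_1925
  have h1927 : ∀ u < 181138, (fun u => chkFix tab mwordsA u) u = true := ext_range (a := 181044) (len := 94) h1926 m2_1926
  have h1928 : ∀ u < 181232, (fun u => chkFix tab mwordsA u) u = true := ext_range (a := 181138) (len := 94) h1927 m2_1927
  have h1929 : ∀ u < 181326, (fun u => chkFix tab mwordsA u) u = true := ext_range (a := 181232) (len := 94) h1928 m2_1928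
  have h1930 : ∀ u < 181420, (fun u => chkFix tab mwordsA u) u = true := ext_range (a := 181326) (len := 94) h1929 m2_1929
  have h1931 : ∀ u < 181514, (fun u => chkFix tab mwordsA u) u = true := ext_range (a := 181420) (len := 94) h1930 m2_1930
  have h1932 : ∀ u < 181608, (fun u => chkFix tab mwordsA u) u = true := ext_range (a := 181514) (len := 94) h1931 m2_1931
  have h1933 : ∀ u < 181702, (fun u => chkFix tab mwordsA u) u = true := ext_range (a := 181608) (len := 94) h1932 m2_1932
  have h1934 : ∀ u < 181796, (fun u => chkFix tab mwordsA u) u = true := ext_range (a := 181702) (len := 94) h1933 m2_1933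
  have h1935 : ∀ u < 181890, (fun u => chkFix tab mwordsA u) u = true := ext_range (a := 181796) (len := 94) h1934 m2_1934
  have h1936 : ∀ u < 181984, (fun u => chkFix tab mwordsA u) u = true := ext_range (a := 181890) (len := 94) h1935 m2_1935
  have h1937 : ∀ u < 182078, (fun u => chkFix tab mwordsA u) u = true := ext_range (a := 181984) (len := 94) h1936 m2_1936
  have h1938 : ∀ u < 182172, (fun u => chkFix tab mwordsA u) u = true := ext_range (a := 182078) (len := 94) h1937 m2_1937
  have h1939 : ∀ u < 182266, (fun u => chkFix tab mwordsA u) u = true := ext_range (a := 182172) (len := 94) h1938 m2_1938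
  have h1940 : ∀ u < 182360, (fun u => chkFix tab mwordsA u) u = true := ext_range (a := 182266) (len := 94) h1939 m2_1939
  have h1941 : ∀ u < 182454, (fun u => chkFix tab mwordsA u) u = true := ext_range (a := 182360) (len := 94) h1940 m2_1940
  have h1942 : ∀ u < 182548, (fun u => chkFix tab mwordsA u) u = true := ext_range (a := 182454) (len := 94) h1941 m2_1941
  have h1943 : ∀ u < 182642, (fun u => chkFix tab mwordsA u) u = true := ext_range (a := 182548) (len := 94) h1942 m2_1942
  have h1944 : ∀ u < 182736, (fun u => chkFix tab mwordsA u) u = true := ext_range (a := 182642) (len := 94) h1943 m2_1943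
  have h1945 : ∀ u < 182830, (fun u => chkFix tab mwordsA u) u = true := ext_range (a := 182736) (len := 94) h1944 m2_1944
  have h1946 : ∀ u < 182924, (fun u => chkFix tab mwordsA u) u = true := ext_range (a := 182830) (len := 94) h1945 m2_1945
  have h1947 : ∀ u < 183018, (fun u => chkFix tab mwordsA u) u = true := ext_range (a := 182924) (len := 94) h1946 m2_1946
  have h1948 : ∀ u < 183112, (fun u => chkFix tab mwordsA u) u = true := ext_range (a := 183018) (len := 94) h1947 m2_1947
  have h1949 : ∀ u < 183206, (fun u => chkFix tab mwordsA u) u = true := ext_range (a := 183112) (len := 94) h1948 m2_1948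
  have h1950 : ∀ u < 183300, (fun u => chkFix tab mwordsA u) u = true := ext_range (a := 183206) (len := 94) h1949 m2_1949
  have h1951 : ∀ u < 183394, (fun u => chkFix tab mwordsA u) u = true := ext_range (a := 183300) (len := 94) h1950 m2_1950
  have h1952 : ∀ u < 183488, (fun u => chkFix tab mwordsA u) u = true := ext_range (a := 183394) (len := 94) h1951 m2_1951
  have h1953 : ∀ u < 183582, (fun u => chkFix tab mwordsA u) u = true := ext_range (a := 183488) (len := 94) h1952 m2_1952
  have h1954 : ∀ u < 183676, (fun u => chkFix tab mwordsA u) u = true := ext_range (a := 183582) (len := 94) h1953 m2_1953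
  have h1955 : ∀ u < 183770, (fun u => chkFix tab mwordsA u) u = true := ext_range (a := 183676) (len := 94) h1954 m2_1954
  have h1956 : ∀ u < 183864, (fun u => chkFix tab mwordsA u) u = true := ext_range (a := 183770) (len := 94) h1955 m2_1955
  have h1957 : ∀ u < 183958, (fun u => chkFix tab mwordsA u) u = true := ext_range (a := 183864) (len := 94) h1956 m2_1956
  have h1958 : ∀ u < 184052, (fun u => chkFix tab mwordsA u) u = true := ext_range (a := 183958) (len := 94) h1957 m2_1957
  have h1959 : ∀ u < 184146, (fun u => chkFix tab mwordsA u) u = true := ext_range (a := 184052) (len := 94) h1958 m2_1958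
  have h1960 : ∀ u < 184240, (fun u => chkFix tab mwordsA u) u = true := ext_range (a := 184146) (len := 94) h1959 m2_1959
  have h1961 : ∀ u < 184334, (fun u => chkFix tab mwordsA u) u = true := ext_range (a := 184240) (len := 94) h1960 m2_1960
  have h1962 : ∀ u < 184428, (fun u => chkFix tab mwordsA u) u = true := ext_range (a := 184334) (len := 94) h1961 m2_1961
  have h1963 : ∀ u < 184522, (fun u => chkFix tab mwordsA u) u = true := ext_range (a := 184428) (len := 94) h1962 m2_1962
  have h1964 : ∀ u < 184616, (fun u => chkFix tab mwordsA u) u = true := ext_range (a := 184522) (len := 94) h1963 m2_1963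
  have h1965 : ∀ u < 184710, (fun u => chkFix tab mwordsA u) u = true := ext_range (a := 184616) (len := 94) h1964 m2_1964
  have h1966 : ∀ u < 184804, (fun u => chkFix tab mwordsA u) u = true := ext_range (a := 184710) (len := 94) h1965 m2_1965
  have h1967 : ∀ u < 184898, (fun u => chkFix tab mwordsA u) u = true := ext_range (a := 184804) (len := 94) h1966 m2_1966
  have h1968 : ∀ u < 184992, (fun u => chkFix tab mwordsA u) u = true := ext_range (a := 184898) (len := 94) h1967 m2_1967
  have h1969 : ∀ u < 185086, (fun u => chkFix tab mwordsA u) u = true := ext_range (a := 184992) (len := 94) h1968 m2_1968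
  have h1970 : ∀ u < 185180, (fun u => chkFix tab mwordsA u) u = true := ext_range (a := 185086) (len := 94) h1969 m2_1969
  have h1971 : ∀ u < 185274, (fun u => chkFix tab mwordsA u) u = true := ext_range (a := 185180) (len := 94) h1970 m2_1970
  have h1972 : ∀ u < 185368, (fun u => chkFix tab mwordsA u) u = true := ext_range (a := 185274) (len := 94) h1971 m2_1971
  have h1973 : ∀ u < 185462, (fun u => chkFix tab mwordsA u) u = true := ext_range (a := 185368) (len := 94) h1972 m2_1972
  have h1974 : ∀ u < 185556, (fun u => chkFix tab mwordsA u) u = true := ext_range (a := 185462) (len := 94) h1973 m2_1973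
  have h1975 : ∀ u < 185650, (fun u => chkFix tab mwordsA u) u = true := ext_range (a := 185556) (len := 94) h1974 m2_1974
  have h1976 : ∀ u < 185744, (fun u => chkFix tab mwordsA u) u = true := ext_range (a := 185650) (len := 94) h1975 m2_1975
  have h1977 : ∀ u < 185838, (fun u => chkFix tab mwordsA u) u = true := ext_range (a := 185744) (len := 94) h1976 m2_1976
  have h1978 : ∀ u < 185932, (fun u => chkFix tab mwordsA u) u = true := ext_range (a := 185838) (len := 94) h1977 m2_1977
  have h1979 : ∀ u < 186026, (fun u => chkFix tab mwordsA u) u = true := ext_range (a := 185932) (len := 94) h1978 m2_1978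
  have h1980 : ∀ u < 186120, (fun u => chkFix tab mwordsA u) u = true := ext_range (a := 186026) (len := 94) h1979 m2_1979
  have h1981 : ∀ u < 186214, (fun u => chkFix tab mwordsA u) u = true := ext_range (a := 186120) (len := 94) h1980 m2_1980
  have h1982 : ∀ u < 186308, (fun u => chkFix tab mwordsA u) u = true := ext_range (a := 186214) (len := 94) h1981 m2_1981
  have h1983 : ∀ u < 186402, (fun u => chkFix tab mwordsA u) u = true := ext_range (a := 186308) (len := 94) h1982 m2_1982
  have h1984 : ∀ u < 186496, (fun u => chkFix tab mwordsA u) u = true := ext_range (a := 186402) (len := 94) h1983 m2_1983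
  have h1985 : ∀ u < 186590, (fun u => chkFix tab mwordsA u) u = true := ext_range (a := 186496) (len := 94) h1984 m2_1984
  have h1986 : ∀ u < 186684, (fun u => chkFix tab mwordsA u) u = true := ext_range (a := 186590) (len := 94) h1985 m2_1985
  have h1987 : ∀ u < 186778, (fun u => chkFix tab mwordsA u) u = true := ext_range (a := 186684) (len := 94) h1986 m2_1986
  have h1988 : ∀ u < 186872, (fun u => chkFix tab mwordsA u) u = true := ext_range (a := 186778) (len := 94) h1987 m2_1987
  have h1989 : ∀ u < 186966, (fun u => chkFix tab mwordsA u) u = true := ext_range (a := 186872) (len := 94) h1988 m2_1988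
  have h1990 : ∀ u < 187060, (fun u => chkFix tab mwordsA u) u = true := ext_range (a := 186966) (len := 94) h1989 m2_1989
  have h1991 : ∀ u < 187154, (fun u => chkFix tab mwordsA u) u = true := ext_range (a := 187060) (len := 94) h1990 m2_1990
  have h1992 : ∀ u < 187248, (fun u => chkFix tab mwordsA u) u = true := ext_range (a := 187154) (len := 94) h1991 m2_1991
  have h1993 : ∀ u < 187342, (fun u => chkFix tab mwordsA u) u = true := ext_range (a := 187248) (len := 94) h1992 m2_1992
  have h1994 : ∀ u < 187436, (fun u => chkFix tab mwordsA u) u = true := ext_range (a := 187342) (len := 94) h1993 m2_1993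
  have h1995 : ∀ u < 187530, (fun u => chkFix tab mwordsA u) u = true := ext_range (a := 187436) (len := 94) h1994 m2_1994
  have h1996 : ∀ u < 187624, (fun u => chkFix tab mwordsA u) u = true := ext_range (a := 187530) (len := 94) h1995 m2_1995
  have h1997 : ∀ u < 187718, (fun u => chkFix tab mwordsA u) u = true := ext_range (a := 187624) (len := 94) h1996 m2_1996
  have h1998 : ∀ u < 187812, (fun u => chkFix tab mwordsA u) u = true := ext_range (a := 187718) (len := 94) h1997 m2_1997
  have h1999 : ∀ u < 187906, (fun u => chkFix tab mwordsA u) u = true := ext_range (a := 187812) (len := 94) h1998 m2_1998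
  have h2000 : ∀ u < 188000, (fun u => chkFix tab mwordsA u) u = true := ext_range (a := 187906) (len := 94) h1999 m2_1999
  have h2001 : ∀ u < 188094, (fun u => chkFix tab mwordsA u) u = true := ext_range (a := 188000) (len := 94) h2000 m2_2000
  have h2002 : ∀ u < 188188, (fun u => chkFix tab mwordsA u) u = true := ext_range (a := 188094) (len := 94) h2001 m2_2001
  have h2003 : ∀ u < 188282, (fun u => chkFix tab mwordsA u) u = true := ext_range (a := 188188) (len := 94) h2002 m2_2002
  have h2004 : ∀ u < 188376, (fun u => chkFix tab mwordsA u) u = true := ext_range (a := 188282) (len := 94) h2003 m2_2003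
  have h2005 : ∀ u < 188470, (fun u => chkFix tab mwordsA u) u = true := ext_range (a := 188376) (len := 94) h2004 m2_2004
  have h2006 : ∀ u < 188564, (fun u => chkFix tab mwordsA u) u = true := ext_range (a := 188470) (len := 94) h2005 m2_2005
  have h2007 : ∀ u < 188658, (fun u => chkFix tab mwordsA u) u = true := ext_range (a := 188564) (len := 94) h2006 m2_2006
  have h2008 : ∀ u < 188752, (fun u => chkFix tab mwordsA u) u = true := ext_range (a := 188658) (len := 94) h2007 m2_2007
  have h2009 : ∀ u < 188846, (fun u => chkFix tab mwordsA u) u = true := ext_range (a := 188752) (len := 94) h2008 m2_2008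
  have h2010 : ∀ u < 188940, (fun u => chkFix tab mwordsA u) u = true := ext_range (a := 188846) (len := 94) h2009 m2_2009
  have h2011 : ∀ u < 189034, (fun u => chkFix tab mwordsA u) u = true := ext_range (a := 188940) (len := 94) h2010 m2_2010
  have h2012 : ∀ u < 189128, (fun u => chkFix tab mwordsA u) u = true := ext_range (a := 189034) (len := 94) h2011 m2_2011
  have h2013 : ∀ u < 189222, (fun u => chkFix tab mwordsA u) u = true := ext_range (a := 189128) (len := 94) h2012 m2_2012
  have h2014 : ∀ u < 189316, (fun u => chkFix tab mwordsA u) u = true := ext_range (a := 189222) (len := 94) h2013 m2_2013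
  have h2015 : ∀ u < 189410, (fun u => chkFix tab mwordsA u) u = true := ext_range (a := 189316) (len := 94) h2014 m2_2014
  have h2016 : ∀ u < 189504, (fun u => chkFix tab mwordsA u) u = true := ext_range (a := 189410) (len := 94) h2015 m2_2015
  have h2017 : ∀ u < 189598, (fun u => chkFix tab mwordsA u) u = true := ext_range (a := 189504) (len := 94) h2016 m2_2016
  have h2018 : ∀ u < 189692, (fun u => chkFix tab mwordsA u) u = true := ext_range (a := 189598) (len := 94) h2017 m2_2017
  have h2019 : ∀ u < 189786, (fun u => chkFix tab mwordsA u) u = true := ext_range (a := 189692) (len := 94) h2018 m2_2018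
  have h2020 : ∀ u < 189880, (fun u => chkFix tab mwordsA u) u = true := ext_range (a := 189786) (len := 94) h2019 m2_2019
  have h2021 : ∀ u < 189974, (fun u => chkFix tab mwordsA u) u = true := ext_range (a := 189880) (len := 94) h2020 m2_2020
  have h2022 : ∀ u < 190068, (fun u => chkFix tab mwordsA u) u = true := ext_range (a := 189974) (len := 94) h2021 m2_2021
  have h2023 : ∀ u < 190162, (fun u => chkFix tab mwordsA u) u = true := ext_range (a := 190068) (len := 94) h2022 m2_2022
  have h2024 : ∀ u < 190256, (fun u => chkFix tab mwordsA u) u = true := ext_range (a := 190162) (len := 94) h2023 m2_2023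
  have h2025 : ∀ u < 190350, (fun u => chkFix tab mwordsA u) u = true := ext_range (a := 190256) (len := 94) h2024 m2_2024
  have h2026 : ∀ u < 190444, (fun u => chkFix tab mwordsA u) u = true := ext_range (a := 190350) (len := 94) h2025 m2_2025
  have h2027 : ∀ u < 190538, (fun u => chkFix tab mwordsA u) u = true := ext_range (a := 190444) (len := 94) h2026 m2_2026
  have h2028 : ∀ u < 190632, (fun u => chkFix tab mwordsA u) u = true := ext_range (a := 190538) (len := 94) h2027 m2_2027
  have h2029 : ∀ u < 190726, (fun u => chkFix tab mwordsA u) u = true := ext_range (a := 190632) (len := 94) h2028 m2_2028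
  have h2030 : ∀ u < 190820, (fun u => chkFix tab mwordsA u) u = true := ext_range (a := 190726) (len := 94) h2029 m2_2029
  have h2031 : ∀ u < 190914, (fun u => chkFix tab mwordsA u) u = true := ext_range (a := 190820) (len := 94) h2030 m2_2030
  have h2032 : ∀ u < 191008, (fun u => chkFix tab mwordsA u) u = true := ext_range (a := 190914) (len := 94) h2031 m2_2031
  have h2033 : ∀ u < 191102, (fun u => chkFix tab mwordsA u) u = true := ext_range (a := 191008) (len := 94) h2032 m2_2032
  have h2034 : ∀ u < 191196, (fun u => chkFix tab mwordsA u) u = true := ext_range (a := 191102) (len := 94) h2033 m2_2033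
  have h2035 : ∀ u < 191290, (fun u => chkFix tab mwordsA u) u = true := ext_range (a := 191196) (len := 94) h2034 m2_2034
  have h2036 : ∀ u < 191384, (fun u => chkFix tab mwordsA u) u = true := ext_range (a := 191290) (len := 94) h2035 m2_2035
  have h2037 : ∀ u < 191478, (fun u => chkFix tab mwordsA u) u = true := ext_range (a := 191384) (len := 94) h2036 m2_2036
  have h2038 : ∀ u < 191572, (fun u => chkFix tab mwordsA u) u = true := ext_range (a := 191478) (len := 94) h2037 m2_2037
  have h2039 : ∀ u < 191666, (fun u => chkFix tab mwordsA u) u = true := ext_range (a := 191572) (len := 94) h2038 m2_2038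
  have h2040 : ∀ u < 191760, (fun u => chkFix tab mwordsA u) u = true := ext_range (a := 191666) (len := 94) h2039 m2_2039
  have h2041 : ∀ u < 191854, (fun u => chkFix tab mwordsA u) u = true := ext_range (a := 191760) (len := 94) h2040 m2_2040
  have h2042 : ∀ u < 191948, (fun u => chkFix tab mwordsA u) u = true := ext_range (a := 191854) (len := 94) h2041 m2_2041
  have h2043 : ∀ u < 192042, (fun u => chkFix tab mwordsA u) u = true := ext_range (a := 191948) (len := 94) h2042 m2_2042
  have h2044 : ∀ u < 192136, (fun u => chkFix tab mwordsA u) u = true := ext_range (a := 192042) (len := 94) h2043 m2_2043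
  have h2045 : ∀ u < 192230, (fun u => chkFix tab mwordsA u) u = true := ext_range (a := 192136) (len := 94) h2044 m2_2044
  have h2046 : ∀ u < 192324, (fun u => chkFix tab mwordsA u) u = true := ext_range (a := 192230) (len := 94) h2045 m2_2045
  have h2047 : ∀ u < 192418, (fun u => chkFix tab mwordsA u) u = true := ext_range (a := 192324) (len := 94) h2046 m2_2046
  have h2048 : ∀ u < 192512, (fun u => chkFix tab mwordsA u) u = true := ext_range (a := 192418) (len := 94) h2047 m2_2047
  have h2049 : ∀ u < 192606, (fun u => chkFix tab mwordsA u) u = true := ext_range (a := 192512) (len := 94) h2048 m2_2048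
  have h2050 : ∀ u < 192700, (fun u => chkFix tab mwordsA u) u = true := ext_range (a := 192606) (len := 94) h2049 m2_2049
  have h2051 : ∀ u < 192794, (fun u => chkFix tab mwordsA u) u = true := ext_range (a := 192700) (len := 94) h2050 m2_2050
  have h2052 : ∀ u < 192888, (fun u => chkFix tab mwordsA u) u = true := ext_range (a := 192794) (len := 94) h2051 m2_2051
  have h2053 : ∀ u < 192982, (fun u => chkFix tab mwordsA u) u = true := ext_range (a := 192888) (len := 94) h2052 m2_2052
  have h2054 : ∀ u < 193076, (fun u => chkFix tab mwordsA u) u = true := ext_range (a := 192982) (len := 94) h2053 m2_2053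
  have h2055 : ∀ u < 193170, (fun u => chkFix tab mwordsA u) u = true := ext_range (a := 193076) (len := 94) h2054 m2_2054
  have h2056 : ∀ u < 193264, (fun u => chkFix tab mwordsA u) u = true := ext_range (a := 193170) (len := 94) h2055 m2_2055
  have h2057 : ∀ u < 193358, (fun u => chkFix tab mwordsA u) u = true := ext_range (a := 193264) (len := 94) h2056 m2_2056
  have h2058 : ∀ u < 193452, (fun u => chkFix tab mwordsA u) u = true := ext_range (a := 193358) (len := 94) h2057 m2_2057
  have h2059 : ∀ u < 193546, (fun u => chkFix tab mwordsA u) u = true := ext_range (a := 193452) (len := 94) h2058 m2_2058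
  have h2060 : ∀ u < 193640, (fun u => chkFix tab mwordsA u) u = true := ext_range (a := 193546) (len := 94) h2059 m2_2059
  have h2061 : ∀ u < 193734, (fun u => chkFix tab mwordsA u) u = true := ext_range (a := 193640) (len := 94) h2060 m2_2060
  have h2062 : ∀ u < 193828, (fun u => chkFix tab mwordsA u) u = true := ext_range (a := 193734) (len := 94) h2061 m2_2061
  have h2063 : ∀ u < 193922, (fun u => chkFix tab mwordsA u) u = true := ext_range (a := 193828) (len := 94) h2062 m2_2062
  have h2064 : ∀ u < 194016, (fun u => chkFix tab mwordsA u) u = true := ext_range (a := 193922) (len := 94) h2063 m2_2063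
  have h2065 : ∀ u < 194110, (fun u => chkFix tab mwordsA u) u = true := ext_range (a := 194016) (len := 94) h2064 m2_2064
  have h2066 : ∀ u < 194204, (fun u => chkFix tab mwordsA u) u = true := ext_range (a := 194110) (len := 94) h2065 m2_2065
  have h2067 : ∀ u < 194298, (fun u => chkFix tab mwordsA u) u = true := ext_range (a := 194204) (len := 94) h2066 m2_2066
  have h2068 : ∀ u < 194392, (fun u => chkFix tab mwordsA u) u = true := ext_range (a := 194298) (len := 94) h2067 m2_2067
  have h2069 : ∀ u < 194486, (fun u => chkFix tab mwordsA u) u = true := ext_range (a := 194392) (len := 94) h2068 m2_2068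
  have h2070 : ∀ u < 194580, (fun u => chkFix tab mwordsA u) u = true := ext_range (a := 194486) (len := 94) h2069 m2_2069
  have h2071 : ∀ u < 194674, (fun u => chkFix tab mwordsA u) u = true := ext_range (a := 194580) (len := 94) h2070 m2_2070
  have h2072 : ∀ u < 194768, (fun u => chkFix tab mwordsA u) u = true := ext_range (a := 194674) (len := 94) h2071 m2_2071
  have h2073 : ∀ u < 194862, (fun u => chkFix tab mwordsA u) u = true := ext_range (a := 194768) (len := 94) h2072 m2_2072
  have h2074 : ∀ u < 194956, (fun u => chkFix tab mwordsA u) u = true := ext_range (a := 194862) (len := 94) h2073 m2_2073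
  have h2075 : ∀ u < 195050, (fun u => chkFix tab mwordsA u) u = true := ext_range (a := 194956) (len := 94) h2074 m2_2074
  have h2076 : ∀ u < 195144, (fun u => chkFix tab mwordsA u) u = true := ext_range (a := 195050) (len := 94) h2075 m2_2075
  have h2077 : ∀ u < 195238, (fun u => chkFix tab mwordsA u) u = true := ext_range (a := 195144) (len := 94) h2076 m2_2076
  have h2078 : ∀ u < 195332, (fun u => chkFix tab mwordsA u) u = true := ext_range (a := 195238) (len := 94) h2077 m2_2077
  have h2079 : ∀ u < 195426, (fun u => chkFix tab mwordsA u) u = true := ext_range (a := 195332) (len := 94) h2078 m2_2078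
  have h2080 : ∀ u < 195520, (fun u => chkFix tab mwordsA u) u = true := ext_range (a := 195426) (len := 94) h2079 m2_2079
  have h2081 : ∀ u < 195614, (fun u => chkFix tab mwordsA u) u = true := ext_range (a := 195520) (len := 94) h2080 m2_2080
  have h2082 : ∀ u < 195708, (fun u => chkFix tab mwordsA u) u = true := ext_range (a := 195614) (len := 94) h2081 m2_2081
  have h2083 : ∀ u < 195802, (fun u => chkFix tab mwordsA u) u = true := ext_range (a := 195708) (len := 94) h2082 m2_2082
  have h2084 : ∀ u < 195896, (fun u => chkFix tab mwordsA u) u = true := ext_range (a := 195802) (len := 94) h2083 m2_2083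
  have h2085 : ∀ u < 195990, (fun u => chkFix tab mwordsA u) u = true := ext_range (a := 195896) (len := 94) h2084 m2_2084
  have h2086 : ∀ u < 196084, (fun u => chkFix tab mwordsA u) u = true := ext_range (a := 195990) (len := 94) h2085 m2_2085
  have h2087 : ∀ u < 196178, (fun u => chkFix tab mwordsA u) u = true := ext_range (a := 196084) (len := 94) h2086 m2_2086
  have h2088 : ∀ u < 196272, (fun u => chkFix tab mwordsA u) u = true := ext_range (a := 196178) (len := 94) h2087 m2_2087
  have h2089 : ∀ u < 196366, (fun u => chkFix tab mwordsA u) u = true := ext_range (a := 196272) (len := 94) h2088 m2_2088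
  have h2090 : ∀ u < 196460, (fun u => chkFix tab mwordsA u) u = true := ext_range (a := 196366) (len := 94) h2089 m2_2089
  have h2091 : ∀ u < 196554, (fun u => chkFix tab mwordsA u) u = true := ext_range (a := 196460) (len := 94) h2090 m2_2090
  have h2092 : ∀ u < 196648, (fun u => chkFix tab mwordsA u) u = true := ext_range (a := 196554) (len := 94) h2091 m2_2091
  have h2093 : ∀ u < 196742, (fun u => chkFix tab mwordsA u) u = true := ext_range (a := 196648) (len := 94) h2092 m2_2092
  have h2094 : ∀ u < 196836, (fun u => chkFix tab mwordsA u) u = true := ext_range (a := 196742) (len := 94) h2093 m2_2093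
  have h2095 : ∀ u < 196930, (fun u => chkFix tab mwordsA u) u = true := ext_range (a := 196836) (len := 94) h2094 m2_2094
  have h2096 : ∀ u < 197024, (fun u => chkFix tab mwordsA u) u = true := ext_range (a := 196930) (len := 94) h2095 m2_2095
  have h2097 : ∀ u < 197118, (fun u => chkFix tab mwordsA u) u = true := ext_range (a := 197024) (len := 94) h2096 m2_2096
  have h2098 : ∀ u < 197212, (fun u => chkFix tab mwordsA u) u = true := ext_range (a := 197118) (len := 94) h2097 m2_2097
  have h2099 : ∀ u < 197306, (fun u => chkFix tab mwordsA u) u = true := ext_range (a := 197212) (len := 94) h2098 m2_2098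
  have h2100 : ∀ u < 197400, (fun u => chkFix tab mwordsA u) u = true := ext_range (a := 197306) (len := 94) h2099 m2_2099
  have h2101 : ∀ u < 197494, (fun u => chkFix tab mwordsA u) u = true := ext_range (a := 197400) (len := 94) h2100 m2_2100
  have h2102 : ∀ u < 197588, (fun u => chkFix tab mwordsA u) u = true := ext_range (a := 197494) (len := 94) h2101 m2_2101
  have h2103 : ∀ u < 197682, (fun u => chkFix tab mwordsA u) u = true := ext_range (a := 197588) (len := 94) h2102 m2_2102
  have h2104 : ∀ u < 197776, (fun u => chkFix tab mwordsA u) u = true := ext_range (a := 197682) (len := 94) h2103 m2_2103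
  have h2105 : ∀ u < 197870, (fun u => chkFix tab mwordsA u) u = true := ext_range (a := 197776) (len := 94) h2104 m2_2104
  have h2106 : ∀ u < 197964, (fun u => chkFix tab mwordsA u) u = true := ext_range (a := 197870) (len := 94) h2105 m2_2105
  have h2107 : ∀ u < 198058, (fun u => chkFix tab mwordsA u) u = true := ext_range (a := 197964) (len := 94) h2106 m2_2106
  have h2108 : ∀ u < 198152, (fun u => chkFix tab mwordsA u) u = true := ext_range (a := 198058) (len := 94) h2107 m2_2107
  have h2109 : ∀ u < 198246, (fun u => chkFix tab mwordsA u) u = true := ext_range (a := 198152) (len := 94) h2108 m2_2108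
  have h2110 : ∀ u < 198340, (fun u => chkFix tab mwordsA u) u = true := ext_range (a := 198246) (len := 94) h2109 m2_2109
  have h2111 : ∀ u < 198434, (fun u => chkFix tab mwordsA u) u = true := ext_range (a := 198340) (len := 94) h2110 m2_2110
  have h2112 : ∀ u < 198528, (fun u => chkFix tab mwordsA u) u = true := ext_range (a := 198434) (len := 94) h2111 m2_2111
  have h2113 : ∀ u < 198622, (fun u => chkFix tab mwordsA u) u = true := ext_range (a := 198528) (len := 94) h2112 m2_2112
  have h2114 : ∀ u < 198716, (fun u => chkFix tab mwordsA u) u = true := ext_range (a := 198622) (len := 94) h2113 m2_2113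
  have h2115 : ∀ u < 198810, (fun u => chkFix tab mwordsA u) u = true := ext_range (a := 198716) (len := 94) h2114 m2_2114
  have h2116 : ∀ u < 198904, (fun u => chkFix tab mwordsA u) u = true := ext_range (a := 198810) (len := 94) h2115 m2_2115
  have h2117 : ∀ u < 198998, (fun u => chkFix tab mwordsA u) u = true := ext_range (a := 198904) (len := 94) h2116 m2_2116
  have h2118 : ∀ u < 199092, (fun u => chkFix tab mwordsA u) u = true := ext_range (a := 198998) (len := 94) h2117 m2_2117
  have h2119 : ∀ u < 199186, (fun u => chkFix tab mwordsA u) u = true := ext_range (a := 199092) (len := 94) h2118 m2_2118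
  have h2120 : ∀ u < 199280, (fun u => chkFix tab mwordsA u) u = true := ext_range (a := 199186) (len := 94) h2119 m2_2119
  have h2121 : ∀ u < 199374, (fun u => chkFix tab mwordsA u) u = true := ext_range (a := 199280) (len := 94) h2120 m2_2120
  have h2122 : ∀ u < 199468, (fun u => chkFix tab mwordsA u) u = true := ext_range (a := 199374) (len := 94) h2121 m2_2121
  have h2123 : ∀ u < 199562, (fun u => chkFix tab mwordsA u) u = true := ext_range (a := 199468) (len := 94) h2122 m2_2122
  have h2124 : ∀ u < 199656, (fun u => chkFix tab mwordsA u) u = true := ext_range (a := 199562) (len := 94) h2123 m2_2123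
  have h2125 : ∀ u < 199750, (fun u => chkFix tab mwordsA u) u = true := ext_range (a := 199656) (len := 94) h2124 m2_2124
  have h2126 : ∀ u < 199844, (fun u => chkFix tab mwordsA u) u = true := ext_range (a := 199750) (len := 94) h2125 m2_2125
  have h2127 : ∀ u < 199938, (fun u => chkFix tab mwordsA u) u = true := ext_range (a := 199844) (len := 94) h2126 m2_2126
  have h2128 : ∀ u < 200032, (fun u => chkFix tab mwordsA u) u = true := ext_range (a := 199938) (len := 94) h2127 m2_2127
  have h2129 : ∀ u < 200126, (fun u => chkFix tab mwordsA u) u = true := ext_range (a := 200032) (len := 94) h2128 m2_2128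
  have h2130 : ∀ u < 200220, (fun u => chkFix tab mwordsA u) u = true := ext_range (a := 200126) (len := 94) h2129 m2_2129
  have h2131 : ∀ u < 200314, (fun u => chkFix tab mwordsA u) u = true := ext_range (a := 200220) (len := 94) h2130 m2_2130
  have h2132 : ∀ u < 200408, (fun u => chkFix tab mwordsA u) u = true := ext_range (a := 200314) (len := 94) h2131 m2_2131
  have h2133 : ∀ u < 200502, (fun u => chkFix tab mwordsA u) u = true := ext_range (a := 200408) (len := 94) h2132 m2_2132
  have h2134 : ∀ u < 200596, (fun u => chkFix tab mwordsA u) u = true := ext_range (a := 200502) (len := 94) h2133 m2_2133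
  have h2135 : ∀ u < 200690, (fun u => chkFix tab mwordsA u) u = true := ext_range (a := 200596) (len := 94) h2134 m2_2134
  have h2136 : ∀ u < 200784, (fun u => chkFix tab mwordsA u) u = true := ext_range (a := 200690) (len := 94) h2135 m2_2135
  have h2137 : ∀ u < 200878, (fun u => chkFix tab mwordsA u) u = true := ext_range (a := 200784) (len := 94) h2136 m2_2136
  have h2138 : ∀ u < 200972, (fun u => chkFix tab mwordsA u) u = true := ext_range (a := 200878) (len := 94) h2137 m2_2137
  have h2139 : ∀ u < 201066, (fun u => chkFix tab mwordsA u) u = true := ext_range (a := 200972) (len := 94) h2138 m2_2138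
  have h2140 : ∀ u < 201160, (fun u => chkFix tab mwordsA u) u = true := ext_range (a := 201066) (len := 94) h2139 m2_2139
  have h2141 : ∀ u < 201254, (fun u => chkFix tab mwordsA u) u = true := ext_range (a := 201160) (len := 94) h2140 m2_2140
  have h2142 : ∀ u < 201348, (fun u => chkFix tab mwordsA u) u = true := ext_range (a := 201254) (len := 94) h2141 m2_2141
  have h2143 : ∀ u < 201442, (fun u => chkFix tab mwordsA u) u = true := ext_range (a := 201348) (len := 94) h2142 m2_2142
  have h2144 : ∀ u < 201536, (fun u => chkFix tab mwordsA u) u = true := ext_range (a := 201442) (len := 94) h2143 m2_2143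
  have h2145 : ∀ u < 201630, (fun u => chkFix tab mwordsA u) u = true := ext_range (a := 201536) (len := 94) h2144 m2_2144
  have h2146 : ∀ u < 201724, (fun u => chkFix tab mwordsA u) u = true := ext_range (a := 201630) (len := 94) h2145 m2_2145
  have h2147 : ∀ u < 201818, (fun u => chkFix tab mwordsA u) u = true := ext_range (a := 201724) (len := 94) h2146 m2_2146
  have h2148 : ∀ u < 201912, (fun u => chkFix tab mwordsA u) u = true := ext_range (a := 201818) (len := 94) h2147 m2_2147
  have h2149 : ∀ u < 202006, (fun u => chkFix tab mwordsA u) u = true := ext_range (a := 201912) (len := 94) h2148 m2_2148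
  have h2150 : ∀ u < 202100, (fun u => chkFix tab mwordsA u) u = true := ext_range (a := 202006) (len := 94) h2149 m2_2149
  have h2151 : ∀ u < 202194, (fun u => chkFix tab mwordsA u) u = true := ext_range (a := 202100) (len := 94) h2150 m2_2150
  have h2152 : ∀ u < 202288, (fun u => chkFix tab mwordsA u) u = true := ext_range (a := 202194) (len := 94) h2151 m2_2151
  have h2153 : ∀ u < 202382, (fun u => chkFix tab mwordsA u) u = true := ext_range (a := 202288) (len := 94) h2152 m2_2152
  have h2154 : ∀ u < 202476, (fun u => chkFix tab mwordsA u) u = true := ext_range (a := 202382) (len := 94) h2153 m2_2153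
  have h2155 : ∀ u < 202570, (fun u => chkFix tab mwordsA u) u = true := ext_range (a := 202476) (len := 94) h2154 m2_2154
  have h2156 : ∀ u < 202664, (fun u => chkFix tab mwordsA u) u = true := ext_range (a := 202570) (len := 94) h2155 m2_2155
  have h2157 : ∀ u < 202758, (fun u => chkFix tab mwordsA u) u = true := ext_range (a := 202664) (len := 94) h2156 m2_2156
  have h2158 : ∀ u < 202852, (fun u => chkFix tab mwordsA u) u = true := ext_range (a := 202758) (len := 94) h2157 m2_2157
  have h2159 : ∀ u < 202946, (fun u => chkFix tab mwordsA u) u = true := ext_range (a := 202852) (len := 94) h2158 m2_2158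
  have h2160 : ∀ u < 203040, (fun u => chkFix tab mwordsA u) u = true := ext_range (a := 202946) (len := 94) h2159 m2_2159
  have h2161 : ∀ u < 203134, (fun u => chkFix tab mwordsA u) u = true := ext_range (a := 203040) (len := 94) h2160 m2_2160
  have h2162 : ∀ u < 203228, (fun u => chkFix tab mwordsA u) u = true := ext_range (a := 203134) (len := 94) h2161 m2_2161
  have h2163 : ∀ u < 203322, (fun u => chkFix tab mwordsA u) u = true := ext_range (a := 203228) (len := 94) h2162 m2_2162
  have h2164 : ∀ u < 203416, (fun u => chkFix tab mwordsA u) u = true := ext_range (a := 203322) (len := 94) h2163 m2_2163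
  have h2165 : ∀ u < 203510, (fun u => chkFix tab mwordsA u) u = true := ext_range (a := 203416) (len := 94) h2164 m2_2164
  have h2166 : ∀ u < 203604, (fun u => chkFix tab mwordsA u) u = true := ext_range (a := 203510) (len := 94) h2165 m2_2165
  have h2167 : ∀ u < 203698, (fun u => chkFix tab mwordsA u) u = true := ext_range (a := 203604) (len := 94) h2166 m2_2166
  have h2168 : ∀ u < 203792, (fun u => chkFix tab mwordsA u) u = true := ext_range (a := 203698) (len := 94) h2167 m2_2167
  have h2169 : ∀ u < 203886, (fun u => chkFix tab mwordsA u) u = true := ext_range (a := 203792) (len := 94) h2168 m2_2168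
  have h2170 : ∀ u < 203980, (fun u => chkFix tab mwordsA u) u = true := ext_range (a := 203886) (len := 94) h2169 m2_2169
  have h2171 : ∀ u < 204074, (fun u => chkFix tab mwordsA u) u = true := ext_range (a := 203980) (len := 94) h2170 m2_2170
  have h2172 : ∀ u < 204168, (fun u => chkFix tab mwordsA u) u = true := ext_range (a := 204074) (len := 94) h2171 m2_2171
  have h2173 : ∀ u < 204262, (fun u => chkFix tab mwordsA u) u = true := ext_range (a := 204168) (len := 94) h2172 m2_2172
  have h2174 : ∀ u < 204356, (fun u => chkFix tab mwordsA u) u = true := ext_range (a := 204262) (len := 94) h2173 m2_2173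
  have h2175 : ∀ u < 204450, (fun u => chkFix tab mwordsA u) u = true := ext_range (a := 204356) (len := 94) h2174 m2_2174
  have h2176 : ∀ u < 204544, (fun u => chkFix tab mwordsA u) u = true := ext_range (a := 204450) (len := 94) h2175 m2_2175
  have h2177 : ∀ u < 204638, (fun u => chkFix tab mwordsA u) u = true := ext_range (a := 204544) (len := 94) h2176 m2_2176
  have h2178 : ∀ u < 204732, (fun u => chkFix tab mwordsA u) u = true := ext_range (a := 204638) (len := 94) h2177 m2_2177
  have h2179 : ∀ u < 204826, (fun u => chkFix tab mwordsA u) u = true := ext_range (a := 204732) (len := 94) h2178 m2_2178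
  have h2180 : ∀ u < 204920, (fun u => chkFix tab mwordsA u) u = true := ext_range (a := 204826) (len := 94) h2179 m2_2179
  have h2181 : ∀ u < 205014, (fun u => chkFix tab mwordsA u) u = true := ext_range (a := 204920) (len := 94) h2180 m2_2180
  have h2182 : ∀ u < 205108, (fun u => chkFix tab mwordsA u) u = true := ext_range (a := 205014) (len := 94) h2181 m2_2181
  have h2183 : ∀ u < 205202, (fun u => chkFix tab mwordsA u) u = true := ext_range (a := 205108) (len := 94) h2182 m2_2182
  have h2184 : ∀ u < 205296, (fun u => chkFix tab mwordsA u) u = true := ext_range (a := 205202) (len := 94) h2183 m2_2183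
  have h2185 : ∀ u < 205390, (fun u => chkFix tab mwordsA u) u = true := ext_range (a := 205296) (len := 94) h2184 m2_2184
  have h2186 : ∀ u < 205484, (fun u => chkFix tab mwordsA u) u = true := ext_range (a := 205390) (len := 94) h2185 m2_2185
  have h2187 : ∀ u < 205578, (fun u => chkFix tab mwordsA u) u = true := ext_range (a := 205484) (len := 94) h2186 m2_2186
  have h2188 : ∀ u < 205672, (fun u => chkFix tab mwordsA u) u = true := ext_range (a := 205578) (len := 94) h2187 m2_2187
  have h2189 : ∀ u < 205766, (fun u => chkFix tab mwordsA u) u = true := ext_range (a := 205672) (len := 94) h2188 m2_2188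
  have h2190 : ∀ u < 205860, (fun u => chkFix tab mwordsA u) u = true := ext_range (a := 205766) (len := 94) h2189 m2_2189
  have h2191 : ∀ u < 205954, (fun u => chkFix tab mwordsA u) u = true := ext_range (a := 205860) (len := 94) h2190 m2_2190
  have h2192 : ∀ u < 206048, (fun u => chkFix tab mwordsA u) u = true := ext_range (a := 205954) (len := 94) h2191 m2_2191
  have h2193 : ∀ u < 206142, (fun u => chkFix tab mwordsA u) u = true := ext_range (a := 206048) (len := 94) h2192 m2_2192
  have h2194 : ∀ u < 206236, (fun u => chkFix tab mwordsA u) u = true := ext_range (a := 206142) (len := 94) h2193 m2_2193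
  have h2195 : ∀ u < 206330, (fun u => chkFix tab mwordsA u) u = true := ext_range (a := 206236) (len := 94) h2194 m2_2194
  have h2196 : ∀ u < 206424, (fun u => chkFix tab mwordsA u) u = true := ext_range (a := 206330) (len := 94) h2195 m2_2195
  have h2197 : ∀ u < 206518, (fun u => chkFix tab mwordsA u) u = true := ext_range (a := 206424) (len := 94) h2196 m2_2196
  have h2198 : ∀ u < 206612, (fun u => chkFix tab mwordsA u) u = true := ext_range (a := 206518) (len := 94) h2197 m2_2197
  have h2199 : ∀ u < 206706, (fun u => chkFix tab mwordsA u) u = true := ext_range (a := 206612) (len := 94) h2198 m2_2198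
  have h2200 : ∀ u < 206800, (fun u => chkFix tab mwordsA u) u = true := ext_range (a := 206706) (len := 94) h2199 m2_2199
  have h2201 : ∀ u < 206894, (fun u => chkFix tab mwordsA u) u = true := ext_range (a := 206800) (len := 94) h2200 m2_2200
  have h2202 : ∀ u < 206988, (fun u => chkFix tab mwordsA u) u = true := ext_range (a := 206894) (len := 94) h2201 m2_2201
  have h2203 : ∀ u < 207082, (fun u => chkFix tab mwordsA u) u = true := ext_range (a := 206988) (len := 94) h2202 m2_2202
  have h2204 : ∀ u < 207176, (fun u => chkFix tab mwordsA u) u = true := ext_range (a := 207082) (len := 94) h2203 m2_2203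
  have h2205 : ∀ u < 207270, (fun u => chkFix tab mwordsA u) u = true := ext_range (a := 207176) (len := 94) h2204 m2_2204
  have h2206 : ∀ u < 207364, (fun u => chkFix tab mwordsA u) u = true := ext_range (a := 207270) (len := 94) h2205 m2_2205
  have h2207 : ∀ u < 207458, (fun u => chkFix tab mwordsA u) u = true := ext_range (a := 207364) (len := 94) h2206 m2_2206
  have h2208 : ∀ u < 207552, (fun u => chkFix tab mwordsA u) u = true := ext_range (a := 207458) (len := 94) h2207 m2_2207
  have h2209 : ∀ u < 207646, (fun u => chkFix tab mwordsA u) u = true := ext_range (a := 207552) (len := 94) h2208 m2_2208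
  have h2210 : ∀ u < 207740, (fun u => chkFix tab mwordsA u) u = true := ext_range (a := 207646) (len := 94) h2209 m2_2209
  have h2211 : ∀ u < 207834, (fun u => chkFix tab mwordsA u) u = true := ext_range (a := 207740) (len := 94) h2210 m2_2210
  have h2212 : ∀ u < 207928, (fun u => chkFix tab mwordsA u) u = true := ext_range (a := 207834) (len := 94) h2211 m2_2211
  have h2213 : ∀ u < 208022, (fun u => chkFix tab mwordsA u) u = true := ext_range (a := 207928) (len := 94) h2212 m2_2212
  have h2214 : ∀ u < 208116, (fun u => chkFix tab mwordsA u) u = true := ext_range (a := 208022) (len := 94) h2213 m2_2213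
  have h2215 : ∀ u < 208210, (fun u => chkFix tab mwordsA u) u = true := ext_range (a := 208116) (len := 94) h2214 m2_2214
  have h2216 : ∀ u < 208304, (fun u => chkFix tab mwordsA u) u = true := ext_range (a := 208210) (len := 94) h2215 m2_2215
  have h2217 : ∀ u < 208398, (fun u => chkFix tab mwordsA u) u = true := ext_range (a := 208304) (len := 94) h2216 m2_2216
  have h2218 : ∀ u < 208492, (fun u => chkFix tab mwordsA u) u = true := ext_range (a := 208398) (len := 94) h2217 m2_2217
  have h2219 : ∀ u < 208586, (fun u => chkFix tab mwordsA u) u = true := ext_range (a := 208492) (len := 94) h2218 m2_2218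
  have h2220 : ∀ u < 208680, (fun u => chkFix tab mwordsA u) u = true := ext_range (a := 208586) (len := 94) h2219 m2_2219
  have h2221 : ∀ u < 208774, (fun u => chkFix tab mwordsA u) u = true := ext_range (a := 208680) (len := 94) h2220 m2_2220
  have h2222 : ∀ u < 208868, (fun u => chkFix tab mwordsA u) u = true := ext_range (a := 208774) (len := 94) h2221 m2_2221
  have h2223 : ∀ u < 208962, (fun u => chkFix tab mwordsA u) u = true := ext_range (a := 208868) (len := 94) h2222 m2_2222
  have h2224 : ∀ u < 209056, (fun u => chkFix tab mwordsA u) u = true := ext_range (a := 208962) (len := 94) h2223 m2_2223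
  have h2225 : ∀ u < 209150, (fun u => chkFix tab mwordsA u) u = true := ext_range (a := 209056) (len := 94) h2224 m2_2224
  have h2226 : ∀ u < 209244, (fun u => chkFix tab mwordsA u) u = true := ext_range (a := 209150) (len := 94) h2225 m2_2225
  have h2227 : ∀ u < 209338, (fun u => chkFix tab mwordsA u) u = true := ext_range (a := 209244) (len := 94) h2226 m2_2226
  have h2228 : ∀ u < 209432, (fun u => chkFix tab mwordsA u) u = true := ext_range (a := 209338) (len := 94) h2227 m2_2227
  have h2229 : ∀ u < 209526, (fun u => chkFix tab mwordsA u) u = true := ext_range (a := 209432) (len := 94) h2228 m2_2228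
  have h2230 : ∀ u < 209620, (fun u => chkFix tab mwordsA u) u = true := ext_range (a := 209526) (len := 94) h2229 m2_2229
  have h2231 : ∀ u < 209714, (fun u => chkFix tab mwordsA u) u = true := ext_range (a := 209620) (len := 94) h2230 m2_2230
  have h2232 : ∀ u < 209808, (fun u => chkFix tab mwordsA u) u = true := ext_range (a := 209714) (len := 94) h2231 m2_2231
  have h2233 : ∀ u < 209902, (fun u => chkFix tab mwordsA u) u = true := ext_range (a := 209808) (len := 94) h2232 m2_2232
  have h2234 : ∀ u < 209996, (fun u => chkFix tab mwordsA u) u = true := ext_range (a := 209902) (len := 94) h2233 m2_2233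
  have h2235 : ∀ u < 210090, (fun u => chkFix tab mwordsA u) u = true := ext_range (a := 209996) (len := 94) h2234 m2_2234
  have h2236 : ∀ u < 210184, (fun u => chkFix tab mwordsA u) u = true := ext_range (a := 210090) (len := 94) h2235 m2_2235
  have h2237 : ∀ u < 210278, (fun u => chkFix tab mwordsA u) u = true := ext_range (a := 210184) (len := 94) h2236 m2_2236
  have h2238 : ∀ u < 210372, (fun u => chkFix tab mwordsA u) u = true := ext_range (a := 210278) (len := 94) h2237 m2_2237
  have h2239 : ∀ u < 210466, (fun u => chkFix tab mwordsA u) u = true := ext_range (a := 210372) (len := 94) h2238 m2_2238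
  have h2240 : ∀ u < 210560, (fun u => chkFix tab mwordsA u) u = true := ext_range (a := 210466) (len := 94) h2239 m2_2239
  have h2241 : ∀ u < 210654, (fun u => chkFix tab mwordsA u) u = true := ext_range (a := 210560) (len := 94) h2240 m2_2240
  have h2242 : ∀ u < 210748, (fun u => chkFix tab mwordsA u) u = true := ext_range (a := 210654) (len := 94) h2241 m2_2241
  have h2243 : ∀ u < 210842, (fun u => chkFix tab mwordsA u) u = true := ext_range (a := 210748) (len := 94) h2242 m2_2242
  have h2244 : ∀ u < 210936, (fun u => chkFix tab mwordsA u) u = true := ext_range (a := 210842) (len := 94) h2243 m2_2243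
  have h2245 : ∀ u < 211030, (fun u => chkFix tab mwordsA u) u = true := ext_range (a := 210936) (len := 94) h2244 m2_2244
  have h2246 : ∀ u < 211124, (fun u => chkFix tab mwordsA u) u = true := ext_range (a := 211030) (len := 94) h2245 m2_2245
  have h2247 : ∀ u < 211218, (fun u => chkFix tab mwordsA u) u = true := ext_range (a := 211124) (len := 94) h2246 m2_2246
  have h2248 : ∀ u < 211312, (fun u => chkFix tab mwordsA u) u = true := ext_range (a := 211218) (len := 94) h2247 m2_2247
  have h2249 : ∀ u < 211406, (fun u => chkFix tab mwordsA u) u = true := ext_range (a := 211312) (len := 94) h2248 m2_2248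
  have h2250 : ∀ u < 211500, (fun u => chkFix tab mwordsA u) u = true := ext_range (a := 211406) (len := 94) h2249 m2_2249
  have h2251 : ∀ u < 211594, (fun u => chkFix tab mwordsA u) u = true := ext_range (a := 211500) (len := 94) h2250 m2_2250
  have h2252 : ∀ u < 211688, (fun u => chkFix tab mwordsA u) u = true := ext_range (a := 211594) (len := 94) h2251 m2_2251
  have h2253 : ∀ u < 211782, (fun u => chkFix tab mwordsA u) u = true := ext_range (a := 211688) (len := 94) h2252 m2_2252
  have h2254 : ∀ u < 211876, (fun u => chkFix tab mwordsA u) u = true := ext_range (a := 211782) (len := 94) h2253 m2_2253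
  have h2255 : ∀ u < 211970, (fun u => chkFix tab mwordsA u) u = true := ext_range (a := 211876) (len := 94) h2254 m2_2254
  have h2256 : ∀ u < 212064, (fun u => chkFix tab mwordsA u) u = true := ext_range (a := 211970) (len := 94) h2255 m2_2255
  have h2257 : ∀ u < 212158, (fun u => chkFix tab mwordsA u) u = true := ext_range (a := 212064) (len := 94) h2256 m2_2256
  have h2258 : ∀ u < 212252, (fun u => chkFix tab mwordsA u) u = true := ext_range (a := 212158) (len := 94) h2257 m2_2257
  have h2259 : ∀ u < 212346, (fun u => chkFix tab mwordsA u) u = true := ext_range (a := 212252) (len := 94) h2258 m2_2258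
  have h2260 : ∀ u < 212440, (fun u => chkFix tab mwordsA u) u = true := ext_range (a := 212346) (len := 94) h2259 m2_2259
  have h2261 : ∀ u < 212534, (fun u => chkFix tab mwordsA u) u = true := ext_range (a := 212440) (len := 94) h2260 m2_2260
  have h2262 : ∀ u < 212628, (fun u => chkFix tab mwordsA u) u = true := ext_range (a := 212534) (len := 94) h2261 m2_2261
  have h2263 : ∀ u < 212722, (fun u => chkFix tab mwordsA u) u = true := ext_range (a := 212628) (len := 94) h2262 m2_2262
  have h2264 : ∀ u < 212816, (fun u => chkFix tab mwordsA u) u = true := ext_range (a := 212722) (len := 94) h2263 m2_2263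
  have h2265 : ∀ u < 212910, (fun u => chkFix tab mwordsA u) u = true := ext_range (a := 212816) (len := 94) h2264 m2_2264
  have h2266 : ∀ u < 213004, (fun u => chkFix tab mwordsA u) u = true := ext_range (a := 212910) (len := 94) h2265 m2_2265
  have h2267 : ∀ u < 213098, (fun u => chkFix tab mwordsA u) u = true := ext_range (a := 213004) (len := 94) h2266 m2_2266
  have h2268 : ∀ u < 213192, (fun u => chkFix tab mwordsA u) u = true := ext_range (a := 213098) (len := 94) h2267 m2_2267
  have h2269 : ∀ u < 213286, (fun u => chkFix tab mwordsA u) u = true := ext_range (a := 213192) (len := 94) h2268 m2_2268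
  have h2270 : ∀ u < 213380, (fun u => chkFix tab mwordsA u) u = true := ext_range (a := 213286) (len := 94) h2269 m2_2269
  have h2271 : ∀ u < 213474, (fun u => chkFix tab mwordsA u) u = true := ext_range (a := 213380) (len := 94) h2270 m2_2270
  have h2272 : ∀ u < 213568, (fun u => chkFix tab mwordsA u) u = true := ext_range (a := 213474) (len := 94) h2271 m2_2271
  have h2273 : ∀ u < 213662, (fun u => chkFix tab mwordsA u) u = true := ext_range (a := 213568) (len := 94) h2272 m2_2272
  have h2274 : ∀ u < 213756, (fun u => chkFix tab mwordsA u) u = true := ext_range (a := 213662) (len := 94) h2273 m2_2273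
  have h2275 : ∀ u < 213850, (fun u => chkFix tab mwordsA u) u = true := ext_range (a := 213756) (len := 94) h2274 m2_2274
  have h2276 : ∀ u < 213944, (fun u => chkFix tab mwordsA u) u = true := ext_range (a := 213850) (len := 94) h2275 m2_2275
  have h2277 : ∀ u < 214038, (fun u => chkFix tab mwordsA u) u = true := ext_range (a := 213944) (len := 94) h2276 m2_2276
  have h2278 : ∀ u < 214132, (fun u => chkFix tab mwordsA u) u = true := ext_range (a := 214038) (len := 94) h2277 m2_2277
  have h2279 : ∀ u < 214226, (fun u => chkFix tab mwordsA u) u = true := ext_range (a := 214132) (len := 94) h2278 m2_2278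
  have h2280 : ∀ u < 214320, (fun u => chkFix tab mwordsA u) u = true := ext_range (a := 214226) (len := 94) h2279 m2_2279
  have h2281 : ∀ u < 214414, (fun u => chkFix tab mwordsA u) u = true := ext_range (a := 214320) (len := 94) h2280 m2_2280
  have h2282 : ∀ u < 214508, (fun u => chkFix tab mwordsA u) u = true := ext_range (a := 214414) (len := 94) h2281 m2_2281
  have h2283 : ∀ u < 214602, (fun u => chkFix tab mwordsA u) u = true := ext_range (a := 214508) (len := 94) h2282 m2_2282
  have h2284 : ∀ u < 214696, (fun u => chkFix tab mwordsA u) u = true := ext_range (a := 214602) (len := 94) h2283 m2_2283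
  have h2285 : ∀ u < 214790, (fun u => chkFix tab mwordsA u) u = true := ext_range (a := 214696) (len := 94) h2284 m2_2284
  have h2286 : ∀ u < 214884, (fun u => chkFix tab mwordsA u) u = true := ext_range (a := 214790) (len := 94) h2285 m2_2285
  have h2287 : ∀ u < 214978, (fun u => chkFix tab mwordsA u) u = true := ext_range (a := 214884) (len := 94) h2286 m2_2286
  have h2288 : ∀ u < 215072, (fun u => chkFix tab mwordsA u) u = true := ext_range (a := 214978) (len := 94) h2287 m2_2287
  have h2289 : ∀ u < 215166, (fun u => chkFix tab mwordsA u) u = true := ext_range (a := 215072) (len := 94) h2288 m2_2288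
  have h2290 : ∀ u < 215260, (fun u => chkFix tab mwordsA u) u = true := ext_range (a := 215166) (len := 94) h2289 m2_2289
  have h2291 : ∀ u < 215354, (fun u => chkFix tab mwordsA u) u = true := ext_range (a := 215260) (len := 94) h2290 m2_2290
  have h2292 : ∀ u < 215448, (fun u => chkFix tab mwordsA u) u = true := ext_range (a := 215354) (len := 94) h2291 m2_2291
  have h2293 : ∀ u < 215542, (fun u => chkFix tab mwordsA u) u = true := ext_range (a := 215448) (len := 94) h2292 m2_2292
  have h2294 : ∀ u < 215636, (fun u => chkFix tab mwordsA u) u = true := ext_range (a := 215542) (len := 94) h2293 m2_2293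
  have h2295 : ∀ u < 215730, (fun u => chkFix tab mwordsA u) u = true := ext_range (a := 215636) (len := 94) h2294 m2_2294
  have h2296 : ∀ u < 215824, (fun u => chkFix tab mwordsA u) u = true := ext_range (a := 215730) (len := 94) h2295 m2_2295
  have h2297 : ∀ u < 215918, (fun u => chkFix tab mwordsA u) u = true := ext_range (a := 215824) (len := 94) h2296 m2_2296
  have h2298 : ∀ u < 216012, (fun u => chkFix tab mwordsA u) u = true := ext_range (a := 215918) (len := 94) h2297 m2_2297
  have h2299 : ∀ u < 216106, (fun u => chkFix tab mwordsA u) u = true := ext_range (a := 216012) (len := 94) h2298 m2_2298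
  have h2300 : ∀ u < 216200, (fun u => chkFix tab mwordsA u) u = true := ext_range (a := 216106) (len := 94) h2299 m2_2299
  have h2301 : ∀ u < 216294, (fun u => chkFix tab mwordsA u) u = true := ext_range (a := 216200) (len := 94) h2300 m2_2300
  have h2302 : ∀ u < 216388, (fun u => chkFix tab mwordsA u) u = true := ext_range (a := 216294) (len := 94) h2301 m2_2301
  have h2303 : ∀ u < 216482, (fun u => chkFix tab mwordsA u) u = true := ext_range (a := 216388) (len := 94) h2302 m2_2302
  have h2304 : ∀ u < 216576, (fun u => chkFix tab mwordsA u) u = true := ext_range (a := 216482) (len := 94) h2303 m2_2303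
  have h2305 : ∀ u < 216670, (fun u => chkFix tab mwordsA u) u = true := ext_range (a := 216576) (len := 94) h2304 m2_2304
  have h2306 : ∀ u < 216764, (fun u => chkFix tab mwordsA u) u = true := ext_range (a := 216670) (len := 94) h2305 m2_2305
  have h2307 : ∀ u < 216858, (fun u => chkFix tab mwordsA u) u = true := ext_range (a := 216764) (len := 94) h2306 m2_2306
  have h2308 : ∀ u < 216952, (fun u => chkFix tab mwordsA u) u = true := ext_range (a := 216858) (len := 94) h2307 m2_2307
  have h2309 : ∀ u < 217046, (fun u => chkFix tab mwordsA u) u = true := ext_range (a := 216952) (len := 94) h2308 m2_2308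
  have h2310 : ∀ u < 217140, (fun u => chkFix tab mwordsA u) u = true := ext_range (a := 217046) (len := 94) h2309 m2_2309
  have h2311 : ∀ u < 217234, (fun u => chkFix tab mwordsA u) u = true := ext_range (a := 217140) (len := 94) h2310 m2_2310
  have h2312 : ∀ u < 217328, (fun u => chkFix tab mwordsA u) u = true := ext_range (a := 217234) (len := 94) h2311 m2_2311
  have h2313 : ∀ u < 217422, (fun u => chkFix tab mwordsA u) u = true := ext_range (a := 217328) (len := 94) h2312 m2_2312
  have h2314 : ∀ u < 217516, (fun u => chkFix tab mwordsA u) u = true := ext_range (a := 217422) (len := 94) h2313 m2_2313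
  have h2315 : ∀ u < 217610, (fun u => chkFix tab mwordsA u) u = true := ext_range (a := 217516) (len := 94) h2314 m2_2314
  have h2316 : ∀ u < 217704, (fun u => chkFix tab mwordsA u) u = true := ext_range (a := 217610) (len := 94) h2315 m2_2315
  have h2317 : ∀ u < 217798, (fun u => chkFix tab mwordsA u) u = true := ext_range (a := 217704) (len := 94) h2316 m2_2316
  have h2318 : ∀ u < 217892, (fun u => chkFix tab mwordsA u) u = true := ext_range (a := 217798) (len := 94) h2317 m2_2317
  have h2319 : ∀ u < 217986, (fun u => chkFix tab mwordsA u) u = true := ext_range (a := 217892) (len := 94) h2318 m2_2318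
  have h2320 : ∀ u < 218080, (fun u => chkFix tab mwordsA u) u = true := ext_range (a := 217986) (len := 94) h2319 m2_2319
  have h2321 : ∀ u < 218174, (fun u => chkFix tab mwordsA u) u = true := ext_range (a := 218080) (len := 94) h2320 m2_2320
  have h2322 : ∀ u < 218268, (fun u => chkFix tab mwordsA u) u = true := ext_range (a := 218174) (len := 94) h2321 m2_2321
  have h2323 : ∀ u < 218362, (fun u => chkFix tab mwordsA u) u = true := ext_range (a := 218268) (len := 94) h2322 m2_2322
  have h2324 : ∀ u < 218456, (fun u => chkFix tab mwordsA u) u = true := ext_range (a := 218362) (len := 94) h2323 m2_2323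
  have h2325 : ∀ u < 218550, (fun u => chkFix tab mwordsA u) u = true := ext_range (a := 218456) (len := 94) h2324 m2_2324
  have h2326 : ∀ u < 218644, (fun u => chkFix tab mwordsA u) u = true := ext_range (a := 218550) (len := 94) h2325 m2_2325
  have h2327 : ∀ u < 218738, (fun u => chkFix tab mwordsA u) u = true := ext_range (a := 218644) (len := 94) h2326 m2_2326
  have h2328 : ∀ u < 218832, (fun u => chkFix tab mwordsA u) u = true := ext_range (a := 218738) (len := 94) h2327 m2_2327
  have h2329 : ∀ u < 218926, (fun u => chkFix tab mwordsA u) u = true := ext_range (a := 218832) (len := 94) h2328 m2_2328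
  have h2330 : ∀ u < 219020, (fun u => chkFix tab mwordsA u) u = true := ext_range (a := 218926) (len := 94) h2329 m2_2329
  have h2331 : ∀ u < 219114, (fun u => chkFix tab mwordsA u) u = true := ext_range (a := 219020) (len := 94) h2330 m2_2330
  have h2332 : ∀ u < 219208, (fun u => chkFix tab mwordsA u) u = true := ext_range (a := 219114) (len := 94) h2331 m2_2331
  have h2333 : ∀ u < 219302, (fun u => chkFix tab mwordsA u) u = true := ext_range (a := 219208) (len := 94) h2332 m2_2332
  have h2334 : ∀ u < 219396, (fun u => chkFix tab mwordsA u) u = true := ext_range (a := 219302) (len := 94) h2333 m2_2333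
  have h2335 : ∀ u < 219490, (fun u => chkFix tab mwordsA u) u = true := ext_range (a := 219396) (len := 94) h2334 m2_2334
  have h2336 : ∀ u < 219584, (fun u => chkFix tab mwordsA u) u = true := ext_range (a := 219490) (len := 94) h2335 m2_2335
  have h2337 : ∀ u < 219678, (fun u => chkFix tab mwordsA u) u = true := ext_range (a := 219584) (len := 94) h2336 m2_2336
  have h2338 : ∀ u < 219772, (fun u => chkFix tab mwordsA u) u = true := ext_range (a := 219678) (len := 94) h2337 m2_2337
  have h2339 : ∀ u < 219866, (fun u => chkFix tab mwordsA u) u = true := ext_range (a := 219772) (len := 94) h2338 m2_2338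
  have h2340 : ∀ u < 219960, (fun u => chkFix tab mwordsA u) u = true := ext_range (a := 219866) (len := 94) h2339 m2_2339
  have h2341 : ∀ u < 220054, (fun u => chkFix tab mwordsA u) u = true := ext_range (a := 219960) (len := 94) h2340 m2_2340
  have h2342 : ∀ u < 220148, (fun u => chkFix tab mwordsA u) u = true := ext_range (a := 220054) (len := 94) h2341 m2_2341
  have h2343 : ∀ u < 220242, (fun u => chkFix tab mwordsA u) u = true := ext_range (a := 220148) (len := 94) h2342 m2_2342
  have h2344 : ∀ u < 220336, (fun u => chkFix tab mwordsA u) u = true := ext_range (a := 220242) (len := 94) h2343 m2_2343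
  have h2345 : ∀ u < 220430, (fun u => chkFix tab mwordsA u) u = true := ext_range (a := 220336) (len := 94) h2344 m2_2344
  have h2346 : ∀ u < 220524, (fun u => chkFix tab mwordsA u) u = true := ext_range (a := 220430) (len := 94) h2345 m2_2345
  have h2347 : ∀ u < 220618, (fun u => chkFix tab mwordsA u) u = true := ext_range (a := 220524) (len := 94) h2346 m2_2346
  have h2348 : ∀ u < 220712, (fun u => chkFix tab mwordsA u) u = true := ext_range (a := 220618) (len := 94) h2347 m2_2347
  have h2349 : ∀ u < 220806, (fun u => chkFix tab mwordsA u) u = true := ext_range (a := 220712) (len := 94) h2348 m2_2348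
  have h2350 : ∀ u < 220900, (fun u => chkFix tab mwordsA u) u = true := ext_range (a := 220806) (len := 94) h2349 m2_2349
  have h2351 : ∀ u < 220994, (fun u => chkFix tab mwordsA u) u = true := ext_range (a := 220900) (len := 94) h2350 m2_2350
  have h2352 : ∀ u < 221088, (fun u => chkFix tab mwordsA u) u = true := ext_range (a := 220994) (len := 94) h2351 m2_2351
  have h2353 : ∀ u < 221182, (fun u => chkFix tab mwordsA u) u = true := ext_range (a := 221088) (len := 94) h2352 m2_2352
  have h2354 : ∀ u < 221276, (fun u => chkFix tab mwordsA u) u = true := ext_range (a := 221182) (len := 94) h2353 m2_2353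
  have h2355 : ∀ u < 221370, (fun u => chkFix tab mwordsA u) u = true := ext_range (a := 221276) (len := 94) h2354 m2_2354
  have h2356 : ∀ u < 221464, (fun u => chkFix tab mwordsA u) u = true := ext_range (a := 221370) (len := 94) h2355 m2_2355
  have h2357 : ∀ u < 221558, (fun u => chkFix tab mwordsA u) u = true := ext_range (a := 221464) (len := 94) h2356 m2_2356
  have h2358 : ∀ u < 221652, (fun u => chkFix tab mwordsA u) u = true := ext_range (a := 221558) (len := 94) h2357 m2_2357
  have h2359 : ∀ u < 221746, (fun u => chkFix tab mwordsA u) u = true := ext_range (a := 221652) (len := 94) h2358 m2_2358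
  have h2360 : ∀ u < 221840, (fun u => chkFix tab mwordsA u) u = true := ext_range (a := 221746) (len := 94) h2359 m2_2359
  have h2361 : ∀ u < 221934, (fun u => chkFix tab mwordsA u) u = true := ext_range (a := 221840) (len := 94) h2360 m2_2360
  have h2362 : ∀ u < 222028, (fun u => chkFix tab mwordsA u) u = true := ext_range (a := 221934) (len := 94) h2361 m2_2361
  have h2363 : ∀ u < 222122, (fun u => chkFix tab mwordsA u) u = true := ext_range (a := 222028) (len := 94) h2362 m2_2362
  have h2364 : ∀ u < 222216, (fun u => chkFix tab mwordsA u) u = true := ext_range (a := 222122) (len := 94) h2363 m2_2363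
  have h2365 : ∀ u < 222310, (fun u => chkFix tab mwordsA u) u = true := ext_range (a := 222216) (len := 94) h2364 m2_2364
  have h2366 : ∀ u < 222404, (fun u => chkFix tab mwordsA u) u = true := ext_range (a := 222310) (len := 94) h2365 m2_2365
  have h2367 : ∀ u < 222498, (fun u => chkFix tab mwordsA u) u = true := ext_range (a := 222404) (len := 94) h2366 m2_2366
  have h2368 : ∀ u < 222592, (fun u => chkFix tab mwordsA u) u = true := ext_range (a := 222498) (len := 94) h2367 m2_2367
  have h2369 : ∀ u < 222686, (fun u => chkFix tab mwordsA u) u = true := ext_range (a := 222592) (len := 94) h2368 m2_2368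
  have h2370 : ∀ u < 222780, (fun u => chkFix tab mwordsA u) u = true := ext_range (a := 222686) (len := 94) h2369 m2_2369
  have h2371 : ∀ u < 222874, (fun u => chkFix tab mwordsA u) u = true := ext_range (a := 222780) (len := 94) h2370 m2_2370
  have h2372 : ∀ u < 222968, (fun u => chkFix tab mwordsA u) u = true := ext_range (a := 222874) (len := 94) h2371 m2_2371
  have h2373 : ∀ u < 223062, (fun u => chkFix tab mwordsA u) u = true := ext_range (a := 222968) (len := 94) h2372 m2_2372
  have h2374 : ∀ u < 223156, (fun u => chkFix tab mwordsA u) u = true := ext_range (a := 223062) (len := 94) h2373 m2_2373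
  have h2375 : ∀ u < 223250, (fun u => chkFix tab mwordsA u) u = true := ext_range (a := 223156) (len := 94) h2374 m2_2374
  have h2376 : ∀ u < 223344, (fun u => chkFix tab mwordsA u) u = true := ext_range (a := 223250) (len := 94) h2375 m2_2375
  have h2377 : ∀ u < 223438, (fun u => chkFix tab mwordsA u) u = true := ext_range (a := 223344) (len := 94) h2376 m2_2376
  have h2378 : ∀ u < 223532, (fun u => chkFix tab mwordsA u) u = true := ext_range (a := 223438) (len := 94) h2377 m2_2377
  have h2379 : ∀ u < 223626, (fun u => chkFix tab mwordsA u) u = true := ext_range (a := 223532) (len := 94) h2378 m2_2378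
  have h2380 : ∀ u < 223720, (fun u => chkFix tab mwordsA u) u = true := ext_range (a := 223626) (len := 94) h2379 m2_2379
  have h2381 : ∀ u < 223814, (fun u => chkFix tab mwordsA u) u = true := ext_range (a := 223720) (len := 94) h2380 m2_2380
  have h2382 : ∀ u < 223908, (fun u => chkFix tab mwordsA u) u = true := ext_range (a := 223814) (len := 94) h2381 m2_2381
  have h2383 : ∀ u < 224002, (fun u => chkFix tab mwordsA u) u = true := ext_range (a := 223908) (len := 94) h2382 m2_2382
  have h2384 : ∀ u < 224096, (fun u => chkFix tab mwordsA u) u = true := ext_range (a := 224002) (len := 94) h2383 m2_2383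
  have h2385 : ∀ u < 224190, (fun u => chkFix tab mwordsA u) u = true := ext_range (a := 224096) (len := 94) h2384 m2_2384
  have h2386 : ∀ u < 224284, (fun u => chkFix tab mwordsA u) u = true := ext_range (a := 224190) (len := 94) h2385 m2_2385
  have h2387 : ∀ u < 224378, (fun u => chkFix tab mwordsA u) u = true := ext_range (a := 224284) (len := 94) h2386 m2_2386
  have h2388 : ∀ u < 224472, (fun u => chkFix tab mwordsA u) u = true := ext_range (a := 224378) (len := 94) h2387 m2_2387
  have h2389 : ∀ u < 224566, (fun u => chkFix tab mwordsA u) u = true := ext_range (a := 224472) (len := 94) h2388 m2_2388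
  have h2390 : ∀ u < 224660, (fun u => chkFix tab mwordsA u) u = true := ext_range (a := 224566) (len := 94) h2389 m2_2389
  have h2391 : ∀ u < 224754, (fun u => chkFix tab mwordsA u) u = true := ext_range (a := 224660) (len := 94) h2390 m2_2390
  have h2392 : ∀ u < 224848, (fun u => chkFix tab mwordsA u) u = true := ext_range (a := 224754) (len := 94) h2391 m2_2391
  have h2393 : ∀ u < 224942, (fun u => chkFix tab mwordsA u) u = true := ext_range (a := 224848) (len := 94) h2392 m2_2392
  have h2394 : ∀ u < 225036, (fun u => chkFix tab mwordsA u) u = true := ext_range (a := 224942) (len := 94) h2393 m2_2393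
  have h2395 : ∀ u < 225130, (fun u => chkFix tab mwordsA u) u = true := ext_range (a := 225036) (len := 94) h2394 m2_2394
  have h2396 : ∀ u < 225224, (fun u => chkFix tab mwordsA u) u = true := ext_range (a := 225130) (len := 94) h2395 m2_2395
  have h2397 : ∀ u < 225318, (fun u => chkFix tab mwordsA u) u = true := ext_range (a := 225224) (len := 94) h2396 m2_2396
  have h2398 : ∀ u < 225412, (fun u => chkFix tab mwordsA u) u = true := ext_range (a := 225318) (len := 94) h2397 m2_2397
  have h2399 : ∀ u < 225506, (fun u => chkFix tab mwordsA u) u = true := ext_range (a := 225412) (len := 94) h2398 m2_2398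
  have h2400 : ∀ u < 225600, (fun u => chkFix tab mwordsA u) u = true := ext_range (a := 225506) (len := 94) h2399 m2_2399
  have h2401 : ∀ u < 225694, (fun u => chkFix tab mwordsA u) u = true := ext_range (a := 225600) (len := 94) h2400 m2_2400
  have h2402 : ∀ u < 225788, (fun u => chkFix tab mwordsA u) u = true := ext_range (a := 225694) (len := 94) h2401 m2_2401
  have h2403 : ∀ u < 225882, (fun u => chkFix tab mwordsA u) u = true := ext_range (a := 225788) (len := 94) h2402 m2_2402
  have h2404 : ∀ u < 225976, (fun u => chkFix tab mwordsA u) u = true := ext_range (a := 225882) (len := 94) h2403 m2_2403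
  have h2405 : ∀ u < 226070, (fun u => chkFix tab mwordsA u) u = true := ext_range (a := 225976) (len := 94) h2404 m2_2404
  have h2406 : ∀ u < 226164, (fun u => chkFix tab mwordsA u) u = true := ext_range (a := 226070) (len := 94) h2405 m2_2405
  have h2407 : ∀ u < 226258, (fun u => chkFix tab mwordsA u) u = true := ext_range (a := 226164) (len := 94) h2406 m2_2406
  have h2408 : ∀ u < 226352, (fun u => chkFix tab mwordsA u) u = true := ext_range (a := 226258) (len := 94) h2407 m2_2407
  have h2409 : ∀ u < 226446, (fun u => chkFix tab mwordsA u) u = true := ext_range (a := 226352) (len := 94) h2408 m2_2408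
  have h2410 : ∀ u < 226540, (fun u => chkFix tab mwordsA u) u = true := ext_range (a := 226446) (len := 94) h2409 m2_2409
  have h2411 : ∀ u < 226634, (fun u => chkFix tab mwordsA u) u = true := ext_range (a := 226540) (len := 94) h2410 m2_2410
  have h2412 : ∀ u < 226728, (fun u => chkFix tab mwordsA u) u = true := ext_range (a := 226634) (len := 94) h2411 m2_2411
  have h2413 : ∀ u < 226822, (fun u => chkFix tab mwordsA u) u = true := ext_range (a := 226728) (len := 94) h2412 m2_2412
  have h2414 : ∀ u < 226916, (fun u => chkFix tab mwordsA u) u = true := ext_range (a := 226822) (len := 94) h2413 m2_2413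
  have h2415 : ∀ u < 227010, (fun u => chkFix tab mwordsA u) u = true := ext_range (a := 226916) (len := 94) h2414 m2_2414
  have h2416 : ∀ u < 227104, (fun u => chkFix tab mwordsA u) u = true := ext_range (a := 227010) (len := 94) h2415 m2_2415
  have h2417 : ∀ u < 227198, (fun u => chkFix tab mwordsA u) u = true := ext_range (a := 227104) (len := 94) h2416 m2_2416
  have h2418 : ∀ u < 227292, (fun u => chkFix tab mwordsA u) u = true := ext_range (a := 227198) (len := 94) h2417 m2_2417
  have h2419 : ∀ u < 227386, (fun u => chkFix tab mwordsA u) u = true := ext_range (a := 227292) (len := 94) h2418 m2_2418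
  have h2420 : ∀ u < 227480, (fun u => chkFix tab mwordsA u) u = true := ext_range (a := 227386) (len := 94) h2419 m2_2419
  have h2421 : ∀ u < 227574, (fun u => chkFix tab mwordsA u) u = true := ext_range (a := 227480) (len := 94) h2420 m2_2420
  have h2422 : ∀ u < 227668, (fun u => chkFix tab mwordsA u) u = true := ext_range (a := 227574) (len := 94) h2421 m2_2421
  have h2423 : ∀ u < 227762, (fun u => chkFix tab mwordsA u) u = true := ext_range (a := 227668) (len := 94) h2422 m2_2422
  have h2424 : ∀ u < 227856, (fun u => chkFix tab mwordsA u) u = true := ext_range (a := 227762) (len := 94) h2423 m2_2423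
  have h2425 : ∀ u < 227950, (fun u => chkFix tab mwordsA u) u = true := ext_range (a := 227856) (len := 94) h2424 m2_2424
  have h2426 : ∀ u < 228044, (fun u => chkFix tab mwordsA u) u = true := ext_range (a := 227950) (len := 94) h2425 m2_2425
  have h2427 : ∀ u < 228138, (fun u => chkFix tab mwordsA u) u = true := ext_range (a := 228044) (len := 94) h2426 m2_2426
  have h2428 : ∀ u < 228232, (fun u => chkFix tab mwordsA u) u = true := ext_range (a := 228138) (len := 94) h2427 m2_2427
  have h2429 : ∀ u < 228326, (fun u => chkFix tab mwordsA u) u = true := ext_range (a := 228232) (len := 94) h2428 m2_2428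
  have h2430 : ∀ u < 228420, (fun u => chkFix tab mwordsA u) u = true := ext_range (a := 228326) (len := 94) h2429 m2_2429
  have h2431 : ∀ u < 228514, (fun u => chkFix tab mwordsA u) u = true := ext_range (a := 228420) (len := 94) h2430 m2_2430
  have h2432 : ∀ u < 228608, (fun u => chkFix tab mwordsA u) u = true := ext_range (a := 228514) (len := 94) h2431 m2_2431
  have h2433 : ∀ u < 228702, (fun u => chkFix tab mwordsA u) u = true := ext_range (a := 228608) (len := 94) h2432 m2_2432
  have h2434 : ∀ u < 228796, (fun u => chkFix tab mwordsA u) u = true := ext_range (a := 228702) (len := 94) h2433 m2_2433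
  have h2435 : ∀ u < 228890, (fun u => chkFix tab mwordsA u) u = true := ext_range (a := 228796) (len := 94) h2434 m2_2434
  have h2436 : ∀ u < 228984, (fun u => chkFix tab mwordsA u) u = true := ext_range (a := 228890) (len := 94) h2435 m2_2435
  have h2437 : ∀ u < 229078, (fun u => chkFix tab mwordsA u) u = true := ext_range (a := 228984) (len := 94) h2436 m2_2436
  have h2438 : ∀ u < 229172, (fun u => chkFix tab mwordsA u) u = true := ext_range (a := 229078) (len := 94) h2437 m2_2437
  have h2439 : ∀ u < 229266, (fun u => chkFix tab mwordsA u) u = true := ext_range (a := 229172) (len := 94) h2438 m2_2438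
  have h2440 : ∀ u < 229360, (fun u => chkFix tab mwordsA u) u = true := ext_range (a := 229266) (len := 94) h2439 m2_2439
  have h2441 : ∀ u < 229454, (fun u => chkFix tab mwordsA u) u = true := ext_range (a := 229360) (len := 94) h2440 m2_2440
  have h2442 : ∀ u < 229548, (fun u => chkFix tab mwordsA u) u = true := ext_range (a := 229454) (len := 94) h2441 m2_2441
  have h2443 : ∀ u < 229642, (fun u => chkFix tab mwordsA u) u = true := ext_range (a := 229548) (len := 94) h2442 m2_2442
  have h2444 : ∀ u < 229736, (fun u => chkFix tab mwordsA u) u = true := ext_range (a := 229642) (len := 94) h2443 m2_2443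
  have h2445 : ∀ u < 229830, (fun u => chkFix tab mwordsA u) u = true := ext_range (a := 229736) (len := 94) h2444 m2_2444
  have h2446 : ∀ u < 229924, (fun u => chkFix tab mwordsA u) u = true := ext_range (a := 229830) (len := 94) h2445 m2_2445
  have h2447 : ∀ u < 230018, (fun u => chkFix tab mwordsA u) u = true := ext_range (a := 229924) (len := 94) h2446 m2_2446
  have h2448 : ∀ u < 230112, (fun u => chkFix tab mwordsA u) u = true := ext_range (a := 230018) (len := 94) h2447 m2_2447
  have h2449 : ∀ u < 230206, (fun u => chkFix tab mwordsA u) u = true := ext_range (a := 230112) (len := 94) h2448 m2_2448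
  have h2450 : ∀ u < 230300, (fun u => chkFix tab mwordsA u) u = true := ext_range (a := 230206) (len := 94) h2449 m2_2449
  have h2451 : ∀ u < 230394, (fun u => chkFix tab mwordsA u) u = true := ext_range (a := 230300) (len := 94) h2450 m2_2450
  have h2452 : ∀ u < 230488, (fun u => chkFix tab mwordsA u) u = true := ext_range (a := 230394) (len := 94) h2451 m2_2451
  have h2453 : ∀ u < 230582, (fun u => chkFix tab mwordsA u) u = true := ext_range (a := 230488) (len := 94) h2452 m2_2452
  have h2454 : ∀ u < 230676, (fun u => chkFix tab mwordsA u) u = true := ext_range (a := 230582) (len := 94) h2453 m2_2453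
  have h2455 : ∀ u < 230770, (fun u => chkFix tab mwordsA u) u = true := ext_range (a := 230676) (len := 94) h2454 m2_2454
  have h2456 : ∀ u < 230864, (fun u => chkFix tab mwordsA u) u = true := ext_range (a := 230770) (len := 94) h2455 m2_2455
  have h2457 : ∀ u < 230958, (fun u => chkFix tab mwordsA u) u = true := ext_range (a := 230864) (len := 94) h2456 m2_2456
  have h2458 : ∀ u < 231052, (fun u => chkFix tab mwordsA u) u = true := ext_range (a := 230958) (len := 94) h2457 m2_2457
  have h2459 : ∀ u < 231146, (fun u => chkFix tab mwordsA u) u = true := ext_range (a := 231052) (len := 94) h2458 m2_2458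
  have h2460 : ∀ u < 231240, (fun u => chkFix tab mwordsA u) u = true := ext_range (a := 231146) (len := 94) h2459 m2_2459
  have h2461 : ∀ u < 231334, (fun u => chkFix tab mwordsA u) u = true := ext_range (a := 231240) (len := 94) h2460 m2_2460
  have h2462 : ∀ u < 231428, (fun u => chkFix tab mwordsA u) u = true := ext_range (a := 231334) (len := 94) h2461 m2_2461
  have h2463 : ∀ u < 231522, (fun u => chkFix tab mwordsA u) u = true := ext_range (a := 231428) (len := 94) h2462 m2_2462
  have h2464 : ∀ u < 231616, (fun u => chkFix tab mwordsA u) u = true := ext_range (a := 231522) (len := 94) h2463 m2_2463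
  have h2465 : ∀ u < 231710, (fun u => chkFix tab mwordsA u) u = true := ext_range (a := 231616) (len := 94) h2464 m2_2464
  have h2466 : ∀ u < 231804, (fun u => chkFix tab mwordsA u) u = true := ext_range (a := 231710) (len := 94) h2465 m2_2465
  have h2467 : ∀ u < 231898, (fun u => chkFix tab mwordsA u) u = true := ext_range (a := 231804) (len := 94) h2466 m2_2466
  have h2468 : ∀ u < 231992, (fun u => chkFix tab mwordsA u) u = true := ext_range (a := 231898) (len := 94) h2467 m2_2467
  have h2469 : ∀ u < 232086, (fun u => chkFix tab mwordsA u) u = true := ext_range (a := 231992) (len := 94) h2468 m2_2468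
  have h2470 : ∀ u < 232180, (fun u => chkFix tab mwordsA u) u = true := ext_range (a := 232086) (len := 94) h2469 m2_2469
  have h2471 : ∀ u < 232274, (fun u => chkFix tab mwordsA u) u = true := ext_range (a := 232180) (len := 94) h2470 m2_2470
  have h2472 : ∀ u < 232368, (fun u => chkFix tab mwordsA u) u = true := ext_range (a := 232274) (len := 94) h2471 m2_2471
  have h2473 : ∀ u < 232462, (fun u => chkFix tab mwordsA u) u = true := ext_range (a := 232368) (len := 94) h2472 m2_2472
  have h2474 : ∀ u < 232556, (fun u => chkFix tab mwordsA u) u = true := ext_range (a := 232462) (len := 94) h2473 m2_2473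
  have h2475 : ∀ u < 232650, (fun u => chkFix tab mwordsA u) u = true := ext_range (a := 232556) (len := 94) h2474 m2_2474
  have h2476 : ∀ u < 232744, (fun u => chkFix tab mwordsA u) u = true := ext_range (a := 232650) (len := 94) h2475 m2_2475
  have h2477 : ∀ u < 232838, (fun u => chkFix tab mwordsA u) u = true := ext_range (a := 232744) (len := 94) h2476 m2_2476
  have h2478 : ∀ u < 232932, (fun u => chkFix tab mwordsA u) u = true := ext_range (a := 232838) (len := 94) h2477 m2_2477
  have h2479 : ∀ u < 233026, (fun u => chkFix tab mwordsA u) u = true := ext_range (a := 232932) (len := 94) h2478 m2_2478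
  have h2480 : ∀ u < 233120, (fun u => chkFix tab mwordsA u) u = true := ext_range (a := 233026) (len := 94) h2479 m2_2479
  have h2481 : ∀ u < 233214, (fun u => chkFix tab mwordsA u) u = true := ext_range (a := 233120) (len := 94) h2480 m2_2480
  have h2482 : ∀ u < 233308, (fun u => chkFix tab mwordsA u) u = true := ext_range (a := 233214) (len := 94) h2481 m2_2481
  have h2483 : ∀ u < 233402, (fun u => chkFix tab mwordsA u) u = true := ext_range (a := 233308) (len := 94) h2482 m2_2482
  have h2484 : ∀ u < 233496, (fun u => chkFix tab mwordsA u) u = true := ext_range (a := 233402) (len := 94) h2483 m2_2483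
  have h2485 : ∀ u < 233590, (fun u => chkFix tab mwordsA u) u = true := ext_range (a := 233496) (len := 94) h2484 m2_2484
  have h2486 : ∀ u < 233684, (fun u => chkFix tab mwordsA u) u = true := ext_range (a := 233590) (len := 94) h2485 m2_2485
  have h2487 : ∀ u < 233778, (fun u => chkFix tab mwordsA u) u = true := ext_range (a := 233684) (len := 94) h2486 m2_2486
  have h2488 : ∀ u < 233872, (fun u => chkFix tab mwordsA u) u = true := ext_range (a := 233778) (len := 94) h2487 m2_2487
  have h2489 : ∀ u < 233966, (fun u => chkFix tab mwordsA u) u = true := ext_range (a := 233872) (len := 94) h2488 m2_2488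
  have h2490 : ∀ u < 234060, (fun u => chkFix tab mwordsA u) u = true := ext_range (a := 233966) (len := 94) h2489 m2_2489
  have h2491 : ∀ u < 234154, (fun u => chkFix tab mwordsA u) u = true := ext_range (a := 234060) (len := 94) h2490 m2_2490
  have h2492 : ∀ u < 234248, (fun u => chkFix tab mwordsA u) u = true := ext_range (a := 234154) (len := 94) h2491 m2_2491
  have h2493 : ∀ u < 234342, (fun u => chkFix tab mwordsA u) u = true := ext_range (a := 234248) (len := 94) h2492 m2_2492
  have h2494 : ∀ u < 234436, (fun u => chkFix tab mwordsA u) u = true := ext_range (a := 234342) (len := 94) h2493 m2_2493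
  have h2495 : ∀ u < 234530, (fun u => chkFix tab mwordsA u) u = true := ext_range (a := 234436) (len := 94) h2494 m2_2494
  have h2496 : ∀ u < 234624, (fun u => chkFix tab mwordsA u) u = true := ext_range (a := 234530) (len := 94) h2495 m2_2495
  have h2497 : ∀ u < 234718, (fun u => chkFix tab mwordsA u) u = true := ext_range (a := 234624) (len := 94) h2496 m2_2496
  have h2498 : ∀ u < 234812, (fun u => chkFix tab mwordsA u) u = true := ext_range (a := 234718) (len := 94) h2497 m2_2497
  have h2499 : ∀ u < 234906, (fun u => chkFix tab mwordsA u) u = true := ext_range (a := 234812) (len := 94) h2498 m2_2498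
  have h2500 : ∀ u < 235000, (fun u => chkFix tab mwordsA u) u = true := ext_range (a := 234906) (len := 94) h2499 m2_2499
  have h2501 : ∀ u < 235094, (fun u => chkFix tab mwordsA u) u = true := ext_range (a := 235000) (len := 94) h2500 m2_2500
  have h2502 : ∀ u < 235188, (fun u => chkFix tab mwordsA u) u = true := ext_range (a := 235094) (len := 94) h2501 m2_2501
  have h2503 : ∀ u < 235282, (fun u => chkFix tab mwordsA u) u = true := ext_range (a := 235188) (len := 94) h2502 m2_2502
  have h2504 : ∀ u < 235376, (fun u => chkFix tab mwordsA u) u = true := ext_range (a := 235282) (len := 94) h2503 m2_2503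
  have h2505 : ∀ u < 235470, (fun u => chkFix tab mwordsA u) u = true := ext_range (a := 235376) (len := 94) h2504 m2_2504
  have h2506 : ∀ u < 235564, (fun u => chkFix tab mwordsA u) u = true := ext_range (a := 235470) (len := 94) h2505 m2_2505
  have h2507 : ∀ u < 235658, (fun u => chkFix tab mwordsA u) u = true := ext_range (a := 235564) (len := 94) h2506 m2_2506
  have h2508 : ∀ u < 235752, (fun u => chkFix tab mwordsA u) u = true := ext_range (a := 235658) (len := 94) h2507 m2_2507
  have h2509 : ∀ u < 235846, (fun u => chkFix tab mwordsA u) u = true := ext_range (a := 235752) (len := 94) h2508 m2_2508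
  have h2510 : ∀ u < 235940, (fun u => chkFix tab mwordsA u) u = true := ext_range (a := 235846) (len := 94) h2509 m2_2509
  have h2511 : ∀ u < 236034, (fun u => chkFix tab mwordsA u) u = true := ext_range (a := 235940) (len := 94) h2510 m2_2510
  have h2512 : ∀ u < 236128, (fun u => chkFix tab mwordsA u) u = true := ext_range (a := 236034) (len := 94) h2511 m2_2511
  have h2513 : ∀ u < 236222, (fun u => chkFix tab mwordsA u) u = true := ext_range (a := 236128) (len := 94) h2512 m2_2512
  have h2514 : ∀ u < 236316, (fun u => chkFix tab mwordsA u) u = true := ext_range (a := 236222) (len := 94) h2513 m2_2513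
  have h2515 : ∀ u < 236410, (fun u => chkFix tab mwordsA u) u = true := ext_range (a := 236316) (len := 94) h2514 m2_2514
  have h2516 : ∀ u < 236504, (fun u => chkFix tab mwordsA u) u = true := ext_range (a := 236410) (len := 94) h2515 m2_2515
  have h2517 : ∀ u < 236598, (fun u => chkFix tab mwordsA u) u = true := ext_range (a := 236504) (len := 94) h2516 m2_2516
  have h2518 : ∀ u < 236692, (fun u => chkFix tab mwordsA u) u = true := ext_range (a := 236598) (len := 94) h2517 m2_2517
  have h2519 : ∀ u < 236786, (fun u => chkFix tab mwordsA u) u = true := ext_range (a := 236692) (len := 94) h2518 m2_2518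
  have h2520 : ∀ u < 236880, (fun u => chkFix tab mwordsA u) u = true := ext_range (a := 236786) (len := 94) h2519 m2_2519
  have h2521 : ∀ u < 236974, (fun u => chkFix tab mwordsA u) u = true := ext_range (a := 236880) (len := 94) h2520 m2_2520
  have h2522 : ∀ u < 237068, (fun u => chkFix tab mwordsA u) u = true := ext_range (a := 236974) (len := 94) h2521 m2_2521
  have h2523 : ∀ u < 237162, (fun u => chkFix tab mwordsA u) u = true := ext_range (a := 237068) (len := 94) h2522 m2_2522
  have h2524 : ∀ u < 237256, (fun u => chkFix tab mwordsA u) u = true := ext_range (a := 237162) (len := 94) h2523 m2_2523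
  have h2525 : ∀ u < 237350, (fun u => chkFix tab mwordsA u) u = true := ext_range (a := 237256) (len := 94) h2524 m2_2524
  have h2526 : ∀ u < 237444, (fun u => chkFix tab mwordsA u) u = true := ext_range (a := 237350) (len := 94) h2525 m2_2525
  have h2527 : ∀ u < 237538, (fun u => chkFix tab mwordsA u) u = true := ext_range (a := 237444) (len := 94) h2526 m2_2526
  have h2528 : ∀ u < 237632, (fun u => chkFix tab mwordsA u) u = true := ext_range (a := 237538) (len := 94) h2527 m2_2527
  have h2529 : ∀ u < 237726, (fun u => chkFix tab mwordsA u) u = true := ext_range (a := 237632) (len := 94) h2528 m2_2528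
  have h2530 : ∀ u < 237820, (fun u => chkFix tab mwordsA u) u = true := ext_range (a := 237726) (len := 94) h2529 m2_2529
  have h2531 : ∀ u < 237914, (fun u => chkFix tab mwordsA u) u = true := ext_range (a := 237820) (len := 94) h2530 m2_2530
  have h2532 : ∀ u < 238008, (fun u => chkFix tab mwordsA u) u = true := ext_range (a := 237914) (len := 94) h2531 m2_2531
  have h2533 : ∀ u < 238102, (fun u => chkFix tab mwordsA u) u = true := ext_range (a := 238008) (len := 94) h2532 m2_2532
  have h2534 : ∀ u < 238196, (fun u => chkFix tab mwordsA u) u = true := ext_range (a := 238102) (len := 94) h2533 m2_2533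
  have h2535 : ∀ u < 238290, (fun u => chkFix tab mwordsA u) u = true := ext_range (a := 238196) (len := 94) h2534 m2_2534
  have h2536 : ∀ u < 238384, (fun u => chkFix tab mwordsA u) u = true := ext_range (a := 238290) (len := 94) h2535 m2_2535
  have h2537 : ∀ u < 238478, (fun u => chkFix tab mwordsA u) u = true := ext_range (a := 238384) (len := 94) h2536 m2_2536
  have h2538 : ∀ u < 238572, (fun u => chkFix tab mwordsA u) u = true := ext_range (a := 238478) (len := 94) h2537 m2_2537
  have h2539 : ∀ u < 238666, (fun u => chkFix tab mwordsA u) u = true := ext_range (a := 238572) (len := 94) h2538 m2_2538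
  have h2540 : ∀ u < 238760, (fun u => chkFix tab mwordsA u) u = true := ext_range (a := 238666) (len := 94) h2539 m2_2539
  have h2541 : ∀ u < 238854, (fun u => chkFix tab mwordsA u) u = true := ext_range (a := 238760) (len := 94) h2540 m2_2540
  have h2542 : ∀ u < 238948, (fun u => chkFix tab mwordsA u) u = true := ext_range (a := 238854) (len := 94) h2541 m2_2541
  have h2543 : ∀ u < 239042, (fun u => chkFix tab mwordsA u) u = true := ext_range (a := 238948) (len := 94) h2542 m2_2542
  have h2544 : ∀ u < 239136, (fun u => chkFix tab mwordsA u) u = true := ext_range (a := 239042) (len := 94) h2543 m2_2543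
  have h2545 : ∀ u < 239230, (fun u => chkFix tab mwordsA u) u = true := ext_range (a := 239136) (len := 94) h2544 m2_2544
  have h2546 : ∀ u < 239324, (fun u => chkFix tab mwordsA u) u = true := ext_range (a := 239230) (len := 94) h2545 m2_2545
  have h2547 : ∀ u < 239418, (fun u => chkFix tab mwordsA u) u = true := ext_range (a := 239324) (len := 94) h2546 m2_2546
  have h2548 : ∀ u < 239512, (fun u => chkFix tab mwordsA u) u = true := ext_range (a := 239418) (len := 94) h2547 m2_2547
  have h2549 : ∀ u < 239606, (fun u => chkFix tab mwordsA u) u = true := ext_range (a := 239512) (len := 94) h2548 m2_2548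
  have h2550 : ∀ u < 239700, (fun u => chkFix tab mwordsA u) u = true := ext_range (a := 239606) (len := 94) h2549 m2_2549
  have h2551 : ∀ u < 239794, (fun u => chkFix tab mwordsA u) u = true := ext_range (a := 239700) (len := 94) h2550 m2_2550
  have h2552 : ∀ u < 239888, (fun u => chkFix tab mwordsA u) u = true := ext_range (a := 239794) (len := 94) h2551 m2_2551
  have h2553 : ∀ u < 239982, (fun u => chkFix tab mwordsA u) u = true := ext_range (a := 239888) (len := 94) h2552 m2_2552
  have h2554 : ∀ u < 240076, (fun u => chkFix tab mwordsA u) u = true := ext_range (a := 239982) (len := 94) h2553 m2_2553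
  have h2555 : ∀ u < 240170, (fun u => chkFix tab mwordsA u) u = true := ext_range (a := 240076) (len := 94) h2554 m2_2554
  have h2556 : ∀ u < 240264, (fun u => chkFix tab mwordsA u) u = true := ext_range (a := 240170) (len := 94) h2555 m2_2555
  have h2557 : ∀ u < 240358, (fun u => chkFix tab mwordsA u) u = true := ext_range (a := 240264) (len := 94) h2556 m2_2556
  have h2558 : ∀ u < 240452, (fun u => chkFix tab mwordsA u) u = true := ext_range (a := 240358) (len := 94) h2557 m2_2557
  have h2559 : ∀ u < 240546, (fun u => chkFix tab mwordsA u) u = true := ext_range (a := 240452) (len := 94) h2558 m2_2558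
  have h2560 : ∀ u < 240640, (fun u => chkFix tab mwordsA u) u = true := ext_range (a := 240546) (len := 94) h2559 m2_2559
  have h2561 : ∀ u < 240734, (fun u => chkFix tab mwordsA u) u = true := ext_range (a := 240640) (len := 94) h2560 m2_2560
  have h2562 : ∀ u < 240828, (fun u => chkFix tab mwordsA u) u = true := ext_range (a := 240734) (len := 94) h2561 m2_2561
  have h2563 : ∀ u < 240922, (fun u => chkFix tab mwordsA u) u = true := ext_range (a := 240828) (len := 94) h2562 m2_2562
  have h2564 : ∀ u < 241016, (fun u => chkFix tab mwordsA u) u = true := ext_range (a := 240922) (len := 94) h2563 m2_2563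
  have h2565 : ∀ u < 241110, (fun u => chkFix tab mwordsA u) u = true := ext_range (a := 241016) (len := 94) h2564 m2_2564
  have h2566 : ∀ u < 241204, (fun u => chkFix tab mwordsA u) u = true := ext_range (a := 241110) (len := 94) h2565 m2_2565
  have h2567 : ∀ u < 241298, (fun u => chkFix tab mwordsA u) u = true := ext_range (a := 241204) (len := 94) h2566 m2_2566
  have h2568 : ∀ u < 241392, (fun u => chkFix tab mwordsA u) u = true := ext_range (a := 241298) (len := 94) h2567 m2_2567
  have h2569 : ∀ u < 241486, (fun u => chkFix tab mwordsA u) u = true := ext_range (a := 241392) (len := 94) h2568 m2_2568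
  have h2570 : ∀ u < 241580, (fun u => chkFix tab mwordsA u) u = true := ext_range (a := 241486) (len := 94) h2569 m2_2569
  have h2571 : ∀ u < 241674, (fun u => chkFix tab mwordsA u) u = true := ext_range (a := 241580) (len := 94) h2570 m2_2570
  have h2572 : ∀ u < 241768, (fun u => chkFix tab mwordsA u) u = true := ext_range (a := 241674) (len := 94) h2571 m2_2571
  have h2573 : ∀ u < 241862, (fun u => chkFix tab mwordsA u) u = true := ext_range (a := 241768) (len := 94) h2572 m2_2572
  have h2574 : ∀ u < 241956, (fun u => chkFix tab mwordsA u) u = true := ext_range (a := 241862) (len := 94) h2573 m2_2573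
  have h2575 : ∀ u < 242050, (fun u => chkFix tab mwordsA u) u = true := ext_range (a := 241956) (len := 94) h2574 m2_2574
  have h2576 : ∀ u < 242144, (fun u => chkFix tab mwordsA u) u = true := ext_range (a := 242050) (len := 94) h2575 m2_2575
  have h2577 : ∀ u < 242238, (fun u => chkFix tab mwordsA u) u = true := ext_range (a := 242144) (len := 94) h2576 m2_2576
  have h2578 : ∀ u < 242332, (fun u => chkFix tab mwordsA u) u = true := ext_range (a := 242238) (len := 94) h2577 m2_2577
  have h2579 : ∀ u < 242426, (fun u => chkFix tab mwordsA u) u = true := ext_range (a := 242332) (len := 94) h2578 m2_2578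
  have h2580 : ∀ u < 242520, (fun u => chkFix tab mwordsA u) u = true := ext_range (a := 242426) (len := 94) h2579 m2_2579
  have h2581 : ∀ u < 242614, (fun u => chkFix tab mwordsA u) u = true := ext_range (a := 242520) (len := 94) h2580 m2_2580
  have h2582 : ∀ u < 242708, (fun u => chkFix tab mwordsA u) u = true := ext_range (a := 242614) (len := 94) h2581 m2_2581
  have h2583 : ∀ u < 242802, (fun u => chkFix tab mwordsA u) u = true := ext_range (a := 242708) (len := 94) h2582 m2_2582
  have h2584 : ∀ u < 242896, (fun u => chkFix tab mwordsA u) u = true := ext_range (a := 242802) (len := 94) h2583 m2_2583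
  have h2585 : ∀ u < 242990, (fun u => chkFix tab mwordsA u) u = true := ext_range (a := 242896) (len := 94) h2584 m2_2584
  have h2586 : ∀ u < 243084, (fun u => chkFix tab mwordsA u) u = true := ext_range (a := 242990) (len := 94) h2585 m2_2585
  have h2587 : ∀ u < 243178, (fun u => chkFix tab mwordsA u) u = true := ext_range (a := 243084) (len := 94) h2586 m2_2586
  have h2588 : ∀ u < 243272, (fun u => chkFix tab mwordsA u) u = true := ext_range (a := 243178) (len := 94) h2587 m2_2587
  have h2589 : ∀ u < 243366, (fun u => chkFix tab mwordsA u) u = true := ext_range (a := 243272) (len := 94) h2588 m2_2588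
  have h2590 : ∀ u < 243460, (fun u => chkFix tab mwordsA u) u = true := ext_range (a := 243366) (len := 94) h2589 m2_2589
  have h2591 : ∀ u < 243554, (fun u => chkFix tab mwordsA u) u = true := ext_range (a := 243460) (len := 94) h2590 m2_2590
  have h2592 : ∀ u < 243648, (fun u => chkFix tab mwordsA u) u = true := ext_range (a := 243554) (len := 94) h2591 m2_2591
  have h2593 : ∀ u < 243742, (fun u => chkFix tab mwordsA u) u = true := ext_range (a := 243648) (len := 94) h2592 m2_2592
  have h2594 : ∀ u < 243836, (fun u => chkFix tab mwordsA u) u = true := ext_range (a := 243742) (len := 94) h2593 m2_2593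
  have h2595 : ∀ u < 243930, (fun u => chkFix tab mwordsA u) u = true := ext_range (a := 243836) (len := 94) h2594 m2_2594
  have h2596 : ∀ u < 244024, (fun u => chkFix tab mwordsA u) u = true := ext_range (a := 243930) (len := 94) h2595 m2_2595
  have h2597 : ∀ u < 244118, (fun u => chkFix tab mwordsA u) u = true := ext_range (a := 244024) (len := 94) h2596 m2_2596
  have h2598 : ∀ u < 244212, (fun u => chkFix tab mwordsA u) u = true := ext_range (a := 244118) (len := 94) h2597 m2_2597
  have h2599 : ∀ u < 244306, (fun u => chkFix tab mwordsA u) u = true := ext_range (a := 244212) (len := 94) h2598 m2_2598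
  have h2600 : ∀ u < 244400, (fun u => chkFix tab mwordsA u) u = true := ext_range (a := 244306) (len := 94) h2599 m2_2599
  have h2601 : ∀ u < 244494, (fun u => chkFix tab mwordsA u) u = true := ext_range (a := 244400) (len := 94) h2600 m2_2600
  have h2602 : ∀ u < 244588, (fun u => chkFix tab mwordsA u) u = true := ext_range (a := 244494) (len := 94) h2601 m2_2601
  have h2603 : ∀ u < 244682, (fun u => chkFix tab mwordsA u) u = true := ext_range (a := 244588) (len := 94) h2602 m2_2602
  have h2604 : ∀ u < 244776, (fun u => chkFix tab mwordsA u) u = true := ext_range (a := 244682) (len := 94) h2603 m2_2603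
  have h2605 : ∀ u < 244870, (fun u => chkFix tab mwordsA u) u = true := ext_range (a := 244776) (len := 94) h2604 m2_2604
  have h2606 : ∀ u < 244964, (fun u => chkFix tab mwordsA u) u = true := ext_range (a := 244870) (len := 94) h2605 m2_2605
  have h2607 : ∀ u < 245058, (fun u => chkFix tab mwordsA u) u = true := ext_range (a := 244964) (len := 94) h2606 m2_2606
  have h2608 : ∀ u < 245152, (fun u => chkFix tab mwordsA u) u = true := ext_range (a := 245058) (len := 94) h2607 m2_2607
  have h2609 : ∀ u < 245246, (fun u => chkFix tab mwordsA u) u = true := ext_range (a := 245152) (len := 94) h2608 m2_2608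
  have h2610 : ∀ u < 245340, (fun u => chkFix tab mwordsA u) u = true := ext_range (a := 245246) (len := 94) h2609 m2_2609
  have h2611 : ∀ u < 245434, (fun u => chkFix tab mwordsA u) u = true := ext_range (a := 245340) (len := 94) h2610 m2_2610
  have h2612 : ∀ u < 245528, (fun u => chkFix tab mwordsA u) u = true := ext_range (a := 245434) (len := 94) h2611 m2_2611
  have h2613 : ∀ u < 245622, (fun u => chkFix tab mwordsA u) u = true := ext_range (a := 245528) (len := 94) h2612 m2_2612
  have h2614 : ∀ u < 245716, (fun u => chkFix tab mwordsA u) u = true := ext_range (a := 245622) (len := 94) h2613 m2_2613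
  have h2615 : ∀ u < 245810, (fun u => chkFix tab mwordsA u) u = true := ext_range (a := 245716) (len := 94) h2614 m2_2614
  have h2616 : ∀ u < 245904, (fun u => chkFix tab mwordsA u) u = true := ext_range (a := 245810) (len := 94) h2615 m2_2615
  have h2617 : ∀ u < 245998, (fun u => chkFix tab mwordsA u) u = true := ext_range (a := 245904) (len := 94) h2616 m2_2616
  have h2618 : ∀ u < 246092, (fun u => chkFix tab mwordsA u) u = true := ext_range (a := 245998) (len := 94) h2617 m2_2617
  have h2619 : ∀ u < 246186, (fun u => chkFix tab mwordsA u) u = true := ext_range (a := 246092) (len := 94) h2618 m2_2618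
  have h2620 : ∀ u < 246280, (fun u => chkFix tab mwordsA u) u = true := ext_range (a := 246186) (len := 94) h2619 m2_2619
  have h2621 : ∀ u < 246374, (fun u => chkFix tab mwordsA u) u = true := ext_range (a := 246280) (len := 94) h2620 m2_2620
  have h2622 : ∀ u < 246468, (fun u => chkFix tab mwordsA u) u = true := ext_range (a := 246374) (len := 94) h2621 m2_2621
  have h2623 : ∀ u < 246562, (fun u => chkFix tab mwordsA u) u = true := ext_range (a := 246468) (len := 94) h2622 m2_2622
  have h2624 : ∀ u < 246656, (fun u => chkFix tab mwordsA u) u = true := ext_range (a := 246562) (len := 94) h2623 m2_2623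
  have h2625 : ∀ u < 246750, (fun u => chkFix tab mwordsA u) u = true := ext_range (a := 246656) (len := 94) h2624 m2_2624
  have h2626 : ∀ u < 246844, (fun u => chkFix tab mwordsA u) u = true := ext_range (a := 246750) (len := 94) h2625 m2_2625
  have h2627 : ∀ u < 246938, (fun u => chkFix tab mwordsA u) u = true := ext_range (a := 246844) (len := 94) h2626 m2_2626
  have h2628 : ∀ u < 247032, (fun u => chkFix tab mwordsA u) u = true := ext_range (a := 246938) (len := 94) h2627 m2_2627
  have h2629 : ∀ u < 247126, (fun u => chkFix tab mwordsA u) u = true := ext_range (a := 247032) (len := 94) h2628 m2_2628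
  have h2630 : ∀ u < 247220, (fun u => chkFix tab mwordsA u) u = true := ext_range (a := 247126) (len := 94) h2629 m2_2629
  have h2631 : ∀ u < 247314, (fun u => chkFix tab mwordsA u) u = true := ext_range (a := 247220) (len := 94) h2630 m2_2630
  have h2632 : ∀ u < 247408, (fun u => chkFix tab mwordsA u) u = true := ext_range (a := 247314) (len := 94) h2631 m2_2631
  have h2633 : ∀ u < 247502, (fun u => chkFix tab mwordsA u) u = true := ext_range (a := 247408) (len := 94) h2632 m2_2632
  have h2634 : ∀ u < 247596, (fun u => chkFix tab mwordsA u) u = true := ext_range (a := 247502) (len := 94) h2633 m2_2633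
  have h2635 : ∀ u < 247690, (fun u => chkFix tab mwordsA u) u = true := ext_range (a := 247596) (len := 94) h2634 m2_2634
  have h2636 : ∀ u < 247784, (fun u => chkFix tab mwordsA u) u = true := ext_range (a := 247690) (len := 94) h2635 m2_2635
  have h2637 : ∀ u < 247878, (fun u => chkFix tab mwordsA u) u = true := ext_range (a := 247784) (len := 94) h2636 m2_2636
  have h2638 : ∀ u < 247972, (fun u => chkFix tab mwordsA u) u = true := ext_range (a := 247878) (len := 94) h2637 m2_2637
  have h2639 : ∀ u < 248066, (fun u => chkFix tab mwordsA u) u = true := ext_range (a := 247972) (len := 94) h2638 m2_2638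
  have h2640 : ∀ u < 248160, (fun u => chkFix tab mwordsA u) u = true := ext_range (a := 248066) (len := 94) h2639 m2_2639
  have h2641 : ∀ u < 248254, (fun u => chkFix tab mwordsA u) u = true := ext_range (a := 248160) (len := 94) h2640 m2_2640
  have h2642 : ∀ u < 248348, (fun u => chkFix tab mwordsA u) u = true := ext_range (a := 248254) (len := 94) h2641 m2_2641
  have h2643 : ∀ u < 248442, (fun u => chkFix tab mwordsA u) u = true := ext_range (a := 248348) (len := 94) h2642 m2_2642
  have h2644 : ∀ u < 248536, (fun u => chkFix tab mwordsA u) u = true := ext_range (a := 248442) (len := 94) h2643 m2_2643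
  have h2645 : ∀ u < 248630, (fun u => chkFix tab mwordsA u) u = true := ext_range (a := 248536) (len := 94) h2644 m2_2644
  have h2646 : ∀ u < 248724, (fun u => chkFix tab mwordsA u) u = true := ext_range (a := 248630) (len := 94) h2645 m2_2645
  have h2647 : ∀ u < 248818, (fun u => chkFix tab mwordsA u) u = true := ext_range (a := 248724) (len := 94) h2646 m2_2646
  have h2648 : ∀ u < 248912, (fun u => chkFix tab mwordsA u) u = true := ext_range (a := 248818) (len := 94) h2647 m2_2647
  have h2649 : ∀ u < 249006, (fun u => chkFix tab mwordsA u) u = true := ext_range (a := 248912) (len := 94) h2648 m2_2648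
  have h2650 : ∀ u < 249100, (fun u => chkFix tab mwordsA u) u = true := ext_range (a := 249006) (len := 94) h2649 m2_2649
  have h2651 : ∀ u < 249194, (fun u => chkFix tab mwordsA u) u = true := ext_range (a := 249100) (len := 94) h2650 m2_2650
  have h2652 : ∀ u < 249288, (fun u => chkFix tab mwordsA u) u = true := ext_range (a := 249194) (len := 94) h2651 m2_2651
  have h2653 : ∀ u < 249382, (fun u => chkFix tab mwordsA u) u = true := ext_range (a := 249288) (len := 94) h2652 m2_2652
  have h2654 : ∀ u < 249476, (fun u => chkFix tab mwordsA u) u = true := ext_range (a := 249382) (len := 94) h2653 m2_2653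
  have h2655 : ∀ u < 249570, (fun u => chkFix tab mwordsA u) u = true := ext_range (a := 249476) (len := 94) h2654 m2_2654
  have h2656 : ∀ u < 249664, (fun u => chkFix tab mwordsA u) u = true := ext_range (a := 249570) (len := 94) h2655 m2_2655
  have h2657 : ∀ u < 249758, (fun u => chkFix tab mwordsA u) u = true := ext_range (a := 249664) (len := 94) h2656 m2_2656
  have h2658 : ∀ u < 249852, (fun u => chkFix tab mwordsA u) u = true := ext_range (a := 249758) (len := 94) h2657 m2_2657
  have h2659 : ∀ u < 249946, (fun u => chkFix tab mwordsA u) u = true := ext_range (a := 249852) (len := 94) h2658 m2_2658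
  have h2660 : ∀ u < 250040, (fun u => chkFix tab mwordsA u) u = true := ext_range (a := 249946) (len := 94) h2659 m2_2659
  have h2661 : ∀ u < 250134, (fun u => chkFix tab mwordsA u) u = true := ext_range (a := 250040) (len := 94) h2660 m2_2660
  have h2662 : ∀ u < 250228, (fun u => chkFix tab mwordsA u) u = true := ext_range (a := 250134) (len := 94) h2661 m2_2661
  have h2663 : ∀ u < 250322, (fun u => chkFix tab mwordsA u) u = true := ext_range (a := 250228) (len := 94) h2662 m2_2662
  have h2664 : ∀ u < 250416, (fun u => chkFix tab mwordsA u) u = true := ext_range (a := 250322) (len := 94) h2663 m2_2663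
  have h2665 : ∀ u < 250510, (fun u => chkFix tab mwordsA u) u = true := ext_range (a := 250416) (len := 94) h2664 m2_2664
  have h2666 : ∀ u < 250604, (fun u => chkFix tab mwordsA u) u = true := ext_range (a := 250510) (len := 94) h2665 m2_2665
  have h2667 : ∀ u < 250698, (fun u => chkFix tab mwordsA u) u = true := ext_range (a := 250604) (len := 94) h2666 m2_2666
  have h2668 : ∀ u < 250792, (fun u => chkFix tab mwordsA u) u = true := ext_range (a := 250698) (len := 94) h2667 m2_2667
  have h2669 : ∀ u < 250886, (fun u => chkFix tab mwordsA u) u = true := ext_range (a := 250792) (len := 94) h2668 m2_2668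
  have h2670 : ∀ u < 250980, (fun u => chkFix tab mwordsA u) u = true := ext_range (a := 250886) (len := 94) h2669 m2_2669
  have h2671 : ∀ u < 251074, (fun u => chkFix tab mwordsA u) u = true := ext_range (a := 250980) (len := 94) h2670 m2_2670
  have h2672 : ∀ u < 251168, (fun u => chkFix tab mwordsA u) u = true := ext_range (a := 251074) (len := 94) h2671 m2_2671
  have h2673 : ∀ u < 251262, (fun u => chkFix tab mwordsA u) u = true := ext_range (a := 251168) (len := 94) h2672 m2_2672
  have h2674 : ∀ u < 251356, (fun u => chkFix tab mwordsA u) u = true := ext_range (a := 251262) (len := 94) h2673 m2_2673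
  have h2675 : ∀ u < 251450, (fun u => chkFix tab mwordsA u) u = true := ext_range (a := 251356) (len := 94) h2674 m2_2674
  have h2676 : ∀ u < 251544, (fun u => chkFix tab mwordsA u) u = true := ext_range (a := 251450) (len := 94) h2675 m2_2675
  have h2677 : ∀ u < 251638, (fun u => chkFix tab mwordsA u) u = true := ext_range (a := 251544) (len := 94) h2676 m2_2676
  have h2678 : ∀ u < 251732, (fun u => chkFix tab mwordsA u) u = true := ext_range (a := 251638) (len := 94) h2677 m2_2677
  have h2679 : ∀ u < 251826, (fun u => chkFix tab mwordsA u) u = true := ext_range (a := 251732) (len := 94) h2678 m2_2678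
  have h2680 : ∀ u < 251920, (fun u => chkFix tab mwordsA u) u = true := ext_range (a := 251826) (len := 94) h2679 m2_2679
  have h2681 : ∀ u < 252014, (fun u => chkFix tab mwordsA u) u = true := ext_range (a := 251920) (len := 94) h2680 m2_2680
  have h2682 : ∀ u < 252108, (fun u => chkFix tab mwordsA u) u = true := ext_range (a := 252014) (len := 94) h2681 m2_2681
  have h2683 : ∀ u < 252202, (fun u => chkFix tab mwordsA u) u = true := ext_range (a := 252108) (len := 94) h2682 m2_2682
  have h2684 : ∀ u < 252296, (fun u => chkFix tab mwordsA u) u = true := ext_range (a := 252202) (len := 94) h2683 m2_2683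
  have h2685 : ∀ u < 252390, (fun u => chkFix tab mwordsA u) u = true := ext_range (a := 252296) (len := 94) h2684 m2_2684
  have h2686 : ∀ u < 252484, (fun u => chkFix tab mwordsA u) u = true := ext_range (a := 252390) (len := 94) h2685 m2_2685
  have h2687 : ∀ u < 252578, (fun u => chkFix tab mwordsA u) u = true := ext_range (a := 252484) (len := 94) h2686 m2_2686
  have h2688 : ∀ u < 252672, (fun u => chkFix tab mwordsA u) u = true := ext_range (a := 252578) (len := 94) h2687 m2_2687
  have h2689 : ∀ u < 252766, (fun u => chkFix tab mwordsA u) u = true := ext_range (a := 252672) (len := 94) h2688 m2_2688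
  have h2690 : ∀ u < 252860, (fun u => chkFix tab mwordsA u) u = true := ext_range (a := 252766) (len := 94) h2689 m2_2689
  have h2691 : ∀ u < 252954, (fun u => chkFix tab mwordsA u) u = true := ext_range (a := 252860) (len := 94) h2690 m2_2690
  have h2692 : ∀ u < 253048, (fun u => chkFix tab mwordsA u) u = true := ext_range (a := 252954) (len := 94) h2691 m2_2691
  have h2693 : ∀ u < 253142, (fun u => chkFix tab mwordsA u) u = true := ext_range (a := 253048) (len := 94) h2692 m2_2692
  have h2694 : ∀ u < 253236, (fun u => chkFix tab mwordsA u) u = true := ext_range (a := 253142) (len := 94) h2693 m2_2693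
  have h2695 : ∀ u < 253330, (fun u => chkFix tab mwordsA u) u = true := ext_range (a := 253236) (len := 94) h2694 m2_2694
  have h2696 : ∀ u < 253424, (fun u => chkFix tab mwordsA u) u = true := ext_range (a := 253330) (len := 94) h2695 m2_2695
  have h2697 : ∀ u < 253518, (fun u => chkFix tab mwordsA u) u = true := ext_range (a := 253424) (len := 94) h2696 m2_2696
  have h2698 : ∀ u < 253612, (fun u => chkFix tab mwordsA u) u = true := ext_range (a := 253518) (len := 94) h2697 m2_2697
  have h2699 : ∀ u < 253706, (fun u => chkFix tab mwordsA u) u = true := ext_range (a := 253612) (len := 94) h2698 m2_2698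
  have h2700 : ∀ u < 253800, (fun u => chkFix tab mwordsA u) u = true := ext_range (a := 253706) (len := 94) h2699 m2_2699
  have h2701 : ∀ u < 253894, (fun u => chkFix tab mwordsA u) u = true := ext_range (a := 253800) (len := 94) h2700 m2_2700
  have h2702 : ∀ u < 253988, (fun u => chkFix tab mwordsA u) u = true := ext_range (a := 253894) (len := 94) h2701 m2_2701
  have h2703 : ∀ u < 254082, (fun u => chkFix tab mwordsA u) u = true := ext_range (a := 253988) (len := 94) h2702 m2_2702
  have h2704 : ∀ u < 254176, (fun u => chkFix tab mwordsA u) u = true := ext_range (a := 254082) (len := 94) h2703 m2_2703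
  have h2705 : ∀ u < 254270, (fun u => chkFix tab mwordsA u) u = true := ext_range (a := 254176) (len := 94) h2704 m2_2704
  have h2706 : ∀ u < 254364, (fun u => chkFix tab mwordsA u) u = true := ext_range (a := 254270) (len := 94) h2705 m2_2705
  have h2707 : ∀ u < 254458, (fun u => chkFix tab mwordsA u) u = true := ext_range (a := 254364) (len := 94) h2706 m2_2706
  have h2708 : ∀ u < 254552, (fun u => chkFix tab mwordsA u) u = true := ext_range (a := 254458) (len := 94) h2707 m2_2707
  have h2709 : ∀ u < 254646, (fun u => chkFix tab mwordsA u) u = true := ext_range (a := 254552) (len := 94) h2708 m2_2708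
  have h2710 : ∀ u < 254740, (fun u => chkFix tab mwordsA u) u = true := ext_range (a := 254646) (len := 94) h2709 m2_2709
  have h2711 : ∀ u < 254834, (fun u => chkFix tab mwordsA u) u = true := ext_range (a := 254740) (len := 94) h2710 m2_2710
  have h2712 : ∀ u < 254928, (fun u => chkFix tab mwordsA u) u = true := ext_range (a := 254834) (len := 94) h2711 m2_2711
  have h2713 : ∀ u < 255022, (fun u => chkFix tab mwordsA u) u = true := ext_range (a := 254928) (len := 94) h2712 m2_2712
  have h2714 : ∀ u < 255116, (fun u => chkFix tab mwordsA u) u = true := ext_range (a := 255022) (len := 94) h2713 m2_2713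
  have h2715 : ∀ u < 255210, (fun u => chkFix tab mwordsA u) u = true := ext_range (a := 255116) (len := 94) h2714 m2_2714
  have h2716 : ∀ u < 255304, (fun u => chkFix tab mwordsA u) u = true := ext_range (a := 255210) (len := 94) h2715 m2_2715
  have h2717 : ∀ u < 255398, (fun u => chkFix tab mwordsA u) u = true := ext_range (a := 255304) (len := 94) h2716 m2_2716
  have h2718 : ∀ u < 255492, (fun u => chkFix tab mwordsA u) u = true := ext_range (a := 255398) (len := 94) h2717 m2_2717
  have h2719 : ∀ u < 255586, (fun u => chkFix tab mwordsA u) u = true := ext_range (a := 255492) (len := 94) h2718 m2_2718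
  have h2720 : ∀ u < 255680, (fun u => chkFix tab mwordsA u) u = true := ext_range (a := 255586) (len := 94) h2719 m2_2719
  have h2721 : ∀ u < 255774, (fun u => chkFix tab mwordsA u) u = true := ext_range (a := 255680) (len := 94) h2720 m2_2720
  have h2722 : ∀ u < 255868, (fun u => chkFix tab mwordsA u) u = true := ext_range (a := 255774) (len := 94) h2721 m2_2721
  have h2723 : ∀ u < 255962, (fun u => chkFix tab mwordsA u) u = true := ext_range (a := 255868) (len := 94) h2722 m2_2722
  have h2724 : ∀ u < 256056, (fun u => chkFix tab mwordsA u) u = true := ext_range (a := 255962) (len := 94) h2723 m2_2723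
  have h2725 : ∀ u < 256150, (fun u => chkFix tab mwordsA u) u = true := ext_range (a := 256056) (len := 94) h2724 m2_2724
  have h2726 : ∀ u < 256244, (fun u => chkFix tab mwordsA u) u = true := ext_range (a := 256150) (len := 94) h2725 m2_2725
  have h2727 : ∀ u < 256338, (fun u => chkFix tab mwordsA u) u = true := ext_range (a := 256244) (len := 94) h2726 m2_2726
  have h2728 : ∀ u < 256432, (fun u => chkFix tab mwordsA u) u = true := ext_range (a := 256338) (len := 94) h2727 m2_2727
  have h2729 : ∀ u < 256526, (fun u => chkFix tab mwordsA u) u = true := ext_range (a := 256432) (len := 94) h2728 m2_2728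
  have h2730 : ∀ u < 256620, (fun u => chkFix tab mwordsA u) u = true := ext_range (a := 256526) (len := 94) h2729 m2_2729
  have h2731 : ∀ u < 256714, (fun u => chkFix tab mwordsA u) u = true := ext_range (a := 256620) (len := 94) h2730 m2_2730
  have h2732 : ∀ u < 256808, (fun u => chkFix tab mwordsA u) u = true := ext_range (a := 256714) (len := 94) h2731 m2_2731
  have h2733 : ∀ u < 256902, (fun u => chkFix tab mwordsA u) u = true := ext_range (a := 256808) (len := 94) h2732 m2_2732
  have h2734 : ∀ u < 256996, (fun u => chkFix tab mwordsA u) u = true := ext_range (a := 256902) (len := 94) h2733 m2_2733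
  have h2735 : ∀ u < 257090, (fun u => chkFix tab mwordsA u) u = true := ext_range (a := 256996) (len := 94) h2734 m2_2734
  have h2736 : ∀ u < 257184, (fun u => chkFix tab mwordsA u) u = true := ext_range (a := 257090) (len := 94) h2735 m2_2735
  have h2737 : ∀ u < 257278, (fun u => chkFix tab mwordsA u) u = true := ext_range (a := 257184) (len := 94) h2736 m2_2736
  have h2738 : ∀ u < 257372, (fun u => chkFix tab mwordsA u) u = true := ext_range (a := 257278) (len := 94) h2737 m2_2737
  have h2739 : ∀ u < 257466, (fun u => chkFix tab mwordsA u) u = true := ext_range (a := 257372) (len := 94) h2738 m2_2738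
  have h2740 : ∀ u < 257560, (fun u => chkFix tab mwordsA u) u = true := ext_range (a := 257466) (len := 94) h2739 m2_2739
  have h2741 : ∀ u < 257654, (fun u => chkFix tab mwordsA u) u = true := ext_range (a := 257560) (len := 94) h2740 m2_2740
  have h2742 : ∀ u < 257748, (fun u => chkFix tab mwordsA u) u = true := ext_range (a := 257654) (len := 94) h2741 m2_2741
  have h2743 : ∀ u < 257842, (fun u => chkFix tab mwordsA u) u = true := ext_range (a := 257748) (len := 94) h2742 m2_2742
  have h2744 : ∀ u < 257936, (fun u => chkFix tab mwordsA u) u = true := ext_range (a := 257842) (len := 94) h2743 m2_2743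
  have h2745 : ∀ u < 258030, (fun u => chkFix tab mwordsA u) u = true := ext_range (a := 257936) (len := 94) h2744 m2_2744
  have h2746 : ∀ u < 258124, (fun u => chkFix tab mwordsA u) u = true := ext_range (a := 258030) (len := 94) h2745 m2_2745
  have h2747 : ∀ u < 258218, (fun u => chkFix tab mwordsA u) u = true := ext_range (a := 258124) (len := 94) h2746 m2_2746
  have h2748 : ∀ u < 258312, (fun u => chkFix tab mwordsA u) u = true := ext_range (a := 258218) (len := 94) h2747 m2_2747
  have h2749 : ∀ u < 258406, (fun u => chkFix tab mwordsA u) u = true := ext_range (a := 258312) (len := 94) h2748 m2_2748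
  have h2750 : ∀ u < 258500, (fun u => chkFix tab mwordsA u) u = true := ext_range (a := 258406) (len := 94) h2749 m2_2749
  have h2751 : ∀ u < 258594, (fun u => chkFix tab mwordsA u) u = true := ext_range (a := 258500) (len := 94) h2750 m2_2750
  have h2752 : ∀ u < 258688, (fun u => chkFix tab mwordsA u) u = true := ext_range (a := 258594) (len := 94) h2751 m2_2751
  have h2753 : ∀ u < 258782, (fun u => chkFix tab mwordsA u) u = true := ext_range (a := 258688) (len := 94) h2752 m2_2752
  have h2754 : ∀ u < 258876, (fun u => chkFix tab mwordsA u) u = true := ext_range (a := 258782) (len := 94) h2753 m2_2753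
  have h2755 : ∀ u < 258970, (fun u => chkFix tab mwordsA u) u = true := ext_range (a := 258876) (len := 94) h2754 m2_2754
  have h2756 : ∀ u < 259064, (fun u => chkFix tab mwordsA u) u = true := ext_range (a := 258970) (len := 94) h2755 m2_2755
  have h2757 : ∀ u < 259158, (fun u => chkFix tab mwordsA u) u = true := ext_range (a := 259064) (len := 94) h2756 m2_2756
  have h2758 : ∀ u < 259252, (fun u => chkFix tab mwordsA u) u = true := ext_range (a := 259158) (len := 94) h2757 m2_2757
  have h2759 : ∀ u < 259346, (fun u => chkFix tab mwordsA u) u = true := ext_range (a := 259252) (len := 94) h2758 m2_2758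
  have h2760 : ∀ u < 259440, (fun u => chkFix tab mwordsA u) u = true := ext_range (a := 259346) (len := 94) h2759 m2_2759
  have h2761 : ∀ u < 259534, (fun u => chkFix tab mwordsA u) u = true := ext_range (a := 259440) (len := 94) h2760 m2_2760
  have h2762 : ∀ u < 259628, (fun u => chkFix tab mwordsA u) u = true := ext_range (a := 259534) (len := 94) h2761 m2_2761
  have h2763 : ∀ u < 259722, (fun u => chkFix tab mwordsA u) u = true := ext_range (a := 259628) (len := 94) h2762 m2_2762
  have h2764 : ∀ u < 259816, (fun u => chkFix tab mwordsA u) u = true := ext_range (a := 259722) (len := 94) h2763 m2_2763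
  have h2765 : ∀ u < 259910, (fun u => chkFix tab mwordsA u) u = true := ext_range (a := 259816) (len := 94) h2764 m2_2764
  have h2766 : ∀ u < 260004, (fun u => chkFix tab mwordsA u) u = true := ext_range (a := 259910) (len := 94) h2765 m2_2765
  have h2767 : ∀ u < 260098, (fun u => chkFix tab mwordsA u) u = true := ext_range (a := 260004) (len := 94) h2766 m2_2766
  have h2768 : ∀ u < 260192, (fun u => chkFix tab mwordsA u) u = true := ext_range (a := 260098) (len := 94) h2767 m2_2767
  have h2769 : ∀ u < 260286, (fun u => chkFix tab mwordsA u) u = true := ext_range (a := 260192) (len := 94) h2768 m2_2768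
  have h2770 : ∀ u < 260380, (fun u => chkFix tab mwordsA u) u = true := ext_range (a := 260286) (len := 94) h2769 m2_2769
  have h2771 : ∀ u < 260474, (fun u => chkFix tab mwordsA u) u = true := ext_range (a := 260380) (len := 94) h2770 m2_2770
  have h2772 : ∀ u < 260568, (fun u => chkFix tab mwordsA u) u = true := ext_range (a := 260474) (len := 94) h2771 m2_2771
  have h2773 : ∀ u < 260662, (fun u => chkFix tab mwordsA u) u = true := ext_range (a := 260568) (len := 94) h2772 m2_2772
  have h2774 : ∀ u < 260756, (fun u => chkFix tab mwordsA u) u = true := ext_range (a := 260662) (len := 94) h2773 m2_2773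
  have h2775 : ∀ u < 260850, (fun u => chkFix tab mwordsA u) u = true := ext_range (a := 260756) (len := 94) h2774 m2_2774
  have h2776 : ∀ u < 260944, (fun u => chkFix tab mwordsA u) u = true := ext_range (a := 260850) (len := 94) h2775 m2_2775
  have h2777 : ∀ u < 261038, (fun u => chkFix tab mwordsA u) u = true := ext_range (a := 260944) (len := 94) h2776 m2_2776
  have h2778 : ∀ u < 261132, (fun u => chkFix tab mwordsA u) u = true := ext_range (a := 261038) (len := 94) h2777 m2_2777
  have h2779 : ∀ u < 261226, (fun u => chkFix tab mwordsA u) u = true := ext_range (a := 261132) (len := 94) h2778 m2_2778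
  have h2780 : ∀ u < 261320, (fun u => chkFix tab mwordsA u) u = true := ext_range (a := 261226) (len := 94) h2779 m2_2779
  have h2781 : ∀ u < 261414, (fun u => chkFix tab mwordsA u) u = true := ext_range (a := 261320) (len := 94) h2780 m2_2780
  have h2782 : ∀ u < 261508, (fun u => chkFix tab mwordsA u) u = true := ext_range (a := 261414) (len := 94) h2781 m2_2781
  have h2783 : ∀ u < 261602, (fun u => chkFix tab mwordsA u) u = true := ext_range (a := 261508) (len := 94) h2782 m2_2782
  have h2784 : ∀ u < 261696, (fun u => chkFix tab mwordsA u) u = true := ext_range (a := 261602) (len := 94) h2783 m2_2783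
  have h2785 : ∀ u < 261790, (fun u => chkFix tab mwordsA u) u = true := ext_range (a := 261696) (len := 94) h2784 m2_2784
  have h2786 : ∀ u < 261884, (fun u => chkFix tab mwordsA u) u = true := ext_range (a := 261790) (len := 94) h2785 m2_2785
  have h2787 : ∀ u < 261978, (fun u => chkFix tab mwordsA u) u = true := ext_range (a := 261884) (len := 94) h2786 m2_2786
  have h2788 : ∀ u < 262072, (fun u => chkFix tab mwordsA u) u = true := ext_range (a := 261978) (len := 94) h2787 m2_2787
  have h2789 : ∀ u < 262166, (fun u => chkFix tab mwordsA u) u = true := ext_range (a := 262072) (len := 94) h2788 m2_2788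
  have h2790 : ∀ u < 262260, (fun u => chkFix tab mwordsA u) u = true := ext_range (a := 262166) (len := 94) h2789 m2_2789
  have h2791 : ∀ u < 262354, (fun u => chkFix tab mwordsA u) u = true := ext_range (a := 262260) (len := 94) h2790 m2_2790
  have h2792 : ∀ u < 262448, (fun u => chkFix tab mwordsA u) u = true := ext_range (a := 262354) (len := 94) h2791 m2_2791
  have h2793 : ∀ u < 262542, (fun u => chkFix tab mwordsA u) u = true := ext_range (a := 262448) (len := 94) h2792 m2_2792
  have h2794 : ∀ u < 262636, (fun u => chkFix tab mwordsA u) u = true := ext_range (a := 262542) (len := 94) h2793 m2_2793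
  have h2795 : ∀ u < 262730, (fun u => chkFix tab mwordsA u) u = true := ext_range (a := 262636) (len := 94) h2794 m2_2794
  have h2796 : ∀ u < 262824, (fun u => chkFix tab mwordsA u) u = true := ext_range (a := 262730) (len := 94) h2795 m2_2795
  have h2797 : ∀ u < 262918, (fun u => chkFix tab mwordsA u) u = true := ext_range (a := 262824) (len := 94) h2796 m2_2796
  have h2798 : ∀ u < 263012, (fun u => chkFix tab mwordsA u) u = true := ext_range (a := 262918) (len := 94) h2797 m2_2797
  have h2799 : ∀ u < 263106, (fun u => chkFix tab mwordsA u) u = true := ext_range (a := 263012) (len := 94) h2798 m2_2798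
  have h2800 : ∀ u < 263200, (fun u => chkFix tab mwordsA u) u = true := ext_range (a := 263106) (len := 94) h2799 m2_2799
  have h2801 : ∀ u < 263294, (fun u => chkFix tab mwordsA u) u = true := ext_range (a := 263200) (len := 94) h2800 m2_2800
  have h2802 : ∀ u < 263388, (fun u => chkFix tab mwordsA u) u = true := ext_range (a := 263294) (len := 94) h2801 m2_2801
  have h2803 : ∀ u < 263482, (fun u => chkFix tab mwordsA u) u = true := ext_range (a := 263388) (len := 94) h2802 m2_2802
  have h2804 : ∀ u < 263576, (fun u => chkFix tab mwordsA u) u = true := ext_range (a := 263482) (len := 94) h2803 m2_2803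
  have h2805 : ∀ u < 263670, (fun u => chkFix tab mwordsA u) u = true := ext_range (a := 263576) (len := 94) h2804 m2_2804
  have h2806 : ∀ u < 263764, (fun u => chkFix tab mwordsA u) u = true := ext_range (a := 263670) (len := 94) h2805 m2_2805
  have h2807 : ∀ u < 263858, (fun u => chkFix tab mwordsA u) u = true := ext_range (a := 263764) (len := 94) h2806 m2_2806
  have h2808 : ∀ u < 263952, (fun u => chkFix tab mwordsA u) u = true := ext_range (a := 263858) (len := 94) h2807 m2_2807
  have h2809 : ∀ u < 264046, (fun u => chkFix tab mwordsA u) u = true := ext_range (a := 263952) (len := 94) h2808 m2_2808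
  have h2810 : ∀ u < 264140, (fun u => chkFix tab mwordsA u) u = true := ext_range (a := 264046) (len := 94) h2809 m2_2809
  have h2811 : ∀ u < 264234, (fun u => chkFix tab mwordsA u) u = true := ext_range (a := 264140) (len := 94) h2810 m2_2810
  have h2812 : ∀ u < 264328, (fun u => chkFix tab mwordsA u) u = true := ext_range (a := 264234) (len := 94) h2811 m2_2811
  have h2813 : ∀ u < 264422, (fun u => chkFix tab mwordsA u) u = true := ext_range (a := 264328) (len := 94) h2812 m2_2812
  have h2814 : ∀ u < 264516, (fun u => chkFix tab mwordsA u) u = true := ext_range (a := 264422) (len := 94) h2813 m2_2813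
  have h2815 : ∀ u < 264610, (fun u => chkFix tab mwordsA u) u = true := ext_range (a := 264516) (len := 94) h2814 m2_2814
  have h2816 : ∀ u < 264704, (fun u => chkFix tab mwordsA u) u = true := ext_range (a := 264610) (len := 94) h2815 m2_2815
  have h2817 : ∀ u < 264798, (fun u => chkFix tab mwordsA u) u = true := ext_range (a := 264704) (len := 94) h2816 m2_2816
  have h2818 : ∀ u < 264892, (fun u => chkFix tab mwordsA u) u = true := ext_range (a := 264798) (len := 94) h2817 m2_2817
  have h2819 : ∀ u < 264986, (fun u => chkFix tab mwordsA u) u = true := ext_range (a := 264892) (len := 94) h2818 m2_2818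
  have h2820 : ∀ u < 265080, (fun u => chkFix tab mwordsA u) u = true := ext_range (a := 264986) (len := 94) h2819 m2_2819
  have h2821 : ∀ u < 265174, (fun u => chkFix tab mwordsA u) u = true := ext_range (a := 265080) (len := 94) h2820 m2_2820
  have h2822 : ∀ u < 265268, (fun u => chkFix tab mwordsA u) u = true := ext_range (a := 265174) (len := 94) h2821 m2_2821
  have h2823 : ∀ u < 265362, (fun u => chkFix tab mwordsA u) u = true := ext_range (a := 265268) (len := 94) h2822 m2_2822
  have h2824 : ∀ u < 265456, (fun u => chkFix tab mwordsA u) u = true := ext_range (a := 265362) (len := 94) h2823 m2_2823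
  have h2825 : ∀ u < 265550, (fun u => chkFix tab mwordsA u) u = true := ext_range (a := 265456) (len := 94) h2824 m2_2824
  have h2826 : ∀ u < 265644, (fun u => chkFix tab mwordsA u) u = true := ext_range (a := 265550) (len := 94) h2825 m2_2825
  have h2827 : ∀ u < 265738, (fun u => chkFix tab mwordsA u) u = true := ext_range (a := 265644) (len := 94) h2826 m2_2826
  have h2828 : ∀ u < 265832, (fun u => chkFix tab mwordsA u) u = true := ext_range (a := 265738) (len := 94) h2827 m2_2827
  have h2829 : ∀ u < 265926, (fun u => chkFix tab mwordsA u) u = true := ext_range (a := 265832) (len := 94) h2828 m2_2828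
  have h2830 : ∀ u < 266020, (fun u => chkFix tab mwordsA u) u = true := ext_range (a := 265926) (len := 94) h2829 m2_2829
  have h2831 : ∀ u < 266114, (fun u => chkFix tab mwordsA u) u = true := ext_range (a := 266020) (len := 94) h2830 m2_2830
  have h2832 : ∀ u < 266208, (fun u => chkFix tab mwordsA u) u = true := ext_range (a := 266114) (len := 94) h2831 m2_2831
  have h2833 : ∀ u < 266302, (fun u => chkFix tab mwordsA u) u = true := ext_range (a := 266208) (len := 94) h2832 m2_2832
  have h2834 : ∀ u < 266396, (fun u => chkFix tab mwordsA u) u = true := ext_range (a := 266302) (len := 94) h2833 m2_2833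
  have h2835 : ∀ u < 266490, (fun u => chkFix tab mwordsA u) u = true := ext_range (a := 266396) (len := 94) h2834 m2_2834
  have h2836 : ∀ u < 266560, (fun u => chkFix tab mwordsA u) u = true := ext_range (a := 266490) (len := 70) h2835 m2_2835
  exact h2836

theorem hE : ∀ c < 7, ∀ u < 269227, chkE tab c u = true := by
  intro c hc
  interval_cases c
  · exact hE0
  · exact hE1
  · exact hE2
  · exact hE3
  · exact hE4
  · exact hE5
  · exact hE6

end Cfsg.Agent.Helper9.TCData.HeA0
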