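import Cfsg.Agent.Lib.Helper9.TCData.HeA0.Main

set_option autoImplicit false
set_option maxRecDepth 1000000

namespace Cfsg.Agent.Helper9.TCData.HeA0
open Cfsg.Agent.Helper9.TC2

theorem e0_96 : allRange 228899 2564 (fun u => chkE tab 0 u) = true := by decide +kernel

theorem e0_97 : allRange 231463 2705 (fun u => chkE tab 0 u) = true := by decide +kernel

theorem e0_98 : allRange 234168 2808 (fun u => chkE tab 0 u) = true := by decide +kernel

theorem e0_99 : allRange 236976 2865 (fun u => chkE tab 0 u) = true := by decide +kernel

theorem e0_100 : allRange 239841 2863 (fun u => chkE tab 0 u) = true := by decide +kernel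

theorem e0_101 : allRange 242704 2853 (fun u => chkE tab 0 u) = true := by decide +kernel

theorem e0_102 : allRange 245557 2846 (fun u => chkE tab 0 u) = true := by decide +kernel

theorem e0_103 : allRange 248403 2927 (fun u => chkE tab 0 u) = true := by decide +kernel


end Cfsg.Agent.Helper9.TCData.HeA0
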