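import Cfsg.Agent.Lib.Helper9.TCData.HeA0.Main

set_option autoImplicit false
set_option maxRecDepth 1000000

namespace Cfsg.Agent.Helper9.TCData.HeA0
open Cfsg.Agent.Helper9.TC2

theorem f_584 : allRange 203232 348 (fun u => chkFin tab u) = true := by decide +kernel

theorem f_585 : allRange 203580 348 (fun u => chkFin tab u) = true := by decide +kernel

theorem f_586 : allRange 203928 348 (fun u => chkFin tab u) = true := by decide +kernel

theorem f_587 : allRange 204276 348 (fun u => chkFin tab u) = true := by decide +kernel

theorem f_588 : allRange 204624 348 (fun u => chkFin tab u) = true := by decide +kernel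

theorem f_589 : allRange 204972 348 (fun u => chkFin tab u) = true := by decide +kernel

theorem f_590 : allRange 205320 348 (fun u => chkFin tab u) = true := by decide +kernel

theorem f_591 : allRange 205668 348 (fun u => chkFin tab u) = true := by decide +kernel


end Cfsg.Agent.Helper9.TCData.HeA0
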