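import Cfsg.Agent.Lib.Helper9.TCData.HeA0.Main

set_option autoImplicit false
set_option maxRecDepth 1000000

namespace Cfsg.Agent.Helper9.TCData.HeA0
open Cfsg.Agent.Helper9.TC2

theorem f_680 : allRange 236640 348 (fun u => chkFin tab u) = true := by decide +kernel

theorem f_681 : allRange 236988 348 (fun u => chkFin tab u) = true := by decide +kernel

theorem f_682 : allRange 237336 348 (fun u => chkFin tab u) = true := by decide +kernel

theorem f_683 : allRange 237684 348 (fun u => chkFin tab u) = true := by decide +kernel

theorem f_684 : allRange 238032 348 (fun u => chkFin tab u) = true := by decide +kernel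

theorem f_685 : allRange 238380 348 (fun u => chkFin tab u) = true := by decide +kernel

theorem f_686 : allRange 238728 348 (fun u => chkFin tab u) = true := by decide +kernel

theorem f_687 : allRange 239076 348 (fun u => chkFin tab u) = true := by decide +kernel


end Cfsg.Agent.Helper9.TCData.HeA0
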