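import Cfsg.Agent.Lib.Helper9.TCData.HeA0.Main

set_option autoImplicit false
set_option maxRecDepth 1000000

namespace Cfsg.Agent.Helper9.TCData.HeA0
open Cfsg.Agent.Helper9.TC2

theorem m1_192 : allRange 172608 899 (fun u => chkM1 tab u) = true := by decide +kernel

theorem m1_193 : allRange 173507 899 (fun u => chkM1 tab u) = true := by decide +kernel

theorem m1_194 : allRange 174406 899 (fun u => chkM1 tab u) = true := by decide +kernel

theorem m1_195 : allRange 175305 899 (fun u => chkM1 tab u) = true := by decide +kernel

theorem m1_196 : allRange 176204 899 (fun u => chkM1 tab u) = true := by decide +kernel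

theorem m1_197 : allRange 177103 899 (fun u => chkM1 tab u) = true := by decide +kernel

theorem m1_198 : allRange 178002 899 (fun u => chkM1 tab u) = true := by decide +kernel

theorem m1_199 : allRange 178901 899 (fun u => chkM1 tab u) = true := by decide +kernel


end Cfsg.Agent.Helper9.TCData.HeA0
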