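import Cfsg.Agent.Lib.Helper9.TCData.HeA0.Main

set_option autoImplicit false
set_option maxRecDepth 1000000

namespace Cfsg.Agent.Helper9.TCData.HeA0
open Cfsg.Agent.Helper9.TC2

theorem m1_288 : allRange 258912 899 (fun u => chkM1 tab u) = true := by decide +kernel

theorem m1_289 : allRange 259811 899 (fun u => chkM1 tab u) = true := by decide +kernel

theorem m1_290 : allRange 260710 899 (fun u => chkM1 tab u) = true := by decide +kernel

theorem m1_291 : allRange 261609 899 (fun u => chkM1 tab u) = true := by decide +kernel

theorem m1_292 : allRange 262508 899 (fun u => chkM1 tab u) = true := by decide +kernel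

theorem m1_293 : allRange 263407 899 (fun u => chkM1 tab u) = true := by decide +kernel

theorem m1_294 : allRange 264306 899 (fun u => chkM1 tab u) = true := by decide +kernel

theorem m1_295 : allRange 265205 899 (fun u => chkM1 tab u) = true := by decide +kernel


end Cfsg.Agent.Helper9.TCData.HeA0
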