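import Cfsg.Agent.Lib.Helper9.TCData.HeA0.Main

set_option autoImplicit false
set_option maxRecDepth 1000000

namespace Cfsg.Agent.Helper9.TCData.HeA0
open Cfsg.Agent.Helper9.TC2

theorem ma_87 : allRange 158253 1819 (fun u => chkAux tab aux u) = true := by decide +kernel

theorem ma_88 : allRange 160072 1819 (fun u => chkAux tab aux u) = true := by decide +kernel

theorem ma_89 : allRange 161891 1819 (fun u => chkAux tab aux u) = true := by decide +kernel

theorem ma_90 : allRange 163710 1819 (fun u => chkAux tab aux u) = true := by decide +kernel

theorem ma_91 : allRange 165529 1819 (fun u => chkAux tab aux u) = true := by decide +kernel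

theorem ma_92 : allRange 167348 1819 (fun u => chkAux tab aux u) = true := by decide +kernel

theorem ma_93 : allRange 169167 1819 (fun u => chkAux tab aux u) = true := by decide +kernel

theorem ma_94 : allRange 170986 1819 (fun u => chkAux tab aux u) = true := by decide +kernel


end Cfsg.Agent.Helper9.TCData.HeA0
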