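import Cfsg.Agent.Lib.Helper9.TCData.HeA0.Main

set_option autoImplicit false
set_option maxRecDepth 1000000

namespace Cfsg.Agent.Helper9.TCData.HeA0
open Cfsg.Agent.Helper9.TC2

theorem e1_90 : allRange 225382 2779 (fun u => chkE tab 1 u) = true := by decide +kernel

theorem e1_91 : allRange 228161 2862 (fun u => chkE tab 1 u) = true := by decide +kernel

theorem e1_92 : allRange 231023 2799 (fun u => chkE tab 1 u) = true := by decide +kernel

theorem e1_93 : allRange 233822 2905 (fun u => chkE tab 1 u) = true := by decide +kernel

theorem e1_94 : allRange 236727 2870 (fun u => chkE tab 1 u) = true := by decide +kernel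

theorem e1_95 : allRange 239597 3060 (fun u => chkE tab 1 u) = true := by decide +kernel

theorem e1_96 : allRange 242657 3182 (fun u => chkE tab 1 u) = true := by decide +kernel

theorem e1_97 : allRange 245839 2988 (fun u => chkE tab 1 u) = true := by decide +kernel


end Cfsg.Agent.Helper9.TCData.HeA0
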