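import Cfsg.Agent.Lib.Helper9.TCData.HeA0.Main

set_option autoImplicit false
set_option maxRecDepth 1000000

namespace Cfsg.Agent.Helper9.TCData.HeA0
open Cfsg.Agent.Helper9.TC2

theorem m2_612 : allRange 57528 94 (fun u => chkFix tab mwordsA u) = true := by decide +kernel

theorem m2_613 : allRange 57622 94 (fun u => chkFix tab mwordsA u) = true := by decide +kernel

theorem m2_614 : allRange 57716 94 (fun u => chkFix tab mwordsA u) = true := by decide +kernel

theorem m2_615 : allRange 57810 94 (fun u => chkFix tab mwordsA u) = true := by decide +kernel

theorem m2_616 : allRange 57904 94 (fun u => chkFix tab mwordsA u) = true := by decide +kernel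

theorem m2_617 : allRange 57998 94 (fun u => chkFix tab mwordsA u) = true := by decide +kernel

theorem m2_618 : allRange 58092 94 (fun u => chkFix tab mwordsA u) = true := by decide +kernel

theorem m2_619 : allRange 58186 94 (fun u => chkFix tab mwordsA u) = true := by decide +kernel


end Cfsg.Agent.Helper9.TCData.HeA0
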