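import Cfsg.Agent.Lib.Helper9.TCData.HeA0.Main

set_option autoImplicit false
set_option maxRecDepth 1000000

namespace Cfsg.Agent.Helper9.TCData.HeA0
open Cfsg.Agent.Helper9.TC2

theorem m2_804 : allRange 75576 94 (fun u => chkFix tab mwordsA u) = true := by decide +kernel

theorem m2_805 : allRange 75670 94 (fun u => chkFix tab mwordsA u) = true := by decide +kernel

theorem m2_806 : allRange 75764 94 (fun u => chkFix tab mwordsA u) = true := by decide +kernel

theorem m2_807 : allRange 75858 94 (fun u => chkFix tab mwordsA u) = true := by decide +kernel

theorem m2_808 : allRange 75952 94 (fun u => chkFix tab mwordsA u) = true := by decide +kernel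

theorem m2_809 : allRange 76046 94 (fun u => chkFix tab mwordsA u) = true := by decide +kernel

theorem m2_810 : allRange 76140 94 (fun u => chkFix tab mwordsA u) = true := by decide +kernel

theorem m2_811 : allRange 76234 94 (fun u => chkFix tab mwordsA u) = true := by decide +kernel


end Cfsg.Agent.Helper9.TCData.HeA0
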