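import Cfsg.Agent.Lib.Helper9.TCData.HeA0.Main

set_option autoImplicit false
set_option maxRecDepth 1000000

namespace Cfsg.Agent.Helper9.TCData.HeA0
open Cfsg.Agent.Helper9.TC2

theorem e2_90 : allRange 218816 2220 (fun u => chkE tab 2 u) = true := by decide +kernel

theorem e2_91 : allRange 221036 2311 (fun u => chkE tab 2 u) = true := by decide +kernel

theorem e2_92 : allRange 223347 2419 (fun u => chkE tab 2 u) = true := by decide +kernel

theorem e2_93 : allRange 225766 2271 (fun u => chkE tab 2 u) = true := by decide +kernel

theorem e2_94 : allRange 228037 2303 (fun u => chkE tab 2 u) = true := by decide +kernel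

theorem e2_95 : allRange 230340 2275 (fun u => chkE tab 2 u) = true := by decide +kernel

theorem e2_96 : allRange 232615 2317 (fun u => chkE tab 2 u) = true := by decide +kernel

theorem e2_97 : allRange 234932 2433 (fun u => chkE tab 2 u) = true := by decide +kernel


end Cfsg.Agent.Helper9.TCData.HeA0
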