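import Cfsg.Agent.Lib.Helper9.TCData.HeA0.Main

set_option autoImplicit false
set_option maxRecDepth 1000000

namespace Cfsg.Agent.Helper9.TCData.HeA0
open Cfsg.Agent.Helper9.TC2

theorem m2_1188 : allRange 111672 94 (fun u => chkFix tab mwordsA u) = true := by decide +kernel

theorem m2_1189 : allRange 111766 94 (fun u => chkFix tab mwordsA u) = true := by decide +kernel

theorem m2_1190 : allRange 111860 94 (fun u => chkFix tab mwordsA u) = true := by decide +kernel

theorem m2_1191 : allRange 111954 94 (fun u => chkFix tab mwordsA u) = true := by decide +kernel

theorem m2_1192 : allRange 112048 94 (fun u => chkFix tab mwordsA u) = true := by decide +kernel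

theorem m2_1193 : allRange 112142 94 (fun u => chkFix tab mwordsA u) = true := by decide +kernel

theorem m2_1194 : allRange 112236 94 (fun u => chkFix tab mwordsA u) = true := by decide +kernel

theorem m2_1195 : allRange 112330 94 (fun u => chkFix tab mwordsA u) = true := by decide +kernel


end Cfsg.Agent.Helper9.TCData.HeA0
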