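import Cfsg.Agent.Lib.Helper9.TCData.HeA0.Main

set_option autoImplicit false
set_option maxRecDepth 1000000

namespace Cfsg.Agent.Helper9.TCData.HeA0
open Cfsg.Agent.Helper9.TC2

theorem m2_1284 : allRange 120696 94 (fun u => chkFix tab mwordsA u) = true := by decide +kernel

theorem m2_1285 : allRange 120790 94 (fun u => chkFix tab mwordsA u) = true := by decide +kernel

theorem m2_1286 : allRange 120884 94 (fun u => chkFix tab mwordsA u) = true := by decide +kernel

theorem m2_1287 : allRange 120978 94 (fun u => chkFix tab mwordsA u) = true := by decide +kernel

theorem m2_1288 : allRange 121072 94 (fun u => chkFix tab mwordsA u) = true := by decide +kernel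

theorem m2_1289 : allRange 121166 94 (fun u => chkFix tab mwordsA u) = true := by decide +kernel

theorem m2_1290 : allRange 121260 94 (fun u => chkFix tab mwordsA u) = true := by decide +kernel

theorem m2_1291 : allRange 121354 94 (fun u => chkFix tab mwordsA u) = true := by decide +kernel


end Cfsg.Agent.Helper9.TCData.HeA0
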