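import Cfsg.Agent.Lib.Helper9.TCData.HeA0.Main

set_option autoImplicit false
set_option maxRecDepth 1000000

namespace Cfsg.Agent.Helper9.TCData.HeA0
open Cfsg.Agent.Helper9.TC2

theorem m2_1380 : allRange 129720 94 (fun u => chkFix tab mwordsA u) = true := by decide +kernel

theorem m2_1381 : allRange 129814 94 (fun u => chkFix tab mwordsA u) = true := by decide +kernel

theorem m2_1382 : allRange 129908 94 (fun u => chkFix tab mwordsA u) = true := by decide +kernel

theorem m2_1383 : allRange 130002 94 (fun u => chkFix tab mwordsA u) = true := by decide +kernel

theorem m2_1384 : allRange 130096 94 (fun u => chkFix tab mwordsA u) = true := by decide +kernel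

theorem m2_1385 : allRange 130190 94 (fun u => chkFix tab mwordsA u) = true := by decide +kernel

theorem m2_1386 : allRange 130284 94 (fun u => chkFix tab mwordsA u) = true := by decide +kernel

theorem m2_1387 : allRange 130378 94 (fun u => chkFix tab mwordsA u) = true := by decide +kernel


end Cfsg.Agent.Helper9.TCData.HeA0
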