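import Cfsg.Agent.Lib.Helper9.TCData.HeA0.Main

set_option autoImplicit false
set_option maxRecDepth 1000000

namespace Cfsg.Agent.Helper9.TCData.HeA0
open Cfsg.Agent.Helper9.TC2

theorem m2_1668 : allRange 156792 94 (fun u => chkFix tab mwordsA u) = true := by decide +kernel

theorem m2_1669 : allRange 156886 94 (fun u => chkFix tab mwordsA u) = true := by decide +kernel

theorem m2_1670 : allRange 156980 94 (fun u => chkFix tab mwordsA u) = true := by decide +kernel

theorem m2_1671 : allRange 157074 94 (fun u => chkFix tab mwordsA u) = true := by decide +kernel

theorem m2_1672 : allRange 157168 94 (fun u => chkFix tab mwordsA u) = true := by decide +kernel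

theorem m2_1673 : allRange 157262 94 (fun u => chkFix tab mwordsA u) = true := by decide +kernel

theorem m2_1674 : allRange 157356 94 (fun u => chkFix tab mwordsA u) = true := by decide +kernel

theorem m2_1675 : allRange 157450 94 (fun u => chkFix tab mwordsA u) = true := by decide +kernel


end Cfsg.Agent.Helper9.TCData.HeA0
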