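import Cfsg.Agent.Lib.Helper9.TCData.HeA0.Main

set_option autoImplicit false
set_option maxRecDepth 1000000

namespace Cfsg.Agent.Helper9.TCData.HeA0
open Cfsg.Agent.Helper9.TC2

theorem m2_1956 : allRange 183864 94 (fun u => chkFix tab mwordsA u) = true := by decide +kernel

theorem m2_1957 : allRange 183958 94 (fun u => chkFix tab mwordsA u) = true := by decide +kernel

theorem m2_1958 : allRange 184052 94 (fun u => chkFix tab mwordsA u) = true := by decide +kernel

theorem m2_1959 : allRange 184146 94 (fun u => chkFix tab mwordsA u) = true := by decide +kernel

theorem m2_1960 : allRange 184240 94 (fun u => chkFix tab mwordsA u) = true := by decide +kernel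

theorem m2_1961 : allRange 184334 94 (fun u => chkFix tab mwordsA u) = true := by decide +kernel

theorem m2_1962 : allRange 184428 94 (fun u => chkFix tab mwordsA u) = true := by decide +kernel

theorem m2_1963 : allRange 184522 94 (fun u => chkFix tab mwordsA u) = true := by decide +kernel


end Cfsg.Agent.Helper9.TCData.HeA0
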