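import Cfsg.Agent.Lib.Helper9.TCData.HeA0.Main

set_option autoImplicit false
set_option maxRecDepth 1000000

namespace Cfsg.Agent.Helper9.TCData.HeA0
open Cfsg.Agent.Helper9.TC2

theorem e3_83 : allRange 236778 2348 (fun u => chkE tab 3 u) = true := by decide +kernel

theorem e3_84 : allRange 239126 2506 (fun u => chkE tab 3 u) = true := by decide +kernel

theorem e3_85 : allRange 241632 2600 (fun u => chkE tab 3 u) = true := by decide +kernel

theorem e3_86 : allRange 244232 2425 (fun u => chkE tab 3 u) = true := by decide +kernel

theorem e3_87 : allRange 246657 2413 (fun u => chkE tab 3 u) = true := by decide +kernel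

theorem e3_88 : allRange 249070 2575 (fun u => chkE tab 3 u) = true := by decide +kernel

theorem e3_89 : allRange 251645 2580 (fun u => chkE tab 3 u) = true := by decide +kernel

theorem e3_90 : allRange 254225 2661 (fun u => chkE tab 3 u) = true := by decide +kernel


end Cfsg.Agent.Helper9.TCData.HeA0
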