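import Cfsg.Agent.Lib.Helper9.TCData.HeA0.Main

set_option autoImplicit false
set_option maxRecDepth 1000000

namespace Cfsg.Agent.Helper9.TCData.HeA0
open Cfsg.Agent.Helper9.TC2

theorem m2_2052 : allRange 192888 94 (fun u => chkFix tab mwordsA u) = true := by decide +kernel

theorem m2_2053 : allRange 192982 94 (fun u => chkFix tab mwordsA u) = true := by decide +kernel

theorem m2_2054 : allRange 193076 94 (fun u => chkFix tab mwordsA u) = true := by decide +kernel

theorem m2_2055 : allRange 193170 94 (fun u => chkFix tab mwordsA u) = true := by decide +kernel

theorem m2_2056 : allRange 193264 94 (fun u => chkFix tab mwordsA u) = true := by decide +kernel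

theorem m2_2057 : allRange 193358 94 (fun u => chkFix tab mwordsA u) = true := by decide +kernel

theorem m2_2058 : allRange 193452 94 (fun u => chkFix tab mwordsA u) = true := by decide +kernel

theorem m2_2059 : allRange 193546 94 (fun u => chkFix tab mwordsA u) = true := by decide +kernel


end Cfsg.Agent.Helper9.TCData.HeA0
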