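import Cfsg.Agent.Lib.Helper9.TCData.HeA0.Main

set_option autoImplicit false
set_option maxRecDepth 1000000

namespace Cfsg.Agent.Helper9.TCData.HeA0
open Cfsg.Agent.Helper9.TC2

theorem m2_2148 : allRange 201912 94 (fun u => chkFix tab mwordsA u) = true := by decide +kernel

theorem m2_2149 : allRange 202006 94 (fun u => chkFix tab mwordsA u) = true := by decide +kernel

theorem m2_2150 : allRange 202100 94 (fun u => chkFix tab mwordsA u) = true := by decide +kernel

theorem m2_2151 : allRange 202194 94 (fun u => chkFix tab mwordsA u) = true := by decide +kernel

theorem m2_2152 : allRange 202288 94 (fun u => chkFix tab mwordsA u) = true := by decide +kernel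

theorem m2_2153 : allRange 202382 94 (fun u => chkFix tab mwordsA u) = true := by decide +kernel

theorem m2_2154 : allRange 202476 94 (fun u => chkFix tab mwordsA u) = true := by decide +kernel

theorem m2_2155 : allRange 202570 94 (fun u => chkFix tab mwordsA u) = true := by decide +kernel


end Cfsg.Agent.Helper9.TCData.HeA0
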