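import Cfsg.Agent.Lib.Helper9.TCData.HeA0.Main

set_option autoImplicit false
set_option maxRecDepth 1000000

namespace Cfsg.Agent.Helper9.TCData.HeA0
open Cfsg.Agent.Helper9.TC2

theorem m2_2436 : allRange 228984 94 (fun u => chkFix tab mwordsA u) = true := by decide +kernel

theorem m2_2437 : allRange 229078 94 (fun u => chkFix tab mwordsA u) = true := by decide +kernel

theorem m2_2438 : allRange 229172 94 (fun u => chkFix tab mwordsA u) = true := by decide +kernel

theorem m2_2439 : allRange 229266 94 (fun u => chkFix tab mwordsA u) = true := by decide +kernel

theorem m2_2440 : allRange 229360 94 (fun u => chkFix tab mwordsA u) = true := by decide +kernel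

theorem m2_2441 : allRange 229454 94 (fun u => chkFix tab mwordsA u) = true := by decide +kernel

theorem m2_2442 : allRange 229548 94 (fun u => chkFix tab mwordsA u) = true := by decide +kernel

theorem m2_2443 : allRange 229642 94 (fun u => chkFix tab mwordsA u) = true := by decide +kernel


end Cfsg.Agent.Helper9.TCData.HeA0
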