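import Cfsg.Agent.Lib.Helper9.TCData.HeA0.Main

set_option autoImplicit false
set_option maxRecDepth 1000000

namespace Cfsg.Agent.Helper9.TCData.HeA0
open Cfsg.Agent.Helper9.TC2

theorem m2_2820 : allRange 265080 94 (fun u => chkFix tab mwordsA u) = true := by decide +kernel

theorem m2_2821 : allRange 265174 94 (fun u => chkFix tab mwordsA u) = true := by decide +kernel

theorem m2_2822 : allRange 265268 94 (fun u => chkFix tab mwordsA u) = true := by decide +kernel

theorem m2_2823 : allRange 265362 94 (fun u => chkFix tab mwordsA u) = true := by decide +kernel

theorem m2_2824 : allRange 265456 94 (fun u => chkFix tab mwordsA u) = true := by decide +kernel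

theorem m2_2825 : allRange 265550 94 (fun u => chkFix tab mwordsA u) = true := by decide +kernel

theorem m2_2826 : allRange 265644 94 (fun u => chkFix tab mwordsA u) = true := by decide +kernel

theorem m2_2827 : allRange 265738 94 (fun u => chkFix tab mwordsA u) = true := by decide +kernel


end Cfsg.Agent.Helper9.TCData.HeA0
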