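import Cfsg.Agent.Lib.Helper9.TCData.HeA0.Main

set_option autoImplicit false
set_option maxRecDepth 1000000

namespace Cfsg.Agent.Helper9.TCData.HeA0
open Cfsg.Agent.Helper9.TC2

theorem e4_91 : allRange 266184 3043 (fun u => chkE tab 4 u) = true := by decide +kernel

theorem e5_0 : allRange 0 3352 (fun u => chkE tab 5 u) = true := by decide +kernel

theorem e5_1 : allRange 3352 3640 (fun u => chkE tab 5 u) = true := by decide +kernel

theorem e5_2 : allRange 6992 3567 (fun u => chkE tab 5 u) = true := by decide +kernel

theorem e5_3 : allRange 10559 3427 (fun u => chkE tab 5 u) = true := by decide +kernel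

theorem e5_4 : allRange 13986 3291 (fun u => chkE tab 5 u) = true := by decide +kernel

theorem e5_5 : allRange 17277 3348 (fun u => chkE tab 5 u) = true := by decide +kernel

theorem e5_6 : allRange 20625 3215 (fun u => chkE tab 5 u) = true := by decide +kernel


end Cfsg.Agent.Helper9.TCData.HeA0
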