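import Cfsg.Agent.Lib.Helper9.TCData.HeA0.Main

set_option autoImplicit false
set_option maxRecDepth 1000000

namespace Cfsg.Agent.Helper9.TCData.HeA0
open Cfsg.Agent.Helper9.TC2

theorem e6_10 : allRange 32179 3092 (fun u => chkE tab 6 u) = true := by decide +kernel

theorem e6_11 : allRange 35271 3018 (fun u => chkE tab 6 u) = true := by decide +kernel

theorem e6_12 : allRange 38289 2813 (fun u => chkE tab 6 u) = true := by decide +kernel

theorem e6_13 : allRange 41102 2855 (fun u => chkE tab 6 u) = true := by decide +kernel

theorem e6_14 : allRange 43957 3031 (fun u => chkE tab 6 u) = true := by decide +kernel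

theorem e6_15 : allRange 46988 2880 (fun u => chkE tab 6 u) = true := by decide +kernel

theorem e6_16 : allRange 49868 2805 (fun u => chkE tab 6 u) = true := by decide +kernel

theorem e6_17 : allRange 52673 2670 (fun u => chkE tab 6 u) = true := by decide +kernel


end Cfsg.Agent.Helper9.TCData.HeA0
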